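import Mathlib

/-!
Recognition of dihedral and generalised quaternion groups from generators, and counting of
conjugacy classes of elements of a given order.
-/

set_option autoImplicit false

namespace CfsgLib.TwoGroups

variable {H : Type*} [Group H]

/-- The exponent map `i ↦ a ^ i` on `ZMod N` for an element `a` of order dividing `N`. -/
def zexp {N : ℕ} (a : H) (i : ZMod N) : H := a ^ i.val

theorem zexp_add {N : ℕ} [NeZero N] {a : H} (ha : a ^ N = 1) (i j : ZMod N) :
    zexp a (i + j) = zexp a i * zexp a j := by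
  rw [zexp, zexp, zexp, ← pow_add, ZMod.val_add]
  conv_rhs => rw [← Nat.mod_add_div (i.val + j.val) N, pow_add, pow_mul, ha, one_pow, mul_one]

theorem zexp_zero {N : ℕ} [NeZero N] (a : H) : zexp a (0 : ZMod N) = 1 := by
  rw [zexp, ZMod.val_zero, pow_zero]

theorem zexp_neg {N : ℕ} [NeZero N] {a : H} (ha : a ^ N = 1) (i : ZMod N) :
    zexp a (-i) = (zexp a i)⁻¹ := by
  refine eq_inv_of_mul_eq_one_left ?_
  rw [← zexp_add ha, neg_add_cancel, zexp_zero]

theorem zexp_sub {N : ℕ} [NeZero N] {a : H} (ha : a ^ N = 1) (i j : ZMod N) :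
    zexp a (j - i) = (zexp a i)⁻¹ * zexp a j := by
  rw [← zexp_neg ha, ← zexp_add ha]; congr 1; ring

theorem zexp_natCast {N : ℕ} [NeZero N] {a : H} (ha : a ^ N = 1) (k : ℕ) :
    zexp a ((k : ℕ) : ZMod N) = a ^ k := by
  rw [zexp, ZMod.val_natCast]
  conv_rhs => rw [← Nat.mod_add_div k N, pow_add, pow_mul, ha, one_pow, mul_one]

theorem zexp_injective {N : ℕ} [NeZero N] {a : H} (ha : orderOf a = N) :
    Function.Injective (zexp a : ZMod N → H) := by
  intro i j h
  refine ZMod.val_injective N (pow_injOn_Iio_orderOf ?_ ?_ h)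
  · simpa [ha] using i.val_lt
  · simpa [ha] using j.val_lt

theorem zexp_conj {N : ℕ} {a b : H} (hbab : b * a * b⁻¹ = a⁻¹) (i : ZMod N) :
    b * zexp a i * b⁻¹ = (zexp a i)⁻¹ := by
  rw [zexp, ← conj_pow, hbab, inv_pow]

/-- A group generated in the dihedral way is dihedral. -/
theorem nonempty_mulEquiv_dihedralGroup {n : ℕ} [NeZero n] {a b : H} (ha : orderOf a = n)
    (hb : b * b = 1) (hba : b ∉ Subgroup.zpowers a) (hbab : b * a * b⁻¹ = a⁻¹)
    (hcard : Nat.card H = 2 * n) : Nonempty (H ≃* DihedralGroup n) := by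
  have han : a ^ n = 1 := by rw [← ha, pow_orderOf_eq_one]
  have hconj : ∀ i : ZMod n, zexp a i * b = b * (zexp a i)⁻¹ := by
    intro i
    have h := zexp_conj hbab (-i)
    rw [zexp_neg han, inv_inv] at h
    calc zexp a i * b = b * (zexp a i)⁻¹ * b⁻¹ * b := by rw [h]
      _ = b * (zexp a i)⁻¹ := by group
  let f : DihedralGroup n →* H :=
    { toFun := fun g => match g with
        | DihedralGroup.r i => zexp a i
        | DihedralGroup.sr i => b * zexp a i
      map_one' := zexp_zero a
      map_mul' := by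
        rintro (i | i) (j | j)
        · exact zexp_add han i j
        · show b * zexp a (j - i) = zexp a i * (b * zexp a j)
          rw [← mul_assoc, hconj, zexp_sub han, mul_assoc]
        · show b * zexp a (i + j) = b * zexp a i * zexp a j
          rw [zexp_add han, mul_assoc]
        · show zexp a (j - i) = b * zexp a i * (b * zexp a j)
          rw [mul_assoc, ← mul_assoc (zexp a i), hconj, ← mul_assoc, ← mul_assoc, hb, one_mul,
            zexp_sub han] }
  have hnot : ∀ i j : ZMod n, zexp a i ≠ b * zexp a j := by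
    intro i j h
    refine hba ?_
    rw [(mul_inv_eq_iff_eq_mul.2 h).symm]
    exact mul_mem (pow_mem (Subgroup.mem_zpowers a) _) (inv_mem (pow_mem (Subgroup.mem_zpowers a) _))
  have hinj : Function.Injective f := by
    rintro (i | i) (j | j) h
    · exact congrArg DihedralGroup.r (zexp_injective ha h)
    · exact absurd h (hnot i j)
    · exact absurd h.symm (hnot j i)
    · exact congrArg DihedralGroup.sr (zexp_injective ha (mul_left_cancel h))
  haveI : Finite H := Nat.finite_of_card_ne_zero (by rw [hcard]; have := NeZero.ne n; omega)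
  exact ⟨(MulEquiv.ofBijective f ((Nat.bijective_iff_injective_and_card f).2
    ⟨hinj, by rw [DihedralGroup.nat_card, hcard]⟩)).symm⟩

/-- A group generated in the quaternion way is generalised quaternion. -/
theorem nonempty_mulEquiv_quaternionGroup {n : ℕ} [NeZero n] {a b : H} (ha : orderOf a = 2 * n)
    (hb : b * b = a ^ n) (hba : b ∉ Subgroup.zpowers a) (hbab : b * a * b⁻¹ = a⁻¹)
    (hcard : Nat.card H = 4 * n) : Nonempty (H ≃* QuaternionGroup n) := by
  haveI : NeZero (2 * n) := ⟨by have := NeZero.ne n; omega⟩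
  have han : a ^ (2 * n) = 1 := by rw [← ha, pow_orderOf_eq_one]
  have hconj : ∀ i : ZMod (2 * n), zexp a i * b = b * (zexp a i)⁻¹ := by
    intro i
    have h := zexp_conj hbab (-i)
    rw [zexp_neg han, inv_inv] at h
    calc zexp a i * b = b * (zexp a i)⁻¹ * b⁻¹ * b := by rw [h]
      _ = b * (zexp a i)⁻¹ := by group
  let f : QuaternionGroup n →* H :=
    { toFun := fun g => match g with
        | QuaternionGroup.a i => zexp a i
        | QuaternionGroup.xa i => b * zexp a i
      map_one' := zexp_zero a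
      map_mul' := by
        rintro (i | i) (j | j)
        · exact zexp_add han i j
        · show b * zexp a (j - i) = zexp a i * (b * zexp a j)
          rw [← mul_assoc, hconj, zexp_sub han, mul_assoc]
        · show b * zexp a (i + j) = b * zexp a i * zexp a j
          rw [zexp_add han, mul_assoc]
        · show zexp a ((n : ZMod (2 * n)) + j - i) = b * zexp a i * (b * zexp a j)
          rw [mul_assoc, ← mul_assoc (zexp a i), hconj, ← mul_assoc, ← mul_assoc, hb,
            show (n : ZMod (2 * n)) + j - i = (n : ZMod (2 * n)) + (-i + j) by ring,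
            zexp_add han, zexp_add han, zexp_natCast han, zexp_neg han, mul_assoc] }
  have hnot : ∀ i j : ZMod (2 * n), zexp a i ≠ b * zexp a j := by
    intro i j h
    refine hba ?_
    rw [(mul_inv_eq_iff_eq_mul.2 h).symm]
    exact mul_mem (pow_mem (Subgroup.mem_zpowers a) _) (inv_mem (pow_mem (Subgroup.mem_zpowers a) _))
  have hinj : Function.Injective f := by
    rintro (i | i) (j | j) h
    · exact congrArg QuaternionGroup.a (zexp_injective ha h)
    · exact absurd h (hnot i j)
    · exact absurd h.symm (hnot j i)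
    · exact congrArg QuaternionGroup.xa (zexp_injective ha (mul_left_cancel h))
  haveI : Finite H := Nat.finite_of_card_ne_zero (by rw [hcard]; have := NeZero.ne n; omega)
  exact ⟨(MulEquiv.ofBijective f ((Nat.bijective_iff_injective_and_card f).2
    ⟨hinj, by rw [Nat.card_eq_fintype_card, QuaternionGroup.card, hcard]⟩)).symm⟩

/-- The conjugacy classes of elements of order `k`. -/
theorem natCard_conjClasses_orderOf_eq_one {G : Type*} [Group G] {k : ℕ} {t₁ : G}
    (h₁ : orderOf t₁ = k) (hall : ∀ t : G, orderOf t = k → IsConj t t₁) :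
    Nat.card {C : ConjClasses G // ∃ t : G, orderOf t = k ∧ ConjClasses.mk t = C} = 1 := by
  rw [Nat.card_eq_one_iff_unique]
  refine ⟨⟨fun a b => ?_⟩, ⟨⟨ConjClasses.mk t₁, t₁, h₁, rfl⟩⟩⟩
  obtain ⟨a, t, ht, rfl⟩ := a
  obtain ⟨b, s, hs, rfl⟩ := b
  exact Subtype.ext (ConjClasses.mk_eq_mk_iff_isConj.2 ((hall t ht).trans (hall s hs).symm))

theorem natCard_conjClasses_orderOf_eq_two {G : Type*} [Group G] {k : ℕ} {t₁ t₂ : G}
    (h₁ : orderOf t₁ = k) (h₂ : orderOf t₂ = k) (hne : ¬ IsConj t₁ t₂)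
    (hall : ∀ t : G, orderOf t = k → IsConj t t₁ ∨ IsConj t t₂) :
    Nat.card {C : ConjClasses G // ∃ t : G, orderOf t = k ∧ ConjClasses.mk t = C} = 2 := by
  have he : {C : ConjClasses G | ∃ t : G, orderOf t = k ∧ ConjClasses.mk t = C} =
      {ConjClasses.mk t₁, ConjClasses.mk t₂} := by
    ext C
    constructor
    · rintro ⟨t, ht, rfl⟩
      rcases hall t ht with h | h
      · exact Or.inl (ConjClasses.mk_eq_mk_iff_isConj.2 h)
      · exact Or.inr (ConjClasses.mk_eq_mk_iff_isConj.2 h)
    · rintro (rfl | rfl)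
      · exact ⟨t₁, h₁, rfl⟩
      · exact ⟨t₂, h₂, rfl⟩
  show Nat.card ↥{C : ConjClasses G | ∃ t : G, orderOf t = k ∧ ConjClasses.mk t = C} = 2
  rw [he, Nat.card_coe_set_eq, Set.ncard_pair]
  exact fun h => hne (ConjClasses.mk_eq_mk_iff_isConj.1 h)

theorem natCard_conjClasses_orderOf_eq_three {G : Type*} [Group G] {k : ℕ} {t₁ t₂ t₃ : G}
    (h₁ : orderOf t₁ = k) (h₂ : orderOf t₂ = k) (h₃ : orderOf t₃ = k)
    (h12 : ¬ IsConj t₁ t₂) (h13 : ¬ IsConj t₁ t₃) (h23 : ¬ IsConj t₂ t₃)
    (hall : ∀ t : G, orderOf t = k → IsConj t t₁ ∨ IsConj t t₂ ∨ IsConj t t₃) :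
    Nat.card {C : ConjClasses G // ∃ t : G, orderOf t = k ∧ ConjClasses.mk t = C} = 3 := by
  have he : {C : ConjClasses G | ∃ t : G, orderOf t = k ∧ ConjClasses.mk t = C} =
      {ConjClasses.mk t₁, ConjClasses.mk t₂, ConjClasses.mk t₃} := by
    ext C
    constructor
    · rintro ⟨t, ht, rfl⟩
      rcases hall t ht with h | h | h
      · exact Or.inl (ConjClasses.mk_eq_mk_iff_isConj.2 h)
      · exact Or.inr (Or.inl (ConjClasses.mk_eq_mk_iff_isConj.2 h))
      · exact Or.inr (Or.inr (ConjClasses.mk_eq_mk_iff_isConj.2 h))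
    · rintro (rfl | rfl | rfl)
      · exact ⟨t₁, h₁, rfl⟩
      · exact ⟨t₂, h₂, rfl⟩
      · exact ⟨t₃, h₃, rfl⟩
  show Nat.card ↥{C : ConjClasses G | ∃ t : G, orderOf t = k ∧ ConjClasses.mk t = C} = 3
  rw [he, Nat.card_coe_set_eq, Set.ncard_eq_three]
  exact ⟨_, _, _, fun h => h12 (ConjClasses.mk_eq_mk_iff_isConj.1 h),
    fun h => h13 (ConjClasses.mk_eq_mk_iff_isConj.1 h),
    fun h => h23 (ConjClasses.mk_eq_mk_iff_isConj.1 h), rfl⟩

theorem isConj_mulEquiv {G G' : Type*} [Group G] [Group G'] (e : G ≃* G') {x y : G} :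
    IsConj (e x) (e y) ↔ IsConj x y := by
  refine ⟨fun h => ?_, fun h => e.toMonoidHom.map_isConj h⟩
  simpa using e.symm.toMonoidHom.map_isConj h

theorem natCard_conjClasses_orderOf_congr {G G' : Type*} [Group G] [Group G'] (e : G ≃* G')
    (k : ℕ) :
    Nat.card {C : ConjClasses G // ∃ t : G, orderOf t = k ∧ ConjClasses.mk t = C} =
      Nat.card {C : ConjClasses G' // ∃ t : G', orderOf t = k ∧ ConjClasses.mk t = C} := by
  refine Nat.card_congr
    { toFun := fun C => ⟨ConjClasses.map e.toMonoidHom C.1, ?_⟩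
      invFun := fun C => ⟨ConjClasses.map e.symm.toMonoidHom C.1, ?_⟩
      left_inv := ?_
      right_inv := ?_ }
  · obtain ⟨t, ht, hC⟩ := C.2
    exact ⟨e t, by rw [e.orderOf_eq, ht], by rw [← hC]; rfl⟩
  · obtain ⟨t, ht, hC⟩ := C.2
    exact ⟨e.symm t, by rw [e.symm.orderOf_eq, ht], by rw [← hC]; rfl⟩
  · rintro ⟨C, t, ht, rfl⟩
    exact Subtype.ext (congrArg ConjClasses.mk (e.symm_apply_apply t))
  · rintro ⟨C, t, ht, rfl⟩
    exact Subtype.ext (congrArg ConjClasses.mk (e.apply_symm_apply t))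

end CfsgLib.TwoGroups
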