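import Mathlib
import Cfsg.Prelude.Def_TwoFusion
import Cfsg.Prelude.Def_Transfer

/-!
Basic facts about weakly and strongly closed subgroups of Sylow subgroups.
-/

set_option autoImplicit false

namespace CfsgLib.TwoGroups

open Cfsg

variable {G : Type*} [Group G]

theorem mem_map_conj {g x : G} {H : Subgroup G} :
    x ∈ H.map (MulAut.conj g).toMonoidHom ↔ g⁻¹ * x * g ∈ H := by
  constructor
  · rintro ⟨y, hy, rfl⟩
    simpa [mul_assoc] using hy
  · intro h
    exact ⟨g⁻¹ * x * g, h, by simp [mul_assoc]⟩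

theorem conj_mem_map_conj {g x : G} {H : Subgroup G} (hx : x ∈ H) :
    g * x * g⁻¹ ∈ H.map (MulAut.conj g).toMonoidHom := by
  rw [mem_map_conj]; simpa [mul_assoc] using hx

theorem map_conj_mul (a b : G) (H : Subgroup G) :
    H.map (MulAut.conj (a * b)).toMonoidHom =
      (H.map (MulAut.conj b).toMonoidHom).map (MulAut.conj a).toMonoidHom := by
  ext x; simp only [mem_map_conj, mul_inv_rev, mul_assoc]

theorem map_conj_one (H : Subgroup G) : H.map (MulAut.conj (1 : G)).toMonoidHom = H := by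
  ext x; simp [mem_map_conj]

theorem map_conj_eq_iff_mem_normalizer {g : G} {H : Subgroup G} :
    H.map (MulAut.conj g).toMonoidHom = H ↔ g ∈ Subgroup.normalizer (H : Set G) := by
  rw [Subgroup.mem_normalizer_iff'', SetLike.ext_iff]
  simp only [mem_map_conj, SetLike.mem_coe]
  exact forall_congr' fun x => ⟨fun h => h.symm, fun h => h.symm⟩

theorem natCard_map_conj (g : G) (H : Subgroup G) :
    Nat.card (H.map (MulAut.conj g).toMonoidHom) = Nat.card H :=
  Subgroup.card_map_of_injective (f := (MulAut.conj g).toMonoidHom) (MulAut.conj g).injective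

theorem exists_conj_le_sylow [Finite G] {p : ℕ} [Fact p.Prime] (T : Sylow p G) {P : Subgroup G}
    (hP : IsPGroup p P) : ∃ x : G, P.map (MulAut.conj x).toMonoidHom ≤ (T : Subgroup G) := by
  obtain ⟨R, hR⟩ := hP.exists_le_sylow
  obtain ⟨x, rfl⟩ := MulAction.exists_smul_eq G R T
  refine ⟨x, fun y hy => ?_⟩
  rw [mem_map_conj] at hy
  have := hR hy
  rw [Sylow.coe_subgroup_smul, Subgroup.mem_pointwise_smul_iff_inv_smul_mem]
  simpa [MulAut.smul_def, mul_assoc] using this

/-- A weakly closed subgroup is the only one of its conjugates in any `p`-subgroup containing it. -/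
theorem weaklyClosed_eq_of_le [Finite G] {p : ℕ} [Fact p.Prime] {T : Sylow p G} {W : Subgroup G}
    (hW : IsWeaklyClosed W (T : Subgroup G)) {P : Subgroup G} (hP : IsPGroup p P) (hWP : W ≤ P)
    {g : G} (hg : W.map (MulAut.conj g).toMonoidHom ≤ P) :
    W.map (MulAut.conj g).toMonoidHom = W := by
  obtain ⟨x, hx⟩ := exists_conj_le_sylow T hP
  have h1 := hW.2 x ((Subgroup.map_mono hWP).trans hx)
  have h2 := hW.2 (x * g) (by rw [map_conj_mul]; exact (Subgroup.map_mono hg).trans hx)
  rw [map_conj_mul] at h2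
  exact Subgroup.map_injective (f := (MulAut.conj x).toMonoidHom) (MulAut.conj x).injective
    (h2.trans h1.symm)

/-- An element of order a power of `p` lying in `S ⊔ N` is conjugate into `S` by an element of `N`. -/
theorem exists_conj_mem_sylow_of_mem_sup [Finite G] {p : ℕ} [Fact p.Prime] (S : Sylow p G)
    (N : Subgroup G) [N.Normal] {w : G} (hw : ∃ k : ℕ, w ^ (p ^ k) = 1)
    (hmem : w ∈ (S : Subgroup G) ⊔ N) : ∃ n ∈ N, n * w * n⁻¹ ∈ (S : Subgroup G) := by
  let M := (S : Subgroup G) ⊔ N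
  let S' : Sylow p M := S.subtype le_sup_left
  obtain ⟨k, hk⟩ := hw
  have hP : IsPGroup p (Subgroup.zpowers (⟨w, hmem⟩ : M)) := by
    intro a
    obtain ⟨j, hj⟩ := Subgroup.mem_zpowers_iff.1 a.2
    refine ⟨k, Subtype.ext ?_⟩
    push_cast
    rw [← hj, ← zpow_natCast, zpow_comm, zpow_natCast,
      show (⟨w, hmem⟩ : M) ^ p ^ k = 1 from Subtype.ext hk, one_zpow]
  obtain ⟨m, hm⟩ := exists_conj_le_sylow S' hP
  have hm' := hm (conj_mem_map_conj (g := m) (Subgroup.mem_zpowers (⟨w, hmem⟩ : M)))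
  rw [Sylow.coe_subtype, Subgroup.mem_subgroupOf] at hm'
  simp only [Subgroup.coe_mul, Subgroup.coe_inv] at hm'
  obtain ⟨s, hs, n, hn, hsn⟩ := Subgroup.mem_sup_of_normal_right.1 m.2
  refine ⟨n, hn, ?_⟩
  rw [← hsn] at hm'
  have := mul_mem (mul_mem (inv_mem hs) hm') hs
  simpa [mul_assoc] using this

end CfsgLib.TwoGroups
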