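import Mathlib
import Cfsg.Agent.Lib.TwoGroups.Closed
import Cfsg.Agent.Lib.ClassSizes.Basic

/-!
Homomorphisms from fusion-invariant characters of a Sylow subgroup, and subgroups of index two.
-/

set_option autoImplicit false

open scoped commutatorElement

namespace CfsgLib.TwoGroups

variable {G : Type*} [Group G]

/-- A fusion-invariant homomorphism from a subgroup to an abelian group extends to `G`, up to the
power by the index. -/
theorem exists_hom_of_fusion_invariant {A : Type*} [CommGroup A] (P : Subgroup G) [P.FiniteIndex]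
    (χ : P →* A) (hinv : ∀ x y : P, (∃ g : G, g * x * g⁻¹ = y) → χ x = χ y) :
    ∃ Φ : G →* A, ∀ x : P, Φ x = χ x ^ P.index := by
  have hle : P.focalSubgroupOf ≤ χ.ker := by
    have h1 : P.focalSubgroup ≤ χ.ker.map P.subtype := by
      rw [Subgroup.focalSubgroup_def, Subgroup.closure_le]
      rintro _ ⟨hmem, x, hx, u, rfl⟩
      have hy : u * x * u⁻¹ ∈ P := by
        have h := mul_mem (inv_mem hmem) hx
        simpa [commutatorElement_def, mul_assoc] using h
      refine ⟨⟨_, hmem⟩, ?_, rfl⟩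
      rw [SetLike.mem_coe, MonoidHom.mem_ker]
      have he : (⟨⁅x, u⁆, hmem⟩ : P) = ⟨x, hx⟩ * (⟨u * x * u⁻¹, hy⟩ : P)⁻¹ := by
        refine Subtype.ext ?_
        show ⁅x, u⁆ = x * (u * x * u⁻¹)⁻¹
        rw [commutatorElement_def]; group
      rw [he, map_mul, map_inv, ← hinv ⟨x, hx⟩ ⟨_, hy⟩ ⟨u, rfl⟩, mul_inv_cancel]
    intro x hx
    obtain ⟨y, hy, hyx⟩ := h1 (show (x : G) ∈ P.focalSubgroup from hx)
    rwa [← P.subtype_injective hyx]
  refine ⟨(QuotientGroup.lift P.focalSubgroupOf χ hle).comp (Subgroup.transferFocal P), fun x => ?_⟩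
  rw [MonoidHom.comp_apply, Subgroup.transferFocal_eq_pow, map_pow]
  rfl

theorem orderOf_pow_two_part_odd [Finite G] (g : G) :
    Odd (orderOf (g ^ (2 ^ (orderOf g).factorization 2))) := by
  rw [orderOf_pow' _ (pow_ne_zero _ two_ne_zero), Nat.gcd_eq_right (Nat.ordProj_dvd _ _),
    ← Nat.not_even_iff_odd, even_iff_two_dvd]
  exact Nat.not_dvd_ordCompl Nat.prime_two (orderOf_pos g).ne'

/-- Sylow subgroups of a normal subgroup `K` are isomorphic to `P ⊓ K`. -/
theorem sylow_normal_iso [Finite G] {p : ℕ} [Fact p.Prime] (P : Sylow p G) {K : Subgroup G}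
    [K.Normal] (R : Sylow p K) : Nonempty ((R : Subgroup K) ≃* ((P : Subgroup G) ⊓ K : Subgroup G)) := by
  have hp : IsPGroup p ((P : Subgroup G).subgroupOf K) :=
    P.isPGroup'.comap_of_injective K.subtype K.subtype_injective
  have hdvd : ¬ p ∣ ((P : Subgroup G).subgroupOf K).index := fun h =>
    P.not_dvd_index (h.trans (ClassSizes.relIndex_dvd_index_of_normal_right K (P : Subgroup G)))
  refine ⟨((R.equiv (hp.toSylow hdvd)).trans ?_)⟩
  exact (MulEquiv.subgroupCongr (Subgroup.inf_subgroupOf_right (P : Subgroup G) K).symm).trans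
    (Subgroup.subgroupOfEquivOfLe inf_le_right)

/-- The kernel given by a surjective fusion-invariant homomorphism of a Sylow subgroup. -/
theorem exists_normal_of_fusion_invariant [Finite G] {p : ℕ} [Fact p.Prime] (P : Sylow p G)
    {A : Type*} [CommGroup A] (hA : IsPGroup p A) (χ : (P : Subgroup G) →* A)
    (hsurj : Function.Surjective χ)
    (hinv : ∀ x y : (P : Subgroup G), (∃ g : G, g * x * g⁻¹ = y) → χ x = χ y) :
    ∃ K : Subgroup G, K.Normal ∧ K.index = Nat.card A ∧
      ((P : Subgroup G) ⊓ K = χ.ker.map (P : Subgroup G).subtype) ∧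
      (∀ R : Sylow p K, Nonempty ((R : Subgroup K) ≃* χ.ker)) ∧
      ∀ g : G, (orderOf g).Coprime p → g ∈ K := by
  obtain ⟨Φ, hΦ⟩ := exists_hom_of_fusion_invariant (P : Subgroup G) χ hinv
  have hcop : ∀ a : A, (orderOf a).Coprime (P : Subgroup G).index := by
    intro a
    obtain ⟨k, hk⟩ := hA a
    exact (((Fact.out : p.Prime).coprime_iff_not_dvd.2 P.not_dvd_index).pow_left k).coprime_dvd_left
      (orderOf_dvd_of_pow_eq_one hk)
  have hΦs : Function.Surjective Φ := by
    intro a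
    obtain ⟨k, hk⟩ := exists_pow_eq_self_of_coprime (hcop a).symm
    obtain ⟨x, hx⟩ := hsurj (a ^ k)
    refine ⟨x, ?_⟩
    rw [hΦ, hx, ← pow_mul, mul_comm, pow_mul, hk]
  have hker : ∀ x : (P : Subgroup G), Φ x = 1 ↔ χ x = 1 := by
    intro x
    rw [hΦ]
    refine ⟨fun h => ?_, fun h => by rw [h, one_pow]⟩
    exact orderOf_eq_one_iff.1 ((hcop (χ x)).eq_one_of_dvd (orderOf_dvd_of_pow_eq_one h))
  have hinf : (P : Subgroup G) ⊓ Φ.ker = χ.ker.map (P : Subgroup G).subtype := by
    ext g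
    constructor
    · rintro ⟨h1, h2⟩
      exact ⟨⟨g, h1⟩, (hker ⟨g, h1⟩).1 h2, rfl⟩
    · rintro ⟨x, hx, rfl⟩
      exact ⟨x.2, (hker x).2 hx⟩
  refine ⟨Φ.ker, MonoidHom.normal_ker _, ?_, hinf, fun R => ?_, fun g hg => ?_⟩
  · rw [Subgroup.index_ker, MonoidHom.range_eq_top.2 hΦs, Subgroup.card_top]
  · obtain ⟨e⟩ := sylow_normal_iso P R
    exact ⟨(e.trans (MulEquiv.subgroupCongr hinf)).trans
      (χ.ker.equivMapOfInjective _ (P : Subgroup G).subtype_injective).symm⟩
  · obtain ⟨k, hk⟩ := hA (Φ g)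
    exact MonoidHom.mem_ker.2 (orderOf_eq_one_iff.1 (Nat.eq_one_of_dvd_coprimes
      (hg.symm.pow_left k) (orderOf_dvd_of_pow_eq_one hk) (orderOf_map_dvd Φ g)))

/-! ### Subgroups of index two -/

theorem mem_of_index_two_of_odd {H : Subgroup G} (hH : H.index = 2) {g : G}
    (hg : Odd (orderOf g)) : g ∈ H := by
  obtain ⟨k, hk⟩ := hg
  have e : (g ^ 2) ^ (k + 1) = g := by
    rw [← pow_mul, show 2 * (k + 1) = orderOf g + 1 by omega, pow_succ, pow_orderOf_eq_one, one_mul]
  rw [← e]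
  refine H.pow_mem ?_ _
  rw [pow_two]
  exact (Subgroup.mul_mem_iff_of_index_two hH).2 Iff.rfl

theorem mem_iff_conj_of_index_two {H : Subgroup G} (hH : H.index = 2) (g x : G) :
    g * x * g⁻¹ ∈ H ↔ x ∈ H := by
  haveI := Subgroup.normal_of_index_eq_two hH
  refine ⟨fun h => ?_, fun h => Subgroup.Normal.conj_mem inferInstance x h g⟩
  have := Subgroup.Normal.conj_mem (H := H) inferInstance _ h g⁻¹
  simpa [mul_assoc] using this

/-- A four-group whose involutions are all conjugate lies in every subgroup of index two. -/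
theorem klein_le_of_index_two {H : Subgroup G} (hH : H.index = 2) {T : Subgroup G}
    (hT : IsKleinFour T)
    (hconj : ∀ t ∈ T, ∀ t' ∈ T, t ≠ 1 → t' ≠ 1 → ∃ g : G, g * t * g⁻¹ = t') : T ≤ H := by
  haveI := hT
  haveI : Finite T := Nat.finite_of_card_ne_zero (by rw [IsKleinFour.card_four]; norm_num)
  intro t ht
  rcases eq_or_ne t 1 with rfl | ht1
  · exact H.one_mem
  by_contra htH
  -- then every non-trivial element of `T` is outside `H`
  have hout : ∀ t' ∈ T, t' ≠ 1 → t' ∉ H := by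
    intro t' ht' h1 hmem
    obtain ⟨g, hg⟩ := hconj t ht t' ht' ht1 h1
    rw [← hg, mem_iff_conj_of_index_two hH] at hmem
    exact htH hmem
  have h4 : Nat.card T = 4 := IsKleinFour.card_four
  obtain ⟨t', ht', h1, h2⟩ : ∃ t' ∈ T, t' ≠ 1 ∧ t' ≠ t := by
    by_contra hno
    push Not at hno
    have hs : (T : Set G) ⊆ {1, t} := by
      intro x hx
      by_cases h1 : x = 1
      · exact Or.inl h1
      · exact Or.inr (hno x hx h1)
    have := Set.ncard_le_ncard hs (Set.toFinite _)
    rw [← Nat.card_coe_set_eq, SetLike.coe_sort_coe, h4] at this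
    have h3 : ({1, t} : Set G).ncard ≤ 2 := (Set.ncard_insert_le _ _).trans (by simp)
    omega
  have hmul := (Subgroup.mul_mem_iff_of_index_two hH (a := t) (b := t')).2
    (iff_of_false htH (hout t' ht' h1))
  refine hout (t * t') (T.mul_mem ht ht') (fun h => h2 ?_) hmul
  have : (⟨t', ht'⟩ : T) = ⟨t, ht⟩ := by
    have h' : (⟨t, ht⟩ : T) * ⟨t', ht'⟩ = 1 := Subtype.ext h
    rw [← inv_eq_of_mul_eq_one_right h', IsKleinFour.inv_eq_self]
  exact congrArg Subtype.val this

end CfsgLib.TwoGroups
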