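import Cfsg.Agent.Lib.OddLocal.Supplement
import Cfsg.Agent.Lib.PLocal.PConstrained
import Cfsg.Agent.Lib.Components.FStar

/-!
Owner: helper12. Groups of `p`-length at most one.
-/

set_option autoImplicit false

namespace CfsgLib.TwoGroups.PLengthOne

open Subgroup

variable {G : Type*} [Group G] [Finite G] {p : ℕ} [Fact p.Prime]

theorem iff_index : Cfsg.PLengthLE p 1 G ↔ ¬ p ∣ (Cfsg.pPrimePCore p G).index := by
  set U := (Cfsg.upperPSeries p G (0 + 1)).1 with hU
  set V : Subgroup G := (Cfsg.pCore p (G ⧸ U)).comap (QuotientGroup.mk' U) with hV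
  have key : ∀ (U : Subgroup G) [U.Normal], U = Cfsg.pPrimeCore p G →
      (Cfsg.pCore p (G ⧸ U)).comap (QuotientGroup.mk' U) = Cfsg.pPrimePCore p G := by
    intro U _ h
    subst h
    rfl
  have hVe : V = Cfsg.pPrimePCore p G := key U (OddLocal.upperPSeries_one p)
  have hdef : Cfsg.PLengthLE p 1 G ↔
      (Cfsg.pPrimeCore p (G ⧸ V)).comap (QuotientGroup.mk' V) = ⊤ := Iff.rfl
  rw [hdef, ← hVe, index_eq_card]
  constructor
  · intro h hd
    have h1 : Cfsg.pPrimeCore p (G ⧸ V) = ⊤ :=
      comap_injective (QuotientGroup.mk'_surjective V) (by rw [h, comap_top])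
    have h2 := Core.coprime_card_pPrimeCore p (G ⧸ V)
    rw [h1, card_top] at h2
    exact (Nat.Prime.coprime_iff_not_dvd Fact.out).mp h2.symm hd
  · intro h
    rw [eq_top_iff, ← comap_top (QuotientGroup.mk' V)]
    refine comap_mono (Components.le_pPrimeCore inferInstance ?_)
    rw [card_top]
    exact ((Nat.Prime.coprime_iff_not_dvd Fact.out).mpr h).symm

/-- A normal subgroup that is a `p`-group modulo a normal `p'`-subgroup lies in `O_{p',p}`. -/
theorem le_pPrimePCore {N T : Subgroup G} [N.Normal] [T.Normal] (hN : (Nat.card N).Coprime p)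
    (hT : ∀ t ∈ T, ∃ k : ℕ, t ^ p ^ k ∈ N) : T ≤ Cfsg.pPrimePCore p G := by
  intro t ht
  rw [Cfsg.pPrimePCore, mem_comap]
  have : (T.map (QuotientGroup.mk' (Cfsg.pPrimeCore p G))).Normal :=
    (inferInstance : T.Normal).map _ (QuotientGroup.mk'_surjective _)
  refine Components.le_pCore this ?_ ⟨t, ht, rfl⟩
  rintro ⟨_, u, hu, rfl⟩
  obtain ⟨k, hk⟩ := hT u hu
  refine ⟨k, Subtype.ext ?_⟩
  show (QuotientGroup.mk' _ u) ^ p ^ k = 1
  rw [← map_pow]
  exact (QuotientGroup.eq_one_iff _).mpr (Components.le_pPrimeCore inferInstance hN hk)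

theorem exists_pow_mem {t : G} (ht : t ∈ Cfsg.pPrimePCore p G) :
    ∃ k : ℕ, t ^ p ^ k ∈ Cfsg.pPrimeCore p G := by
  obtain ⟨k, hk⟩ := Core.isPGroup_pCore p (G ⧸ Cfsg.pPrimeCore p G) ⟨_, ht⟩
  exact ⟨k, (QuotientGroup.eq_one_iff _).mp ((map_pow _ t _).trans (congrArg Subtype.val hk))⟩

/-- `p`-length one passes to subgroups. -/
theorem subgroup (h : Cfsg.PLengthLE p 1 G) (H : Subgroup G) : Cfsg.PLengthLE p 1 H := by
  rw [iff_index] at h ⊢
  have hn1 : ((Cfsg.pPrimeCore p G).subgroupOf H).Normal := inferInstance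
  have hn2 : ((Cfsg.pPrimePCore p G).subgroupOf H).Normal := inferInstance
  intro hd
  refine h (hd.trans ((index_dvd_of_le (le_pPrimePCore (N := (Cfsg.pPrimeCore p G).subgroupOf H)
    (T := (Cfsg.pPrimePCore p G).subgroupOf H) ?_ fun t ht => ?_)).trans
      (relIndex_dvd_index_of_normal (Cfsg.pPrimePCore p G) H)))
  · refine (Core.coprime_card_pPrimeCore p G).coprime_dvd_left ?_
    exact card_dvd_of_injective (H.subtype.subgroupComap (Cfsg.pPrimeCore p G))
      fun a b e => Subtype.ext (Subtype.ext (congrArg Subtype.val e :))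
  · obtain ⟨k, hk⟩ := exists_pow_mem (p := p) (t := (t : G)) ht
    exact ⟨k, by rw [mem_subgroupOf, SubmonoidClass.coe_pow]; exact hk⟩

/-- Invariance under isomorphisms. -/
theorem map_equiv {H : Type*} [Group H] [Finite H] (e : G ≃* H) (h : Cfsg.PLengthLE p 1 G) :
    Cfsg.PLengthLE p 1 H := by
  rw [iff_index] at h ⊢
  have : ((Cfsg.pPrimePCore p G).map e.toMonoidHom).Normal :=
    (inferInstance : (Cfsg.pPrimePCore p G).Normal).map _ e.surjective
  have : ((Cfsg.pPrimeCore p G).map e.toMonoidHom).Normal :=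
    (inferInstance : (Cfsg.pPrimeCore p G).Normal).map _ e.surjective
  have hle : (Cfsg.pPrimePCore p G).map e.toMonoidHom ≤ Cfsg.pPrimePCore p H := by
    refine le_pPrimePCore (N := (Cfsg.pPrimeCore p G).map e.toMonoidHom) ?_ ?_
    · rw [card_map_of_injective (f := e.toMonoidHom) e.injective]
      exact Core.coprime_card_pPrimeCore p G
    · rintro _ ⟨t, ht, rfl⟩
      obtain ⟨k, hk⟩ := exists_pow_mem ht
      exact ⟨k, ⟨_, hk, map_pow _ _ _⟩⟩
  intro hd
  refine h (hd.trans ((index_dvd_of_le hle).trans ?_))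
  exact (index_map_of_bijective (f := e.toMonoidHom) e.bijective _).dvd

/-- `p`-length one passes up from a normal subgroup of index prime to `p`. -/
theorem of_normal (X : Subgroup G) [X.Normal] (hX : ¬ p ∣ X.index) (h : Cfsg.PLengthLE p 1 X) :
    Cfsg.PLengthLE p 1 G := by
  rw [iff_index] at h ⊢
  set T := Cfsg.pPrimePCore p ↥X with hT
  set O := Cfsg.pPrimeCore p ↥X with hO
  have hOc := Components.pPrimeCore_characteristic (G := ↥X) p
  have hTc : T.Characteristic := by
    rw [characteristic_iff_le_comap]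
    intro φ
    have hn : (T.map φ.toMonoidHom).Normal :=
      (inferInstance : T.Normal).map _ φ.surjective
    have hOn : (O.map φ.toMonoidHom).Normal :=
      (inferInstance : O.Normal).map _ φ.surjective
    rw [← map_le_iff_le_comap]
    refine le_pPrimePCore (N := O.map φ.toMonoidHom) ?_ ?_
    · rw [card_map_of_injective (f := φ.toMonoidHom) φ.injective]
      exact Core.coprime_card_pPrimeCore p ↥X
    · rintro _ ⟨t, ht, rfl⟩
      obtain ⟨k, hk⟩ := exists_pow_mem ht
      exact ⟨k, ⟨_, hk, map_pow _ _ _⟩⟩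
  have hle : T.map X.subtype ≤ Cfsg.pPrimePCore p G := by
    refine le_pPrimePCore (N := O.map X.subtype) ?_ ?_
    · rw [card_map_of_injective X.subtype_injective]
      exact Core.coprime_card_pPrimeCore p ↥X
    · rintro _ ⟨t, ht, rfl⟩
      obtain ⟨k, hk⟩ := exists_pow_mem ht
      exact ⟨k, ⟨_, hk, map_pow _ _ _⟩⟩
  intro hd
  have h2 : (T.map X.subtype).index = T.index * X.index := by rw [index_map_subtype]
  rcases (Fact.out : p.Prime).dvd_mul.mp (h2 ▸ hd.trans (index_dvd_of_le hle)) with h' | h'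
  · exact h h'
  · exact hX h'

end CfsgLib.TwoGroups.PLengthOne
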