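import Cfsg.Agent.Lib.TwoGroups.NonSigma
import Cfsg.Agent.Lib.TwoGroups.PLengthOne
import Cfsg.Agent.S1459

/-!
Owner: helper12. Proper subgroups have `p`-length one (given the prime action lemma).
-/

set_option autoImplicit false

namespace CfsgLib.TwoGroups.ProperPLength

open Subgroup
open scoped commutatorElement

universe u

/-- The prime action lemma on `p`-length. -/
def PrimeAction : Prop :=
  ∀ (X : Type u) [Group X] [Finite X], Group.IsSolvable X → Odd (Nat.card X) →
    ∀ (H R R₀ : Subgroup X), H.Normal → (Nat.card H).Coprime H.index →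
      Subgroup.IsComplement' H R → R₀ ≤ R → (Nat.card R₀).Prime →
      IsZGroup ↥(H ⊓ centralizer (R₀ : Set X)) →
      ∀ p : ℕ, p.Prime → Cfsg.PLengthLE p 1 ↥⁅H, R⁆

variable {G : Type u} [Group G] [Finite G] {M : Subgroup G}

theorem maximal_ne_bot (hG : Cfsg.IsMinSimpleOddOrder G) (hM : IsCoatom M) : M ≠ ⊥ := by
  rintro rfl
  have h2 : ∀ x : G, x ≠ 1 → zpowers x = ⊤ := fun x hx =>
    hM.2 _ (bot_lt_iff_ne_bot.mpr fun h => hx (zpowers_eq_bot.mp h))
  refine hG.2.2.1 ⟨⟨fun a b => ?_⟩⟩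
  by_cases ha : a = 1
  · subst ha; simp
  obtain ⟨i, rfl⟩ := mem_zpowers_iff.mp ((h2 a ha).ge (mem_top b))
  exact (Commute.self_zpow a i).eq

/-- A maximal subgroup has a prime outside `σ(M)`. -/
theorem exists_nonsigma (hG : Cfsg.IsMinSimpleOddOrder G)
    (hM : IsCoatom M) : ∃ r : ℕ, r.Prime ∧ r ∣ Nat.card M ∧ r ∉ Cfsg.sigma M := by
  by_contra h
  push Not at h
  have := hG.2.2.2 M hM.1
  have hne : Nontrivial M := (nontrivial_iff_ne_bot M).mpr (maximal_ne_bot hG hM)
  refine (Group.IsSolvable.commutator_lt_top_of_nontrivial ↥M).ne ?_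
  rw [← index_eq_one]
  by_contra h1
  obtain ⟨r, hr, hd⟩ := Nat.exists_prime_and_dvd h1
  have := Fact.mk hr
  obtain ⟨P⟩ : Nonempty (Sylow r M) := inferInstance
  refine P.not_dvd_index (hd.trans (index_dvd_of_le fun x hx => ?_))
  have h2 := AlphaCore.sylow_le_derived hG hM (h r hr (hd.trans (index_dvd_card _))) P
    ⟨x, hx, rfl⟩
  rw [← map_subtype_commutator] at h2
  obtain ⟨z, hz, e⟩ := h2
  exact M.subtype_injective e ▸ hz

theorem maximal (hG : Cfsg.IsMinSimpleOddOrder G)
    (hA : PrimeAction.{u}) (hM : IsCoatom M) (p : ℕ) [Fact p.Prime] : Cfsg.PLengthLE p 1 M := by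
  have hsol := hG.2.2.2 M hM.1
  have hodd : Odd (Nat.card M) := hG.1.of_dvd_nat M.card_subgroup_dvd_card
  rw [PLengthOne.iff_index]
  by_cases hpM : p ∣ Nat.card M
  swap
  · exact fun hd => hpM (hd.trans (index_dvd_card _))
  by_cases hr : Cfsg.PRankLE p 2 M
  · obtain ⟨-, -, -, -, -, hidx⟩ := Cfsg.Agent.S1450.result hodd p hpM hr
    exact (Nat.Prime.coprime_iff_not_dvd Fact.out).mp hidx.symm
  rw [← PLengthOne.iff_index]
  set O := Cfsg.piCore (Cfsg.alpha M) ↥M with hO
  obtain ⟨-, hndvd, -⟩ := AlphaCore.structure_quotient hG hM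
  have hOpi := Components.piCore_isPiSubgroup (G := ↥M) (Cfsg.alpha M)
  have hnd : ∀ q : ℕ, q.Prime → q ∈ Cfsg.alpha M → ¬ q ∣ O.index := fun q hq hqα => by
    rw [index_eq_card]
    exact hndvd q hq hqα
  have hcop : (Nat.card O).Coprime O.index :=
    Nat.coprime_of_dvd fun q hq hqO hqi => hnd q hq (hOpi q hq hqO) hqi
  obtain ⟨R, hR⟩ := exists_right_complement'_of_coprime hcop
  obtain ⟨r, hrp, hrM, hrσ⟩ := exists_nonsigma hG hM
  have := Fact.mk hrp
  have hrO : ¬ r ∣ Nat.card O := fun hd =>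
    hrσ (SigmaTrans.alpha_subset_sigma hG hM (hOpi r hrp hd))
  obtain ⟨Q⟩ : Nonempty (Sylow r R) := inferInstance
  have hRi : R.index = Nat.card O := hR.index_eq_card
  have hQi : ¬ r ∣ ((Q : Subgroup R).map R.subtype).index := by
    rw [index_map_subtype, hrp.dvd_mul, hRi]
    push Not
    exact ⟨Q.not_dvd_index, hrO⟩
  set P : Sylow r M := (Q.2.map R.subtype).toSylow hQi with hP
  have hPR : (P : Subgroup M) ≤ R := by
    exact map_subtype_le _
  obtain ⟨x, hxZ, hxo, hxz, -⟩ := NonSigma.exists_central hG hM hrM hrσ P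
  obtain ⟨x', hx', rfl⟩ := hxZ
  have hx'o : orderOf x' = r := by rwa [← Subgroup.orderOf_coe]
  have hx'R : x' ∈ R := hPR (map_subtype_le _ hx')
  have hz : IsZGroup ↥(O ⊓ centralizer ((zpowers x' : Subgroup M) : Set M)) := by
    have hmap : (O ⊓ centralizer ((zpowers x' : Subgroup M) : Set M)).map M.subtype ≤
        Cfsg.alphaCore M ⊓ centralizer ({(x' : G)} : Set G) := by
      rintro _ ⟨y, ⟨hyO, hyc⟩, rfl⟩
      refine ⟨⟨y, hyO, rfl⟩, mem_centralizer_singleton_iff.mpr ?_⟩
      exact (congrArg Subtype.val (mem_centralizer_iff.mp hyc x' (mem_zpowers x'))).symm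
    have : IsZGroup ↥(Cfsg.alphaCore M ⊓ centralizer ({(x' : G)} : Set G)) := hxz
    exact IsZGroup.of_injective
      (f := (inclusion hmap).comp ((O ⊓ centralizer ((zpowers x' : Subgroup M) : Set M)).equivMapOfInjective
        M.subtype M.subtype_injective).toMonoidHom)
      ((inclusion_injective hmap).comp (MulEquiv.injective _))
  have hOn : O.Normal := inferInstance
  have h := hA ↥M hsol hodd O R (zpowers x') hOn hcop hR (zpowers_le.mpr hx'R)
    (by rw [Nat.card_zpowers, hx'o]; exact hrp) hz p Fact.out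
  have hOle : O ≤ _root_.commutator ↥M := by
    suffices hi : ((_root_.commutator ↥M).subgroupOf O).index = 1 by
      rw [index_eq_one, subgroupOf_eq_top] at hi
      exact hi
    by_contra hne
    obtain ⟨q, hq, hd⟩ := Nat.exists_prime_and_dvd hne
    have := Fact.mk hq
    obtain ⟨T⟩ : Nonempty (Sylow q M) := inferInstance
    have hqα := hOpi q hq (hd.trans (index_dvd_card _))
    refine T.not_dvd_index ((hd.trans (relIndex_dvd_index_of_normal (_root_.commutator ↥M) O)).trans
      (index_dvd_of_le fun y hy => ?_))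
    have h2 := AlphaCore.sylow_le_derived hG hM (SigmaTrans.alpha_subset_sigma hG hM hqα) T
      ⟨y, hy, rfl⟩
    rw [← map_subtype_commutator] at h2
    obtain ⟨z, hz, e⟩ := h2
    exact M.subtype_injective e ▸ hz
  obtain ⟨hOR, -⟩ := (Cfsg.Agent.S1459.result (G := ↥M)).1 O R hOn hcop hR hOle
  exact PLengthOne.of_normal O (hnd p Fact.out ⟨Fact.out, hr⟩)
    (PLengthOne.map_equiv (MulEquiv.subgroupCongr hOR.symm) h)

/-- S1410. -/
theorem proper (hG : Cfsg.IsMinSimpleOddOrder G) (hA : PrimeAction.{u})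
    (p : ℕ) [Fact p.Prime] {H : Subgroup G} (hH : H ≠ ⊤) : Cfsg.PLengthLE p 1 H := by
  obtain ⟨M, hM, hHM⟩ := (eq_top_or_exists_le_coatom H).resolve_left hH
  exact PLengthOne.map_equiv (subgroupOfEquivOfLe hHM)
    (PLengthOne.subgroup (maximal hG hA hM p) (H.subgroupOf M))

end CfsgLib.TwoGroups.ProperPLength
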