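import Cfsg.Agent.Lib.TwoGroups.NonTIOrder

/-!
Owner: helper12. Type V.
-/

set_option autoImplicit false
set_option linter.unusedSectionVars false

namespace CfsgLib.TwoGroups.TypeFive

open Subgroup

variable {G : Type*} [Group G] [Finite G] {M K U : Subgroup G}

/-- A failure of the TI property of `M_F` moves an element out of `M`. -/
theorem exists_moved (h : ¬ Cfsg.IsTISubset (Cfsg.fittingHallOf M : Set G)) :
    ∃ g x : G, g ∉ M ∧ x ∈ Cfsg.fittingHallOf M ∧ x ≠ 1 ∧ g * x * g⁻¹ ∈ Cfsg.fittingHallOf M := by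
  rw [Cfsg.IsTISubset] at h
  push Not at h
  obtain ⟨g, hg, x, hx, hgx, hx1⟩ := h
  exact ⟨g, x, fun hgM => hg (FittingStructure.le_normalizer_fittingHallOf M hgM), hx, hx1, hgx⟩

/-- `O_p` of a group with normal Sylow `p`-subgroup `P`. -/
theorem card_pCore {H : Subgroup G} {p : ℕ} [Fact p.Prime] {P : Subgroup G} (hPH : P ≤ H) (hPp : IsPGroup p P)
    (hn : H ≤ normalizer (P : Set G)) (hmax : ∀ T : Subgroup G, IsPGroup p T → T ≤ H → T ≤ P) :
    Nat.card (Cfsg.pCore p ↥H) = Nat.card P := by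
  have : (P.subgroupOf H).Normal := (normal_subgroupOf_iff_le_normalizer hPH).mpr hn
  have e : Cfsg.pCore p ↥H = P.subgroupOf H := by
    refine le_antisymm ?_ (Core.le_pCore hPp.comap_subtype)
    intro y hy
    exact hmax _ ((Core.isPGroup_pCore p ↥H).map H.subtype) (map_subtype_le _) ⟨y, hy, rfl⟩
  rw [e]
  exact Nat.card_congr (subgroupOfEquivOfLe hPH).toEquiv

/-- `K ≠ 1`, `U = 1` and `M_F = M_σ` give Type V. -/
theorem typeFive (hG : Cfsg.IsMinSimpleOddOrder G) (hM : IsCoatom M)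
    (h : Cfsg.IsSigmaDecomposition M K U) (hK : K ≠ ⊥) (hU : U = ⊥)
    (hH : Cfsg.fittingHallOf M = Cfsg.sigmaCore M) : Cfsg.IsOfTypeV M := by
  have hD : ⁅M, M⁆ = Cfsg.sigmaCore M := by rw [TypeP2.derived_eq hG hM h hK, hU, bot_sup_eq]
  have hV : Cfsg.IsComplIn (Cfsg.fittingHallOf M) ⊥ ⁅M, M⁆ :=
    ⟨(hD.trans hH.symm).ge, bot_le, inf_bot_eq _, fun m hm => ⟨m, (hD.trans hH.symm).le hm, 1, one_mem _, (mul_one m).symm⟩⟩
  refine ⟨K, ⊥, _, TypePData.isTypePWith hG hM h hK inferInstance (fun k _ => ?_) hV, rfl, ?_⟩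
  · rw [mem_normalizer_iff]
    intro y
    simp only [mem_bot]
    exact ⟨fun h => by rw [h, mul_one, mul_inv_cancel], fun h => by rwa [mul_inv_eq_one, mul_eq_left] at h⟩
  by_cases hTI : Cfsg.IsTISubset (Cfsg.fittingHallOf M : Set G)
  · exact Or.inl hTI
  obtain ⟨g, x, hg, hx, hx1, hgx⟩ := exists_moved hTI
  rw [hH] at hx hgx
  obtain ⟨p, y, N, A, -, c⟩ := NonTI.exists_config hG hM
    (hH ▸ OddLocal.fittingHallOf_nilpotent M) hx hx1 hgx hg
  have := c.fact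
  obtain ⟨P, d⟩ := NonTI.exists_kdata c h hK hU
  right
  rcases d.dvd_cases with hd | ⟨hP, hd⟩
  · exact Or.inl ⟨p, c.loc.prime, hH ▸ c.p_dvd, hd, hH ▸ c.primeCore_cyclic d.hS⟩
  · refine Or.inr ⟨p, c.loc.prime, hH ▸ c.p_dvd, ?_, hd, hH ▸ c.primeCore_cyclic d.hS⟩
    rw [hH, card_pCore d.Ple d.Pp ((TauTwo.sigmaCore_le M).trans d.Pn)
      fun T hT hTH => d.Pmax T hT (hTH.trans (TauTwo.sigmaCore_le M)), hP]

theorem typeFive_iff (hG : Cfsg.IsMinSimpleOddOrder G) (hM : IsCoatom M)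
    (h : Cfsg.IsSigmaDecomposition M K U) :
    Cfsg.IsOfTypeV M ↔ (K ≠ ⊥ ∧ U = ⊥ ∧ Cfsg.fittingHallOf M = Cfsg.sigmaCore M) := by
  refine ⟨fun h5 => ?_, fun ⟨hK, hU, hH⟩ => typeFive hG hM h hK hU hH⟩
  have hK := TypeFrobenius.ne_bot_of_typeP hG hM h (TypesExclusive.isOfTypeP_of_five h5)
  refine ⟨hK, ?_, ?_⟩
  · by_contra hU
    exact TypesExclusive.not_two_five (TypeTwoThree.typeTwo hG hM h hK hU) h5
  · by_contra hne
    exact TypesExclusive.not_three_five (TypeTwoThree.typeThreeFour hG hM h hK hne) h5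

end CfsgLib.TwoGroups.TypeFive
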