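import Cfsg.Agent.Lib.TwoGroups.SigmaExponent
import Cfsg.Agent.Lib.OddLocal.BetaCore
import Cfsg.Agent.Lib.OddLocal.NonKappa
import Cfsg.Agent.Lib.OddLocal.SigmaIntersection
import Cfsg.Agent.Lib.OddLocal.FittingSigma
import Cfsg.Agent.Lib.OddLocal.FrobeniusNilpotent
import Cfsg.Agent.S1353

/-!
Owner: helper12. Maximal subgroups with a standard factorisation in which `K ≠ 1` and `U ≠ 1`
(Bender–Glauberman, type `P₂`).

All primes of `M_σ` lie in `β(M)`: otherwise `U ≤ M'` lies in a normal `q`-complement and so centralises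
the Sylow `q`-subgroup of the nilpotent group `M_σ`. Hence `M_σ` is a TI-set. The fixed point formula for
the Frobenius group `U K` acting on `M_σ` makes the order of `K` prime.
-/

set_option autoImplicit false
set_option linter.unusedSectionVars false

namespace CfsgLib.TwoGroups.TypeP2

open Subgroup
open CfsgLib.TwoGroups.TauTwo (IsPair)
open scoped commutatorElement

variable {G : Type*} [Group G] [Finite G] {M K U : Subgroup G}

/-- `U ≠ 1` has no fixed points on `M_σ`. -/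
theorem sigma_inf_centralizer_U (hG : Cfsg.IsMinSimpleOddOrder G) (hM : IsCoatom M)
    (h : Cfsg.IsSigmaDecomposition M K U) (hU : U ≠ ⊥) :
    Cfsg.sigmaCore M ⊓ centralizer (U : Set G) = ⊥ := by
  obtain ⟨t, ht, htd⟩ := Nat.exists_prime_and_dvd (fun e : Nat.card U = 1 => hU (eq_bot_of_card_eq _ e))
  have := Fact.mk ht
  obtain ⟨u, hu⟩ := exists_prime_orderOf_dvd_card' (G := U) t htd
  have huo : orderOf (u : G) = t := by rw [Subgroup.orderOf_coe, hu]
  by_cases hb : Cfsg.sigmaCore M ⊓ centralizer ({(u : G)} : Set G) = ⊥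
  · exact le_bot_iff.mp ((inf_le_inf_left _ (Subgroup.centralizer_le
      (Set.singleton_subset_iff.mpr u.2))).trans hb.le)
  obtain ⟨⟨y, hy, hyu⟩, hy1⟩ := ne_bot_iff_exists_ne_one.mp hb
  have hτ := SigmaFactor.tau2_of_mem_U hG hM h u.2 ⟨h.compl.1 u.2, y, hy, fun e => hy1 (Subtype.ext e),
    (mem_centralizer_singleton_iff.mp hyu).symm⟩ t ht huo.symm.dvd
  obtain ⟨A, hA, hAE⟩ := TauTwo.exists_pair_complement hG hM (SigmaFactor.isComplIn hG hM h) hτ
  have hAU : A ≤ U := fun a ha => by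
    by_cases ha1 : a = 1
    · rw [ha1]; exact one_mem _
    exact SigmaFactor.mem_U_of_pElement hG hM h hτ (hAE ha) (j := 1)
      (by rw [pow_one]; exact orderOf_eq_prime (hA.1.2 a ha) ha1)
  exact le_bot_iff.mp ((inf_le_inf_left _ (Subgroup.centralizer_le hAU)).trans
    (TauTwo.sigma_inf_centralizer hG hM hA (hAU.trans h.compl.1) hτ.2.1).le)

/-- `M_σ` is nilpotent as soon as `U ≠ 1`. -/
theorem isNilpotent_sigmaCore (hG : Cfsg.IsMinSimpleOddOrder G) (hM : IsCoatom M)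
    (h : Cfsg.IsSigmaDecomposition M K U) (hU : U ≠ ⊥) : Group.IsNilpotent (Cfsg.sigmaCore M) := by
  obtain ⟨t, ht, htd⟩ := Nat.exists_prime_and_dvd (fun e : Nat.card U = 1 => hU (eq_bot_of_card_eq _ e))
  have := Fact.mk ht
  obtain ⟨h1, h2⟩ := SigmaFactor.not_mem hG hM h ht htd
  obtain ⟨S⟩ : Nonempty (Sylow t M) := inferInstance
  exact (OddLocal.NonKappa.omega_facts hG hM (htd.trans (card_dvd_of_le h.compl.1))
    (fun e => e.elim h1 h2) S).2.2

theorem inf_centralizer_K (hG : Cfsg.IsMinSimpleOddOrder G) (hM : IsCoatom M)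
    (h : Cfsg.IsSigmaDecomposition M K U) (hK : K ≠ ⊥) : U ⊓ centralizer (K : Set G) = ⊥ := by
  obtain ⟨k, hk, hk1⟩ := K.bot_or_exists_ne_one.resolve_left hK
  exact le_bot_iff.mp ((inf_le_inf_left _ (Subgroup.centralizer_le (Set.singleton_subset_iff.mpr hk))).trans
    (Cfsg.Agent.S1353.result hG M hM K U h k hk hk1).le)

theorem coprime_U_K (hG : Cfsg.IsMinSimpleOddOrder G) (hM : IsCoatom M)
    (h : Cfsg.IsSigmaDecomposition M K U) : (Nat.card U).Coprime (Nat.card K) :=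
  Nat.coprime_of_dvd fun t ht h1 h2 => (SigmaFactor.not_mem hG hM h ht h1).2 (h.hall.2.1 t ht h2)

/-- `U ≤ M'`. -/
theorem U_le_derived (hG : Cfsg.IsMinSimpleOddOrder G) (hM : IsCoatom M)
    (h : Cfsg.IsSigmaDecomposition M K U) (hK : K ≠ ⊥) : U ≤ ⁅M, M⁆ := by
  have hs : Group.IsSolvable K := CfsgLib.Core.isSolvable_of_le (hG.2.2.2 M hM.1) h.hall.1
  have h1 := CfsgLib.Core.commutator_sup_centralizer h.normal (coprime_U_K hG hM h).symm (Or.inl hs)
  rw [inf_centralizer_K hG hM h hK, sup_bot_eq] at h1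
  exact h1.ge.trans (commutator_mono h.compl.1 h.hall.1)

/-- `M' = U M_σ`. -/
theorem derived_eq (hG : Cfsg.IsMinSimpleOddOrder G) (hM : IsCoatom M)
    (h : Cfsg.IsSigmaDecomposition M K U) (hK : K ≠ ⊥) : ⁅M, M⁆ = U ⊔ Cfsg.sigmaCore M := by
  refine le_antisymm ?_ (sup_le (U_le_derived hG hM h hK) (OddLocal.BetaCore.sigmaCore_le_derived hG hM))
  set N := U ⊔ Cfsg.sigmaCore M
  have hNM : N ≤ M := sup_le h.compl.1 (TauTwo.sigmaCore_le M)
  have : (N.subgroupOf M).Normal :=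
    (normal_subgroupOf_iff_le_normalizer hNM).mpr (SigmaFactor.le_normalizer_sup hG hM h)
  have hKc := h.cyclic
  have key : ∀ m : M, ∃ k : M, (k : G) ∈ K ∧
      QuotientGroup.mk' (N.subgroupOf M) m = QuotientGroup.mk' (N.subgroupOf M) k := by
    intro m
    obtain ⟨u, hu, b, hb, e⟩ := h.compl.2.2.2 m m.2
    obtain ⟨k, hk, o, ho, rfl⟩ := (Core.mem_sup_iff_mul
      (h.hall.1.trans (TauTwo.le_normalizer_sigmaCore M))).mp hb
    refine ⟨⟨k, h.hall.1 hk⟩, hk, QuotientGroup.eq.mpr (mem_subgroupOf.mpr ?_)⟩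
    show (m : G)⁻¹ * k ∈ N
    rw [e, show (u * (k * o))⁻¹ * k = o⁻¹ * (k⁻¹ * u⁻¹ * k) by group]
    exact mul_mem (mem_sup_right (inv_mem ho))
      (mem_sup_left ((mem_normalizer_iff''.mp (h.normal hk) u⁻¹).mp (inv_mem hu)))
  refine commutator_le.mpr fun a ha b hb => ?_
  obtain ⟨k, hk, hak⟩ := key ⟨a, ha⟩
  obtain ⟨l, hl, hbl⟩ := key ⟨b, hb⟩
  have hkl : k * l = l * k := Subtype.ext
    (congrArg Subtype.val (hKc.isMulCommutative.is_comm.comm (⟨(k : G), hk⟩ : K) ⟨(l : G), hl⟩) :)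
  have h2 : ⁅(⟨a, ha⟩ : M), (⟨b, hb⟩ : M)⁆ ∈ N.subgroupOf M := by
    rw [← QuotientGroup.eq_one_iff, ← QuotientGroup.mk'_apply, map_commutatorElement, hak, hbl,
      ← map_commutatorElement, commutatorElement_eq_one_iff_mul_comm.mpr hkl, map_one]
  exact mem_subgroupOf.mp h2

/-- Every prime of `M_σ` lies in `β(M)`. -/
theorem mem_beta (hG : Cfsg.IsMinSimpleOddOrder G) (hM : IsCoatom M) (h : Cfsg.IsSigmaDecomposition M K U)
    (hK : K ≠ ⊥) (hU : U ≠ ⊥) {q : ℕ} (hq : q.Prime) (hd : q ∣ Nat.card (Cfsg.sigmaCore M)) :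
    q ∈ Cfsg.beta M := by
  by_contra hβ
  have := Fact.mk hq
  set O := Cfsg.sigmaCore M with hO
  have hDn := OddLocal.BetaCore.complement_derived hG hM hβ
  obtain ⟨S⟩ : Nonempty (Sylow q O) := inferInstance
  have hSn : (S : Subgroup O).Normal :=
    ((Group.isNilpotent_of_finite_tfae (G := O)).out 0 3 rfl rfl).mp (isNilpotent_sigmaCore hG hM h hU) q
      inferInstance S
  set Q := (S : Subgroup O).map O.subtype with hQ
  have hMQ : M ≤ normalizer (Q : Set G) := fun m hm => by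
    have := Sylow.characteristic_of_normal S hSn
    exact OddLocal.PLengthEndgame.normalizer_le_char O (S : Subgroup O) (TauTwo.le_normalizer_sigmaCore M hm)
  have hQD : Q ≤ ⁅M, M⁆ := (map_subtype_le _).trans (OddLocal.BetaCore.sigmaCore_le_derived hG hM)
  set D := ⁅M, M⁆ with hD
  set N := (Cfsg.pPrimeCore q D).map D.subtype with hN
  have hUN : U ≤ N := by
    have hUD := U_le_derived hG hM h hK
    refine (map_subgroupOf_eq_of_le hUD).ge.trans (map_mono ?_)
    refine OddLocal.BetaCore.le_pPrimeCore_of_complement hDn ?_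
    rw [Nat.card_congr (subgroupOfEquivOfLe hUD).toEquiv]
    exact (hq.coprime_iff_not_dvd.mpr fun hd' =>
      (SigmaFactor.not_mem hG hM h hq hd').1 (TauTwo.mem_sigma_of_dvd hq hd hG hM)).symm
  have hQN : Q ≤ normalizer (N : Set G) := fun x hx => le_normalizer_map D.subtype
    ⟨⟨x, hQD hx⟩, Core.le_normalizer_of_normal ⊤ (Cfsg.pPrimeCore q D) (mem_top _), rfl⟩
  have hNQ : N ≤ normalizer (Q : Set G) := (map_subtype_le _).trans ((commutator_le_self M).trans hMQ)
  have hcop : (Nat.card N).Coprime (Nat.card Q) := by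
    obtain ⟨k, hk⟩ := IsPGroup.iff_card.mp (S.2.map O.subtype)
    rw [hQ, hk, hN, card_map_of_injective D.subtype_injective]
    exact (Core.coprime_card_pPrimeCore q D).pow_right k
  have hc : Q ≤ centralizer (U : Set G) := by
    refine (commutator_eq_bot_iff_le_centralizer.mp (le_bot_iff.mp ((le_inf ?_ ?_).trans
      (inf_eq_bot_of_coprime hcop).le))).trans (Subgroup.centralizer_le hUN)
    · exact le_normalizer_iff_commutator_le_right.mp hQN
    · exact le_normalizer_iff_commutator_le_left.mp hNQ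
  have hQb : Q ≤ ⊥ := (le_inf (map_subtype_le _) hc).trans (sigma_inf_centralizer_U hG hM h hU).le
  have h0 : (S : Subgroup O) = ⊥ := (map_eq_bot_iff_of_injective _ O.subtype_injective).mp (le_bot_iff.mp hQb)
  have := S.not_dvd_index
  rw [h0, index_bot] at this
  exact this hd

/-- `M_σ` meets the other conjugates of `M` trivially. -/
theorem inf_conj_eq_bot (hG : Cfsg.IsMinSimpleOddOrder G) (hM : IsCoatom M)
    (h : Cfsg.IsSigmaDecomposition M K U) (hK : K ≠ ⊥) (hU : U ≠ ⊥) {g : G} (hg : g ∉ M) :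
    Cfsg.sigmaCore M ⊓ M.map (MulAut.conj g).toMonoidHom = ⊥ := by
  refine eq_bot_of_card_eq _ (by_contra fun hne => ?_)
  obtain ⟨q, hq, hd⟩ := Nat.exists_prime_and_dvd hne
  exact (OddLocal.SigmaIntersection.inf_conj (OddLocal.TauTwoFacts.rankTwo hG) hG hM hg).2.1 q hq hd
    (mem_beta hG hM h hK hU hq (hd.trans (card_dvd_of_le inf_le_left)))

/-- `F(M)` is a TI-set. -/
theorem fitting_isTISubset (hG : Cfsg.IsMinSimpleOddOrder G) (hM : IsCoatom M)
    (h : Cfsg.IsSigmaDecomposition M K U) (hK : K ≠ ⊥) (hU : U ≠ ⊥) :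
    Cfsg.IsTISubset (Cfsg.fittingOf M : Set G) := by
  intro g hg x hx hgx
  by_contra hx1
  set F := Cfsg.fittingOf M with hF
  have hFM : F ≤ M := map_subtype_le _
  have hgM : g ∉ M := fun e => hg (OddLocal.FittingSigma.le_normalizer_fittingOf M e)
  obtain ⟨t, ht, htd⟩ := Nat.exists_prime_and_dvd (fun e : orderOf x = 1 => hx1 (orderOf_eq_one_iff.mp e))
  have := Fact.mk ht
  set w := x ^ (orderOf x / t) with hw
  have hwo : orderOf w = t := orderOf_pow_orderOf_div (orderOf_pos x).ne' htd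
  have hw1 : w ≠ 1 := fun e => ht.ne_one (by rw [← hwo, e, orderOf_one])
  have hwF : w ∈ F := pow_mem (SetLike.mem_coe.mp hx) _
  have hgw : g * w * g⁻¹ ∈ F := by
    rw [hw, ← conj_pow]
    exact pow_mem (SetLike.mem_coe.mp hgx) _
  have hgo : orderOf (g * w * g⁻¹) = t := (MulEquiv.orderOf_eq (MulAut.conj g) w).trans hwo
  by_cases hσ : t ∈ Cfsg.sigma M
  · have h1 : g * w * g⁻¹ ∈ Cfsg.sigmaCore M := TauTwo.le_sigmaCore hG hM hσ
      (IsPGroup.of_card (n := 1) (by rw [Nat.card_zpowers, hgo, pow_one]))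
      (zpowers_le.mpr (hFM hgw)) (mem_zpowers _)
    have h2 : g * w * g⁻¹ ∈ Cfsg.sigmaCore M ⊓ M.map (MulAut.conj g).toMonoidHom :=
      ⟨h1, w, hFM hwF, rfl⟩
    rw [inf_conj_eq_bot hG hM h hK hU hgM, mem_bot, conj_eq_one_iff] at h2
    exact hw1 h2
  set π : Set ℕ := {q | q.Prime ∧ q ∉ Cfsg.sigma M}
  set Y := Cfsg.piCoreOf π F with hY
  have hmemY : ∀ z ∈ F, orderOf z = t → z ∈ Y := by
    intro z hz hzo
    have hzo' : orderOf (⟨z, hz⟩ : F) = t ^ 1 := by rw [orderOf_mk, hzo, pow_one]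
    have hmem := HallGen.mem_pCore_of_mem_nilpotent_normal (G := F) (N := ⊤) inferInstance
      (by
        have := OddLocal.FittingSigma.isNilpotent_fittingOf M
        exact Group.nilpotent_of_mulEquiv (Subgroup.topEquiv (G := F)).symm)
      (mem_top (⟨z, hz⟩ : F)) hzo'
    refine ⟨⟨z, hz⟩, Components.le_piCore inferInstance (fun r hr hd => ?_) hmem, rfl⟩
    obtain ⟨k, hk⟩ := IsPGroup.iff_card.mp (Core.isPGroup_pCore t F)
    rw [(Nat.prime_dvd_prime_iff_eq hr ht).mp (hr.dvd_of_dvd_pow (hk ▸ hd))]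
    exact ⟨ht, hσ⟩
  have hcyc : IsCyclic Y := (OddLocal.FittingSigma.sigma_prime_part hG hM).1
  have hMY : M ≤ normalizer (Y : Set G) := fun m hm => by
    have := OddLocal.SigmaComplement.piCore_characteristic (H := F) π
    exact OddLocal.PLengthEndgame.normalizer_le_char F (Cfsg.piCore π F)
      (OddLocal.FittingSigma.le_normalizer_fittingOf M hm)
  set X := zpowers w with hX
  have hXY : X ≤ Y := zpowers_le.mpr (hmemY w hwF hwo)
  have hXg : X = zpowers (g * w * g⁻¹) := OddLocal.PrimeActionTools.eq_of_cyclic (p := t) hcyc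
    (by rw [hX, Nat.card_zpowers, hwo]) (by rw [Nat.card_zpowers, hgo]) hXY
    (zpowers_le.mpr (hmemY _ hgw hgo))
  have hgX : g ∈ normalizer (X : Set G) := Transfer.map_conj_eq_self_iff.mp (by
    conv_rhs => rw [hXg]
    rw [hX, MonoidHom.map_zpowers]
    rfl)
  have hN : M ≤ normalizer (X : Set G) := hMY.trans (OddLocal.SigmaEmbedding.normalizer_le_of_cyclic hcyc hXY)
  rcases hN.lt_or_eq with hlt | heq
  · exact TransitivityHyp.normalizer_ne_top hG (fun e => hw1 (zpowers_eq_bot.mp e))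
      (Uniqueness.ne_top_of_pGroup hG (IsPGroup.of_card (n := 1) (G := X) (by
        rw [hX, Nat.card_zpowers, hwo, pow_one]))) (hM.2 _ hlt)
  · exact hgM (heq ▸ hgX)

/-- `K` has prime order. -/
theorem card_K_prime (hG : Cfsg.IsMinSimpleOddOrder G) (hM : IsCoatom M)
    (h : Cfsg.IsSigmaDecomposition M K U) (hK : K ≠ ⊥) (hU : U ≠ ⊥) : (Nat.card K).Prime := by
  obtain ⟨E, d⟩ := OddLocal.Kappa.exists_data hG hM h.hall hK
  obtain ⟨t, ht, htd⟩ := Nat.exists_prime_and_dvd (fun e : Nat.card K = 1 => hK (eq_bot_of_card_eq _ e))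
  have := Fact.mk ht
  obtain ⟨x, hx⟩ := exists_prime_orderOf_dvd_card' (G := K) t htd
  set X := zpowers (x : G)
  have hXc : Nat.card X = t := by rw [Nat.card_zpowers, Subgroup.orderOf_coe, hx]
  have hXK : X ≤ K := zpowers_le.mpr x.2
  set O := Cfsg.sigmaCore M with hO
  have hs : Group.IsSolvable O := CfsgLib.Core.isSolvable_of_le (hG.2.2.2 M hM.1) (TauTwo.sigmaCore_le M)
  have main : ∀ R : Subgroup G, R ≤ K →
      Nat.card O = Nat.card ↥(O ⊓ centralizer (R : Set G)) ^ Nat.card R := fun R hR => by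
    have hRn : R ≤ normalizer (U : Set G) := hR.trans h.normal
    refine OddLocal.FrobeniusNilpotent.card_eq_pow U R O ?_ hRn
      (fun r hr hr1 => Cfsg.Agent.S1353.result hG M hM K U h r (hR hr) hr1) hs
      (h.compl.1.trans (TauTwo.le_normalizer_sigmaCore M))
      ((hR.trans h.hall.1).trans (TauTwo.le_normalizer_sigmaCore M)) ?_
      (sigma_inf_centralizer_U hG hM h hU)
    · exact inf_eq_bot_of_coprime ((coprime_U_K hG hM h).coprime_dvd_right (card_dvd_of_le hR))
    · refine Nat.Coprime.coprime_dvd_left (sup_comm U R ▸ Core.card_sup_dvd R U hRn) ?_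
      refine Nat.coprime_of_dvd fun q hq h1 h2 => ?_
      have hσ := TauTwo.mem_sigma_of_dvd hq h2 hG hM
      rcases hq.dvd_mul.mp h1 with h' | h'
      · exact (h.hall.2.1 q hq (h'.trans (card_dvd_of_le hR))).2.2.1 hσ
      · exact (SigmaFactor.not_mem hG hM h hq h').1 hσ
  have h1 := (main K le_rfl).symm.trans (main X hXK)
  rw [d.fixed X (hXc.symm ▸ ht) hXK] at h1
  have h2 : 2 ≤ Nat.card ↥(O ⊓ centralizer (K : Set G)) := by
    refine (Finite.one_lt_card_iff_nontrivial.mpr ((Subgroup.nontrivial_iff_ne_bot _).mpr fun e => ?_))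
    exact d.nonregular X (hXc.symm ▸ ht) hXK ((d.fixed X (hXc.symm ▸ ht) hXK).trans e)
  rw [Nat.pow_right_injective h2 h1, hXc]
  exact ht

/-- `M_σ = M_F ≤ F(M)`. -/
theorem sigmaCore_le_fitting (hG : Cfsg.IsMinSimpleOddOrder G) (hM : IsCoatom M)
    (h : Cfsg.IsSigmaDecomposition M K U) (hU : U ≠ ⊥) : Cfsg.sigmaCore M ≤ Cfsg.fittingOf M :=
  OddLocal.FittingSigma.le_fittingOf (TauTwo.sigmaCore_le M) (TauTwo.le_normalizer_sigmaCore M)
    (isNilpotent_sigmaCore hG hM h hU)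

end CfsgLib.TwoGroups.TypeP2
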