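import Cfsg.Agent.Lib.TwoGroups.SCNUnique
import Cfsg.Agent.S1450

/-!
Owner: helper12. The sets `α(M)`, `σ(M)` and conjugation of `σ`-subgroups.
-/

set_option autoImplicit false

namespace CfsgLib.TwoGroups.SigmaTrans

open Subgroup

variable {G : Type*} [Group G] [Finite G] {p : ℕ} [Fact p.Prime] {M : Subgroup G}

theorem exists_sylow_of_sigma (hp : p ∈ Cfsg.sigma M) (R : Sylow p M) :
    normalizer (((R : Subgroup M).map M.subtype : Subgroup G) : Set G) ≤ M := by
  obtain ⟨-, -, P, hP⟩ := hp
  obtain ⟨m, hm⟩ := MulAction.exists_smul_eq M P R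
  have hmap : (R : Subgroup M).map M.subtype =
      ((P : Subgroup M).map M.subtype).map (MulAut.conj (m : G)).toMonoidHom := by
    rw [← hm]
    ext x
    constructor
    · rintro ⟨r, hr, rfl⟩
      rw [SetLike.mem_coe, Transfer.mem_sylow_smul] at hr
      exact Transfer.mem_map_conj.mpr ⟨m⁻¹ * r * m, hr, rfl⟩
    · intro hx
      obtain ⟨r, hr, e⟩ := Transfer.mem_map_conj.mp hx
      refine ⟨m * r * m⁻¹, ?_, ?_⟩
      · rw [SetLike.mem_coe, Transfer.mem_sylow_smul]
        simpa [mul_assoc] using (show r ∈ (P : Subgroup M) from hr)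
      · show (m : G) * r * (m : G)⁻¹ = x
        rw [show (r : G) = (m : G)⁻¹ * x * m from e]
        group
  intro g hg
  rw [hmap] at hg
  have h1 := Transfer.map_conj_eq_self_iff.mpr hg
  have h2 : (m : G)⁻¹ * g * m ∈ normalizer (((P : Subgroup M).map M.subtype : Subgroup G) : Set G) := by
    refine Transfer.map_conj_eq_self_iff.mp ?_
    apply map_injective (f := (MulAut.conj (m : G)).toMonoidHom) (MulAut.conj (m : G)).injective
    rw [Subgroup.map_map]
    rw [Subgroup.map_map] at h1
    convert h1 using 2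
    ext y
    simp [mul_assoc]
  simpa [mul_assoc] using mul_mem (mul_mem m.2 (hP h2)) (inv_mem m.2)

/-- `α(M) ⊆ σ(M)`. -/
theorem alpha_subset_sigma (hG : Cfsg.IsMinSimpleOddOrder G)
    (hM : IsCoatom M) (hp : p ∈ Cfsg.alpha M) : p ∈ Cfsg.sigma M := by
  obtain ⟨hp', hr⟩ := hp
  obtain ⟨E, hEM, hE, hE3⟩ := Uniqueness.exists_elementary_of_not_rank (X := M) hr
  obtain ⟨P, hP⟩ := ((Signalizer.elementary_isPGroup hE).comap_subtype (K := M)).exists_le_sylow
  have hEP : E ≤ (P : Subgroup M).map M.subtype := fun x hx => ⟨⟨x, hEM hx⟩, hP hx, rfl⟩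
  refine ⟨hp', ?_, P, ?_⟩
  · obtain ⟨k, hk⟩ := IsPGroup.iff_card.mp (Signalizer.elementary_isPGroup hE)
    have hk0 : k ≠ 0 := by
      rintro rfl
      rw [pow_zero] at hk
      have := (Nat.one_lt_pow (by omega : (2 + 1) ≠ 0) hp'.one_lt).trans_le hE3
      omega
    exact ((dvd_pow_self p hk0).trans hk.symm.dvd).trans (card_dvd_of_le hEM)
  have hEb : E ≠ ⊥ := by
    rintro rfl
    rw [card_bot] at hE3
    have := Nat.one_lt_pow (by omega : (2 + 1) ≠ 0) hp'.one_lt
    omega
  have hPne : (P : Subgroup M).map M.subtype ≠ ⊥ := fun hb => hEb (le_bot_iff.mp (hb ▸ hEP))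
  exact Uniqueness.le_of_inUniqueMaximal (SCNUnique.inUniqueMaximal_elementary hG hE hE3) hM hEM
    (TransitivityHyp.normalizer_ne_top hG hPne (Uniqueness.ne_top_of_pGroup hG (P.2.map _)))
    (hEP.trans le_normalizer)

/-- A Sylow `p`-subgroup of `M` is one of `G` for `p ∈ σ(M)`. -/
theorem sigma_sylow (hp : p ∈ Cfsg.sigma M) (R : Sylow p M) :
    ∃ S : Sylow p G, (S : Subgroup G) = (R : Subgroup M).map M.subtype := by
  refine Uniqueness.exists_sylow_eq (R.2.map _) fun Q hQ hle => ?_
  by_contra hne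
  have hlt := Uniqueness.isPGroup_lt_inf hQ (lt_of_le_of_ne hle (Ne.symm hne))
  have hQM : Q ⊓ normalizer (((R : Subgroup M).map M.subtype : Subgroup G) : Set G) ≤ M :=
    inf_le_right.trans (exists_sylow_of_sigma hp R)
  have h := R.3 (Q := (Q ⊓ normalizer (((R : Subgroup M).map M.subtype : Subgroup G) : Set G)).subgroupOf M)
    (hQ.to_le inf_le_left).comap_subtype (fun x hx => ⟨hle ⟨x, hx, rfl⟩, le_normalizer ⟨x, hx, rfl⟩⟩)
  rw [(map_subgroupOf_eq_of_le hQM).symm.trans (congrArg (Subgroup.map M.subtype) h)] at hlt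
  exact lt_irrefl _ hlt

/-- Every `p`-subgroup is conjugate into `M` for `p ∈ σ(M)`. -/
theorem exists_conj_le (hp : p ∈ Cfsg.sigma M) {T : Subgroup G} (hT : IsPGroup p T) :
    ∃ h : G, ∀ t ∈ T, h⁻¹ * t * h ∈ M := by
  obtain ⟨R⟩ : Nonempty (Sylow p M) := inferInstance
  obtain ⟨S, hS⟩ := sigma_sylow hp R
  obtain ⟨S', hS'⟩ := hT.exists_le_sylow
  obtain ⟨g, hg⟩ := MulAction.exists_smul_eq G S S'
  refine ⟨g, fun t ht => ?_⟩
  have h1 := hS' ht
  rw [← hg, Transfer.mem_sylow_smul, hS] at h1
  exact map_subtype_le _ h1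

/-- The conjugates of `M` containing a `p`-subgroup `X ≠ 1` are conjugate under `C(X)`. -/
theorem exists_centralizer (hG : Cfsg.IsMinSimpleOddOrder G)
    (hM : IsCoatom M) (hp : p ∈ Cfsg.sigma M) :
    ∀ X : Subgroup G, IsPGroup p X → X ≠ ⊥ → X ≤ M → ∀ g : G, (∀ x ∈ X, g⁻¹ * x * g ∈ M) →
      ∃ c ∈ centralizer (X : Set G), c⁻¹ * g ∈ M := by
  suffices key : ∀ n : ℕ, ∀ X : Subgroup G, Nat.card G - Nat.card X = n → IsPGroup p X → X ≠ ⊥ →
      X ≤ M → ∀ g : G, (∀ x ∈ X, g⁻¹ * x * g ∈ M) → ∃ c ∈ centralizer (X : Set G), c⁻¹ * g ∈ M from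
    fun X => key _ X rfl
  intro n
  induction n using Nat.strong_induction_on with
  | _ n ih =>
    intro X hn hX hXne hXM g hg
    set Y := X.map (MulAut.conj g⁻¹).toMonoidHom with hYdef
    have hYM : Y ≤ M := by
      rintro _ ⟨x, hx, rfl⟩
      simpa using hg x hx
    have hY : IsPGroup p Y := hX.map _
    obtain ⟨P₁, hP₁⟩ := (hX.comap_subtype (K := M)).exists_le_sylow
    obtain ⟨P₂, hP₂⟩ := (hY.comap_subtype (K := M)).exists_le_sylow
    set S₁ := (P₁ : Subgroup M).map M.subtype with hS₁
    set S₂ := (P₂ : Subgroup M).map M.subtype with hS₂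
    have hXS₁ : X ≤ S₁ := fun x hx => ⟨⟨x, hXM hx⟩, hP₁ hx, rfl⟩
    have hYS₂ : Y ≤ S₂ := fun x hx => ⟨⟨x, hYM hx⟩, hP₂ hx, rfl⟩
    by_cases hXS : X = S₁
    · -- `X` is a Sylow subgroup
      obtain ⟨m, hm⟩ := MulAction.exists_smul_eq M P₁ P₂
      have hm' : S₁.map (MulAut.conj (m : G)).toMonoidHom = S₂ := by
        rw [hS₂, ← hm]
        ext x
        constructor
        · rintro ⟨_, ⟨r, hr, rfl⟩, rfl⟩
          refine ⟨m * r * m⁻¹, ?_, rfl⟩
          rw [SetLike.mem_coe, Transfer.mem_sylow_smul]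
          simpa [mul_assoc] using (show r ∈ (P₁ : Subgroup M) from hr)
        · rintro ⟨r, hr, rfl⟩
          rw [SetLike.mem_coe, Transfer.mem_sylow_smul] at hr
          refine Transfer.mem_map_conj.mpr ⟨m⁻¹ * r * m, hr, rfl⟩
      have hYeq : Y = S₂ := by
        refine eq_of_le_of_card_ge hYS₂ ?_
        rw [← hm', hYdef, Transfer.card_map_conj, Transfer.card_map_conj, hXS]
      have hn' : g * (m : G) ∈ normalizer (S₁ : Set G) := by
        refine Transfer.map_conj_eq_self_iff.mp ?_
        apply map_injective (f := (MulAut.conj g⁻¹).toMonoidHom) (MulAut.conj g⁻¹).injective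
        rw [show S₁.map (MulAut.conj g⁻¹).toMonoidHom = S₁.map (MulAut.conj (m : G)).toMonoidHom by
          rw [hm', ← hYeq, hYdef, hXS], Subgroup.map_map]
        congr 1
        ext y
        simp [mul_assoc]
      refine ⟨1, one_mem _, ?_⟩
      have h := mul_mem (exists_sylow_of_sigma hp P₁ hn') (inv_mem m.2)
      simpa [mul_assoc] using h
    -- proper case
    have hXt : X ≠ ⊤ := fun h => hM.1 (top_le_iff.mp (h.ge.trans hXM))
    set L := normalizer (X : Set G) with hL
    have hLt : L ≠ ⊤ := TransitivityHyp.normalizer_ne_top hG hXne hXt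
    set T₁ := S₁ ⊓ L with hT₁
    have hXT₁ : X < T₁ := lt_of_le_of_ne (le_inf hXS₁ le_normalizer) fun e => by
      have := Uniqueness.isPGroup_lt_inf (P₁.2.map M.subtype) (lt_of_le_of_ne hXS₁ hXS)
      rw [← hT₁, ← e] at this
      exact lt_irrefl _ this
    set T₂ := (S₂ ⊓ normalizer (Y : Set G)).map (MulAut.conj g).toMonoidHom with hT₂
    have hYne : Y ≠ S₂ := by
      intro e
      refine hXS (eq_of_le_of_card_ge hXS₁ ?_)
      obtain ⟨m, hm⟩ := MulAction.exists_smul_eq M P₁ P₂
      have hc1 : Nat.card S₁ = Nat.card S₂ := by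
        rw [hS₁, hS₂, card_map_of_injective M.subtype_injective,
          card_map_of_injective M.subtype_injective]
        exact (Sylow.card_eq_multiplicity P₁).trans (Sylow.card_eq_multiplicity P₂).symm
      rw [hc1, ← e, hYdef, Transfer.card_map_conj]
    have hXgY : Y.map (MulAut.conj g).toMonoidHom = X := by
      rw [hYdef, Subgroup.map_map]
      conv_rhs => rw [← Subgroup.map_id X]
      congr 1
      ext y
      simp [mul_assoc]
    have hXT₂ : X < T₂ := by
      have h1 := Uniqueness.isPGroup_lt_inf (P₂.2.map M.subtype) (lt_of_le_of_ne hYS₂ hYne)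
      refine lt_of_le_of_ne ?_ fun e => ?_
      · conv_lhs => rw [← hXgY]
        exact map_mono (le_inf hYS₂ le_normalizer)
      · rw [← Transfer.card_map_conj g Y, hXgY, e, hT₂, Transfer.card_map_conj] at h1
        exact lt_irrefl _ h1
    have hT₂L : T₂ ≤ L := by
      refine (map_mono inf_le_right).trans ?_
      rintro _ ⟨y, hy, rfl⟩
      rw [hL, ← hXgY]
      exact le_normalizer_map _ ⟨y, hy, rfl⟩
    have hT₁p : IsPGroup p T₁ := (P₁.2.map M.subtype).to_le inf_le_left
    have hT₂p : IsPGroup p T₂ := ((P₂.2.map M.subtype).to_le inf_le_left).map _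
    have hT₁L : T₁ ≤ L := inf_le_right
    obtain ⟨U, hU⟩ := (hT₁p.comap_subtype (K := L)).exists_le_sylow
    set T := (U : Subgroup L).map L.subtype with hT
    have hTp : IsPGroup p T := U.2.map _
    have hTL : T ≤ L := map_subtype_le _
    obtain ⟨h, hh⟩ := exists_conj_le hp hTp
    -- the induction step, for one overgroup in the conjugate `hMh⁻¹`
    have step : ∀ (W : Subgroup G) (k : G), IsPGroup p W → X < W →
        (∀ w ∈ W, k⁻¹ * w * k ∈ M) → (∀ w ∈ W, h⁻¹ * w * h ∈ M) →
        ∃ c ∈ centralizer (X : Set G), (c * h)⁻¹ * k ∈ M := by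
      intro W k hW hXW hWk hWh
      set W' := W.map (MulAut.conj h⁻¹).toMonoidHom with hW'
      have hW'M : W' ≤ M := by
        rintro _ ⟨w, hw, rfl⟩
        simpa using hWh w hw
      have hcard : Nat.card G - Nat.card W' < n := by
        rw [hW', Transfer.card_map_conj]
        have := Transfer.card_lt_of_lt hXW
        have := Subgroup.card_le_card_group W
        omega
      have hW'ne : W' ≠ ⊥ := by
        rw [hW']
        intro hb
        exact hXne (le_bot_iff.mp (((map_eq_bot_iff_of_injective _ (MulAut.conj h⁻¹).injective).mp hb) ▸ hXW.le))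
      obtain ⟨c, hc', hcm⟩ := ih _ hcard W' rfl (hW.map _) hW'ne hW'M (h⁻¹ * k) (by
        rintro _ ⟨w, hw, rfl⟩
        simpa [mul_assoc] using hWk w hw)
      refine ⟨h * c * h⁻¹, mem_centralizer_iff.mpr fun x hx => ?_, ?_⟩
      · have h1 := mem_centralizer_iff.mp hc' (h⁻¹ * x * h) ⟨x, hXW.le hx, by simp⟩
        calc x * (h * c * h⁻¹) = h * ((h⁻¹ * x * h) * c) * h⁻¹ := by group
          _ = h * (c * (h⁻¹ * x * h)) * h⁻¹ := by rw [h1]
          _ = h * c * h⁻¹ * x := by group
      · simpa [mul_assoc] using hcm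
    have reduce : ∀ (W : Subgroup G) (k : G), IsPGroup p W → X < W → W ≤ L →
        (∀ w ∈ W, k⁻¹ * w * k ∈ M) →
        ∃ c ∈ centralizer (X : Set G), (c * h)⁻¹ * k ∈ M := by
      by_cases hr : Cfsg.PRankLE p 2 T
      · -- `L` has a normal subgroup `O_{p'}(L) T`
        intro W k hW hXW hWL hWk
        have := hG.2.2.2 L hLt
        have hpL : p ∣ Nat.card L := by
          obtain ⟨e, he⟩ := IsPGroup.iff_card.mp hX
          have he0 : e ≠ 0 := by
            rintro rfl
            exact hXne (eq_bot_of_card_eq X (by simpa using he))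
          exact ((dvd_pow_self p he0).trans he.symm.dvd).trans (card_dvd_of_le le_normalizer)
        have hrL : Cfsg.PRankLE p 2 L := by
          intro E hE hEe
          have hEp : IsPGroup p E := fun x => ⟨1, Subtype.ext (by rw [pow_one]; exact hEe x x.2)⟩
          obtain ⟨U', hU'⟩ := hEp.exists_le_sylow
          obtain ⟨l, hl⟩ := MulAction.exists_smul_eq L U' U
          set E' := E.map (MulAut.conj l).toMonoidHom with hE'
          have hle : E' ≤ (U : Subgroup L) := by
            rintro _ ⟨e, he, rfl⟩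
            rw [← hl, Transfer.mem_sylow_smul]
            simpa [mul_assoc] using hU' he
          have hle2 : E'.map L.subtype ≤ T := map_mono hle
          have h1 := hr ((E'.map L.subtype).subgroupOf T) inferInstance (fun a ha => Subtype.ext (by
            obtain ⟨_, ⟨e, he, rfl⟩, e'⟩ := ha
            show (a : G) ^ p = 1
            rw [show (a : G) = L.subtype ((MulAut.conj l).toMonoidHom e) from e'.symm, ← map_pow,
              ← map_pow, hEe e he, map_one, map_one]))
          rwa [Nat.card_congr (subgroupOfEquivOfLe hle2).toEquiv,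
            card_map_of_injective L.subtype_injective, hE', Transfer.card_map_conj] at h1
        obtain ⟨-, -, -, -, -, hidx⟩ :=
          Cfsg.Agent.S1450.result (hG.1.of_dvd_nat L.card_subgroup_dvd_card) p hpL hrL
        set O := Cfsg.pPrimeCore p ↥L with hO
        set V := Cfsg.pPrimePCore p ↥L with hV
        have hmemV : ∀ {Q : Subgroup ↥L}, IsPGroup p Q → Q ≤ V := by
          intro Q hQ x hx
          obtain ⟨e, he⟩ := hQ ⟨x, hx⟩
          refine (QuotientGroup.eq_one_iff (N := V) x).mp (orderOf_eq_one_iff.mp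
            (Nat.eq_one_of_dvd_coprimes (hidx.pow_right e) (orderOf_dvd_natCard _)
              (orderOf_dvd_of_pow_eq_one ?_)))
          rw [← QuotientGroup.mk_pow, show x ^ p ^ e = 1 from congrArg Subtype.val he]
          rfl
        have hUV := hmemV U.2
        have hUsup : (U : Subgroup ↥L) ⊔ O = V := by
          obtain ⟨U'', hU''⟩ : ∃ U'' : Sylow p V, (U'' : Subgroup V).map V.subtype = U :=
            ⟨U.subtype hUV, by rw [Sylow.coe_subtype]; exact map_subgroupOf_eq_of_le hUV⟩
          rw [← hU'']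
          exact PLocal.sylow_sup_pPrimeCore U''
        obtain ⟨W₀, hW₀⟩ := (hW.comap_subtype (K := L)).exists_le_sylow
        -- move `W₀` to `U` by an element of `O`
        obtain ⟨o, hoO, ho⟩ : ∃ o ∈ O, o • W₀ = U := by
          obtain ⟨s, hs⟩ := MulAction.exists_smul_eq V (W₀.subtype (hmemV W₀.2)) (U.subtype hUV)
          obtain ⟨o, ho, u, hu, e⟩ := (Core.mem_sup_iff_mul'
            (Core.le_normalizer_of_normal (U : Subgroup ↥L) O)).mp (hUsup.ge s.2)
          have hsU : (s : ↥L) • W₀ = U := by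
            ext x
            rw [Transfer.mem_sylow_smul]
            constructor
            · intro hx
              have hxV : x ∈ V := by
                have := (inferInstance : V.Normal).conj_mem _ (hmemV W₀.2 hx) (s : ↥L)
                simpa [mul_assoc] using this
              have h1 : (⟨x, hxV⟩ : V) ∈ ((s • W₀.subtype (hmemV W₀.2) : Sylow p V) : Subgroup V) := by
                rw [Transfer.mem_sylow_smul]
                exact hx
              rw [hs] at h1
              exact h1
            · intro hx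
              have h1 : (⟨x, hUV hx⟩ : V) ∈ ((U.subtype hUV : Sylow p V) : Subgroup V) := hx
              rw [← hs, Transfer.mem_sylow_smul] at h1
              exact h1
          refine ⟨u⁻¹ * o * u, ?_, ?_⟩
          · have := (inferInstance : O.Normal).conj_mem o ho u⁻¹
            simpa using this
          · have hue : u⁻¹ * o * u = u⁻¹ * (o * u) := mul_assoc _ _ _
            rw [hue, ← e, mul_smul, hsU]
            ext x
            rw [Transfer.mem_sylow_smul, inv_inv]
            constructor
            · intro hx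
              have := (U : Subgroup L).mul_mem (U.mul_mem' (inv_mem hu) hx) hu
              simpa [mul_assoc] using this
            · exact fun hx => (U : Subgroup L).mul_mem (U.mul_mem' hu hx) (inv_mem hu)
        have hoX : (o : G) ∈ centralizer (X : Set G) := by
          refine mem_centralizer_iff.mpr fun x hx => ?_
          have hXn : (X.subgroupOf L).Normal := normal_in_normalizer
          set a : ↥L := ⟨x, le_normalizer hx⟩
          have hd : X.subgroupOf L ⊓ O = ⊥ := by
            obtain ⟨e, he⟩ := IsPGroup.iff_card.mp (hX.comap_subtype (K := L))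
            refine (disjoint_of_coprime_natCard ?_).eq_bot
            rw [show Nat.card (X.subgroupOf L) = p ^ e from he]
            exact ((Core.coprime_card_pPrimeCore p ↥L).pow_right e).symm
          have hc' : a * o * a⁻¹ * o⁻¹ ∈ X.subgroupOf L ⊓ O := by
            refine ⟨?_, O.mul_mem ((inferInstance : O.Normal).conj_mem o hoO a) (inv_mem hoO)⟩
            rw [show a * o * a⁻¹ * o⁻¹ = a * (o * a⁻¹ * o⁻¹) by group]
            exact Subgroup.mul_mem _ (show a ∈ X.subgroupOf L from hx)
              (hXn.conj_mem _ (inv_mem (show a ∈ X.subgroupOf L from hx)) o)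
          rw [hd, mem_bot, mul_inv_eq_one, mul_inv_eq_iff_eq_mul] at hc'
          exact congrArg Subtype.val hc'
        set W' := W.map (MulAut.conj (o : G)).toMonoidHom with hW'
        have hXW' : X < W' := by
          refine lt_of_le_of_ne (fun x hx => ?_) fun e => ?_
          · refine ⟨x, hXW.le hx, ?_⟩
            show (o : G) * x * (o : G)⁻¹ = x
            rw [← mem_centralizer_iff.mp hoX x hx, mul_inv_cancel_right]
          · have := Transfer.card_lt_of_lt hXW
            rw [e, hW', Transfer.card_map_conj] at this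
            exact lt_irrefl _ this
        obtain ⟨c, hc', hcm⟩ := step W' ((o : G) * k) (hW.map _) hXW' (by
          rintro _ ⟨w, hw, rfl⟩
          simpa [mul_assoc] using hWk w hw) (by
          rintro _ ⟨w, hw, rfl⟩
          refine hh _ ⟨o * ⟨w, hWL hw⟩ * o⁻¹, ?_, rfl⟩
          rw [SetLike.mem_coe, ← ho, Transfer.mem_sylow_smul]
          simpa [mul_assoc] using hW₀ (show (⟨w, hWL hw⟩ : ↥L) ∈ W.comap L.subtype from hw))
        refine ⟨(o : G)⁻¹ * c, mul_mem (inv_mem hoX) hc', ?_⟩
        simpa [mul_assoc] using hcm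
      · -- `T` has rank three, so `L` lies in the conjugate of `M`
        intro W k hW hXW hWL hWk
        obtain ⟨E, hET, hE, hE3⟩ := Uniqueness.exists_elementary_of_not_rank hr
        have hE' := Uniqueness.inUniqueMaximal_map_conj
          (SCNUnique.inUniqueMaximal_elementary hG hE hE3) h⁻¹
        set L' := L.map (MulAut.conj h⁻¹).toMonoidHom with hL'
        have hL't : L' ≠ ⊤ := fun e => hLt (by
          apply map_injective (f := (MulAut.conj h⁻¹).toMonoidHom) (MulAut.conj h⁻¹).injective
          rw [← hL', e, map_top_of_surjective _ (MulAut.conj h⁻¹).surjective])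
        have hle := Uniqueness.le_of_inUniqueMaximal hE' hM (by
          rintro _ ⟨e, he, rfl⟩
          simpa using hh e (hET he)) hL't (map_mono (hET.trans hTL))
        refine step W k hW hXW hWk fun w hw => ?_
        simpa using hle ⟨w, hWL hw, rfl⟩
    obtain ⟨c₁, hc₁, hm₁⟩ := reduce T₁ 1 hT₁p hXT₁ hT₁L (fun w hw => by
      simpa using (map_subtype_le _ (inf_le_left (b := L) hw) : w ∈ M))
    obtain ⟨c₂, hc₂, hm₂⟩ := reduce T₂ g hT₂p hXT₂ hT₂L (by
      rintro _ ⟨y, hy, rfl⟩
      simpa [mul_assoc] using (map_subtype_le _ hy.1 : y ∈ M))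
    refine ⟨c₂ * c₁⁻¹, mul_mem hc₂ (inv_mem hc₁), ?_⟩
    have := mul_mem (inv_mem hm₁) hm₂
    simpa [mul_assoc] using this

/-- S1404. -/
theorem factor_conj (hG : Cfsg.IsMinSimpleOddOrder G) (hM : IsCoatom M)
    (hp : p ∈ Cfsg.sigma M) {X : Subgroup G} (hX : IsPGroup p X) (hXne : X ≠ ⊥) (hXM : X ≤ M) :
    (∀ g : G, X.map (MulAut.conj g).toMonoidHom ≤ M →
        ∃ m ∈ M, ∃ c ∈ centralizer (X : Set G), g = m * c) ∧
      normalizer (X : Set G) = (M ⊓ normalizer (X : Set G)) ⊔ centralizer (X : Set G) := by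
  have key : ∀ g : G, X.map (MulAut.conj g).toMonoidHom ≤ M →
      ∃ m ∈ M, ∃ c ∈ centralizer (X : Set G), g = m * c := by
    intro g hg
    obtain ⟨c, hc', hm⟩ := exists_centralizer hG hM hp X hX hXne hXM g⁻¹
      (fun x hx => by simpa using hg ⟨x, hx, rfl⟩)
    exact ⟨g * c, by simpa using inv_mem hm, c⁻¹, inv_mem hc', by group⟩
  refine ⟨key, le_antisymm (fun g hg => ?_) (sup_le inf_le_right (centralizer_le_normalizer _))⟩
  obtain ⟨m, hm, c, hc', rfl⟩ := key g ((Transfer.map_conj_eq_self_iff.mpr hg).le.trans hXM)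
  refine mul_mem (mem_sup_left ⟨hm, ?_⟩) (mem_sup_right hc')
  simpa using mul_mem hg (inv_mem (centralizer_le_normalizer _ hc'))

end CfsgLib.TwoGroups.SigmaTrans
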