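import Cfsg.Agent.Lib.OddLocal.SupportOvergroup
import Cfsg.Agent.Lib.TwoGroups.SigmaTrans

/-!
Owner: helper12. `C(x)` is transitive on the conjugates of `M` containing `x ∈ M_σ` (Bender–Glauberman,
14.4 (b)).
-/

set_option autoImplicit false
set_option linter.unusedSectionVars false

namespace CfsgLib.TwoGroups.Transitive

open Subgroup

variable {G : Type*} [Group G] [Finite G] {M : Subgroup G} {x : G}

theorem map_conj_mul (a b : G) :
    M.map (MulAut.conj (a * b)).toMonoidHom = (M.map (MulAut.conj b).toMonoidHom).map (MulAut.conj a).toMonoidHom := by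
  rw [Subgroup.map_map]
  congr 1
  ext y
  show a * b * y * (a * b)⁻¹ = a * (b * y * b⁻¹) * a⁻¹
  group

theorem map_conj_of_mem {a : G} (ha : a ∈ M) : M.map (MulAut.conj a).toMonoidHom = M :=
  Transfer.map_conj_eq_self_iff.mpr (le_normalizer ha)

/-- Conjugates of `M` containing `x` are conjugate under `C(x)`. -/
theorem exists_centralizer_conj (hG : Cfsg.IsMinSimpleOddOrder G) (hM : IsCoatom M)
    (hx : x ∈ Cfsg.sigmaCore M) (hx1 : x ≠ 1) {g : G} (hg : x ∈ M.map (MulAut.conj g).toMonoidHom) :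
    ∃ c ∈ centralizer ({x} : Set G), M.map (MulAut.conj c).toMonoidHom = M.map (MulAut.conj g).toMonoidHom := by
  have hxM : x ∈ M := TauTwo.sigmaCore_le M hx
  obtain ⟨t, ht, htd⟩ := Nat.exists_prime_and_dvd (fun e : orderOf x = 1 => hx1 (orderOf_eq_one_iff.mp e))
  have := Fact.mk ht
  set z := x ^ (orderOf x / t) with hz
  have hzo : orderOf z = t := orderOf_pow_orderOf_div (orderOf_pos x).ne' htd
  have hz1 : z ≠ 1 := fun e => ht.ne_one (by rw [← hzo, e, orderOf_one])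
  have hzO : z ∈ Cfsg.sigmaCore M := pow_mem hx _
  have htσ : t ∈ Cfsg.sigma M :=
    TauTwo.mem_sigma_of_dvd ht (hzo ▸ Subgroup.orderOf_dvd_natCard _ hzO) hG hM
  have hxz : Commute x z := (Commute.refl x).pow_right _
  have hZM : zpowers z ≤ M := zpowers_le.mpr (TauTwo.sigmaCore_le M hzO)
  obtain ⟨m, hm, c, hc, e⟩ := (SigmaTrans.factor_conj hG hM htσ
    (IsPGroup.of_card (n := 1) (G := zpowers z) (by rw [Nat.card_zpowers, hzo, pow_one]))
    (fun e => hz1 (zpowers_eq_bot.mp e)) hZM).1 g⁻¹ (by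
      rw [MonoidHom.map_zpowers, zpowers_le]
      have hzg : z ∈ M.map (MulAut.conj g).toMonoidHom := pow_mem hg (orderOf x / t)
      obtain ⟨w, hw, hwz⟩ := hzg
      show g⁻¹ * z * g⁻¹⁻¹ ∈ M
      rw [← hwz, show g⁻¹ * (MulAut.conj g).toMonoidHom w * g⁻¹⁻¹ = w by
        show g⁻¹ * (g * w * g⁻¹) * g⁻¹⁻¹ = w; group]
      exact hw)
  rw [TauTwo.centralizer_zpowers] at hc
  have hMg : M.map (MulAut.conj g).toMonoidHom = M.map (MulAut.conj c⁻¹).toMonoidHom := by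
    rw [show g = c⁻¹ * m⁻¹ by rw [← mul_inv_rev, ← e, inv_inv], map_conj_mul, map_conj_of_mem (inv_mem hm)]
  by_cases hzC : centralizer ({z} : Set G) ≤ M
  · exact ⟨1, one_mem _, by rw [map_conj_of_mem (one_mem M), hMg, map_conj_of_mem (inv_mem (hzC hc))]⟩
  obtain ⟨H, o⟩ := OddLocal.Support.exists_overgroup hG hM hzO hz1 hzC
  obtain ⟨k, hk, r, hr, e'⟩ := o.factor.2.2.2 c⁻¹ (inv_mem hc)
  set r' := k * r * k⁻¹ with hr'
  have hr'R : r' ∈ Cfsg.sigmaCore H ⊓ centralizer ({z} : Set G) :=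
    (mem_normalizer_iff.mp (o.centralizer_le_normalizer hk.2) r).mp hr
  have hMr : M.map (MulAut.conj g).toMonoidHom = M.map (MulAut.conj r').toMonoidHom := by
    rw [hMg, e', show k * r = r' * k by rw [hr']; group, map_conj_mul, map_conj_of_mem hk.1]
  refine ⟨r', mem_centralizer_singleton_iff.mpr ?_, hMr.symm⟩
  rw [hMr] at hg
  obtain ⟨w, hw, hwx⟩ := hg
  have hxH : x ∈ H := o.le (mem_centralizer_singleton_iff.mpr hxz.eq)
  have h1 : x⁻¹ * (r'⁻¹ * x * r') ∈ Cfsg.sigmaCore H ⊓ M := by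
    refine ⟨?_, M.mul_mem (M.inv_mem hxM) ?_⟩
    · rw [show x⁻¹ * (r'⁻¹ * x * r') = (x⁻¹ * r'⁻¹ * x) * r' by group]
      exact (Cfsg.sigmaCore H).mul_mem
        ((mem_normalizer_iff''.mp (TauTwo.le_normalizer_sigmaCore H hxH) _).mp (inv_mem hr'R.1)) hr'R.1
    · rw [← hwx, show r'⁻¹ * (MulAut.conj r').toMonoidHom w * r' = w by
        show r'⁻¹ * (r' * w * r'⁻¹) * r' = w; group]
      exact hw
  rw [o.inf_eq, mem_bot, inv_mul_eq_one] at h1
  calc r' * x = r' * (r'⁻¹ * x * r') := by rw [← h1]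
    _ = x * r' := by group

/-- Conjugate elements of `M_σ` are conjugate in `M`. -/
theorem exists_conj_in (hG : Cfsg.IsMinSimpleOddOrder G) (hM : IsCoatom M) (hx : x ∈ Cfsg.sigmaCore M)
    {g : G} (hg : g * x * g⁻¹ ∈ M) : ∃ m ∈ M, m * x * m⁻¹ = g * x * g⁻¹ := by
  by_cases hx1 : x = 1
  · exact ⟨1, one_mem M, by rw [hx1]; group⟩
  obtain ⟨c, hc, e⟩ := exists_centralizer_conj hG hM hx hx1 (g := g⁻¹) ⟨g * x * g⁻¹, hg, by
    show g⁻¹ * (g * x * g⁻¹) * g⁻¹⁻¹ = x; group⟩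
  have h2 : M.map (MulAut.conj (g * c)).toMonoidHom = M := by
    rw [map_conj_mul, e, ← map_conj_mul, mul_inv_cancel, map_conj_of_mem (one_mem M)]
  refine ⟨g * c, NonSigma.mem_normalizer_self hG hM (ProperPLength.maximal_ne_bot hG hM) h2, ?_⟩
  have hcx := mem_centralizer_singleton_iff.mp hc
  rw [mul_inv_rev, show g * c * x * (c⁻¹ * g⁻¹) = g * (c * x * c⁻¹) * g⁻¹ by group, hcx, mul_inv_cancel_right]

end CfsgLib.TwoGroups.Transitive
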