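import Cfsg.Agent.Lib.TwoGroups.OvergroupKappa

/-!
Owner: helper12. Bender–Glauberman 14.13 and 15.9.
-/

set_option autoImplicit false
set_option linter.unusedSectionVars false

namespace CfsgLib.TwoGroups.OvergroupPrimes

open Subgroup
open CfsgLib.OddLocal
open TauTwo (IsPair)
open scoped commutatorElement

variable {G : Type*} [Group G] [Finite G] {M N N' A E : Subgroup G} {x y : G} {q : ℕ}

/-- With `κ(M) = τ₂(M) = ∅`, elements outside `M_σ` act without fixed points. -/
theorem fpf_of_empty (hG : Cfsg.IsMinSimpleOddOrder G) (hM : IsCoatom M) (hκ : Cfsg.kappa M = ∅)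
    (hτ : Cfsg.tau2 M = ∅) (hE : Cfsg.IsComplIn E (Cfsg.sigmaCore M) M) {e o : G} (he : e ∈ E)
    (ho : o ∈ Cfsg.sigmaCore M) (ho1 : o ≠ 1) (hc : e * o = o * e) : e = 1 := by
  by_contra he1
  obtain ⟨t, ht, htd⟩ := Nat.exists_prime_and_dvd (fun h : orderOf e = 1 => he1 (orderOf_eq_one_iff.mp h))
  have := Fact.mk ht
  exact Set.eq_empty_iff_forall_notMem.mp hτ t (SigmaFactor.mem_tau2 hG hM ⟨hE.1 he, o, ho, ho1, hc⟩ ht htd
    (SigmaComplement.not_mem_sigma hG hM hE (htd.trans (Subgroup.orderOf_dvd_natCard _ he)))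
    (by rw [hκ]; exact Set.notMem_empty t))

theorem nilpotent_of_empty (hG : Cfsg.IsMinSimpleOddOrder G) (hM : IsCoatom M) (hκ : Cfsg.kappa M = ∅) :
    Group.IsNilpotent (Cfsg.sigmaCore M) := by
  obtain ⟨K, U, h⟩ := Chapter15.exists_decomposition hG hM (Chapter15.kappaCyclic hG)
  refine TypeP2.isNilpotent_sigmaCore hG hM h (Chapter15.U_ne_bot hG hM h (card_eq_one.mp ?_))
  by_contra hne
  obtain ⟨t, ht, hd⟩ := Nat.exists_prime_and_dvd hne
  exact Set.eq_empty_iff_forall_notMem.mp hκ t (h.hall.2.1 t ht hd)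

namespace Local

variable (d : Local M N A x q)
include d

/-- The conclusion of BG 15.9. -/
theorem frobenius (hκ : Cfsg.kappa M = ∅) (hτ : Cfsg.tau2 M = ∅) :
    (∃ E : Subgroup ↥M, Cfsg.IsFrobeniusComplement E ∧ IsCyclic E) ∧
      ¬ Cfsg.IsTISubset (Cfsg.fittingHallOf M : Set G) := by
  have hG := d.hG
  have hM := d.hM
  have := d.fact
  set O := Cfsg.sigmaCore M with hO
  obtain ⟨E, hE, -⟩ := TauTwo.exists_complement_ge hG hM (bot_le : (⊥ : Subgroup G) ≤ M) fun t ht hd => by
    rw [card_bot] at hd; exact absurd (Nat.dvd_one.mp hd) ht.ne_one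
  have hfpf : ∀ {e o : G}, e ∈ E → o ∈ O → o ≠ 1 → e * o = o * e → e = 1 := fun he ho ho1 hc =>
    fpf_of_empty hG hM hκ hτ hE he ho ho1 hc
  have hO1 : O ≠ ⊥ := TauTwo.sigmaCore_ne_bot hG hM
  refine ⟨⟨E.subgroupOf M, ⟨fun h => ?_, fun h => ?_, fun g hg => ?_⟩, ?_⟩, fun hTI => ?_⟩
  · have hEb : E = ⊥ := by rw [← map_subgroupOf_eq_of_le hE.1, h, Subgroup.map_bot]
    refine (Chapter15.derived_lt hG hM).not_ge fun m hm => ?_
    obtain ⟨a, ha, b, hb, rfl⟩ := hE.2.2.2 m hm
    rw [hEb, mem_bot] at ha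
    rw [ha, one_mul]
    exact BetaCore.sigmaCore_le_derived hG hM hb
  · have hEt : E = M := by rw [← map_subgroupOf_eq_of_le hE.1, h, ← MonoidHom.range_eq_map, range_subtype]
    exact hO1 (by rw [← hE.2.2.1, hEt, inf_eq_right.mpr (TauTwo.sigmaCore_le M)])
  · refine (eq_bot_iff_forall _).mpr ?_
    rintro w ⟨hwE, hwg⟩
    have hwg' : ((g⁻¹ * w * g : M) : G) ∈ E := by
      have h := Subgroup.mem_pointwise_smul_iff_inv_smul_mem.mp hwg
      simpa [MulAut.smul_def, mem_subgroupOf, mul_assoc] using h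
    obtain ⟨a, ha, o, ho, hgo⟩ := hE.2.2.2 _ g.2
    have ho1 : o ≠ 1 := fun e => hg (show (g : G) ∈ E by rw [hgo, e, mul_one]; exact ha)
    set v := a⁻¹ * (w : G) * a with hv
    have hvE : v ∈ E := E.mul_mem (E.mul_mem (E.inv_mem ha) hwE) ha
    have h1 : v⁻¹ * (o⁻¹ * v * o) ∈ E ⊓ O := by
      refine ⟨E.mul_mem (E.inv_mem hvE) ?_, ?_⟩
      · simp only [Subgroup.coe_mul, InvMemClass.coe_inv, hgo] at hwg'
        rw [hv]
        convert hwg' using 1
        group
      · rw [show v⁻¹ * (o⁻¹ * v * o) = (v⁻¹ * o⁻¹ * v) * o by group]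
        exact O.mul_mem ((mem_normalizer_iff''.mp (TauTwo.le_normalizer_sigmaCore M (hE.1 hvE)) _).mp
          (O.inv_mem ho)) ho
    rw [hE.2.2.1, mem_bot, inv_mul_eq_one] at h1
    have hv1 := hfpf hvE ho ho1 (by
      calc v * o = o * (o⁻¹ * v * o) := by group
        _ = o * v := by rw [← h1])
    refine Subtype.ext ?_
    calc (w : G) = a * v * a⁻¹ := by rw [hv]; group
      _ = 1 := by rw [hv1]; group
  · -- `E` is an abelian Z-group
    have hcomm : ⁅E, E⁆ = ⊥ := by
      by_contra hne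
      obtain ⟨t, Y, ht, hY, hYle⟩ := FixedTauOne.exists_prime_sub hne
      have := Fact.mk ht
      have hYE : Y ≤ E := hYle.trans (commutator_le_self E)
      obtain ⟨Q₀, hQ₀⟩ := Core.exists_invariant_sylow (A := E) (K := O)
        (hE.1.trans (TauTwo.le_normalizer_sigmaCore M)) (FixedTauOne.coprime_complement hG hM hE)
        (Or.inl (CfsgLib.Core.isSolvable_of_le (hG.2.2.2 M hM.1) hE.1)) q
      obtain ⟨⟨z, hz⟩, hz1⟩ := ((Q₀ : Subgroup O)).ne_bot_iff_exists_ne_one.mp
        (Q₀.ne_bot_of_dvd_card (d.order ▸ Subgroup.orderOf_dvd_natCard _ d.mem))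
      obtain ⟨⟨k, hk⟩, hk1⟩ := Y.ne_bot_iff_exists_ne_one.mp (FixedTauOne.ne_bot_of_card_eq hY)
      have hc := TauTwo.centralizes_of_derived hG hM (fun e : q = t =>
          SigmaComplement.not_mem_sigma hG hM hE (hY ▸ card_dvd_of_le hYE) (e ▸ d.q_sigma))
        (d.not_beta M) (FixedTauOne.isPGroup_of_card_eq hY) (hYle.trans (commutator_mono hE.1 hE.1))
        (Q₀.2.map O.subtype) ((map_subtype_le _).trans (TauTwo.sigmaCore_le M)) (hYE.trans hQ₀) hk
      have h1 := mem_centralizer_iff.mp hc _ (mem_map_of_mem O.subtype hz)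
      exact hk1 (Subtype.ext (hfpf (hYE hk) z.2 (fun e => hz1 (Subtype.ext (Subtype.ext e))) h1.symm))
    have hab : ∀ a b : E.subgroupOf M, a * b = b * a := fun a b => by
      refine Subtype.ext (Subtype.ext ?_)
      exact commutatorElement_eq_one_iff_mul_comm.mp
        (mem_bot.mp (hcomm ▸ commutator_mem_commutator a.2 b.2))
    have : Group.IsNilpotent (E.subgroupOf M) := @CommGroup.isNilpotent _
      { (inferInstance : Group (E.subgroupOf M)) with mul_comm := hab }
    have : IsZGroup (E.subgroupOf M) := ⟨fun t ht P => by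
      have := Fact.mk ht
      by_cases hd : t ∣ Nat.card (E.subgroupOf M)
      swap
      · have hb : (P : Subgroup (E.subgroupOf M)) = ⊥ := by
          obtain ⟨k, hk⟩ := IsPGroup.iff_card.1 P.2
          rcases Nat.eq_zero_or_pos k with rfl | hk0
          · exact card_eq_one.1 (hk.trans (pow_zero t))
          · exact absurd ((dvd_pow_self t hk0.ne').trans (hk ▸ card_subgroup_dvd_card _)) hd
        rw [hb]; infer_instance
      rw [Nat.card_congr (subgroupOfEquivOfLe hE.1).toEquiv] at hd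
      have htσ := SigmaComplement.not_mem_sigma hG hM hE hd
      have hr : Cfsg.PRankLE t 1 M := by_contra fun h1 => Set.eq_empty_iff_forall_notMem.mp hτ t
        ⟨ht, htσ, not_not.mp fun h => htσ (SigmaTrans.alpha_subset_sigma hG hM ⟨ht, h⟩), h1⟩
      have hinj := M.subtype_injective.comp (E.subgroupOf M).subtype_injective
      have := TauTwo.sylow_cyclic_of_rank_one hG hr (P.2.map (M.subtype.comp (E.subgroupOf M).subtype))
        (by rw [← Subgroup.map_map]; exact map_subtype_le _)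
      exact isCyclic_of_surjective ((P : Subgroup (E.subgroupOf M)).equivMapOfInjective
        (M.subtype.comp (E.subgroupOf M).subtype) hinj).symm (MulEquiv.surjective _)⟩
    infer_instance
  · have hF := Support.sigmaCore_eq_fittingHallOf hG hM (nilpotent_of_empty hG hM hκ)
    rw [← hF] at hTI
    refine d.not_le fun c hc => by_contra fun hcM => ?_
    have hcN : c ∉ normalizer (O : Set G) := fun hN => by
      rcases (TauTwo.le_normalizer_sigmaCore M).lt_or_eq with h' | h'
      · exact TransitivityHyp.normalizer_ne_top hG hO1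
          (fun e => hM.1 (top_le_iff.mp (e ▸ TauTwo.sigmaCore_le M))) (hM.2 _ h')
      · exact hcM (h' ▸ hN)
    have h1 := mem_centralizer_singleton_iff.mp hc
    have h3 : x = 1 := hTI c hcN x d.mem (by
      rw [show c * x * c⁻¹ = x by rw [h1, mul_inv_cancel_right]]
      exact d.mem)
    exact d.prime.ne_one (by rw [← d.order, h3, orderOf_one])

end Local

theorem compl_map_conj (hG : Cfsg.IsMinSimpleOddOrder G) (hM : IsCoatom M) (g : G)
    (hE : Cfsg.IsComplIn E (Cfsg.sigmaCore M) M) :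
    Cfsg.IsComplIn (E.map (MulAut.conj g).toMonoidHom) (Cfsg.sigmaCore (M.map (MulAut.conj g).toMonoidHom))
      (M.map (MulAut.conj g).toMonoidHom) := by
  rw [Support.sigmaCore_map_conj hG hM g]
  refine ⟨map_mono hE.1, map_mono hE.2.1, ?_, ?_⟩
  · rw [← map_inf _ _ _ (MulAut.conj g).injective, hE.2.2.1, Subgroup.map_bot]
  · rintro _ ⟨w, hw, rfl⟩
    obtain ⟨a, ha, b, hb, rfl⟩ := hE.2.2.2 w hw
    exact ⟨_, mem_map_of_mem _ ha, _, mem_map_of_mem _ hb, map_mul _ _ _⟩

/-- BG 14.13 (b): conjugate overgroups are conjugate under `M`. -/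
theorem exists_conj_mem (hG : Cfsg.IsMinSimpleOddOrder G) (hM : IsCoatom M) (o : Support.Overgroup M N x)
    (hy : y ∈ Cfsg.sigmaCore M) (hy1 : y ≠ 1) (o' : Support.Overgroup M N' y) {g : G}
    (hg : N'.map (MulAut.conj g).toMonoidHom = N) : ∃ m ∈ M, N'.map (MulAut.conj m).toMonoidHom = N := by
  have hc := compl_map_conj hG o'.max g o'.compl
  rw [hg] at hc
  obtain ⟨n, hn, e⟩ := OvergroupTools.exists_conj_complement hG o.max hc o.compl
  have hyN : y ∈ M ⊓ N' := ⟨TauTwo.sigmaCore_le M hy, o'.le (mem_centralizer_singleton_iff.mpr rfl)⟩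
  have hgy : y ∈ M.map (MulAut.conj (n * g)⁻¹).toMonoidHom := by
    have h1 : n * g * y * (n * g)⁻¹ ∈ M ⊓ N := by
      rw [e, ← Transitive.map_conj_mul]
      exact mem_map_of_mem _ hyN
    refine Transfer.mem_map_conj.mpr ?_
    rw [inv_inv]
    exact h1.1
  obtain ⟨c, hc', ec⟩ := Transitive.exists_centralizer_conj hG hM hy hy1 hgy
  refine ⟨n * g * c, NonSigma.mem_normalizer_self hG hM (ProperPLength.maximal_ne_bot hG hM) ?_, ?_⟩
  · rw [Transitive.map_conj_mul, ec, ← Transitive.map_conj_mul, mul_inv_cancel,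
      Transitive.map_conj_of_mem (one_mem M)]
  · rw [Transitive.map_conj_mul, Transitive.map_conj_of_mem (o'.le hc'), Transitive.map_conj_mul, hg,
      Transitive.map_conj_of_mem hn]

end CfsgLib.TwoGroups.OvergroupPrimes
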