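import Cfsg.Agent.Lib.TwoGroups.TauTwoNilpotent
import Cfsg.Agent.Lib.LocalEvenB.RankOne

/-!
Owner: helper12. A pair is normal in a complement containing it.
-/

set_option autoImplicit false
set_option linter.unusedSectionVars false

namespace CfsgLib.TwoGroups.TauTwo

open Subgroup
open scoped commutatorElement

variable {G : Type*} [Group G] [Finite G] {p r : ℕ} [Fact p.Prime] [Fact r.Prime] {M A : Subgroup G}

/-- A group of rank at least two contains a pair. -/
theorem exists_isPair {X : Subgroup G} (h : ¬ Cfsg.PRankLE r 1 X) : ∃ B : Subgroup G, IsPair r B ∧ B ≤ X := by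
  obtain ⟨E, hEX, hE, hE2⟩ := Uniqueness.exists_elementary_of_not_rank h
  obtain ⟨k, hk⟩ := IsPGroup.iff_card.mp (Signalizer.elementary_isPGroup hE)
  rw [hk] at hE2
  obtain ⟨B, hB⟩ := Sylow.exists_subgroup_card_pow_prime_of_le_card (p := r) (n := 2)
    Fact.out (Signalizer.elementary_isPGroup hE) (by rw [hk]; exact hE2)
  exact ⟨B.map E.subtype, ⟨Signalizer.elementary_of_le hE (map_subtype_le _),
    by rw [card_map_of_injective E.subtype_injective, hB]⟩, (map_subtype_le _).trans hEX⟩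

theorem sylow_cyclic_of_rank_one (hG : Cfsg.IsMinSimpleOddOrder G) (hr : Cfsg.PRankLE r 1 M)
    {R : Subgroup G} (hR : IsPGroup r R) (hRM : R ≤ M) : IsCyclic R := by
  by_cases hb : R = ⊥
  · exact hb ▸ inferInstance
  have hd : r ∣ Nat.card G := by
    obtain ⟨k, hk⟩ := IsPGroup.iff_card.mp hR
    have hk0 : k ≠ 0 := by
      rintro rfl
      exact hb (eq_bot_of_card_eq R (hk.trans (pow_zero r)))
    exact ((dvd_pow_self r hk0).trans hk.symm.dvd).trans R.card_subgroup_dvd_card
  exact LocalEvenB.isCyclic_of_prankLE_one (Uniqueness.odd_prime hG hd) _ le_rfl hR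
    (CfsgLib.PGroups.prankLE_of_injective hr (f := inclusion hRM) (inclusion_injective _))

/-- Sylow subgroups outside `σ(M)` are abelian. -/
theorem sylow_commutative (hG : Cfsg.IsMinSimpleOddOrder G) (hM : IsCoatom M) (hr : r ∉ Cfsg.sigma M)
    (R : Sylow r M) : IsMulCommutative ((R : Subgroup M).map M.subtype) := by
  by_cases h1 : Cfsg.PRankLE r 1 M
  · have := sylow_cyclic_of_rank_one hG h1 (R.2.map M.subtype) (map_subtype_le _)
    exact IsCyclic.isMulCommutative
  · obtain ⟨B, hB, hBM⟩ := exists_isPair h1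
    have := (sylow_abelian hG hM hB hBM hr R).1
    exact map_isMulCommutative _ _

/-- An `A`-invariant Sylow subgroup outside `σ(M)` is centralised by `A`. -/
theorem centralizes_sylow (hG : Cfsg.IsMinSimpleOddOrder G) (hM : IsCoatom M) (hA : IsPair p A) (hAM : A ≤ M)
    (hp : p ∉ Cfsg.sigma M) (hr : r ∉ Cfsg.sigma M) (hrp : r ≠ p) (Rs : Sylow r M)
    (hAR : A ≤ normalizer (((Rs : Subgroup M).map M.subtype : Subgroup G) : Set G)) :
    A ≤ centralizer (((Rs : Subgroup M).map M.subtype : Subgroup G) : Set G) := by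
  classical
  set R := (Rs : Subgroup M).map M.subtype with hRdef
  have : IsMulCommutative R := sylow_commutative hG hM hr Rs
  have hRp : IsPGroup r R := Rs.2.map _
  have hRM : R ≤ M := map_subtype_le _
  by_contra hne
  have hU := not_inUniqueMaximal hG hM hA hAM hp
  set D₀ := ⁅R, A⁆ with hD₀
  have hD₀R : D₀ ≤ R := Core.commutator_le_of_normalizes hAR
  have hD₀b : D₀ ≠ ⊥ := fun h => hne (le_centralizer_iff.mp (commutator_eq_bot_iff_le_centralizer.mp h))
  have hfix₀ : D₀ ⊓ centralizer (A : Set G) = ⊥ := by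
    rw [eq_bot_iff, ← Core.abelian_inf_eq_bot hAR (coprime_pGroups (Ne.symm hrp) hA.isPGroup hRp)]
    exact le_inf (inf_le_inf_right _ hD₀R) inf_le_left
  have hAD₀ : A ≤ normalizer (D₀ : Set G) := normalizer_commutator_ge_right R A
  have hRc : ∀ x ∈ R, ∀ y ∈ R, x * y = y * x := fun x hx y hy =>
    congrArg Subtype.val ((‹IsMulCommutative R›).is_comm.comm ⟨x, hx⟩ ⟨y, hy⟩)
  set D : Subgroup G :=
    { carrier := {x | x ∈ D₀ ∧ x ^ r = 1}
      one_mem' := ⟨one_mem _, one_pow _⟩
      mul_mem' := fun {x y} hx hy => ⟨mul_mem hx.1 hy.1, by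
        rw [(show Commute x y from hRc x (hD₀R hx.1) y (hD₀R hy.1)).mul_pow, hx.2, hy.2, one_mul]⟩
      inv_mem' := fun {x} hx => ⟨inv_mem hx.1, by rw [inv_pow, hx.2, inv_one]⟩ } with hD
  have hDD₀ : D ≤ D₀ := fun x hx => hx.1
  have hDR : D ≤ R := hDD₀.trans hD₀R
  have hDp : IsPGroup r D := hRp.to_le hDR
  have hDM : D ≤ M := hDR.trans hRM
  have hDb : D ≠ ⊥ := by
    obtain ⟨k, hk⟩ := IsPGroup.iff_card.mp (hRp.to_le hD₀R)
    have hk0 : k ≠ 0 := by
      rintro rfl
      exact hD₀b (eq_bot_of_card_eq D₀ (hk.trans (pow_zero r)))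
    obtain ⟨x, hx⟩ := exists_prime_orderOf_dvd_card' r ((dvd_pow_self r hk0).trans hk.symm.dvd)
    intro hb
    have h1 : (x : G) ∈ D := ⟨x.2, by rw [← hx, ← orderOf_coe x]; exact pow_orderOf_eq_one _⟩
    rw [hb, mem_bot] at h1
    rw [show x = 1 from Subtype.ext h1, orderOf_one] at hx
    exact (Fact.out : r.Prime).ne_one hx.symm
  have hAD : A ≤ normalizer (D : Set G) := by
    intro a ha
    suffices key : ∀ b ∈ A, ∀ x ∈ D, b * x * b⁻¹ ∈ D from mem_normalizer_iff.mpr fun x =>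
      ⟨key a ha x, fun h => by simpa [mul_assoc] using key a⁻¹ (inv_mem ha) _ h⟩
    intro b hb x hx
    exact ⟨(mem_normalizer_iff.mp (hAD₀ hb) x).mp hx.1, by rw [conj_pow, hx.2]; group⟩
  have hfix : D ⊓ centralizer (A : Set G) = ⊥ :=
    le_bot_iff.mp ((inf_le_inf_right _ hDD₀).trans hfix₀.le)
  -- `N(D) ≤ M`
  obtain ⟨s, hs, hd⟩ := Nat.exists_prime_and_dvd
    (fun h1 => sigmaCore_ne_bot hG hM (eq_bot_of_card_eq _ h1))
  have := Fact.mk hs
  have hsσ := mem_sigma_of_dvd hs hd hG hM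
  obtain ⟨Q, hQσ, hQb, hAQ, -, -⟩ := exists_sylow_normalized hG hM hA hAM hp hsσ
  have hDQ := centralizes_of_fpf hG hM hA hAM hp hsσ hrp (fun e => hr (e ▸ hsσ)) Q.2
    (hQσ.trans (sigmaCore_le M)) hAQ hDp hDM hAD
    (hDM.trans (le_normalizer_of_nilpotent (isNilpotent_sigmaCore hG hM hA hAM hp) Q hQσ)) hfix
  have hND : normalizer (D : Set G) ≤ M := by
    obtain ⟨L, hL, hle⟩ := (eq_top_or_exists_le_coatom _).resolve_left
      (TransitivityHyp.normalizer_ne_top hG hDb (Uniqueness.ne_top_of_pGroup hG hDp))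
    by_cases he : L = M
    · exact he ▸ hle
    · exfalso
      refine hQb (le_bot_iff.mp ((le_inf hQσ ?_).trans
        (sigmaCore_inf_eq_bot hG hM hA hAM hp hL he (hAD.trans hle)).le))
      exact (le_centralizer_iff.mp hDQ).trans ((Subgroup.centralizer_le_normalizer _).trans hle)
  -- the other maximal subgroup
  have hrM : r ∣ Nat.card M := by
    obtain ⟨k, hk⟩ := IsPGroup.iff_card.mp hDp
    have hk0 : k ≠ 0 := by
      rintro rfl
      exact hDb (eq_bot_of_card_eq D (hk.trans (pow_zero r)))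
    exact ((dvd_pow_self r hk0).trans hk.symm.dvd).trans (card_dvd_of_le hDM)
  obtain ⟨g, hg, hgM⟩ := NonSigma.exists_outside hrM hr Rs
  have hRb : R ≠ ⊥ := fun h => hDb (le_bot_iff.mp (h ▸ hDR))
  obtain ⟨L, hL, hle⟩ := (eq_top_or_exists_le_coatom _).resolve_left
    (TransitivityHyp.normalizer_ne_top hG hRb (Uniqueness.ne_top_of_pGroup hG hRp))
  have hLM : L ≠ M := fun e => hgM (e ▸ hle hg)
  have hAL : A ≤ L := hAR.trans hle
  have hDL : D ≤ L := hDR.trans (le_normalizer.trans hle)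
  have hrL : r ∉ Cfsg.beta L := by
    intro hβ
    by_cases h1 : Cfsg.PRankLE r 1 M
    swap
    · exact (NonSigma.rank_two hG hM hr h1).1 hβ.2
    obtain ⟨S, hDS, hSL, -⟩ := exists_sylow_beta hG hL hA hU hβ hAL hDp hDL hAD
    have hDc := sylow_cyclic_of_rank_one hG h1 hDp hDM
    set C := (S : Subgroup G) ⊓ centralizer (D : Set G) with hC
    have hCc : IsCyclic C := sylow_cyclic_of_rank_one hG h1 (S.2.to_le inf_le_left)
      (inf_le_right.trans ((Subgroup.centralizer_le_normalizer _).trans hND))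
    have : Nontrivial (S : Subgroup G) := (nontrivial_iff_ne_bot _).mpr fun e => hDb (le_bot_iff.mp (e ▸ hDS))
    have hDC : D ≤ C := le_inf hDS (by
      have : IsMulCommutative D := hDc.isMulCommutative
      exact le_centralizer_iff_isMulCommutative.mpr inferInstance)
    have hZC : (center (S : Subgroup G)).map (S : Subgroup G).subtype ≤ C := by
      rintro _ ⟨z, hz, rfl⟩
      exact ⟨z.2, mem_centralizer_iff.mpr fun x hx => congrArg Subtype.val (mem_center_iff.mp hz ⟨x, hDS hx⟩)⟩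
    have hZb : (center (S : Subgroup G)).map (S : Subgroup G).subtype ≠ ⊥ := fun e => by
      have hc := (map_eq_bot_iff_of_injective _ (subtype_injective _)).mp e
      have := S.2.center_nontrivial
      exact (nontrivial_iff_ne_bot _).mp this hc
    -- `D` is central in `S`
    have hmeet := inf_ne_bot_of_cyclic (S.2.to_le inf_le_left) hCc hDC hZC hDb hZb
    have hDcard : Nat.card D = r := by
      obtain ⟨x, hx⟩ := hDc.exists_generator
      have h2 : (zpowers x : Subgroup D) = ⊤ := (eq_top_iff' _).mpr hx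
      have h3 : orderOf x ∣ r := orderOf_dvd_of_pow_eq_one (Subtype.ext x.2.2)
      rw [← card_top (G := D), ← h2, Nat.card_zpowers]
      rcases (Nat.dvd_prime Fact.out).mp h3 with h | h
      · exfalso
        rw [orderOf_eq_one_iff] at h
        rw [h, zpowers_one_eq_bot] at h2
        refine hDb (eq_bot_iff.mpr fun y hy => ?_)
        have h4 : (⟨y, hy⟩ : D) ∈ (⊥ : Subgroup D) := h2 ▸ mem_top _
        exact mem_bot.mpr (congrArg Subtype.val (mem_bot.mp h4))
      · exact h
    have hDZ : D ≤ (center (S : Subgroup G)).map (S : Subgroup G).subtype := by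
      have h1 : Nat.card ↥(D ⊓ (center (S : Subgroup G)).map (S : Subgroup G).subtype) = r := by
        rcases (Nat.dvd_prime Fact.out).mp (hDcard ▸ card_dvd_of_le (inf_le_left :
          D ⊓ (center (S : Subgroup G)).map (S : Subgroup G).subtype ≤ D)) with h | h
        · exact absurd (eq_bot_of_card_eq _ h) hmeet
        · exact h
      exact (eq_of_le_of_card_ge inf_le_left (by rw [h1, hDcard])).ge.trans inf_le_right
    refine sylow_not_cyclic hβ S (isCyclic_of_injective (inclusion (le_inf le_rfl ?_ : (S : Subgroup G) ≤ C))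
      (inclusion_injective _))
    refine le_centralizer_iff.mp (hDZ.trans ?_)
    rintro _ ⟨z, hz, rfl⟩
    exact mem_centralizer_iff.mpr fun x hx => congrArg Subtype.val (mem_center_iff.mp hz ⟨x, hx⟩)
  have hnd : ¬ A ≤ ⁅L, L⁆ := fun h => hDb (le_bot_iff.mp (hfix ▸ le_inf le_rfl (le_centralizer_iff.mp
    (centralizes_of_derived hG hL hrp hrL hA.isPGroup h hDp hDL hAD))))
  obtain ⟨hpL, -⟩ := sigma_inf_centralizer_of_not_derived hG hL hA hU hAL hnd
  have hinf := sigmaCore_inf_eq_bot hG hL hA hAL hpL hM (Ne.symm hLM) hAM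
  by_cases hrσ : r ∈ Cfsg.sigma L
  · exact hDb (le_bot_iff.mp ((le_inf (le_sigmaCore hG hL hrσ hDp hDL) hDM).trans hinf.le))
  obtain ⟨t, ht, htd⟩ := Nat.exists_prime_and_dvd
    (fun h1 => sigmaCore_ne_bot hG hL (eq_bot_of_card_eq _ h1))
  have := Fact.mk ht
  have htσ := mem_sigma_of_dvd ht htd hG hL
  obtain ⟨Q', hQ'σ, hQ'b, hAQ', -, -⟩ := exists_sylow_normalized hG hL hA hAL hpL htσ
  have hDQ' := centralizes_of_fpf hG hL hA hAL hpL htσ hrp (fun e => hrσ (e ▸ htσ)) Q'.2
    (hQ'σ.trans (sigmaCore_le L)) hAQ' hDp hDL hAD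
    (hDL.trans (le_normalizer_of_nilpotent (isNilpotent_sigmaCore hG hL hA hAL hpL) Q' hQ'σ)) hfix
  exact hQ'b (le_bot_iff.mp ((le_inf hQ'σ ((le_centralizer_iff.mp hDQ').trans
    ((Subgroup.centralizer_le_normalizer _).trans hND))).trans hinf.le))

/-- For `r > p` the `r`-subgroups lie in `O_{p'}(M)` and `A` normalises a Sylow subgroup. -/
theorem exists_invariant_sylow_gt (hG : Cfsg.IsMinSimpleOddOrder G) (hM : IsCoatom M) (hA : IsPair p A)
    (hU : ¬ Cfsg.InUniqueMaximal A) (hAM : A ≤ M) (hpr : p < r) {X : Subgroup G} (hX : IsPGroup r X)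
    (hXM : X ≤ M) (hAX : A ≤ normalizer (X : Set G)) :
    ∃ R : Sylow r M, X ≤ (R : Subgroup M).map M.subtype ∧
      A ≤ normalizer (((R : Subgroup M).map M.subtype : Subgroup G) : Set G) := by
  obtain ⟨hidx, -, -⟩ := OddLocal.BetaCore.narrow_facts hG hM (hA.dvd_card.trans (card_dvd_of_le hAM))
    (hA.not_beta hG hU M)
  set O := Cfsg.pPrimeCore p ↥M with hO
  have hri : ¬ r ∣ O.index := fun hd => absurd (hidx r Fact.out hd) (not_le.mpr hpr)
  have hXO : X ≤ O.map M.subtype := by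
    intro x hx
    refine mem_map.mpr ⟨⟨x, hXM hx⟩, (QuotientGroup.eq_one_iff _).mp (orderOf_eq_one_iff.mp ?_), rfl⟩
    obtain ⟨k, hk⟩ := hX ⟨x, hx⟩
    refine Nat.eq_one_of_dvd_coprimes (((Fact.out : r.Prime).coprime_iff_not_dvd.mpr hri).symm.pow_right k)
      (orderOf_dvd_natCard _) (orderOf_dvd_of_pow_eq_one ?_)
    rw [← QuotientGroup.mk_pow, show (⟨x, hXM hx⟩ : ↥M) ^ r ^ k = 1 from Subtype.ext (congrArg Subtype.val hk :)]
    rfl
  have hAO : A ≤ normalizer ((O.map M.subtype : Subgroup G) : Set G) := fun x hx =>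
    le_normalizer_map M.subtype ⟨⟨x, hAM hx⟩, Core.le_normalizer_of_normal ⊤ O (mem_top _), rfl⟩
  obtain ⟨R₀, hXR₀, hAR₀⟩ := Core.exists_invariant_sylow_ge hAO
    (show (Nat.card A).Coprime (Nat.card (O.map M.subtype : Subgroup G)) by
      rw [hA.2, card_map_of_injective M.subtype_injective]
      exact (CfsgLib.Core.coprime_card_pPrimeCore p ↥M).symm.pow_left 2)
    (Or.inl (hG.2.2.2 A (Uniqueness.ne_top_of_pGroup hG hA.isPGroup))) hXO hX hAX
  set R' := (R₀ : Subgroup (O.map M.subtype : Subgroup G)).map (O.map M.subtype).subtype with hR'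
  have hR'M : R' ≤ M := (map_subtype_le _).trans (map_subtype_le _)
  have hd : ¬ r ∣ (R'.subgroupOf M).index := by
    show ¬ r ∣ R'.relIndex M
    rw [← relIndex_mul_relIndex R' (O.map M.subtype) M (map_subtype_le _) (map_subtype_le _),
      (Fact.out : r.Prime).dvd_mul]
    push Not
    refine ⟨?_, ?_⟩
    · rw [relIndex, subgroupOf, hR', comap_map_eq_self_of_injective (subtype_injective _)]
      exact R₀.not_dvd_index
    · rwa [relIndex, subgroupOf, comap_map_eq_self_of_injective M.subtype_injective]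
  refine ⟨((R₀.2.map _).comap_subtype (K := M)).toSylow hd, ?_, ?_⟩
  · show X ≤ (R'.subgroupOf M).map M.subtype
    rwa [map_subgroupOf_eq_of_le hR'M]
  · show A ≤ normalizer (((R'.subgroupOf M).map M.subtype : Subgroup G) : Set G)
    rwa [map_subgroupOf_eq_of_le hR'M]

/-- `A` centralises the normal `r`-subgroups of a complement containing it. -/
theorem centralizes_normal (hG : Cfsg.IsMinSimpleOddOrder G) (hM : IsCoatom M) (hA : IsPair p A)
    (hp : p ∉ Cfsg.sigma M) {E : Subgroup G} (hE : Cfsg.IsComplIn E (Cfsg.sigmaCore M) M) (hAE : A ≤ E)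
    (hrp : r ≠ p) {X : Subgroup G} (hX : IsPGroup r X) (hXE : X ≤ E) (hEX : E ≤ normalizer (X : Set G)) :
    A ≤ centralizer (X : Set G) := by
  by_cases hXb : X = ⊥
  · rw [hXb]
    exact fun a _ => mem_centralizer_iff.mpr fun x hx => by rw [mem_bot.mp hx]; group
  have hAM : A ≤ M := hAE.trans hE.1
  have hAX : A ≤ normalizer (X : Set G) := hAE.trans hEX
  have hrE : r ∣ Nat.card E := by
    obtain ⟨k, hk⟩ := IsPGroup.iff_card.mp hX
    have hk0 : k ≠ 0 := by
      rintro rfl
      exact hXb (eq_bot_of_card_eq X (hk.trans (pow_zero r)))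
    exact ((dvd_pow_self r hk0).trans hk.symm.dvd).trans (card_dvd_of_le hXE)
  have hr := OddLocal.SigmaComplement.not_mem_sigma hG hM hE hrE
  by_cases hrM : r ∣ Nat.card ↥⁅M, M⁆
  swap
  · have hbot : X ⊓ ⁅M, M⁆ = ⊥ := by
      refine Subgroup.inf_eq_bot_of_coprime ?_
      obtain ⟨k, hk⟩ := IsPGroup.iff_card.mp hX
      rw [hk]
      exact ((Fact.out : r.Prime).coprime_iff_not_dvd.mpr hrM).pow_left k
    refine le_centralizer_iff.mp (commutator_eq_bot_iff_le_centralizer.mp (le_bot_iff.mp (hbot ▸ ?_)))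
    exact le_inf (Core.commutator_le_of_normalizes hAX) (commutator_mono (hXE.trans hE.1) hAM)
  by_cases h1 : Cfsg.PRankLE r 1 M
  · set Y := (Cfsg.pCore r ↥⁅E, E⁆).map (⁅E, E⁆).subtype with hY
    have hEY : E ≤ normalizer (Y : Set G) := fun g hg => OddLocal.PLengthEndgame.normalizer_le_char ⁅E, E⁆
      (Cfsg.pCore r ↥⁅E, E⁆) ((normalizer_commutator_ge_left E E) hg)
    have hYE : Y ≤ E := (map_subtype_le _).trans (commutator_le_self E)
    have hYr : IsPGroup r Y := (Core.isPGroup_pCore r _).map _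
    have hi : ¬ r ∣ Y.relIndex E := by
      rw [← relIndex_mul_relIndex Y ⁅E, E⁆ E (map_subtype_le _) (commutator_le_self E),
        (Fact.out : r.Prime).dvd_mul]
      push Not
      refine ⟨?_, ?_⟩
      · rw [relIndex, subgroupOf, hY, comap_map_eq_self_of_injective (subtype_injective _)]
        have hnil := OddLocal.SigmaComplement.isNilpotent_derived hG hM hE
        obtain ⟨S⟩ : Nonempty (Sylow r ↥⁅E, E⁆) := inferInstance
        refine fun hd => S.not_dvd_index (hd.trans (index_dvd_of_le fun x hx => ?_))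
        obtain ⟨k, hk⟩ := IsPGroup.iff_orderOf.1 S.2 ⟨x, hx⟩
        rw [orderOf_mk] at hk
        exact HallGen.mem_pCore_of_mem_nilpotent_normal (k := k)
          (inferInstance : (⊤ : Subgroup ↥⁅E, E⁆).Normal)
          (Group.nilpotent_of_mulEquiv topEquiv.symm) (mem_top _) hk
      · rw [relIndex, show (⁅E, E⁆ : Subgroup G).subgroupOf E = _root_.commutator ↥E by
          rw [← map_subtype_commutator, subgroupOf, comap_map_eq_self_of_injective E.subtype_injective]]
        exact OddLocal.SigmaComplement.not_dvd_derived_index hG hM hE hrE h1 hr hrM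
    have hn : (Y.subgroupOf E).Normal := normal_subgroupOf_of_le_normalizer hEY
    set Ys := (hYr.comap_subtype (K := E)).toSylow hi
    have hXY : X ≤ Y := by
      obtain ⟨T, hT⟩ := (hX.comap_subtype (K := E)).exists_le_sylow
      have := Ys.unique_of_normal hn
      rw [Subsingleton.elim T Ys] at hT
      exact fun x hx => hT (show (⟨x, hXE hx⟩ : E) ∈ X.comap E.subtype from hx)
    have hiM : ¬ r ∣ (Y.subgroupOf M).index := by
      show ¬ r ∣ Y.relIndex M
      rw [← relIndex_mul_relIndex Y E M hYE hE.1, (Fact.out : r.Prime).dvd_mul]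
      push Not
      refine ⟨hi, fun hd => hr ?_⟩
      rw [OddLocal.IsComplIn_relIndex_left hE] at hd
      exact mem_sigma_of_dvd Fact.out hd hG hM
    have h := centralizes_sylow hG hM hA hAM hp hr hrp ((hYr.comap_subtype (K := M)).toSylow hiM) (by
      show A ≤ normalizer (((Y.subgroupOf M).map M.subtype : Subgroup G) : Set G)
      rw [map_subgroupOf_eq_of_le (hYE.trans hE.1)]
      exact hAE.trans hEY)
    refine h.trans (Subgroup.centralizer_le ?_)
    show X ≤ (Y.subgroupOf M).map M.subtype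
    rwa [map_subgroupOf_eq_of_le (hYE.trans hE.1)]
  have hU := not_inUniqueMaximal hG hM hA hAM hp
  obtain ⟨B, hB, hBM⟩ := exists_isPair h1
  rcases lt_or_gt_of_ne hrp with hlt | hgt
  swap
  · obtain ⟨R, hXR, hAR⟩ := exists_invariant_sylow_gt hG hM hA hU hAM hgt hX (hXE.trans hE.1) hAX
    exact (centralizes_sylow hG hM hA hAM hp hr hrp R hAR).trans (Subgroup.centralizer_le hXR)
  -- a pair for `r` centralises a conjugate of `A`
  obtain ⟨P, -, hBP⟩ := exists_invariant_sylow_gt hG hM hB (not_inUniqueMaximal hG hM hB hBM hr) hBM hlt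
    (X := ⊥) IsPGroup.of_bot bot_le (fun x _ => mem_normalizer_iff.mpr fun y => by simp)
  have hBC := centralizes_sylow hG hM hB hBM hr hp (Ne.symm hrp) P hBP
  obtain ⟨P₁, hP₁⟩ := (hA.isPGroup.comap_subtype (K := M)).exists_le_sylow
  obtain ⟨m, hm⟩ := MulAction.exists_smul_eq M P P₁
  set B' := B.map (MulAut.conj (m : G)).toMonoidHom with hB'
  have hB'M : B' ≤ M := by
    rintro _ ⟨b, hb, rfl⟩
    exact mul_mem (mul_mem m.2 (hBM hb)) (inv_mem m.2)
  have hB'A : B' ≤ centralizer (A : Set G) := by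
    rintro _ ⟨b, hb, rfl⟩
    refine mem_centralizer_iff.mpr fun a ha => ?_
    have h2 : (⟨a, hAM ha⟩ : M) ∈ (P₁ : Subgroup M) := hP₁ (mem_comap.mpr ha)
    rw [← hm, Transfer.mem_sylow_smul] at h2
    have h3 := mem_centralizer_iff.mp (hBC hb) _ (mem_map.mpr ⟨_, h2, rfl⟩)
    simp only [Subgroup.coe_subtype, Subgroup.coe_mul, InvMemClass.coe_inv] at h3
    show a * ((m : G) * b * (m : G)⁻¹) = (m : G) * b * (m : G)⁻¹ * a
    calc a * ((m : G) * b * (m : G)⁻¹) = (m : G) * (((m : G)⁻¹ * a * m) * b) * (m : G)⁻¹ := by group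
      _ = (m : G) * (b * ((m : G)⁻¹ * a * m)) * (m : G)⁻¹ := by rw [h3]
      _ = (m : G) * b * (m : G)⁻¹ * a := by group
  have hB'E : B' ≤ E := (le_inf hB'M hB'A).trans
    (centralizer_le_complement (sigma_inf_centralizer hG hM hA hAM hp) hE hAE)
  have hB'p : IsPair r B' := ⟨TwoColours.elementary_map_conj hB.1 _, by
    rw [hB', Transfer.card_map_conj, hB.2]⟩
  have hXB : IsPGroup r ↥(X ⊔ B') := by
    obtain ⟨a, ha⟩ := IsPGroup.iff_card.mp hX
    obtain ⟨b, hb⟩ := IsPGroup.iff_card.mp hB'p.isPGroup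
    have hd := Core.card_sup_dvd B' X (hB'E.trans hEX)
    rw [hb, ha, ← pow_add, sup_comm] at hd
    obtain ⟨j, -, hj⟩ := (Nat.dvd_prime_pow Fact.out).mp hd
    exact IsPGroup.of_card hj
  obtain ⟨R, hR⟩ := (hXB.comap_subtype (K := M)).exists_le_sylow
  have hle : X ⊔ B' ≤ (R : Subgroup M).map M.subtype := fun x hx =>
    mem_map.mpr ⟨⟨x, (sup_le (hXE.trans hE.1) hB'M) hx⟩, hR (mem_comap.mpr hx), rfl⟩
  obtain ⟨-, hΩ⟩ := sylow_abelian hG hM hB'p hB'M hr R
  have : IsMulCommutative X := by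
    have hc := sylow_commutative hG hM hr R
    refine ⟨⟨fun a b => ?_⟩⟩
    have h := congrArg Subtype.val (hc.is_comm.comm
      (⟨(a : G), hle (mem_sup_left a.2)⟩ : (R : Subgroup M).map M.subtype) ⟨b, hle (mem_sup_left b.2)⟩)
    exact Subtype.ext h
  refine Core.abelian_centralizes_of_prime_order hAX (coprime_pGroups (Ne.symm hrp) hA.isPGroup hX)
    fun v hv hvo a ha => ?_
  obtain ⟨k, hk⟩ := IsPGroup.iff_orderOf.1 hX ⟨v, hv⟩
  rw [orderOf_mk] at hk
  have hvr : v ^ r = 1 := by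
    rw [hk] at hvo
    have hk1 : k = 1 := Nat.Prime.eq_one_of_pow hvo
    rw [hk1, pow_one] at hk
    exact hk ▸ pow_orderOf_eq_one v
  exact mem_centralizer_iff.mp (hB'A ((hΩ (le_sup_right.trans hle) v (hle (mem_sup_left hv))).mp hvr)) a ha

/-- S1418: a pair is normal in a complement containing it and holds all elements of order `p`. -/
theorem le_normalizer_pair (hG : Cfsg.IsMinSimpleOddOrder G) (hM : IsCoatom M) (hA : IsPair p A)
    (hp : p ∉ Cfsg.sigma M) {E : Subgroup G} (hE : Cfsg.IsComplIn E (Cfsg.sigmaCore M) M) (hAE : A ≤ E) :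
    E ≤ normalizer (A : Set G) ∧ (∀ x ∈ E, x ^ p = 1 → x ∈ A) ∧
      M ⊓ normalizer (A : Set G) = E := by
  have hAM : A ≤ M := hAE.trans hE.1
  have : Group.IsSolvable E := CfsgLib.Core.isSolvable_of_le (hG.2.2.2 M hM.1) hE.1
  set Op := (Cfsg.pCore p E).map E.subtype with hOp
  have hOpE : Op ≤ E := map_subtype_le _
  have hEOp : E ≤ normalizer (Op : Set G) := fun x hx =>
    le_normalizer_map E.subtype ⟨⟨x, hx⟩, Core.le_normalizer_of_normal ⊤ (Cfsg.pCore p E) (mem_top _), rfl⟩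
  -- a Sylow subgroup over `Op ⊔ A`
  have hPp : IsPGroup p ↥(Op ⊔ A) := by
    obtain ⟨a, ha⟩ := IsPGroup.iff_card.mp ((Core.isPGroup_pCore p E).map E.subtype)
    obtain ⟨b, hb⟩ := IsPGroup.iff_card.mp hA.isPGroup
    have hd := Core.card_sup_dvd A Op (hAE.trans hEOp)
    rw [hb, hOp, ha, ← pow_add, sup_comm] at hd
    obtain ⟨j, -, hj⟩ := (Nat.dvd_prime_pow Fact.out).mp hd
    exact IsPGroup.of_card hj
  obtain ⟨P, hP⟩ := (hPp.comap_subtype (K := M)).exists_le_sylow
  have hle : Op ⊔ A ≤ (P : Subgroup M).map M.subtype := fun x hx =>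
    mem_map.mpr ⟨⟨x, (sup_le (hOpE.trans hE.1) hAM) hx⟩, hP (mem_comap.mpr hx), rfl⟩
  have hPc := sylow_commutative hG hM hp P
  obtain ⟨-, hΩ⟩ := sylow_abelian hG hM hA hAM hp P
  -- `A` centralises the Fitting subgroup of `E`
  have hAF : ∀ a ∈ A.subgroupOf E, a ∈ centralizer (Cfsg.fittingSubgroup E : Set E) := by
    intro a ha
    refine OddLocal.RankTwoFitting.mem_centralizer_fitting fun t ht => mem_centralizer_iff.mpr fun v hv =>
      Subtype.ext ?_
    by_cases htp : t = p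
    · subst htp
      have h := congrArg Subtype.val (hPc.is_comm.comm
        (⟨(v : G), hle (mem_sup_left ⟨v, hv, rfl⟩)⟩ : (P : Subgroup M).map M.subtype)
        ⟨(a : G), hle (mem_sup_right ha)⟩)
      exact h
    · have := Fact.mk ht
      have h := centralizes_normal hG hM hA hp hE hAE htp ((Core.isPGroup_pCore t E).map E.subtype)
        (map_subtype_le _) (fun x hx => le_normalizer_map E.subtype
          ⟨⟨x, hx⟩, Core.le_normalizer_of_normal ⊤ (Cfsg.pCore t E) (mem_top _), rfl⟩)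
      exact mem_centralizer_iff.mp (h ha) (v : G) ⟨v, hv, rfl⟩
  have hAOp : A ≤ Op := by
    intro a ha
    have hF : (⟨a, hAE ha⟩ : E) ∈ Cfsg.fittingSubgroup E :=
      CfsgLib.Components.centralizer_fitting_le_of_isSolvable (hAF ⟨a, hAE ha⟩ ha)
    obtain ⟨j, -, hj⟩ := (Nat.dvd_prime_pow Fact.out).mp
      (orderOf_dvd_of_pow_eq_one (show a ^ p ^ 1 = 1 by rw [pow_one]; exact hA.1.2 a ha))
    have := CfsgLib.Core.isNilpotent_fittingSubgroup E
    exact mem_map.mpr ⟨⟨a, hAE ha⟩, OddLocal.RankTwoFitting.mem_pCore_of_mem_nilpotent hF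
      (by rw [orderOf_mk]; exact hj), rfl⟩
  have hEA : E ≤ normalizer (A : Set G) := by
    intro e he
    refine Transfer.map_conj_eq_self_iff.mp (eq_of_le_of_card_ge ?_ (Transfer.card_map_conj e A).ge)
    rintro _ ⟨a, ha, rfl⟩
    refine (hΩ (le_sup_right.trans hle) _ (hle (mem_sup_left ?_))).mp ?_
    · exact (mem_normalizer_iff.mp (hEOp he) a).mp (hAOp ha)
    · rw [← map_pow, hA.1.2 a ha, map_one]
  refine ⟨hEA, fun x hx hxp => ?_, le_antisymm ?_ (le_inf hE.1 hEA)⟩
  · have hzp : IsPGroup p (zpowers x) := IsPGroup.of_card (n := Nat.factorization (orderOf x) p) (by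
      rw [Nat.card_zpowers]
      obtain ⟨j, -, hj⟩ := (Nat.dvd_prime_pow Fact.out).mp
        (orderOf_dvd_of_pow_eq_one (show x ^ p ^ 1 = 1 by rw [pow_one]; exact hxp))
      rw [hj, Nat.Prime.factorization_pow Fact.out, Finsupp.single_eq_same])
    have hsup : IsPGroup p ↥(A ⊔ zpowers x) := by
      obtain ⟨a, ha⟩ := IsPGroup.iff_card.mp hA.isPGroup
      obtain ⟨b, hb⟩ := IsPGroup.iff_card.mp hzp
      have hd := Core.card_sup_dvd (zpowers x) A (zpowers_le.mpr (hEA hx))
      rw [hb, ha, ← pow_add, sup_comm] at hd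
      obtain ⟨j, -, hj⟩ := (Nat.dvd_prime_pow Fact.out).mp hd
      exact IsPGroup.of_card hj
    obtain ⟨P', hP'⟩ := (hsup.comap_subtype (K := M)).exists_le_sylow
    have hle' : A ⊔ zpowers x ≤ (P' : Subgroup M).map M.subtype := fun y hy =>
      mem_map.mpr ⟨⟨y, (sup_le hAM (zpowers_le.mpr (hE.1 hx))) hy⟩, hP' (mem_comap.mpr hy), rfl⟩
    exact (((sylow_abelian hG hM hA hAM hp P').2 (le_sup_left.trans hle')) x
      (hle' (mem_sup_right (mem_zpowers x)))).mp hxp
  · rintro x ⟨hxM, hxA⟩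
    obtain ⟨e, he, s, hs, rfl⟩ := hE.2.2.2 x hxM
    suffices hs1 : s = 1 by rw [hs1, mul_one]; exact he
    have hsA : s ∈ normalizer (A : Set G) := by
      have := mul_mem (inv_mem (hEA he)) hxA
      rwa [inv_mul_cancel_left] at this
    refine mem_bot.mp (sigma_inf_centralizer hG hM hA hAM hp ▸ mem_inf.mpr ⟨hs, mem_centralizer_iff.mpr fun a ha => ?_⟩)
    have h3 : s * a * s⁻¹ * a⁻¹ ∈ A ⊓ Cfsg.sigmaCore M := by
      refine mem_inf.mpr ⟨mul_mem ((mem_normalizer_iff.mp hsA a).mp ha) (inv_mem ha), ?_⟩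
      have := mul_mem hs ((mem_normalizer_iff.mp (le_normalizer_sigmaCore M (hAM ha)) _).mp (inv_mem hs))
      simpa [mul_assoc] using this
    rw [Subgroup.inf_eq_bot_of_coprime (coprime_sigmaCore hG hM hp hA.isPGroup), mem_bot, mul_inv_eq_one,
      mul_inv_eq_iff_eq_mul] at h3
    exact h3.symm

end CfsgLib.TwoGroups.TauTwo
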