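import Cfsg.Agent.Lib.TwoGroups.TauTwoNilpotent

/-!
Owner: helper12. A pair with a line whose normaliser lies in only one maximal subgroup.
-/

set_option autoImplicit false
set_option linter.unusedSectionVars false

namespace CfsgLib.TwoGroups.TauTwo

open Subgroup
open scoped commutatorElement

variable {G : Type*} [Group G] [Finite G] {p r : ℕ} [Fact p.Prime] [Fact r.Prime] {M A : Subgroup G}

/-- A maximal subgroup over `C(a)` other than `M`, when `N⟨a⟩` is not only in `M`. -/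
theorem exists_other (hG : Cfsg.IsMinSimpleOddOrder G) (hA : IsPair p A)
    (h : ∀ A₀ : Subgroup G, A₀ ≤ A → Nat.card A₀ = p →
      ¬ (normalizer (A₀ : Set G) ≤ M ∧ ∀ L : Subgroup G, IsCoatom L → normalizer (A₀ : Set G) ≤ L → L = M))
    {a : G} (ha : a ∈ A) (ha1 : a ≠ 1) :
    ∃ L : Subgroup G, IsCoatom L ∧ centralizer ({a} : Set G) ≤ L ∧ L ≠ M := by
  by_contra hno
  push Not at hno
  have hcard : Nat.card (zpowers a) = p := by rw [Nat.card_zpowers, orderOf_eq_prime (hA.1.2 a ha) ha1]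
  have hCN : centralizer ({a} : Set G) ≤ normalizer ((zpowers a : Subgroup G) : Set G) := by
    have h1 : centralizer ((zpowers a : Subgroup G) : Set G) = centralizer ({a} : Set G) := by
      rw [zpowers_eq_closure, centralizer_closure]
    exact h1 ▸ Subgroup.centralizer_le_normalizer _
  have hNt : normalizer ((zpowers a : Subgroup G) : Set G) ≠ ⊤ := TransitivityHyp.normalizer_ne_top hG
    (fun e => ha1 (zpowers_eq_bot.mp e))
    (Uniqueness.ne_top_of_pGroup hG (hA.isPGroup.to_le (zpowers_le.mpr ha)))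
  obtain ⟨L, hL, hle⟩ := (eq_top_or_exists_le_coatom _).resolve_left hNt
  exact h _ (zpowers_le.mpr ha) hcard ⟨hno L hL (hCN.trans hle) ▸ hle, fun L' hL' hle' => hno L' hL' (hCN.trans hle')⟩

/-- The only-maximal conclusion from a uniqueness subgroup inside `M ∩ C(a)`. -/
theorem eq_of_inUniqueMaximal {X : Subgroup G} (hX : Cfsg.InUniqueMaximal X) (hM : IsCoatom M)
    (hXM : X ≤ M) {L : Subgroup G} (hL : IsCoatom L) (hXL : X ≤ L) : L = M :=
  hX.unique ⟨hL, hXL⟩ ⟨hM, hXM⟩

/-- S1416, second part, apart from the nilpotency. -/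
theorem sigma_of_no_line (hG : Cfsg.IsMinSimpleOddOrder G) (hM : IsCoatom M) (hA : IsPair p A) (hAM : A ≤ M)
    (h : ∀ A₀ : Subgroup G, A₀ ≤ A → Nat.card A₀ = p →
      ¬ (normalizer (A₀ : Set G) ≤ M ∧ ∀ L : Subgroup G, IsCoatom L → normalizer (A₀ : Set G) ≤ L → L = M)) :
    p ∈ Cfsg.sigma M ∧ ∀ t : ℕ, t ∉ Cfsg.alpha M := by
  obtain ⟨a₀, ha₀, ha₀1⟩ := A.ne_bot_iff_exists_ne_one.mp hA.ne_bot |> fun ⟨x, hx⟩ =>
    (⟨(x : G), x.2, fun e => hx (Subtype.ext e)⟩ : ∃ a ∈ A, a ≠ 1)
  have hU : ¬ Cfsg.InUniqueMaximal A := by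
    intro hU
    obtain ⟨L, hL, hle, hne⟩ := exists_other hG hA h ha₀ ha₀1
    exact hne (eq_of_inUniqueMaximal hU hM hAM hL ((hA.le_centralizer.trans (hA.centralizer_le ha₀)).trans hle))
  have hp : p ∈ Cfsg.sigma M := by
    by_contra hp
    obtain ⟨s, hs, hd⟩ := Nat.exists_prime_and_dvd
      (fun h1 => sigmaCore_ne_bot hG hM (eq_bot_of_card_eq _ h1))
    have := Fact.mk hs
    have hsσ := mem_sigma_of_dvd hs hd hG hM
    obtain ⟨Q, hQσ, hQb, hAQ, -, -⟩ := exists_sylow_normalized hG hM hA hAM hp hsσ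
    obtain ⟨a, ha, ha1, hfa⟩ := hA.exists_fix (fun e : s = p => hp (e ▸ hsσ)) Q.2 hAQ hQb
    have hcen : centralizer ((zpowers a : Subgroup G) : Set G) = centralizer ({a} : Set G) := by
      rw [zpowers_eq_closure, centralizer_closure]
    obtain ⟨L, hL, hle, hne⟩ := exists_other hG hA h ha ha1
    refine hne ((centralizer_line_unique hG hM hA hAM hp (X := zpowers a) (zpowers_le.mpr ha)
      (fun e => ha1 (zpowers_eq_bot.mp e)) ?_).2 L hL (hcen.le.trans hle))
    rw [hcen]
    exact fun e => hfa (le_bot_iff.mp (e ▸ inf_le_inf_right _ hQσ))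
  refine ⟨hp, fun t ht => ?_⟩
  have := Fact.mk ht.1
  have hpα : p ∉ Cfsg.alpha M := by
    intro hα
    obtain ⟨P, hP⟩ := (hA.isPGroup.comap_subtype (K := M)).exists_le_sylow
    obtain ⟨S, hS⟩ := SigmaTrans.sigma_sylow hp P
    have hAS : A ≤ (S : Subgroup G) := hS ▸ fun x hx =>
      mem_map.mpr ⟨⟨x, hAM hx⟩, hP (mem_comap.mpr hx), rfl⟩
    have hSb : (S : Subgroup G) ≠ ⊥ := fun e => hA.ne_bot (le_bot_iff.mp (e ▸ hAS))
    have : Nontrivial (S : Subgroup G) := (nontrivial_iff_ne_bot _).mpr hSb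
    obtain ⟨j, hj⟩ := IsPGroup.iff_card.mp (S.2.to_subgroup (center (S : Subgroup G)))
    have hj0 : j ≠ 0 := by
      rintro rfl
      have h1 : 1 < Nat.card (center (S : Subgroup G)) := by
        have := S.2.center_nontrivial
        exact Finite.one_lt_card
      rw [hj, pow_zero] at h1
      omega
    obtain ⟨z, hz⟩ := exists_prime_orderOf_dvd_card' p ((dvd_pow_self p hj0).trans hj.symm.dvd)
    set z' : G := ((z : (S : Subgroup G)) : G) with hz'
    have hzo : orderOf z' = p := by rw [hz', orderOf_coe, orderOf_coe, hz]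
    have hzA : z' ∈ A := hA.mem_of_centralizes hG hU
      (mem_centralizer_iff.mpr fun x hx => congrArg Subtype.val (mem_center_iff.mp z.2 ⟨x, hAS hx⟩))
      (hzo ▸ pow_orderOf_eq_one z')
    obtain ⟨E, hEM, hE, hE3⟩ := Uniqueness.exists_elementary_of_not_rank hα.2
    obtain ⟨R, hR⟩ := ((Signalizer.elementary_isPGroup hE).comap_subtype (K := M)).exists_le_sylow
    obtain ⟨m, hm⟩ := MulAction.exists_smul_eq M R P
    set E' := E.map (MulAut.conj (m : G)).toMonoidHom with hE'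
    have hE'S : E' ≤ (S : Subgroup G) := by
      rw [hS]
      rintro _ ⟨e, he, rfl⟩
      refine mem_map.mpr ⟨m * ⟨e, hEM he⟩ * m⁻¹, ?_, rfl⟩
      rw [← hm, Transfer.mem_sylow_smul]
      simpa [mul_assoc] using hR (mem_comap.mpr he)
    have hUE := Uniqueness.inUniqueMaximal_map_conj (SCNUnique.inUniqueMaximal_elementary hG hE hE3) (m : G)
    obtain ⟨L, hL, hle, hne⟩ := exists_other hG hA h hzA (fun e => by
      rw [e, orderOf_one] at hzo; exact (Fact.out : p.Prime).ne_one hzo.symm)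
    refine hne (eq_of_inUniqueMaximal hUE hM (hE'S.trans (hS ▸ map_subtype_le _)) hL (le_trans ?_ hle))
    exact fun x hx => mem_centralizer_singleton_iff.mpr
      (congrArg Subtype.val (mem_center_iff.mp z.2 ⟨x, hE'S hx⟩))
  -- an invariant Sylow subgroup for `t`
  obtain ⟨hall, hall', hασ, -⟩ := AlphaCore.alphaCore_hall hG hM
  set B := Cfsg.alphaCore M with hB
  have hAB : A ≤ normalizer (B : Set G) := fun x hx =>
    le_normalizer_map M.subtype ⟨⟨x, hAM hx⟩, Core.le_normalizer_of_normal ⊤ (Cfsg.piCore (Cfsg.alpha M) ↥M) (mem_top _), rfl⟩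
  have hcop : (Nat.card A).Coprime (Nat.card B) := by
    obtain ⟨k, hk⟩ := IsPGroup.iff_card.mp hA.isPGroup
    rw [hk]
    exact ((Fact.out : p.Prime).coprime_iff_not_dvd.mpr fun hd => hpα (hall.2.1 p Fact.out hd)).pow_left k
  obtain ⟨R₀, hAR₀⟩ := Core.exists_invariant_sylow hAB hcop
    (Or.inl (hG.2.2.2 A (Uniqueness.ne_top_of_pGroup hG hA.isPGroup))) t
  have hdR : ¬ t ∣ ((R₀ : Subgroup B).map B.subtype).index := by
    rw [index_map_subtype, ht.1.dvd_mul]
    push Not
    exact ⟨R₀.not_dvd_index, hall'.2 t ht.1 ht⟩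
  set R : Sylow t G := (R₀.2.map B.subtype).toSylow hdR with hRdef
  have hAR : A ≤ normalizer ((R : Subgroup G) : Set G) := hAR₀
  have hRB : (R : Subgroup G) ≤ B := map_subtype_le _
  have hRM : (R : Subgroup G) ≤ M := hRB.trans (map_subtype_le _)
  have htp : t ≠ p := fun e => hpα (e ▸ ht)
  have hRnc : ¬ IsCyclic (R : Subgroup G) := by
    intro hc
    obtain ⟨E, -, hE, hE3⟩ := Uniqueness.exists_elementary_of_not_rank ht.2
    obtain ⟨S', hS'⟩ := (Signalizer.elementary_isPGroup hE).exists_le_sylow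
    have : IsCyclic (S' : Subgroup G) := isCyclic_of_surjective (R.equiv S') (R.equiv S').surjective
    exact Uniqueness.not_isCyclic_of_elementary hE ((Nat.pow_le_pow_right ht.1.pos (by omega)).trans hE3)
      (isCyclic_of_injective (inclusion hS') (inclusion_injective _))
  have hcyc : ∀ a ∈ A, a ≠ 1 → IsCyclic ↥((R : Subgroup G) ⊓ centralizer ({a} : Set G)) := by
    intro a ha ha1
    by_contra hnc
    have hz : centralizer ((zpowers a : Subgroup G) : Set G) = centralizer ({a} : Set G) := by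
      rw [zpowers_eq_closure, centralizer_closure]
    have hU2 := AlphaCent.centralizer_unique hG hM (X := zpowers a) (zpowers_le.mpr (hAM ha))
      (fun q hq hd hqα => hpα (by
        rw [Nat.card_zpowers, orderOf_eq_prime (hA.1.2 a ha) ha1] at hd
        rwa [(Nat.prime_dvd_prime_iff_eq hq Fact.out).mp hd] at hqα))
      (by
        intro hr
        obtain ⟨E, hEX, hE, hE2⟩ := exists_pair hG (R.2.to_le inf_le_left) hnc
        refine IsPair.not_rank_one (A := E) (M := B ⊓ centralizer ((zpowers a : Subgroup G) : Set G))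
          ⟨hE, hE2⟩ ?_ (hr t ht.1)
        rw [hz]
        exact hEX.trans (inf_le_inf_right _ hRB))
    obtain ⟨L, hL, hle, hne⟩ := exists_other hG hA h ha ha1
    refine hne (eq_of_inUniqueMaximal hU2 hM inf_le_left hL (le_trans ?_ hle))
    rw [hz]
    exact inf_le_right
  have hnorm : ∀ {a : G}, a ∈ A →
      A ≤ normalizer (((R : Subgroup G) ⊓ centralizer ({a} : Set G) : Subgroup G) : Set G) := fun ha =>
    (le_inf hAR ((hA.le_centralizer.trans (hA.centralizer_le ha)).trans le_normalizer)).trans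
      inf_normalizer_le_normalizer_inf
  have hRA : ¬ (R : Subgroup G) ≤ centralizer (A : Set G) := fun hle => by
    have := hcyc a₀ ha₀ ha₀1
    exact hRnc (isCyclic_of_injective (inclusion (le_inf le_rfl (hle.trans (hA.centralizer_le ha₀))))
      (inclusion_injective _))
  by_cases htβ : t ∈ Cfsg.beta M
  swap
  · exact hRA (le_centralizer_iff.mp (centralizes_of_derived hG hM htp htβ hA.isPGroup
      (le_derived_of_sigma hG hM hp hA.isPGroup hAM) R.2 hRM hAR))
  have hfix : (R : Subgroup G) ⊓ centralizer (A : Set G) = ⊥ := by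
    by_contra hne
    exact hRA (hA.le_of_centralizers htp R.2 hAR fun a ha ha1 =>
      le_centralizer_of_cyclic hA htp (R.2.to_le inf_le_left) (hcyc a ha ha1) (hnorm ha)
        fun hb => hne (le_bot_iff.mp (hb ▸ le_inf (inf_le_inf_left _ (hA.centralizer_le ha)) inf_le_right)))
  obtain ⟨b, hb, hb1, hDb⟩ := hA.exists_fix htp R.2 hAR (fun e => hRnc (e ▸ inferInstance))
  obtain ⟨L, hL, hCbL, hLM⟩ := exists_other hG hA h hb hb1
  have hCL : centralizer (A : Set G) ≤ L := (hA.centralizer_le hb).trans hCbL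
  have hAL : A ≤ L := hA.le_centralizer.trans hCL
  set D := (R : Subgroup G) ⊓ L with hD
  have hDne : D ≠ ⊥ := fun e => hDb (le_bot_iff.mp (e ▸ inf_le_inf_left _ hCbL))
  have hDp : IsPGroup t D := R.2.to_le inf_le_left
  have hAD : A ≤ normalizer (D : Set G) :=
    (le_inf hAR (hAL.trans le_normalizer)).trans inf_normalizer_le_normalizer_inf
  have hDM : D ≤ M := inf_le_left.trans hRM
  have hne2 : ¬ L ≤ M := fun hle => (hle.lt_or_eq).elim (fun h' => hM.1 (hL.2 _ h')) hLM
  have hDc : IsCyclic D := by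
    by_contra hnc
    exact hne2 (le_of_noncyclic hG hM htβ hDp hnc hDM hL.1 inf_le_right)
  have hmax : ∀ T : Subgroup G, IsPGroup t T → T ≤ L → A ≤ normalizer (T : Set G) → D ≤ T → T = D :=
    fun T hT hTL hAT hle => inf_maxInv_max hG hA hU htp (sylow_isMaxInv R hAR) hCL hDne hT hTL hAT hle
  have htL : t ∉ Cfsg.beta L := fun hβ => by
    obtain ⟨S, hDS, hSL, hAS⟩ := exists_sylow_beta hG hL hA hU hβ hAL hDp inf_le_right hAD
    exact sylow_not_cyclic hβ S ((hmax _ S.2 hSL hAS hDS) ▸ hDc)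
  have hDC : D ⊓ centralizer (A : Set G) = ⊥ :=
    le_bot_iff.mp ((inf_le_inf_right _ inf_le_left).trans hfix.le)
  have hnd : ¬ A ≤ ⁅L, L⁆ := fun hd => hDne (le_bot_iff.mp (hDC ▸ le_inf le_rfl (le_centralizer_iff.mp
    (centralizes_of_derived hG hL htp htL hA.isPGroup hd hDp inf_le_right hAD))))
  obtain ⟨hpL, -⟩ := sigma_inf_centralizer_of_not_derived hG hL hA hU hAL hnd
  exact hne2 (le_of_fpf hG hL hA hAL hpL htp hDp inf_le_right hAD hmax hDC
    (normalizer_le_of_beta hG hM htβ hDp hDne hDM))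

theorem eq_bot_of_alpha_empty (hG : Cfsg.IsMinSimpleOddOrder G) (hM : IsCoatom M)
    (h : ∀ t : ℕ, t ∉ Cfsg.alpha M) : Cfsg.alphaCore M = ⊥ ∧ Group.IsNilpotent (Cfsg.sigmaCore M) := by
  refine ⟨?_, ?_⟩
  · obtain ⟨hall, -⟩ := AlphaCore.alphaCore_hall hG hM
    by_contra hne
    obtain ⟨t, ht, hd⟩ := Nat.exists_prime_and_dvd (fun h1 => hne (eq_bot_of_card_eq _ h1))
    exact h t (hall.2.1 t ht hd)
  · have := isNilpotent_derived_of_beta_empty hG hM fun t _ hβ => h t hβ.1
    exact Core.isNilpotent_of_le (OddLocal.BetaCore.sigmaCore_le_derived hG hM)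

/-- S1416. -/
theorem rankTwoCentralizer (hG : Cfsg.IsMinSimpleOddOrder G) (hM : IsCoatom M) (hA : IsPair p A) (hAM : A ≤ M) :
    centralizer (A : Set G) ≤ M ∧
      ((∀ A₀ : Subgroup G, A₀ ≤ A → Nat.card A₀ = p →
          ¬ (normalizer (A₀ : Set G) ≤ M ∧ ∀ L : Subgroup G, IsCoatom L → normalizer (A₀ : Set G) ≤ L → L = M)) →
        p ∈ Cfsg.sigma M ∧ Cfsg.alphaCore M = ⊥ ∧ Group.IsNilpotent (Cfsg.sigmaCore M)) :=
  ⟨centralizer_le hG hM hA hAM, fun h =>
    ⟨(sigma_of_no_line hG hM hA hAM h).1, eq_bot_of_alpha_empty hG hM (sigma_of_no_line hG hM hA hAM h).2⟩⟩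

end CfsgLib.TwoGroups.TauTwo
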