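import Cfsg.Agent.Lib.TwoGroups.TauTwoElements
import Cfsg.Agent.Lib.Core.Cores

/-!
Owner: helper12. The case of a nonabelian Sylow `p`-subgroup, `p ∈ τ₂(M)`.
-/

set_option autoImplicit false
set_option linter.unusedSectionVars false

namespace CfsgLib.TwoGroups.TauTwo

open Subgroup
open scoped commutatorElement

variable {G : Type*} [Group G] [Finite G] {p : ℕ} [Fact p.Prime] {M A E : Subgroup G}

/-- `p`-th powers in `A` are central in a Sylow subgroup over `A`. -/
theorem pow_mem_central (hG : Cfsg.IsMinSimpleOddOrder G) (hA : IsPair p A) (hU : ¬ Cfsg.InUniqueMaximal A)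
    (S : Sylow p G) (hAS : A ≤ (S : Subgroup G)) {y : G} (hy : y ∈ (S : Subgroup G)) (hyA : y ^ p ∈ A)
    (hna : ¬ IsMulCommutative (S : Subgroup G)) : y ^ p ∈ centralizer ((S : Subgroup G) : Set G) := by
  have hp2 := hA.ne_two hG
  by_cases hr : Cfsg.PRankLE p 2 (S : Subgroup G)
  · obtain ⟨P₁, P₂, hsup, hcomm, -, -, he1, hc2, hZ⟩ := (Cfsg.Agent.S1412.result hG p S hr).resolve_left hna
    have hnorm : P₂ ≤ normalizer (P₁ : Set G) := le_trans (fun b hb => mem_centralizer_iff.mpr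
      fun a ha => hcomm a ha b hb) (centralizer_le_normalizer _)
    obtain ⟨u, hu, v, hv, rfl⟩ := (Core.mem_sup_iff_mul' hnorm).mp ((sup_comm P₁ P₂).le (hsup.ge hy))
    have hu1 : u ^ p = 1 := by
      have := Monoid.pow_exponent_eq_one (⟨u, hu⟩ : P₁)
      rw [he1] at this
      exact congrArg Subtype.val this
    have e : (u * v) ^ p = v ^ p := by rw [(show Commute u v from hcomm u hu v hv).mul_pow, hu1, one_mul]
    rw [e] at hyA ⊢
    have h1 : v ^ p ∈ P₁ ⊓ centralizer (P₁ : Set G) :=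
      hZ.le (subset_closure ⟨pow_mem hv p, hA.1.2 _ hyA⟩)
    refine mem_centralizer_iff.mpr fun x hx => ?_
    obtain ⟨a, ha, b, hb, rfl⟩ := (Core.mem_sup_iff_mul' hnorm).mp ((sup_comm P₁ P₂).le (hsup.ge hx))
    have h2 : Commute a (v ^ p) := mem_centralizer_iff.mp h1.2 a ha
    have h3 : Commute b (v ^ p) := (hcomm _ h1.1 b hb).symm
    exact (h2.mul_left h3).eq
  · set E := A.subgroupOf (S : Subgroup G) with hE
    have hEe : Cfsg.IsElementaryAbelian p E := ⟨⟨⟨fun a b => Subtype.ext (Subtype.ext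
      (Signalizer.elementary_comm hA.1 a.2 b.2))⟩⟩, fun a ha => Subtype.ext (hA.1.2 _ ha)⟩
    have hEc : Nat.card E = p ^ 2 := by rw [Nat.card_congr (subgroupOfEquivOfLe hAS).toEquiv, hA.2]
    have hEmax : ∀ B : Subgroup (S : Subgroup G), Cfsg.IsElementaryAbelian p B → E ≤ B → B = E := by
      intro B hB hle
      have h1 := hA.maximal hG hU (B := B.map (S : Subgroup G).subtype)
        ⟨by have := hB.1; exact map_isMulCommutative B _, by
          rintro _ ⟨b, hb, rfl⟩
          rw [← map_pow, hB.2 b hb, map_one]⟩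
        (by rw [← map_subgroupOf_eq_of_le hAS]; exact map_mono hle)
      rw [hE, ← h1, subgroupOf, comap_map_eq_self_of_injective (subtype_injective _)]
    obtain ⟨hET, hZc, -, hTc, hTi⟩ := OddLocal.RankThree.facts hp2 S.2 hr hEe hEc hEmax
    set T := centralizer ((closure {x : (S : Subgroup G) |
      x ∈ Subgroup.upperCentralSeries (S : Subgroup G) 2 ∧ x ^ p = 1} : Subgroup (S : Subgroup G)) :
      Set (S : Subgroup G))
    set Z₁ := closure {x : (S : Subgroup G) | x ∈ center (S : Subgroup G) ∧ x ^ p = 1} with hZ₁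
    have := hTc
    have hTn : T.Normal := inferInstance
    have hyT : (⟨y, hy⟩ : (S : Subgroup G)) ^ p ∈ T := by
      have hcard : Nat.card ((S : Subgroup G) ⧸ T) = p := by rw [← index_eq_card, hTi]
      refine (QuotientGroup.eq_one_iff _).mp ?_
      rw [QuotientGroup.mk_pow]
      exact orderOf_dvd_iff_pow_eq_one.mp ((_root_.orderOf_dvd_natCard _).trans hcard.dvd)
    have hZET : Z₁ ≤ E ⊓ T := (closure_le _).2 fun x hx =>
      ⟨OddLocal.RankThree.mem_of_centralizes hEe hEmax (center_le_centralizer _ hx.1) hx.2,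
        center_le_centralizer _ hx.1⟩
    have hET2 : Nat.card ↥(E ⊓ T : Subgroup (S : Subgroup G)) ≤ p := by
      obtain ⟨j, hj, hjc⟩ := (Nat.dvd_prime_pow Fact.out).1
        (hEc ▸ card_dvd_of_le (inf_le_left : E ⊓ T ≤ E))
      rw [hjc]
      rcases (show j = 2 ∨ j ≤ 1 by omega) with rfl | h
      · exact absurd (le_trans (eq_of_le_of_card_ge inf_le_left (by rw [hjc, hEc])).ge inf_le_right) hET
      · exact le_trans (Nat.pow_le_pow_right (Fact.out : p.Prime).pos h) (pow_one p).le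
    have heq := eq_of_le_of_card_ge hZET (hZc.symm ▸ hET2)
    have h1 : (⟨y, hy⟩ : (S : Subgroup G)) ^ p ∈ center (S : Subgroup G) :=
      (closure_le _).2 (fun x hx => hx.1) (heq.ge ⟨mem_subgroupOf.mpr hyA, hyT⟩)
    exact mem_centralizer_iff.mpr fun x hx => congrArg Subtype.val (mem_center_iff.mp h1 ⟨x, hx⟩)

theorem commute_of_inf_bot {H K : Subgroup G} (hHK : H ≤ normalizer (K : Set G))
    (hKH : K ≤ normalizer (H : Set G)) (hb : H ⊓ K = ⊥) : H ≤ centralizer (K : Set G) :=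
  commutator_eq_bot_iff_le_centralizer.mp (le_bot_iff.mp (hb ▸ le_inf
    (le_normalizer_iff_commutator_le_left.mp hKH) (le_normalizer_iff_commutator_le_right.mp hHK)))

theorem centralizer_zpowers (u : G) : centralizer ((zpowers u : Subgroup G) : Set G) = centralizer ({u} : Set G) := by
  rw [zpowers_eq_closure, centralizer_closure]

/-- A subgroup of order `p` is generated by each of its nontrivial elements. -/
theorem eq_zpowers {X : Subgroup G} (hX : Nat.card X = p) {x : G} (hx : x ∈ X) (hx1 : x ≠ 1) : X = zpowers x := by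
  refine (eq_of_le_of_card_ge (zpowers_le.mpr hx) ?_).symm
  rw [hX, Nat.card_zpowers]
  have h1 : orderOf x ∣ p := hX ▸ orderOf_dvd_natCard X hx
  rcases (Nat.dvd_prime Fact.out).mp h1 with h | h
  · exact absurd (orderOf_eq_one_iff.mp h) hx1
  · exact h.ge

/-- S1419. -/
theorem nonabelian_case (hG : Cfsg.IsMinSimpleOddOrder G) (hM : IsCoatom M)
    (hE : Cfsg.IsComplIn E (Cfsg.sigmaCore M) M) (hp : p ∈ Cfsg.tau2 M)
    (hS : ∀ S : Sylow p G, ¬ IsMulCommutative (S : Subgroup G)) (hA : IsPair p A) (hAE : A ≤ E) :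
    Cfsg.tau2 M = {p} ∧
      (Nat.card ↥(A ⊓ centralizer (Cfsg.sigmaCore M : Set G)) = p ∧
        Cfsg.fittingOf M = Cfsg.sigmaCore M ⊔ (A ⊓ centralizer (Cfsg.sigmaCore M : Set G))) ∧
      ∀ X : Subgroup G, X ≤ E → Nat.card X = p → X ≠ A ⊓ centralizer (Cfsg.sigmaCore M : Set G) →
        Cfsg.sigmaCore M ⊓ centralizer (X : Set G) = ⊥ ∧ ¬ centralizer (X : Set G) ≤ M := by
  have hpp : p.Prime := Fact.out
  have hpσ := hp.2.1
  have hAM : A ≤ M := hAE.trans hE.1
  set O := Cfsg.sigmaCore M with hO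
  have hU := not_inUniqueMaximal hG hM hA hAM hpσ
  have hC := sigma_inf_centralizer hG hM hA hAM hpσ
  have hCM := centralizer_le hG hM hA hAM
  have hCE : centralizer (A : Set G) ≤ E := (le_inf hCM le_rfl).trans (centralizer_le_complement hC hE hAE)
  obtain ⟨hEA, hΩ, -⟩ := le_normalizer_pair hG hM hA hpσ hE hAE
  have hn := isNilpotent_sigmaCore hG hM hA hAM hpσ
  obtain ⟨P₀, hP₀⟩ := (hA.isPGroup.comap_subtype (K := M)).exists_le_sylow
  set P := (P₀ : Subgroup M).map M.subtype with hP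
  have hAP : A ≤ P := fun x hx => mem_map.mpr ⟨⟨x, hAM hx⟩, hP₀ (mem_comap.mpr hx), rfl⟩
  have hPM : P ≤ M := map_subtype_le _
  have hPc := sylow_commutative hG hM hpσ P₀
  have hPA : P ≤ centralizer (A : Set G) := fun x hx => mem_centralizer_iff.mpr fun a ha =>
    congrArg Subtype.val (hPc.is_comm.comm (⟨a, hAP ha⟩ : P) ⟨x, hx⟩)
  obtain ⟨S, hPS⟩ := (P₀.2.map M.subtype : IsPGroup p P).exists_le_sylow
  have hAS : A ≤ (S : Subgroup G) := hAP.trans hPS
  have hPmax : ∀ R : Subgroup G, IsPGroup p R → R ≤ M → P ≤ R → R = P := by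
    intro R hR hRM hle
    have h1 : R.comap M.subtype = (P₀ : Subgroup M) := P₀.3 hR.comap_subtype fun x hx =>
      hle (mem_map.mpr ⟨x, hx, rfl⟩)
    rw [hP, ← h1]
    exact (map_subgroupOf_eq_of_le hRM).symm
  have hPne : P ≠ (S : Subgroup G) := fun e => hS S (e ▸ hPc)
  set T := (S : Subgroup G) ⊓ normalizer (A : Set G) with hT
  have hPT : P ≤ T := le_inf hPS (hPA.trans (centralizer_le_normalizer _))
  have hTp : IsPGroup p T := S.2.to_le inf_le_left
  obtain ⟨g, hgT, hgP⟩ : ∃ g ∈ T, g ∉ P := by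
    obtain ⟨g, hg, hgP⟩ := SetLike.exists_of_lt (Transfer.lt_inf_normalizer S.2 (lt_of_le_of_ne hPS hPne))
    refine ⟨g, ⟨hg.1, Transfer.map_conj_eq_self_iff.mp (eq_of_le_of_card_ge ?_ (Transfer.card_map_conj g A).ge)⟩, hgP⟩
    rintro _ ⟨a, ha, rfl⟩
    exact (((sylow_abelian hG hM hA hAM hpσ P₀).2 hAP) _ ((mem_normalizer_iff.mp hg.2 a).mp (hAP ha))).mp
      (by rw [conj_pow, hA.1.2 a ha]; group)
  have hTM : ∀ x ∈ T, x ∈ M → x ∈ P := fun x hx hxM =>
    (hPmax (T ⊓ M) (hTp.to_le inf_le_left) inf_le_right (le_inf hPT hPM)).le ⟨hx, hxM⟩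
  have hgM : g ∉ M := fun h => hgP (hTM g hgT h)
  -- lines with fixed points on `O`
  have hone : ∀ a ∈ A, a ≠ 1 → O ⊓ centralizer ({a} : Set G) ≠ ⊥ → centralizer ({a} : Set G) ≤ M ∧
      ∀ L : Subgroup G, IsCoatom L → centralizer ({a} : Set G) ≤ L → L = M := by
    intro a ha ha1 hne
    have h := centralizer_line_unique hG hM hA hAM hpσ (X := zpowers a) (zpowers_le.mpr ha)
      (fun e => ha1 (zpowers_eq_bot.mp e)) (by rwa [centralizer_zpowers])
    rwa [centralizer_zpowers] at h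
  have hmove : ∀ x ∈ T, ∀ a ∈ A, a ≠ 1 → O ⊓ centralizer ({a} : Set G) ≠ ⊥ →
      O ⊓ centralizer ({x * a * x⁻¹} : Set G) ≠ ⊥ → x ∈ P := by
    intro x hx a ha ha1 h1 h2
    refine hTM x hx (NonSigma.mem_normalizer_self hG hM (ProperPLength.maximal_ne_bot hG hM)
      ((hone _ ((mem_normalizer_iff.mp hx.2 a).mp ha) (fun e => ha1 (conj_eq_one_iff.mp e)) h2).2 _
        (((MulAut.conj x).mapSubgroup).isCoatom_iff M |>.mpr hM) ?_))
    intro c hc
    refine ⟨x⁻¹ * c * x, (hone a ha ha1 h1).1 (mem_centralizer_singleton_iff.mpr ?_), ?_⟩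
    · have h3 := mem_centralizer_singleton_iff.mp hc
      calc x⁻¹ * c * x * a = x⁻¹ * (c * (x * a * x⁻¹)) * x := by group
        _ = x⁻¹ * ((x * a * x⁻¹) * c) * x := by rw [h3]
        _ = a * (x⁻¹ * c * x) := by group
    · show x * (x⁻¹ * c * x) * x⁻¹ = c
      group
  -- the central line
  set Z := A ⊓ centralizer ((S : Subgroup G) : Set G) with hZ
  have hnTA : ¬ T ≤ centralizer (A : Set G) := fun h => hgM (hCM (h hgT))
  have hfpfZ : ∀ a ∈ A, a ≠ 1 → a ∈ centralizer (T : Set G) → O ⊓ centralizer ({a} : Set G) = ⊥ := by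
    intro a ha ha1 hc
    by_contra hne
    have e : g * a * g⁻¹ = a := by rw [mem_centralizer_iff.mp hc g hgT, mul_inv_cancel_right]
    exact hgP (hmove g hgT a ha ha1 hne (by rwa [e]))
  have hOb : O ≠ ⊥ := sigmaCore_ne_bot hG hM
  have hgen : ∀ (t : ℕ) [Fact t.Prime], t ∈ Cfsg.sigma M → ∀ Y : Subgroup G,
      (∀ a ∈ A, a ≠ 1 → O ⊓ centralizer ({a} : Set G) ≤ Y) →
        ∃ R : Sylow t G, (R : Subgroup G) ≤ O ∧ (R : Subgroup G) ≤ Y := by
    intro t _ ht Y hY
    obtain ⟨R, hRO, -, hAR, -, -⟩ := exists_sylow_normalized hG hM hA hAM hpσ ht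
    exact ⟨R, hRO, hA.le_of_centralizers (fun e : t = p => hpσ (e ▸ ht)) R.2 hAR fun a ha ha1 =>
      (inf_le_inf_right _ hRO).trans (hY a ha ha1)⟩
  have hOgen : ∀ Y : Subgroup G, (∀ a ∈ A, a ≠ 1 → O ⊓ centralizer ({a} : Set G) ≤ Y) → O ≤ Y := by
    intro Y hY
    rw [← subgroupOf_eq_top]
    refine CfsgLib.Core.eq_top_of_forall_exists_sylow_le _ fun t ht htd => ?_
    have := Fact.mk ht
    obtain ⟨R, hRO, hRY⟩ := hgen t (mem_sigma_of_dvd ht htd hG hM) Y hY
    exact ⟨R.subtype hRO, fun x hx => hRY hx⟩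
  obtain ⟨a, ha, ha1, hfa⟩ : ∃ a ∈ A, a ≠ 1 ∧ O ⊓ centralizer ({a} : Set G) ≠ ⊥ := by
    by_contra h
    push Not at h
    exact hOb (le_bot_iff.mp (hOgen ⊥ fun a ha ha1 => (h a ha ha1).le))
  have haT : a ∉ centralizer (T : Set G) := fun h => hfa (hfpfZ a ha ha1 h)
  have hline : ∀ b ∈ A, b ≠ 1 → O ⊓ centralizer ({b} : Set G) ≠ ⊥ → zpowers b = zpowers a := by
    intro b hb hb1 hfb
    obtain ⟨x, hx, hxe⟩ := exists_conj_line hTp hA (le_inf hAS le_normalizer) inf_le_right hnTA ha haT hb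
      fun h => hfb (hfpfZ b hb hb1 h)
    have hfx : O ⊓ centralizer ({x * a * x⁻¹} : Set G) ≠ ⊥ := by
      rwa [← centralizer_zpowers, ← hxe, centralizer_zpowers]
    have hxP := hmove x hx a ha ha1 hfa hfx
    rw [hxe, ← mem_centralizer_iff.mp (hPA hxP) a ha, mul_inv_cancel_right]
  set A₀ := A ⊓ centralizer (O : Set G) with hA₀
  have haO : a ∈ centralizer (O : Set G) := by
    have hle : O ≤ centralizer ({a} : Set G) := hOgen _ fun b hb hb1 => by
      by_cases hfb : O ⊓ centralizer ({b} : Set G) = ⊥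
      · rw [hfb]; exact bot_le
      · rw [← centralizer_zpowers b, hline b hb hb1 hfb, centralizer_zpowers]
        exact inf_le_right
    exact mem_centralizer_iff.mpr fun y hy => mem_centralizer_singleton_iff.mp (hle hy)
  have hnA₀ : ¬ A ≤ centralizer (O : Set G) := fun h =>
    hOb (le_bot_iff.mp (hC ▸ le_inf le_rfl (le_centralizer_iff.mp h)))
  have hA₀c : Nat.card A₀ = p := by
    obtain ⟨j, hj, hjc⟩ := (Nat.dvd_prime_pow hpp).1 (hA.2 ▸ card_dvd_of_le (inf_le_left : A₀ ≤ A))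
    have hj2 : j ≠ 2 := fun h => hnA₀
      ((eq_of_le_of_card_ge inf_le_left (by rw [hjc, h, hA.2])).ge.trans inf_le_right)
    have hj0 : j ≠ 0 := fun h => ha1 (mem_bot.mp (eq_bot_of_card_eq A₀ (by rw [hjc, h, pow_zero]) ▸ ⟨ha, haO⟩))
    rw [hjc, show j = 1 by omega, pow_one]
  have hA₀a : A₀ = zpowers a := eq_zpowers hA₀c ⟨ha, haO⟩ ha1
  have hXfacts : ∀ X : Subgroup G, X ≤ E → Nat.card X = p → X ≠ A₀ →
      O ⊓ centralizer (X : Set G) = ⊥ ∧ ¬ centralizer (X : Set G) ≤ M := by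
    intro X hXE hXc hne
    have hXA : X ≤ A := fun x hx => hΩ x (hXE hx) (orderOf_dvd_iff_pow_eq_one.mp (hXc ▸ X.orderOf_dvd_natCard hx))
    obtain ⟨b, hbX, hb1⟩ := X.ne_bot_iff_exists_ne_one.mp (fun e => by
      rw [e, card_bot] at hXc; exact hpp.ne_one hXc.symm) |> fun ⟨x, hx⟩ =>
      (⟨(x : G), x.2, fun e => hx (Subtype.ext e)⟩ : ∃ b ∈ X, b ≠ 1)
    have hXb := eq_zpowers hXc hbX hb1
    have hb := hXA hbX
    have hfb : O ⊓ centralizer ({b} : Set G) = ⊥ := by
      by_contra h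
      exact hne (by rw [hXb, hA₀a, hline b hb hb1 h])
    refine ⟨by rw [hXb, centralizer_zpowers, hfb], ?_⟩
    rw [hXb, centralizer_zpowers]
    intro hle
    by_cases hbT : b ∈ centralizer (T : Set G)
    · exact hgM (hle (mem_centralizer_singleton_iff.mpr (mem_centralizer_iff.mp hbT g hgT)))
    obtain ⟨x, hx, hxe⟩ := exists_conj_line hTp hA (le_inf hAS le_normalizer) inf_le_right hnTA ha haT hb hbT
    have hxM : x ∉ M := fun h => by
      rw [← mem_centralizer_iff.mp (hPA (hTM x hx h)) a ha, mul_inv_cancel_right] at hxe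
      exact hne (by rw [hXb, hA₀a, hxe])
    set H := M.map (MulAut.conj x⁻¹).toMonoidHom with hH
    have hHM : H ≠ M := fun e => hxM (by
      simpa using inv_mem (NonSigma.mem_normalizer_self hG hM (ProperPLength.maximal_ne_bot hG hM) e))
    have hAH : A ≤ H := fun c hc =>
      ⟨x * c * x⁻¹, hAM ((mem_normalizer_iff.mp hx.2 c).mp hc), by
        show x⁻¹ * (x * c * x⁻¹) * x⁻¹⁻¹ = c
        group⟩
    refine hOb (le_bot_iff.mp ((le_inf le_rfl ?_).trans
      (sigmaCore_inf_eq_bot hG hM hA hAM hpσ (((MulAut.conj x⁻¹).mapSubgroup).isCoatom_iff M |>.mpr hM)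
        hHM hAH).le))
    intro y hy
    refine ⟨x * y * x⁻¹, hle ?_, ?_⟩
    · rw [← centralizer_zpowers, hxe, centralizer_zpowers]
      refine mem_centralizer_singleton_iff.mpr ?_
      have h3 : y * a = a * y := mem_centralizer_iff.mp haO y hy
      calc x * y * x⁻¹ * (x * a * x⁻¹) = x * (y * a) * x⁻¹ := by group
        _ = x * (a * y) * x⁻¹ := by rw [h3]
        _ = x * a * x⁻¹ * (x * y * x⁻¹) := by group
    · show x⁻¹ * (x * y * x⁻¹) * x⁻¹⁻¹ = y
      group
  -- `τ₂(M) = {p}`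
  have hτ : Cfsg.tau2 M = {p} := by
    refine Set.eq_singleton_iff_unique_mem.mpr ⟨hp, fun q hq => ?_⟩
    by_contra hne
    have := Fact.mk hq.1
    obtain ⟨B, hB, hBE⟩ := exists_pair_complement hG hM hE hq
    obtain ⟨hEB, hΩB, -⟩ := le_normalizer_pair hG hM hB hq.2.1 hE hBE
    have hBA : B ≤ centralizer (A : Set G) :=
      commute_of_inf_bot (hBE.trans hEA) (hAE.trans hEB) (inf_eq_bot_pGroups hne hB.isPGroup hA.isPGroup)
    have hgB : zpowers g ≤ normalizer (B : Set G) := by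
      refine zpowers_le.mpr (Transfer.map_conj_eq_self_iff.mp (eq_of_le_of_card_ge ?_ (Transfer.card_map_conj g B).ge))
      rintro _ ⟨b, hb, rfl⟩
      have hbC : g * b * g⁻¹ ∈ centralizer (A : Set G) := mem_centralizer_iff.mpr fun c hc => by
        have h1 := mem_centralizer_iff.mp (hBA hb) _ ((mem_normalizer_iff''.mp hgT.2 c).mp hc)
        calc c * (g * b * g⁻¹) = g * ((g⁻¹ * c * g) * b) * g⁻¹ := by group
          _ = g * (b * (g⁻¹ * c * g)) * g⁻¹ := by rw [h1]
          _ = g * b * g⁻¹ * c := by group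
      exact hΩB _ (hCE hbC) (by rw [← map_pow, hB.1.2 b hb, map_one])
    have hAT : A ≤ T := le_inf hAS le_normalizer
    -- the centre of `S` meets `A`
    obtain ⟨z, hzA, hz1, hzS⟩ : ∃ z ∈ A, z ≠ 1 ∧ z ∈ centralizer ((S : Subgroup G) : Set G) := by
      have hSb : (S : Subgroup G) ≠ ⊥ := fun e => hA.ne_bot (le_bot_iff.mp (e ▸ hAS))
      have : Nontrivial (S : Subgroup G) := (nontrivial_iff_ne_bot _).mpr hSb
      obtain ⟨j, hj⟩ := IsPGroup.iff_card.mp (S.2.to_subgroup (center (S : Subgroup G)))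
      have hj0 : j ≠ 0 := by
        rintro rfl
        have h1 : 1 < Nat.card (center (S : Subgroup G)) := by
          have := S.2.center_nontrivial
          exact Finite.one_lt_card
        rw [hj, pow_zero] at h1
        omega
      obtain ⟨z, hz⟩ := exists_prime_orderOf_dvd_card' p ((dvd_pow_self p hj0).trans hj.symm.dvd)
      have hzS : ((z : (S : Subgroup G)) : G) ∈ centralizer ((S : Subgroup G) : Set G) :=
        mem_centralizer_iff.mpr fun x hx => congrArg Subtype.val (mem_center_iff.mp z.2 ⟨x, hx⟩)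
      refine ⟨_, hA.mem_of_centralizes hG hU (Subgroup.centralizer_le hAS hzS)
        (orderOf_dvd_iff_pow_eq_one.mp (by rw [orderOf_coe, orderOf_coe, hz])), fun e => ?_, hzS⟩
      have h2 := congrArg orderOf e
      rw [orderOf_one, orderOf_coe, orderOf_coe, hz] at h2
      exact hpp.ne_one h2
    obtain ⟨H, hH, hle⟩ := (eq_top_or_exists_le_coatom _).resolve_left
      (TransitivityHyp.centralizer_singleton_ne_top hG hz1)
    have hSH : (S : Subgroup G) ≤ H := le_trans (fun x hx => mem_centralizer_singleton_iff.mpr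
      (mem_centralizer_iff.mp hzS x hx)) hle
    have hpH : p ∈ Cfsg.sigma H := by
      by_contra hpH
      obtain ⟨R, hR⟩ := (S.2.comap_subtype (K := H)).exists_le_sylow
      have hc := sylow_commutative hG hH hpH R
      have hle' : (S : Subgroup G) ≤ (R : Subgroup H).map H.subtype := fun x hx =>
        mem_map.mpr ⟨⟨x, hSH hx⟩, hR (mem_comap.mpr hx), rfl⟩
      refine hS S ⟨⟨fun u v => Subtype.ext ?_⟩⟩
      exact congrArg (fun w : (R : Subgroup H).map H.subtype => (w : G))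
        (hc.is_comm.comm (⟨(u : G), hle' u.2⟩ : (R : Subgroup H).map H.subtype) ⟨v, hle' v.2⟩)
    have hgp : IsPGroup p (zpowers g) := hTp.to_le (zpowers_le.mpr hgT)
    have hgH : zpowers g ≤ H := (zpowers_le.mpr hgT.1 : zpowers g ≤ (S : Subgroup G)).trans hSH
    have h1 := centralizes_of_derived hG hH (q := q) hne
      (hB.not_beta hG (not_inUniqueMaximal hG hM hB (hBE.trans hE.1) hq.2.1) H) hgp
      (le_derived_of_sigma hG hH hpH hgp hgH) hB.isPGroup
      ((hBA.trans (hA.centralizer_le hzA)).trans hle) hgB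
    exact hgM (centralizer_le hG hM hB (hBE.trans hE.1) (h1 (mem_zpowers g)))
  refine ⟨hτ, ⟨hA₀c, ?_⟩, hXfacts⟩
  -- the Fitting subgroup
  have hEO : E ≤ normalizer (O : Set G) := hE.1.trans (le_normalizer_sigmaCore M)
  have hMA₀ : M ≤ normalizer (A₀ : Set G) := by
    intro m hm
    obtain ⟨e, he, s, hs, rfl⟩ := hE.2.2.2 m hm
    refine mul_mem (Transfer.map_conj_eq_self_iff.mp ?_) (centralizer_le_normalizer _
      (mem_centralizer_iff.mpr fun c hc => (mem_centralizer_iff.mp hc.2 s hs).symm))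
    refine eq_of_le_of_card_ge ?_ (Transfer.card_map_conj e A₀).ge
    rintro _ ⟨c, hc, rfl⟩
    refine ⟨(mem_normalizer_iff.mp (hEA he) c).mp hc.1, mem_centralizer_iff.mpr fun y hy => ?_⟩
    have h1 := mem_centralizer_iff.mp hc.2 _ ((mem_normalizer_iff''.mp (hEO he) y).mp hy)
    show y * (e * c * e⁻¹) = e * c * e⁻¹ * y
    calc y * (e * c * e⁻¹) = e * ((e⁻¹ * y * e) * c) * e⁻¹ := by group
      _ = e * (c * (e⁻¹ * y * e)) * e⁻¹ := by rw [h1]
      _ = e * c * e⁻¹ * y := by group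
  refine le_antisymm ?_ (sup_le ?_ ?_)
  · rw [Cfsg.fittingOf, Core.fittingSubgroup_eq_iSup_pCore, Subgroup.map_iSup]
    refine iSup_le fun ⟨t, ht⟩ => ?_
    have := Fact.mk ht
    set X := (Cfsg.pCore t ↥M).map M.subtype with hX
    have hMX : M ≤ normalizer (X : Set G) := fun m hm =>
      le_normalizer_map M.subtype ⟨⟨m, hm⟩, Core.le_normalizer_of_normal ⊤ (Cfsg.pCore t ↥M) (mem_top _), rfl⟩
    have hXt : IsPGroup t X := (Core.isPGroup_pCore t _).map _
    have hXM : X ≤ M := map_subtype_le _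
    by_cases htσ : t ∈ Cfsg.sigma M
    · exact (le_sigmaCore hG hM htσ hXt hXM).trans le_sup_left
    by_cases hXb : X = ⊥
    · rw [hXb]; exact bot_le
    have hXO : X ≤ centralizer (O : Set G) := by
      refine commute_of_inf_bot (hXM.trans (le_normalizer_sigmaCore M)) ((sigmaCore_le M).trans hMX) ?_
      exact Subgroup.inf_eq_bot_of_coprime (coprime_sigmaCore hG hM htσ hXt)
    have hXE : X ≤ E := by
      obtain ⟨R⟩ : Nonempty (Sylow t E) := inferInstance
      obtain ⟨R', hR'⟩ := complement_sylow hG hM hE htσ R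
      have h1 : Cfsg.pCore t ↥M ≤ (R' : Subgroup ↥M) := Core.pCore_le_sylow R'
      exact (map_mono h1).trans (hR'.le.trans (map_subtype_le _))
    by_cases htp : t = p
    · subst htp
      refine le_trans (fun x hx => ?_) le_sup_right
      have hordA : ∀ y ∈ X, y ^ t = 1 → y ∈ A₀ := fun y hy hyp => ⟨hΩ y (hXE hy) hyp, hXO hy⟩
      obtain ⟨k, hk⟩ := IsPGroup.iff_orderOf.1 hXt ⟨x, hx⟩
      rw [orderOf_mk] at hk
      by_cases hk1 : k ≤ 1
      · exact hordA x hx (orderOf_dvd_iff_pow_eq_one.mp (hk ▸ (pow_dvd_pow t hk1).trans (pow_one t).dvd))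
      exfalso
      set y := x ^ t ^ (k - 2) with hy
      have hyX : y ∈ X := pow_mem hx _
      have hyP : y ∈ (S : Subgroup G) := by
        have h1 : Cfsg.pCore t ↥M ≤ (P₀ : Subgroup ↥M) := Core.pCore_le_sylow P₀
        exact hPS (map_mono h1 hyX)
      have hyo : orderOf y = t ^ 2 := by
        rw [hy, orderOf_pow, hk, Nat.gcd_eq_right (pow_dvd_pow t (Nat.sub_le k 2)),
          Nat.pow_div (Nat.sub_le k 2) ht.pos]
        congr 1
        omega
      have hyA : y ^ t ∈ A₀ := hordA _ (pow_mem hyX t) (by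
        rw [← pow_mul, ← sq, ← hyo]; exact pow_orderOf_eq_one y)
      have hy1 : y ^ t ≠ 1 := fun e => by
        have h2 := orderOf_dvd_of_pow_eq_one e
        rw [hyo, sq] at h2
        exact absurd (Nat.le_of_dvd ht.pos h2) (not_le.mpr (lt_mul_of_one_lt_left ht.pos ht.one_lt))
      have hc := pow_mem_central hG hA hU S hAS hyP hyA.1 (hS S)
      refine hfa ?_
      rw [← centralizer_zpowers, ← hA₀a, eq_zpowers hA₀c hyA hy1, centralizer_zpowers]
      exact hfpfZ _ hyA.1 hy1 (Subgroup.centralizer_le inf_le_left hc)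
    · exfalso
      have hXA : X ≤ centralizer (A : Set G) :=
        le_centralizer_iff.mp (centralizes_normal hG hM hA hpσ hE hAE htp hXt hXE (hE.1.trans hMX))
      have hτt : t ∉ Cfsg.tau2 M := fun h => htp (Set.mem_singleton_iff.mp (hτ ▸ h))
      obtain ⟨k, hk⟩ := IsPGroup.iff_card.mp hXt
      have hk0 : k ≠ 0 := by
        rintro rfl
        exact hXb (eq_bot_of_card_eq X (hk.trans (pow_zero t)))
      have htM : t ∣ Nat.card M := ((dvd_pow_self t hk0).trans hk.symm.dvd).trans (card_dvd_of_le hXM)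
      have hr1 : Cfsg.PRankLE t 1 M := by
        by_contra h
        exact hτt ⟨ht, htσ, not_not.mp fun h2 => htσ (SigmaTrans.alpha_subset_sigma hG hM ⟨ht, h2⟩), h⟩
      obtain ⟨x₀, hx₀⟩ := exists_prime_orderOf_dvd_card' t ((dvd_pow_self t hk0).trans hk.symm.dvd)
      set X₁ := zpowers (x₀ : G) with hX₁
      have hX₁X : X₁ ≤ X := zpowers_le.mpr x₀.2
      have hX₁c : Nat.card X₁ = t := by rw [hX₁, Nat.card_zpowers, orderOf_coe, hx₀]
      have huniq : ∀ Y : Subgroup G, Nat.card Y = t → Y ≤ M → X ≤ normalizer (Y : Set G) ∨ Y ≤ normalizer (X : Set G) →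
          Y = X₁ := by
        intro Y hYc hYM _
        have hYt : IsPGroup t Y := IsPGroup.of_card (n := 1) (by rw [hYc, pow_one])
        have hsup : IsPGroup t ↥(X ⊔ Y) := by
          have hd := Core.card_sup_dvd Y X (hYM.trans hMX)
          rw [hk, hYc, ← pow_succ', sup_comm] at hd
          obtain ⟨j, -, hj⟩ := (Nat.dvd_prime_pow ht).mp hd
          exact IsPGroup.of_card hj
        have hcyc := sylow_cyclic_of_rank_one hG hr1 hsup (sup_le hXM hYM)
        have hX₁s : X₁ ≤ X ⊔ Y := hX₁X.trans le_sup_left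
        have he : Y.subgroupOf (X ⊔ Y) = X₁.subgroupOf (X ⊔ Y) := by
          refine NonSigma.eq_of_card_prime (p := t) hcyc ?_ ?_
          · rw [Nat.card_congr (subgroupOfEquivOfLe le_sup_right).toEquiv, hYc]
          · rw [Nat.card_congr (subgroupOfEquivOfLe hX₁s).toEquiv, hX₁c]
        rw [← map_subgroupOf_eq_of_le (le_sup_right : Y ≤ X ⊔ Y), he, map_subgroupOf_eq_of_le hX₁s]
      have hMX₁ : M ≤ normalizer (X₁ : Set G) := fun m hm => Transfer.map_conj_eq_self_iff.mp
        (huniq _ (by rw [Transfer.card_map_conj, hX₁c]) (by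
          rintro _ ⟨c, hc, rfl⟩
          exact mul_mem (mul_mem hm ((hX₁X.trans hXM) hc)) (inv_mem hm)) (Or.inr ((by
          rintro _ ⟨c, hc, rfl⟩
          exact hMX (mul_mem (mul_mem hm ((hX₁X.trans hXM) hc)) (inv_mem hm))))))
      have hX₁b : X₁ ≠ ⊥ := fun e => by rw [e, card_bot] at hX₁c; exact ht.ne_one hX₁c.symm
      have hgX₁ : g ∈ normalizer (X₁ : Set G) := by
        have hle : X₁.map (MulAut.conj g).toMonoidHom ≤ centralizer (A : Set G) := by
          rintro _ ⟨c, hc, rfl⟩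
          refine mem_centralizer_iff.mpr fun d hd => ?_
          have h1 := mem_centralizer_iff.mp (hXA (hX₁X hc)) _ ((mem_normalizer_iff''.mp hgT.2 d).mp hd)
          show d * (g * c * g⁻¹) = g * c * g⁻¹ * d
          calc d * (g * c * g⁻¹) = g * ((g⁻¹ * d * g) * c) * g⁻¹ := by group
            _ = g * (c * (g⁻¹ * d * g)) * g⁻¹ := by rw [h1]
            _ = g * c * g⁻¹ * d := by group
        exact Transfer.map_conj_eq_self_iff.mp (huniq _ (by rw [Transfer.card_map_conj, hX₁c]) (hle.trans hCM)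
          (Or.inr ((hle.trans hCM).trans hMX)))
      rcases hMX₁.lt_or_eq with h | h
      · exact TransitivityHyp.normalizer_ne_top hG hX₁b (Uniqueness.ne_top_of_pGroup hG (hXt.to_le hX₁X)) (hM.2 _ h)
      · exact hgM (h.ge hgX₁)
  · rw [Cfsg.fittingOf, show O = (Cfsg.piCore (Cfsg.sigma M) ↥M).map M.subtype from rfl]
    refine map_mono (Core.le_fittingSubgroup ?_)
    have : Group.IsNilpotent ↥((Cfsg.piCore (Cfsg.sigma M) ↥M).map M.subtype) := hn
    exact Group.nilpotent_of_mulEquiv ((Cfsg.piCore (Cfsg.sigma M) ↥M).equivMapOfInjective M.subtype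
      M.subtype_injective).symm
  · rw [Cfsg.fittingOf]
    have := normal_subgroupOf_of_le_normalizer hMA₀
    refine (map_subgroupOf_eq_of_le (inf_le_left.trans hAM : A₀ ≤ M)).ge.trans
      (map_mono (Core.le_fittingSubgroup ?_))
    have := (hA.isPGroup.to_le (inf_le_left : A₀ ≤ A)).comap_subtype (K := M)
    exact this.isNilpotent

end CfsgLib.TwoGroups.TauTwo
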