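import Mathlib
import Cfsg.Prelude.Def_OddOrderLocal
import Cfsg.Agent.Lib.Core.Basic
import Cfsg.Agent.Lib.OddLocal.Basic
import Cfsg.Agent.Lib.PGroups.SmallOrder
import Cfsg.Agent.Lib.TwoGroups.TauTwoCase

/-!
Owner: helper12. Fixed point free action on a section of order `p` or on `P/Z` for `|P| = p³`.
-/

set_option autoImplicit false
set_option linter.unusedSectionVars false

namespace CfsgLib.TwoGroups.FpfSection

open Subgroup
open scoped Pointwise

variable {G : Type*} [Group G] [Finite G] {p : ℕ} [Fact p.Prime] {Z L P K : Subgroup G}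

/-- Iterating `a ↦ a * z` with `z` fixed. -/
theorem conj_pow_fixed {k a z : G} (hz : k * z * k⁻¹ = z) (h : k * a * k⁻¹ = a * z) :
    ∀ n : ℕ, k ^ n * a * (k ^ n)⁻¹ = a * z ^ n := by
  intro n
  induction n with
  | zero => simp
  | succ n ih =>
    have hn : k * z ^ n * k⁻¹ = z ^ n := by
      have : MulAut.conj k (z ^ n) = (MulAut.conj k z) ^ n := map_pow _ _ _
      simpa [MulAut.conj_apply, hz] using this
    calc k ^ (n + 1) * a * (k ^ (n + 1))⁻¹ = k * (k ^ n * a * (k ^ n)⁻¹) * k⁻¹ := by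
          rw [pow_succ']; group
      _ = k * (a * z ^ n) * k⁻¹ := by rw [ih]
      _ = (k * a * k⁻¹) * (k * z ^ n * k⁻¹) := by group
      _ = a * z * z ^ n := by rw [h, hn]
      _ = a * z ^ (n + 1) := by rw [pow_succ', mul_assoc]

/-- An element of `p'`-order moving `a` by a fixed `p`-element fixes `a`. -/
theorem commute_of_moves {k a z : G} {m : ℕ} (hz : k * z * k⁻¹ = z) (h : k * a * k⁻¹ = a * z)
    (hk : ¬ p ∣ orderOf k) (hzp : z ^ (p ^ m) = 1) : k * a = a * k := by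
  have h1 := conj_pow_fixed hz h (orderOf k)
  rw [pow_orderOf_eq_one, one_mul, inv_one, mul_one, eq_comm, mul_eq_left] at h1
  have hz1 : z = 1 := OddLocal.eq_one_of_pow_eq_one_coprime h1 hzp
    (Nat.Coprime.pow_right m (((Fact.out : p.Prime).coprime_iff_not_dvd.mpr hk).symm))
  rw [hz1, mul_one, mul_inv_eq_iff_eq_mul] at h
  exact h

theorem pow_modEq {b : G} {i j : ℕ} (h : i ≡ j [MOD p]) {Q : Subgroup G} (hb : b ^ p ∈ Q) :
    ∃ q ∈ Q, b ^ i = b ^ j * q := by
  refine ⟨(b ^ j)⁻¹ * b ^ i, ?_, by group⟩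
  obtain ⟨t, ht⟩ := (Nat.modEq_iff_dvd.mp h.symm : (p : ℤ) ∣ (i : ℤ) - j)
  have : (b ^ j)⁻¹ * b ^ i = (b ^ p) ^ t := by
    rw [← zpow_natCast b p, ← zpow_mul, ← ht, ← zpow_natCast b i, ← zpow_natCast b j, ← zpow_neg, ← zpow_add]
    congr 1
    ring
  rw [this]
  exact zpow_mem hb t

theorem pow_card_sub_one_modEq {j : ℕ} (hj : ¬ p ∣ j) : j ^ (p - 1) ≡ 1 [MOD p] := by
  have := Nat.ModEq.pow_totient (x := j) (n := p) ((Fact.out : p.Prime).coprime_iff_not_dvd.mpr hj).symm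
  rwa [Nat.totient_prime Fact.out] at this

/-- A cyclic `p'`-group acting fixed point freely on a section of order `p` has order dividing `p - 1`. -/
theorem dvd_sub_one (hKc : IsCyclic K) (hcop : ¬ p ∣ Nat.card K) (hZ : Z ≤ centralizer (K : Set G))
    (hZL : Z ≤ L) (hLn : L ≤ normalizer (Z : Set G)) (hcard : Nat.card L = p * Nat.card Z) (hZp : IsPGroup p Z)
    (hKL : K ≤ normalizer (L : Set G)) (hfix : ∀ k ∈ K, k ≠ 1 → ∀ l ∈ L, k * l = l * k → l ∈ Z) :
    Nat.card K ∣ p - 1 := by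
  have hp := (Fact.out : p.Prime)
  obtain ⟨⟨k, hkK⟩, hk⟩ := hKc.exists_generator
  have hK : K = zpowers k := by
    refine le_antisymm (fun x hx => ?_) (zpowers_le.mpr hkK)
    obtain ⟨n, hn⟩ := mem_zpowers_iff.mp (hk ⟨x, hx⟩)
    exact mem_zpowers_iff.mpr ⟨n, congrArg Subtype.val hn⟩
  rw [hK, Nat.card_zpowers] at hcop ⊢
  obtain ⟨l, hlL, hlZ⟩ : ∃ l ∈ L, l ∉ Z := SetLike.not_le_iff_exists.mp fun h => by
    have := Nat.le_of_dvd Nat.card_pos (card_dvd_of_le h)
    rw [hcard] at this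
    nlinarith [hp.two_le, Nat.card_pos (α := Z)]
  set N := Z.subgroupOf L with hN
  have : N.Normal := (normal_subgroupOf_iff_le_normalizer hZL).mpr hLn
  have hidx : N.index = p := by
    apply Nat.eq_of_mul_eq_mul_left (Nat.card_pos (α := N))
    rw [card_mul_index, hcard, Nat.card_congr (subgroupOfEquivOfLe hZL).toEquiv, mul_comm]
  have hpow : ∀ a : L, (a : G) ^ p ∈ Z := fun a => by
    have := pow_index_mem N a
    rw [hidx] at this
    exact this
  have hgen : ∀ a ∈ L, ∃ i : ℕ, ∃ z ∈ Z, a = l ^ i * z := fun a ha => by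
    set π := QuotientGroup.mk' N
    have hne : π ⟨l, hlL⟩ ≠ 1 := fun e => hlZ ((QuotientGroup.eq_one_iff (N := N) _).mp e)
    have hq : Nat.card (L ⧸ N) = p := hidx
    obtain ⟨i, hi⟩ := (Submonoid.mem_powers_iff _ _).mp
      (mem_powers_of_prime_card (g' := π ⟨a, ha⟩) hq hne)
    have h1 : ((⟨l, hlL⟩ : L) ^ i)⁻¹ * ⟨a, ha⟩ ∈ N := by
      rw [← QuotientGroup.eq_one_iff, ← QuotientGroup.mk'_apply, map_mul, map_inv, map_pow]
      exact inv_mul_eq_one.mpr hi
    exact ⟨i, (l ^ i)⁻¹ * a, h1, by group⟩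
  obtain ⟨j, z₀, hz₀, hj⟩ := hgen (k * l * k⁻¹) ((mem_normalizer_iff.mp (hKL hkK) l).mp hlL)
  have hfz : ∀ w ∈ K, ∀ z ∈ Z, w * z * w⁻¹ = z := fun w hw z hz => by
    rw [mem_centralizer_iff.mp (hZ hz) w hw, mul_inv_cancel_right]
  have hjp : ¬ p ∣ j := fun ⟨t, ht⟩ => hlZ (by
    have h1 : k * l * k⁻¹ ∈ Z := by
      rw [hj, ht, pow_mul]; exact mul_mem (pow_mem (hpow ⟨l, hlL⟩) t) hz₀
    have h2 : l = k⁻¹ * (k * l * k⁻¹) * k⁻¹⁻¹ := by group
    rw [h2, hfz _ (inv_mem hkK) _ h1]; exact h1)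
  have hiter : ∀ n : ℕ, ∃ z ∈ Z, k ^ n * l * (k ^ n)⁻¹ = l ^ (j ^ n) * z := by
    intro n
    induction n with
    | zero => exact ⟨1, one_mem _, by simp⟩
    | succ n ih =>
      obtain ⟨z, hz, e⟩ := ih
      have e1 : k ^ (n + 1) * l * (k ^ (n + 1))⁻¹ = (k * l * k⁻¹) ^ (j ^ n) * z := by
        calc k ^ (n + 1) * l * (k ^ (n + 1))⁻¹ = k * (k ^ n * l * (k ^ n)⁻¹) * k⁻¹ := by
              rw [pow_succ']; group
          _ = MulAut.conj k (l ^ (j ^ n)) * (k * z * k⁻¹) := by rw [e, MulAut.conj_apply]; group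
          _ = _ := by rw [map_pow, MulAut.conj_apply, hfz k hkK z hz]
      rw [e1, hj]
      have hmk : ((⟨l, hlL⟩ : L) ^ j * ⟨z₀, hZL hz₀⟩) ^ (j ^ n) * (((⟨l, hlL⟩ : L) ^ j) ^ (j ^ n))⁻¹ ∈ N := by
        rw [← QuotientGroup.eq_one_iff, ← QuotientGroup.mk'_apply, map_mul, map_inv, map_pow, map_pow, map_mul, map_pow,
          show QuotientGroup.mk' N ⟨z₀, hZL hz₀⟩ = 1 from (QuotientGroup.eq_one_iff _).mpr hz₀, mul_one,
          mul_inv_cancel]
      have hmk' : (l ^ j * z₀) ^ (j ^ n) * ((l ^ j) ^ (j ^ n))⁻¹ ∈ Z := hmk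
      have hLpow : (l ^ j) ^ (j ^ n) ∈ L := pow_mem (pow_mem hlL _) _
      refine ⟨((l ^ j) ^ (j ^ n))⁻¹ * ((l ^ j * z₀) ^ (j ^ n) * ((l ^ j) ^ (j ^ n))⁻¹) * (l ^ j) ^ (j ^ n) * z,
        mul_mem ((mem_normalizer_iff''.mp (hLn hLpow) _).mp hmk') hz, ?_⟩
      rw [pow_succ' j n, pow_mul]
      group
  obtain ⟨z, hz, e⟩ := hiter (p - 1)
  obtain ⟨q, hq, eq⟩ := pow_modEq (pow_card_sub_one_modEq hjp) (b := l) (hpow ⟨l, hlL⟩)
  replace e : k ^ (p - 1) * l * (k ^ (p - 1))⁻¹ = l * (q * z) := by rw [e, eq, pow_one, mul_assoc]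
  refine orderOf_dvd_of_pow_eq_one ?_
  by_contra hne
  obtain ⟨m, hm⟩ := hZp ⟨q * z, mul_mem hq hz⟩
  refine hlZ (hfix (k ^ (p - 1)) (pow_mem hkK _) hne l hlL (commute_of_moves (p := p) (m := m)
    (hfz _ (pow_mem hkK _) _ (mul_mem hq hz)) e (fun h => hcop (h.trans (orderOf_pow_dvd _))) ?_))
  exact congrArg Subtype.val hm

/-- The fixed point free case: exponents. -/
theorem exponent_dvd_sub_one {E : Subgroup G} (hcop : ¬ p ∣ Nat.card E) (hL : Nat.card L = p)
    (hEL : E ≤ normalizer (L : Set G)) (hfix : ∀ e ∈ E, e ≠ 1 → ∀ l ∈ L, e * l = l * e → l = 1) :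
    Monoid.exponent E ∣ p - 1 := by
  refine Monoid.exponent_dvd.mpr fun e => ?_
  rw [← orderOf_coe, ← Nat.card_zpowers]
  have hle : zpowers (e : G) ≤ E := zpowers_le.mpr e.2
  refine dvd_sub_one (Z := ⊥) inferInstance (fun h => hcop (h.trans (card_dvd_of_le hle))) bot_le bot_le ?_
    (by rw [card_bot, mul_one, hL]) IsPGroup.of_bot (hle.trans hEL)
    fun k hk hk1 l hl h => mem_bot.mpr (hfix k (hle hk) hk1 l hl h)
  intro x _
  rw [mem_normalizer_iff]
  intro y
  simp only [mem_bot]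
  exact ⟨fun h => by rw [h, mul_one, mul_inv_cancel], fun h => by
    rwa [mul_inv_eq_one, mul_eq_left] at h⟩

theorem conj_pow_comm {a b c : G} (h : a * b * a⁻¹ = c * b) (hca : a * c = c * a) (hcb : b * c = c * b)
    (m i : ℕ) : a ^ m * b ^ i * (a ^ m)⁻¹ = c ^ (m * i) * b ^ i := by
  have h1 : a * b ^ i * a⁻¹ = c ^ i * b ^ i := by
    have : MulAut.conj a (b ^ i) = (MulAut.conj a b) ^ i := map_pow _ _ _
    rw [MulAut.conj_apply, MulAut.conj_apply, h] at this
    rw [this, (show Commute c b from hcb.symm).mul_pow]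
  induction m with
  | zero => simp
  | succ m ih =>
    have hc : a * c ^ (m * i) * a⁻¹ = c ^ (m * i) := by
      rw [((show Commute a c from hca).pow_right _).eq, mul_inv_cancel_right]
    calc a ^ (m + 1) * b ^ i * (a ^ (m + 1))⁻¹ = a * (a ^ m * b ^ i * (a ^ m)⁻¹) * a⁻¹ := by
          rw [pow_succ']; group
      _ = a * (c ^ (m * i) * b ^ i) * a⁻¹ := by rw [ih]
      _ = (a * c ^ (m * i) * a⁻¹) * (a * b ^ i * a⁻¹) := by group
      _ = c ^ (m * i) * (c ^ i * b ^ i) := by rw [hc, h1]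
      _ = c ^ ((m + 1) * i) * b ^ i := by rw [add_mul, one_mul, pow_add, mul_assoc]

/-- A cyclic `p'`-group of odd order acting irreducibly on `P/Z`, `|P| = p³`, trivially on `Z`, has order
dividing `p + 1`. -/
theorem dvd_add_one (hKc : IsCyclic K) (hodd : Odd (Nat.card K)) (hcop : ¬ p ∣ Nat.card K)
    (hP : Nat.card P = p ^ 3) (hZ : Nat.card Z = p) (hZP : Z ≤ P) (hPn : P ≤ normalizer (Z : Set G))
    (hZc : Z ≤ centralizer (K : Set G)) (hKP : K ≤ normalizer (P : Set G))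
    (hexp : ∀ a ∈ P, a ^ p ∈ Z) (hcomm : ∀ a ∈ P, ∀ b ∈ P, a * b * a⁻¹ * b⁻¹ ∈ Z)
    (hZcen : P ≤ centralizer (Z : Set G)) (hnab : ¬ IsMulCommutative P)
    (hfix : ∀ k ∈ K, k ≠ 1 → ∀ a ∈ P, k * a = a * k → a ∈ Z)
    (hirr : ∀ L : Subgroup G, Z ≤ L → L ≤ P → Nat.card L = p ^ 2 → ¬ K ≤ normalizer (L : Set G)) :
    Nat.card K ∣ p + 1 := by
  classical
  have hp := (Fact.out : p.Prime)
  have hfz : ∀ w ∈ K, ∀ z ∈ Z, w * z * w⁻¹ = z := fun w hw z hz => by
    rw [mem_centralizer_iff.mp (hZc hz) w hw, mul_inv_cancel_right]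
  let Ω := {L : Subgroup G // Z ≤ L ∧ L ≤ P ∧ Nat.card L = p ^ 2}
  -- the lines of `P / Z`
  have hΩ : Nat.card Ω = p + 1 := by
    set N := Z.subgroupOf P with hN
    have : N.Normal := (normal_subgroupOf_iff_le_normalizer hZP).mpr hPn
    have hNcard : Nat.card N = p := by rw [Nat.card_congr (subgroupOfEquivOfLe hZP).toEquiv, hZ]
    have hQ : Nat.card (P ⧸ N) = p ^ 2 := by
      apply Nat.eq_of_mul_eq_mul_left (Nat.card_pos (α := N))
      rw [← Subgroup.index_eq_card, card_mul_index, hP, hNcard]; ring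
    rw [← PGroups.card_subgroups_card_prime hQ fun q => by
      obtain ⟨a, rfl⟩ := QuotientGroup.mk_surjective q
      rw [← QuotientGroup.mk_pow]
      exact (QuotientGroup.eq_one_iff _).mpr (hexp a a.2)]
    set π := QuotientGroup.mk' N
    have hker : ∀ {L : Subgroup G}, Z ≤ L → π.ker ≤ L.subgroupOf P := fun h x hx => by
      rw [QuotientGroup.ker_mk'] at hx
      exact h hx
    have hmapcard : ∀ {S : Subgroup P}, π.ker ≤ S → Nat.card (S.map π) * p = Nat.card S := fun {S} hS => by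
      rw [← hNcard]
      have h3 : N ≤ S := by rwa [QuotientGroup.ker_mk'] at hS
      have e : π.ker = N := QuotientGroup.ker_mk' N
      calc Nat.card (S.map π) * Nat.card N = Nat.card N * π.ker.relIndex S := by
            rw [MonoidHom.ker, ← MonoidHom.ker, Subgroup.relIndex_ker, mul_comm]
        _ = Nat.card S := by
            rw [e, ← relIndex_bot_left N, relIndex_mul_relIndex ⊥ N S bot_le h3, relIndex_bot_left]
    refine Nat.card_congr
      { toFun := fun L => ⟨(L.1.subgroupOf P).map π, ?_⟩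
        invFun := fun H => ⟨(H.1.comap π).map P.subtype, ?_, map_subtype_le _, ?_⟩
        left_inv := fun L => Subtype.ext ?_
        right_inv := fun H => Subtype.ext ?_ }
    · have h1 := hmapcard (hker L.2.1)
      have h2 : Nat.card (L.1.subgroupOf P) = p * p := by
        rw [← sq]; exact (Nat.card_congr (subgroupOfEquivOfLe L.2.2.1).toEquiv).trans L.2.2.2
      replace h1 := h1.trans h2
      exact Nat.eq_of_mul_eq_mul_right hp.pos h1
    · intro z hz
      exact ⟨⟨z, hZP hz⟩, by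
        rw [SetLike.mem_coe, mem_comap, show π ⟨z, hZP hz⟩ = 1 from (QuotientGroup.eq_one_iff _).mpr hz]
        exact one_mem _, rfl⟩
    · have h1 := hmapcard (S := H.1.comap π) (by intro x hx; rw [MonoidHom.mem_ker] at hx; rw [mem_comap, hx]; exact one_mem _)
      rw [map_comap_eq_self_of_surjective (QuotientGroup.mk'_surjective N), H.2] at h1
      rw [card_map_of_injective P.subtype_injective, ← h1, sq]
    · show ((L.1.subgroupOf P).map π |>.comap π).map P.subtype = L.1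
      rw [comap_map_eq_self (hker L.2.1), map_subgroupOf_eq_of_le L.2.2.1]
    · show ((H.1.comap π).map P.subtype |>.subgroupOf P).map π = H.1
      rw [subgroupOf, comap_map_eq_self_of_injective P.subtype_injective,
        map_comap_eq_self_of_surjective (QuotientGroup.mk'_surjective N)]
  -- the action
  have hconj : ∀ (k : G), k ∈ K → ∀ L : Ω, Z ≤ MulAut.conj k • L.1 ∧ MulAut.conj k • L.1 ≤ P ∧
      Nat.card ↥(MulAut.conj k • L.1) = p ^ 2 := by
    intro k hk L
    rw [Core.conj_smul_eq_map]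
    refine ⟨fun z hz => ⟨z, L.2.1 hz, hfz k hk z hz⟩, ?_, ?_⟩
    · rintro _ ⟨a, ha, rfl⟩
      exact (mem_normalizer_iff.mp (hKP hk) a).mp (L.2.2.1 ha)
    · rw [card_map_of_injective (MulAut.conj k).injective, L.2.2.2]
  let act : MulAction K Ω :=
    { smul := fun k L => ⟨MulAut.conj (k : G) • L.1, hconj k k.2 L⟩
      one_smul := fun L => Subtype.ext (by show MulAut.conj ((1 : K) : G) • L.1 = L.1; simp)
      mul_smul := fun a b L => Subtype.ext (by
        show MulAut.conj ((a * b : K) : G) • L.1 = MulAut.conj (a : G) • MulAut.conj (b : G) • L.1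
        simp [mul_smul]) }
  have hfree : ∀ L : Ω, MulAction.stabilizer K L = ⊥ := by
    intro L
    refine eq_bot_iff.mpr fun k hk => mem_bot.mpr (Subtype.ext ?_)
    by_contra hk1
    have hkL : MulAut.conj (k : G) • L.1 = L.1 := congrArg Subtype.val hk
    obtain ⟨g, hg⟩ : ∃ g : K, MulAut.conj (g : G) • L.1 ≠ L.1 := by
      by_contra hall
      push Not at hall
      exact hirr L.1 L.2.1 L.2.2.1 L.2.2.2 fun g hg =>
        Core.mem_normalizer_iff_conj_smul_eq.mpr (hall ⟨g, hg⟩)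
    obtain ⟨a, haL, haZ⟩ : ∃ a ∈ L.1, a ∉ Z := SetLike.not_le_iff_exists.mp fun h => by
      have := Nat.le_of_dvd Nat.card_pos (card_dvd_of_le h)
      rw [L.2.2.2, hZ] at this
      nlinarith [hp.two_le]
    have haP := L.2.2.1 haL
    set N := Z.subgroupOf L.1 with hN
    have : N.Normal := (normal_subgroupOf_iff_le_normalizer L.2.1).mpr (L.2.2.1.trans hPn)
    have hidx : N.index = p := by
      apply Nat.eq_of_mul_eq_mul_left (Nat.card_pos (α := N))
      rw [card_mul_index, L.2.2.2, Nat.card_congr (subgroupOfEquivOfLe L.2.1).toEquiv, hZ]; ring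
    have hgen : ∀ w ∈ L.1, ∃ i : ℕ, ∃ z ∈ Z, w = a ^ i * z := fun w hw => by
      have hne : QuotientGroup.mk' N ⟨a, haL⟩ ≠ 1 := fun e => haZ ((QuotientGroup.eq_one_iff (N := N) _).mp e)
      obtain ⟨i, hi⟩ := (Submonoid.mem_powers_iff _ _).mp
        (mem_powers_of_prime_card (g' := QuotientGroup.mk' N ⟨w, hw⟩) (hidx : Nat.card (L.1 ⧸ N) = p) hne)
      have h1 : ((⟨a, haL⟩ : L.1) ^ i)⁻¹ * ⟨w, hw⟩ ∈ N := by
        rw [← QuotientGroup.eq_one_iff, ← QuotientGroup.mk'_apply, map_mul, map_inv, map_pow]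
        exact inv_mul_eq_one.mpr hi
      exact ⟨i, (a ^ i)⁻¹ * w, h1, by group⟩
    obtain ⟨i, z, hz, hi⟩ := hgen ((k : G) * a * (k : G)⁻¹)
      (hkL.le ⟨a, haL, rfl⟩)
    set b := (g : G) * a * (g : G)⁻¹ with hb
    have hbP : b ∈ P := (mem_normalizer_iff.mp (hKP g.2) a).mp haP
    have hcommK : ∀ u v : K, (u : G) * v = v * u := fun u v => by
      obtain ⟨y, hy⟩ := hKc.exists_generator
      obtain ⟨m, rfl⟩ := mem_zpowers_iff.mp (hy u)
      obtain ⟨n, rfl⟩ := mem_zpowers_iff.mp (hy v)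
      exact congrArg Subtype.val ((Commute.refl y).zpow_zpow m n).eq
    have hbi : (k : G) * b * (k : G)⁻¹ = b ^ i * z := by
      calc (k : G) * b * (k : G)⁻¹ = ((k : G) * g) * a * ((k : G) * g)⁻¹ := by rw [hb]; group
        _ = ((g : G) * k) * a * ((g : G) * k)⁻¹ := by rw [hcommK]
        _ = (g : G) * ((k : G) * a * (k : G)⁻¹) * (g : G)⁻¹ := by group
        _ = MulAut.conj (g : G) (a ^ i) * MulAut.conj (g : G) z := by rw [hi, ← map_mul, MulAut.conj_apply]
        _ = b ^ i * z := by rw [map_pow, MulAut.conj_apply, MulAut.conj_apply, hfz _ g.2 z hz]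
    set c := a * b * a⁻¹ * b⁻¹ with hc
    have hcZ : c ∈ Z := hcomm a haP b hbP
    have hac : ∀ w ∈ P, ∀ y ∈ Z, w * y = y * w := fun w hw y hy =>
      (mem_centralizer_iff.mp (hZcen hw) y hy).symm
    have hbL : b ∉ L.1 := fun hbL => hg (eq_of_le_of_card_ge (fun w hw => by
      obtain ⟨v, hv, rfl⟩ := hw
      obtain ⟨n, y, hy, rfl⟩ := hgen v hv
      show MulAut.conj (g : G) (a ^ n * y) ∈ L.1
      rw [map_mul, map_pow, MulAut.conj_apply, MulAut.conj_apply, hfz _ g.2 y hy, ← hb]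
      exact mul_mem (pow_mem hbL n) (L.2.1 hy)) (by rw [L.2.2.2, (hconj g g.2 L).2.2]))
    have hc1 : c ≠ 1 := fun e => hnab (by
      -- `P` is generated by `a`, `b` and the central subgroup `Z`
      set S := L.1 ⊔ zpowers b with hS
      have hSP : S ≤ P := sup_le L.2.2.1 (zpowers_le.mpr hbP)
      have hlt : L.1 < S := left_lt_sup.mpr fun h => hbL (h (mem_zpowers b))
      have hge := PGroups.mul_card_le_of_lt ((IsPGroup.of_card hP).to_le hSP) hlt
      rw [L.2.2.2] at hge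
      have hSeq : S = P := eq_of_le_of_card_ge hSP (by rw [hP, pow_succ']; exact hge)
      have hab : a * b = b * a := by
        rw [hc, mul_inv_eq_one, mul_inv_eq_iff_eq_mul] at e; exact e
      have hbc : L.1 ≤ centralizer ({b} : Set G) := fun w hw => by
        obtain ⟨n, y, hy, rfl⟩ := hgen w hw
        exact mem_centralizer_singleton_iff.mpr
          (((show Commute a b from hab).pow_left n).mul_left (hac b hbP y hy).symm).eq
      have hLc : L.1 ≤ centralizer (L.1 : Set G) := fun w hw => mem_centralizer_iff.mpr fun v hv => by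
        obtain ⟨n, y, hy, rfl⟩ := hgen w hw
        obtain ⟨m, x, hx, rfl⟩ := hgen v hv
        exact (((Commute.pow_pow_self a m n).mul_right (hac _ (pow_mem haP m) y hy)).mul_left
          ((hac _ (mul_mem (pow_mem haP n) (hZP hy)) x hx).symm)).eq
      have hSS : S ≤ centralizer (S : Set G) := by
        rw [hS, le_centralizer_iff]
        refine sup_le ?_ ?_ <;> rw [le_centralizer_iff] <;> refine sup_le ?_ ?_
        · exact hLc
        · exact le_centralizer_iff.mp (TauTwo.centralizer_zpowers b ▸ hbc)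
        · exact TauTwo.centralizer_zpowers b ▸ hbc
        · exact fun w hw => mem_centralizer_iff.mpr fun v hv => by
            obtain ⟨n, rfl⟩ := mem_zpowers_iff.mp hw
            obtain ⟨m, rfl⟩ := mem_zpowers_iff.mp hv
            exact ((Commute.refl b).zpow_zpow m n).eq
      exact ⟨⟨fun u v => Subtype.ext (mem_centralizer_iff.mp (hSS (hSeq.ge v.2)) u (hSeq.ge u.2))⟩⟩)
    have key : c = c ^ (i * i) := by
      have hab : a * b * a⁻¹ = c * b := by rw [hc]; group
      have h2 := conj_pow_comm hab (hac a haP c hcZ) (hac b hbP c hcZ) i i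
      have e1 : MulAut.conj (k : G) (a * b * a⁻¹) = MulAut.conj (k : G) (c * b) := by rw [hab]
      simp only [map_mul, map_inv, MulAut.conj_apply] at e1
      rw [hi, hbi, hfz k k.2 c hcZ] at e1
      have hzc : ∀ w ∈ P, w * z = z * w := fun w hw => hac w hw z hz
      have e2 : a ^ i * z * (b ^ i * z) * (a ^ i * z)⁻¹ = a ^ i * b ^ i * (a ^ i)⁻¹ * z := by
        rw [mul_inv_rev]
        calc a ^ i * z * (b ^ i * z) * (z⁻¹ * (a ^ i)⁻¹) = a ^ i * (z * b ^ i) * (a ^ i)⁻¹ := by group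
          _ = a ^ i * b ^ i * (z * (a ^ i)⁻¹) := by rw [← hzc _ (pow_mem hbP i)]; group
          _ = _ := by rw [← hzc _ (inv_mem (pow_mem haP i))]; group
      rw [e2, h2, mul_assoc, ← mul_assoc c] at e1
      rw [← mul_assoc] at e1
      exact (mul_right_cancel (mul_right_cancel e1)).symm
    have hio : (1 : ℕ) ≡ i * i [MOD p] := by
      have hco : orderOf c = p := orderOf_eq_prime (by
        have := pow_card_eq_one' (G := Z) (x := ⟨c, hcZ⟩); rw [hZ] at this; exact congrArg Subtype.val this) hc1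
      rw [← hco]
      exact pow_eq_pow_iff_modEq.mp (by rw [pow_one]; exact key)
    -- the square of `k` fixes `a` modulo `Z`
    have hk2 : ∃ w ∈ Z, (k : G) ^ 2 * a * ((k : G) ^ 2)⁻¹ = a * w := by
      obtain ⟨q, hq, eq⟩ := pow_modEq hio.symm (b := a) (hexp a haP)
      refine ⟨q * z ^ i * z, mul_mem (mul_mem hq (pow_mem hz i)) hz, ?_⟩
      calc (k : G) ^ 2 * a * ((k : G) ^ 2)⁻¹ = (k : G) * ((k : G) * a * (k : G)⁻¹) * (k : G)⁻¹ := by
            rw [pow_two]; group
        _ = MulAut.conj (k : G) (a ^ i) * ((k : G) * z * (k : G)⁻¹) := by rw [hi, MulAut.conj_apply]; group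
        _ = (a ^ i * z) ^ i * z := by rw [map_pow, MulAut.conj_apply, hi, hfz k k.2 z hz]
        _ = a ^ (i * i) * z ^ i * z := by
              rw [(show Commute (a ^ i) z from hac _ (pow_mem haP i) z hz).mul_pow, ← pow_mul]
        _ = _ := by rw [eq, pow_one]; group
    obtain ⟨w, hw, e⟩ := hk2
    have hko : ¬ p ∣ orderOf ((k : G) ^ 2) := fun h =>
      hcop (h.trans ((orderOf_pow_dvd _).trans (K.orderOf_dvd_natCard k.2)))
    have hwp : w ^ p ^ 1 = 1 := by
      rw [pow_one]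
      have := pow_card_eq_one' (G := Z) (x := ⟨w, hw⟩); rw [hZ] at this
      exact congrArg Subtype.val this
    have hk2ne : (k : G) ^ 2 ≠ 1 := fun h2 => hk1 (by
      refine OddLocal.eq_one_of_pow_eq_one_coprime h2 (OddLocal.pow_card_eq_one_of_mem k.2) ?_
      exact (Nat.coprime_two_left.mpr hodd))
    exact haZ (hfix _ (pow_mem k.2 2) hk2ne a haP
      (commute_of_moves (p := p) (hfz _ (pow_mem k.2 2) w hw) e hko hwp))
  rw [← hΩ]
  exact Dvd.intro_left _ ((Nat.card_congr (MulAction.selfEquivOrbitsQuotientProd hfree)).trans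
    (Nat.card_prod _ _)).symm

end CfsgLib.TwoGroups.FpfSection
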