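import Cfsg.Agent.Lib.TwoGroups.Chapter15
import Cfsg.Agent.Lib.OddLocal.KappaMain

/-!
Owner: helper12. The hypotheses of `Chapter15` from Theorem 14.7.
-/

set_option autoImplicit false
set_option linter.unusedSectionVars false

namespace CfsgLib.TwoGroups.Chapter15

open Subgroup

variable {G : Type*} [Group G] [Finite G]

theorem kappaCyclic (hG : Cfsg.IsMinSimpleOddOrder G) : KappaCyclic G := by
  intro M K hM hK
  by_cases h : K = ⊥
  · subst h; infer_instance
  · obtain ⟨E, d⟩ := OddLocal.Kappa.exists_data hG hM hK h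
    exact d.isCyclic hG

theorem starPrime (hG : Cfsg.IsMinSimpleOddOrder G) : StarPrime G := by
  intro M K U hM h hK hU
  obtain ⟨E, d⟩ := OddLocal.Kappa.exists_data hG hM h.hall hK
  have hUh := OddLocal.Kappa.hall_of_compl hG hM h.hall h.compl
  have hEK : E = K := OddLocal.Kappa.eq_of_hall h.hall d.le d.compl.1 fun t ht hd => by
    have := Fact.mk ht
    by_contra hk
    refine hUh.2.2 t ht ⟨ht, hk, OddLocal.SigmaComplement.not_mem_sigma hG hM d.compl hd⟩ ?_
    rw [hU, relIndex_bot_left]
    exact hd.trans (card_dvd_of_le d.compl.1)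
  obtain ⟨H, p⟩ := d.exists_pair hG
  obtain ⟨F, dH⟩ := p.data
  exact dH.prime_of_ne hG ((p.exists_ne d hG dH).resolve_left fun e => e hEK.symm)

end CfsgLib.TwoGroups.Chapter15
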