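import Cfsg.Agent.Lib.TwoGroups.OvergroupTools
import Cfsg.Agent.Lib.OddLocal.SupportOvergroup
import Cfsg.Agent.Lib.TwoGroups.TauTwoCase

/-!
Owner: helper12. The primes of the overgroup `N` of a centralizer `C(x)`, `x ∈ M_σ` (Bender–Glauberman,
14.4, 14.13).
-/

set_option autoImplicit false
set_option linter.unusedSectionVars false

namespace CfsgLib.TwoGroups.OvergroupPrimes

open Subgroup
open CfsgLib.OddLocal
open TauTwo (IsPair)

variable {G : Type*} [Group G] [Finite G] {M N A R : Subgroup G} {x : G} {q p r : ℕ}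
  [Fact p.Prime] [Fact r.Prime]

/-- `x` of prime order `q` in `M_σ`, its overgroup `N`, and a pair `A` of `M ∩ N`. -/
structure Local (M N A : Subgroup G) (x : G) (q : ℕ) : Prop where
  hG : Cfsg.IsMinSimpleOddOrder G
  hM : IsCoatom M
  prime : q.Prime
  mem : x ∈ Cfsg.sigmaCore M
  order : orderOf x = q
  not_le : ¬ centralizer ({x} : Set G) ≤ M
  o : Support.Overgroup M N x
  pair : IsPair q A
  le : A ≤ M ⊓ N

/-- The setting exists. -/
theorem exists_local (hG : Cfsg.IsMinSimpleOddOrder G) (hM : IsCoatom M) (hx : x ∈ Cfsg.sigmaCore M)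
    (hx1 : x ≠ 1) (hxM : ¬ centralizer ({x} : Set G) ≤ M) (hN : IsCoatom N)
    (hxN : centralizer ({x} : Set G) ≤ N) :
    ∃ (t : ℕ) (y : G) (B : Subgroup G), Local M N B y t := by
  obtain ⟨t, ht, htd⟩ := Nat.exists_prime_and_dvd (fun e : orderOf x = 1 => hx1 (orderOf_eq_one_iff.mp e))
  have := Fact.mk ht
  set y := x ^ (orderOf x / t) with hy
  have hyo : orderOf y = t := orderOf_pow_orderOf_div (orderOf_pos x).ne' htd
  have hCy : centralizer ({x} : Set G) ≤ centralizer ({y} : Set G) := fun c hc =>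
    mem_centralizer_singleton_iff.mpr (((show Commute c x from mem_centralizer_singleton_iff.mp hc).pow_right _).eq)
  have hy1 : y ≠ 1 := fun e => ht.ne_one (by rw [← hyo, e, orderOf_one])
  have hyM : ¬ centralizer ({y} : Set G) ≤ M := fun h => hxM (hCy.trans h)
  obtain ⟨N', o'⟩ := Support.exists_overgroup hG hM (pow_mem hx _) hy1 hyM
  obtain ⟨N₀, o⟩ := Support.exists_overgroup hG hM hx hx1 hxM
  obtain rfl := (o.unique N hN hxN).trans (o.unique N' o'.max (hCy.trans o'.le)).symm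
  obtain ⟨B, hB, hBle⟩ := TauTwo.exists_pair_complement hG o'.max o'.compl (o'.tau2 t ht (by rw [hyo]))
  exact ⟨t, y, B, hG, hM, ht, pow_mem hx _, hyo, hyM, o', hB, hBle⟩

namespace Local

variable (d : Local M N A x q)
include d

theorem fact : Fact q.Prime := ⟨d.prime⟩

theorem leM : A ≤ M := d.le.trans inf_le_left

theorem leN : A ≤ N := d.le.trans inf_le_right

theorem memN : x ∈ N := d.o.le (mem_centralizer_singleton_iff.mpr rfl)

theorem q_sigma : q ∈ Cfsg.sigma M :=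
  TauTwo.mem_sigma_of_dvd d.prime (d.order ▸ Subgroup.orderOf_dvd_natCard _ d.mem) d.hG d.hM

theorem q_tau2 : q ∈ Cfsg.tau2 N := d.o.tau2 q d.prime (by rw [d.order])

theorem A_le_core : A ≤ Cfsg.sigmaCore M :=
  have := d.fact
  TauTwo.le_sigmaCore d.hG d.hM d.q_sigma d.pair.isPGroup d.leM

theorem normalizes : M ⊓ N ≤ normalizer (A : Set G) :=
  have := d.fact
  (TauTwo.le_normalizer_pair d.hG d.o.max d.pair d.q_tau2.2.1 d.o.compl d.le).1

theorem mem_A : x ∈ A :=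
  have := d.fact
  (TauTwo.le_normalizer_pair d.hG d.o.max d.pair d.q_tau2.2.1 d.o.compl d.le).2.1 x
    ⟨TauTwo.sigmaCore_le M d.mem, d.memN⟩ (d.order ▸ pow_orderOf_eq_one x)

theorem not_beta (L : Subgroup G) : q ∉ Cfsg.beta L :=
  have := d.fact
  d.pair.not_beta d.hG (TauTwo.not_inUniqueMaximal d.hG d.o.max d.pair d.leN d.q_tau2.2.1) L

theorem not_sigma_of_common {t : ℕ} (ht : t.Prime) (hd : t ∣ Nat.card ↥(M ⊓ N)) : t ∉ Cfsg.sigma N :=
  have := Fact.mk ht
  SigmaComplement.not_mem_sigma d.hG d.o.max d.o.compl hd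

theorem ne_of_kappa (hr : r ∈ Cfsg.kappa N) : r ≠ q := fun e =>
  d.q_tau2.2.2.2 (e ▸ Kappa.rank_one_of_kappa hr)

end Local

/-- A Hall `κ(N)`-subgroup over a given line. -/
theorem exists_data_ge (hG : Cfsg.IsMinSimpleOddOrder G) (hN : IsCoatom N) (hR : Nat.card R = r) (hRN : R ≤ N)
    (hr : r ∈ Cfsg.kappa N) : ∃ K E : Subgroup G, Kappa.Data N K E ∧ R ≤ K := by
  have : Group.IsSolvable N := hG.2.2.2 N hN.1
  obtain ⟨L, hL, hRL⟩ := Core.exists_piHall_ge (G := ↥N) (π := Cfsg.kappa N) (K := R.subgroupOf N)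
    fun s hs hsd => by
      rw [Nat.card_congr (subgroupOfEquivOfLe hRN).toEquiv, hR] at hsd
      rwa [(Nat.prime_dvd_prime_iff_eq hs Fact.out).mp hsd]
  set K := L.map N.subtype with hK'
  have hK : Cfsg.IsPiHallOf (Cfsg.kappa N) K N := ⟨map_subtype_le _,
    fun s hs hsd => hL.1 s hs (by rwa [hK', card_map_of_injective N.subtype_injective] at hsd),
    fun s hs hsπ hsd => hL.2 s hs hsπ (by
      rwa [relIndex, subgroupOf, hK', comap_map_eq_self_of_injective N.subtype_injective] at hsd)⟩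
  have hRK : R ≤ K := (map_subgroupOf_eq_of_le hRN).ge.trans (map_mono hRL)
  have hK1 : K ≠ ⊥ := fun e => (Fact.out : r.Prime).ne_one (by rw [← hR, le_bot_iff.mp (hRK.trans e.le), card_bot])
  obtain ⟨E, d⟩ := Kappa.exists_data hG hN hK hK1
  exact ⟨K, E, d, hRK⟩

namespace Local

variable (d : Local M N A x q)
include d

/-- A `κ(N)`-line of `M ∩ N` acts nontrivially on `A`. -/
theorem not_centralizes (hr : r ∈ Cfsg.kappa N) (hR : Nat.card R = r) (hRle : R ≤ M ⊓ N) :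
    ¬ A ≤ centralizer (R : Set G) := by
  intro hA
  have := d.fact
  obtain ⟨K, E, dN, hRK⟩ := exists_data_ge d.hG d.o.max hR (hRle.trans inf_le_right) hr
  obtain ⟨⟨k, hk⟩, hk1⟩ := R.ne_bot_iff_exists_ne_one.mp (FixedTauOne.ne_bot_of_card_eq hR)
  have hle : A ≤ K ⊔ Cfsg.sigmaCore N := fun a ha => by
    have h1 : a ∈ N ⊓ centralizer ({k} : Set G) :=
      ⟨d.leN ha, mem_centralizer_singleton_iff.mpr (mem_centralizer_iff.mp (hA ha) k hk).symm⟩
    rw [Kappa.centralizer_eq d.hG d.o.max (dN.isCyclic d.hG) dN.hall (hRK hk) fun e => hk1 (Subtype.ext e)] at h1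
    exact sup_le_sup_left inf_le_left K h1
  rcases Kappa.card_sup_primes d.hG d.o.max dN.hall d.prime
    (d.pair.dvd_card.trans (card_dvd_of_le hle)) with h | h
  · exact d.q_tau2.2.2.2 (Kappa.rank_one_of_kappa h)
  · exact d.q_tau2.2.1 h

/-- `κ(N)` avoids `σ(M)`. -/
theorem not_sigma_kappa (hr : r ∈ Cfsg.kappa N) : r ∉ Cfsg.sigma M := fun hσ => by
  have := d.fact
  obtain ⟨R, hR, hRle⟩ := Kappa.exists_line_tau3 d.hG d.o.max d.o.compl hr
  exact d.not_centralizes hr hR hRle (OvergroupTools.commute_of_normalizes d.hG d.hM d.pair.isPGroup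
    (d.not_beta M) d.A_le_core hR
    (TauTwo.le_sigmaCore d.hG d.hM hσ (FixedTauOne.isPGroup_of_card_eq hR) (hRle.trans inf_le_left))
    (hRle.trans d.normalizes) (d.ne_of_kappa hr))

theorem not_sigma_both (hpN : p ∈ Cfsg.sigma N) : p ∉ Cfsg.sigma M := fun hpM => by
  obtain ⟨g, hg⟩ := SigmaDisjoint.sigma_disjoint d.hG d.hM d.o.max hpM hpN
  exact d.o.nconj g hg

/-- `π(M) ∩ σ(N) ⊆ β(N)`. -/
theorem mem_beta (hpN : p ∈ Cfsg.sigma N) (hpd : p ∣ Nat.card M) : p ∈ Cfsg.beta N := by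
  have := d.fact
  have hp := (Fact.out : p.Prime)
  have hpM := d.not_sigma_both hpN
  have hpq : p ≠ q := fun e => hpM (e ▸ d.q_sigma)
  have hOM := TauTwo.sigmaCore_le M
  obtain ⟨w, hw⟩ := exists_prime_orderOf_dvd_card' (G := M) p hpd
  set X := zpowers (w : G) with hX
  have hXc : Nat.card X = p := by rw [hX, Nat.card_zpowers, orderOf_coe, hw]
  have hXM : X ≤ M := zpowers_le.mpr w.2
  have hXp := FixedTauOne.isPGroup_of_card_eq hXc
  obtain ⟨S₀, hS₀⟩ := Core.exists_invariant_sylow (A := X) (K := Cfsg.sigmaCore M)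
    (hXM.trans (TauTwo.le_normalizer_sigmaCore M)) (TauTwo.coprime_sigmaCore d.hG d.hM hpM hXp)
    (Or.inl (d.hG.2.2.2 X (Uniqueness.ne_top_of_pGroup d.hG hXp))) q
  have hnc : ¬ X ≤ centralizer (((S₀ : Subgroup ↥(Cfsg.sigmaCore M)).map (Cfsg.sigmaCore M).subtype : Subgroup G) : Set G) := by
    intro hc
    obtain ⟨T, hT⟩ := (IsPGroup.of_card (G := zpowers (⟨x, d.mem⟩ : Cfsg.sigmaCore M)) (p := q) (n := 1)
      (by rw [Nat.card_zpowers, orderOf_mk, d.order, pow_one])).exists_le_sylow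
    obtain ⟨c, hc'⟩ := MulAction.exists_smul_eq (Cfsg.sigmaCore M) T S₀
    have hcx : (c : G) * x * (c : G)⁻¹ ∈ (S₀ : Subgroup ↥(Cfsg.sigmaCore M)).map (Cfsg.sigmaCore M).subtype := by
      refine ⟨c * ⟨x, d.mem⟩ * c⁻¹, ?_, rfl⟩
      rw [← hc', Sylow.smul_def]
      exact ⟨⟨x, d.mem⟩, hT (mem_zpowers _), rfl⟩
    have hwc := mem_centralizer_iff.mp (hc (mem_zpowers (w : G))) _ hcx
    have hw' : (c : G)⁻¹ * (w : G) * (c : G) ∈ M ⊓ N := by
      refine ⟨M.mul_mem (M.mul_mem (M.inv_mem (hOM c.2)) w.2) (hOM c.2), d.o.le (mem_centralizer_singleton_iff.mpr ?_)⟩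
      calc (c : G)⁻¹ * (w : G) * (c : G) * x
          = (c : G)⁻¹ * ((w : G) * ((c : G) * x * (c : G)⁻¹)) * (c : G) := by group
        _ = (c : G)⁻¹ * (((c : G) * x * (c : G)⁻¹) * (w : G)) * (c : G) := by rw [hwc]
        _ = _ := by group
    have ho : orderOf ((c : G)⁻¹ * (w : G) * (c : G)) = p := by
      have := orderOf_injective (MulAut.conj (c : G)⁻¹).toMonoidHom (MulAut.conj (c : G)⁻¹).injective (w : G)
      simp only [MulEquiv.coe_toMonoidHom, MulAut.conj_apply, inv_inv] at this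
      rw [this, orderOf_coe, hw]
    exact d.not_sigma_of_common hp (ho ▸ Subgroup.orderOf_dvd_natCard _ hw') hpN
  have h1 : p < q := OvergroupTools.prime_lt d.hG d.hM d.q_sigma.2.1 (d.not_beta M) hXc hXM (S₀.2.map _)
    ((map_subtype_le _).trans hOM) hS₀ hnc hpq
  by_contra hpβ
  have hA := d.pair.isPGroup
  obtain ⟨P₀, hP₀⟩ := Core.exists_invariant_sylow (A := A) (K := Cfsg.sigmaCore N)
    (d.leN.trans (TauTwo.le_normalizer_sigmaCore N))
    (TauTwo.coprime_sigmaCore d.hG d.o.max d.q_tau2.2.1 hA)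
    (Or.inl (d.hG.2.2.2 A (Uniqueness.ne_top_of_pGroup d.hG hA))) p
  set P := (P₀ : Subgroup ↥(Cfsg.sigmaCore N)).map (Cfsg.sigmaCore N).subtype with hP
  have hPne : P ≠ ⊥ := fun e => by
    have hb : (P₀ : Subgroup ↥(Cfsg.sigmaCore N)) = ⊥ :=
      (map_eq_bot_iff_of_injective _ (Cfsg.sigmaCore N).subtype_injective).mp e
    refine P₀.ne_bot_of_dvd_card ?_ hb
    obtain ⟨⟨-, -, hidx⟩, -, -⟩ := SigmaCore.sigmaCore_hall d.hG d.o.max
    have h2 : p ∣ Nat.card (Cfsg.sigmaCore N) * (Cfsg.sigmaCore N).relIndex N := by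
      rw [← relIndex_bot_left, relIndex_mul_relIndex ⊥ _ N bot_le (TauTwo.sigmaCore_le N), relIndex_bot_left]
      exact hpN.2.1
    exact (hp.dvd_mul.mp h2).resolve_right (hidx p hp hpN)
  obtain ⟨a, ha, hac⟩ : ∃ a ∈ A, a ∉ centralizer (P : Set G) := SetLike.not_le_iff_exists.mp fun hc =>
    hPne (le_bot_iff.mp ((le_inf (map_subtype_le _) (le_centralizer_iff.mp hc)).trans
      (TauTwo.sigma_inf_centralizer d.hG d.o.max d.pair d.leN d.q_tau2.2.1).le))
  have ha1 : a ≠ 1 := fun e => hac (e ▸ one_mem _)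
  have h2 : q < p := OvergroupTools.prime_lt (X := zpowers a) d.hG d.o.max hpN.2.1 hpβ
    (by rw [Nat.card_zpowers, orderOf_eq_prime (d.pair.1.2 a ha) ha1]) (zpowers_le.mpr (d.leN ha))
    (P₀.2.map _) ((map_subtype_le _).trans (TauTwo.sigmaCore_le N)) (zpowers_le.mpr (hP₀ ha))
    (fun h => hac (h (mem_zpowers a))) hpq.symm
  omega

/-- `κ(N)` avoids `τ₂(M)`. -/
theorem not_tau2_kappa (hr : r ∈ Cfsg.kappa N) : r ∉ Cfsg.tau2 M := fun hτ => by
  have := d.fact
  obtain ⟨R, hR, hRle⟩ := Kappa.exists_line_tau3 d.hG d.o.max d.o.compl hr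
  obtain ⟨E, hE, hRE⟩ := TauTwo.exists_complement_ge d.hG d.hM (hRle.trans inf_le_left) fun t ht hd => by
    rw [(Nat.prime_dvd_prime_iff_eq ht Fact.out).mp (hR ▸ hd)]; exact hτ.2.1
  obtain ⟨B, hB, hBE⟩ := TauTwo.exists_pair_complement d.hG d.hM hE hτ
  have hBM := hBE.trans hE.1
  obtain ⟨K, F, dN, hRK⟩ := exists_data_ge d.hG d.o.max hR (hRle.trans inf_le_right) hr
  obtain ⟨H, pN⟩ := dN.exists_pair d.hG
  obtain ⟨F', dH⟩ := pN.data
  obtain ⟨s, X, hs, hX, hXW⟩ := dH.tau1_line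
  have := Fact.mk hs.1
  have hrβ : r ∉ Cfsg.beta H := hB.not_beta d.hG (TauTwo.not_inUniqueMaximal d.hG d.hM hB hBM hτ.2.1) H
  have hRW : R ≤ Cfsg.sigmaCore H ⊓ centralizer (Kappa.Kstar N K : Set G) := by
    show R ≤ Kappa.Kstar H (Kappa.Kstar N K)
    rw [pN.star_star]; exact hRK
  have hRX : R ≤ Cfsg.sigmaCore H ⊓ centralizer (X : Set G) :=
    hRW.trans (inf_le_inf_left _ (centralizer_le hXW))
  have hS : ∀ S : Sylow r G, ¬ IsMulCommutative (S : Subgroup G) :=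
    FixedTauOne.sylow_not_commutative_of_derived d.hG dH.max hrβ hR
      (FixedTauOne.le_derived_core d.hG dH.max hs hX (hXW.trans dH.hall.1) (FixedTauOne.isPGroup_of_card_eq hR)
        hRX hrβ)
  obtain ⟨-, ⟨hc, -⟩, -⟩ := TauTwo.nonabelian_case d.hG d.hM hE hτ hS hB hBE
  set B₀ := B ⊓ centralizer (Cfsg.sigmaCore M : Set G) with hB₀
  have hB₀le : B₀ ≤ M ⊓ N := le_inf (inf_le_left.trans hBM)
    ((inf_le_right.trans (centralizer_le (Set.singleton_subset_iff.mpr d.mem))).trans d.o.le)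
  obtain ⟨e, he, hRe⟩ := TauThree.exists_conj_of_rank_one (M := M ⊓ N) d.hG
    (CfsgLib.PGroups.prankLE_of_injective (Kappa.rank_one_of_kappa hr)
      (f := inclusion (inf_le_right : M ⊓ N ≤ N)) (inclusion_injective _)) hc hB₀le hR hRle
  refine d.not_centralizes hr hR hRle fun a ha => mem_centralizer_iff.mpr ?_
  rw [hRe]
  rintro _ ⟨b, hb, rfl⟩
  have hae : e⁻¹ * a * e ∈ A := (mem_normalizer_iff''.mp (d.normalizes he) a).mp ha
  have h1 := mem_centralizer_iff.mp hb.2 _ (d.A_le_core hae)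
  show e * b * e⁻¹ * a = a * (e * b * e⁻¹)
  calc e * b * e⁻¹ * a = e * (b * (e⁻¹ * a * e)) * e⁻¹ := by group
    _ = e * ((e⁻¹ * a * e) * b) * e⁻¹ := by rw [h1]
    _ = _ := by group

end Local

end CfsgLib.TwoGroups.OvergroupPrimes
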