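import Cfsg.Agent.S1374
import Cfsg.Agent.Lib.TwoGroups.OvergroupPrimes
import Cfsg.Agent.Lib.TwoGroups.KappaStar
import Cfsg.Agent.Lib.TwoGroups.FpfSection
import Cfsg.Agent.Lib.HallGen.Basic

/-!
Owner: helper12. A nilpotent `M_σ` meeting a conjugate (Bender–Glauberman, 15.7): the local facts.
-/

set_option autoImplicit false
set_option linter.unusedSectionVars false

namespace CfsgLib.TwoGroups.NonTI

open Subgroup
open OvergroupPrimes (Local)

variable {G : Type*} [Group G] [Finite G] {M N A : Subgroup G} {x g : G} {p : ℕ}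

/-- An element `x` of order `p` of `M_σ` moved into `M_σ` by `g ∉ M`, with its overgroup. -/
structure Config (M N A : Subgroup G) (x g : G) (p : ℕ) : Prop where
  loc : Local M N A x p
  gx : g * x * g⁻¹ ∈ Cfsg.sigmaCore M
  gM : g ∉ M
  nilp : Group.IsNilpotent (Cfsg.sigmaCore M)

/-- A maximal subgroup is its own normalizer. -/
theorem mem_of_normalizes (hG : Cfsg.IsMinSimpleOddOrder G) (hM : IsCoatom M) {g : G}
    (hg : g ∈ normalizer (M : Set G)) : g ∈ M := by
  rcases hM.le_iff.mp (le_normalizer : M ≤ normalizer (M : Set G)) with h | h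
  · exact absurd h (TransitivityHyp.normalizer_ne_top hG (ProperPLength.maximal_ne_bot hG hM) hM.1)
  · exact h ▸ hg

/-- An element of `M_σ` whose centralizer lies in `M` is in no conjugate of `M_σ` but `M_σ` itself. -/
theorem not_le_of_moved (hG : Cfsg.IsMinSimpleOddOrder G) (hM : IsCoatom M) {y g : G}
    (hy : y ∈ Cfsg.sigmaCore M) (hy1 : y ≠ 1) (hgy : g * y * g⁻¹ ∈ M) (hg : g ∉ M) :
    ¬ centralizer ({y} : Set G) ≤ M := by
  intro hC
  obtain ⟨-, R, -, hR, hu⟩ := Cfsg.Agent.S1374.result hG M hM y hy hy1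
  have hyg : y ∈ M.map (MulAut.conj g⁻¹).toMonoidHom := ⟨g * y * g⁻¹, hgy, by simp [mul_assoc]⟩
  obtain ⟨r, ⟨hr, e⟩, -⟩ := hu g⁻¹ hyg
  have hrM : r ∈ M := hC (hR.2.1 hr)
  rw [Transfer.map_conj_eq_self_iff.mpr (le_normalizer hrM)] at e
  exact hg ((inv_mem_iff).mp (mem_of_normalizes hG hM (Transfer.map_conj_eq_self_iff.mp e.symm)))

/-- The configuration exists. -/
theorem exists_config (hG : Cfsg.IsMinSimpleOddOrder G) (hM : IsCoatom M)
    (hn : Group.IsNilpotent (Cfsg.sigmaCore M)) (hx : x ∈ Cfsg.sigmaCore M) (hx1 : x ≠ 1)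
    (hgx : g * x * g⁻¹ ∈ Cfsg.sigmaCore M) (hg : g ∉ M) :
    ∃ (q : ℕ) (y : G) (N A : Subgroup G), y ∈ zpowers x ∧ Config M N A y g q := by
  obtain ⟨q, hq, hqd⟩ := Nat.exists_prime_and_dvd (fun e : orderOf x = 1 => hx1 (orderOf_eq_one_iff.mp e))
  have := Fact.mk hq
  set y := x ^ (orderOf x / q) with hy
  have hyo : orderOf y = q := orderOf_pow_orderOf_div (orderOf_pos x).ne' hqd
  have hy1 : y ≠ 1 := fun e => hq.ne_one (by rw [← hyo, e, orderOf_one])
  have hgy : g * y * g⁻¹ ∈ Cfsg.sigmaCore M := by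
    rw [hy, ← MulAut.conj_apply, map_pow, MulAut.conj_apply]
    exact pow_mem hgx _
  have hyM := not_le_of_moved hG hM (pow_mem hx _) hy1 (TauTwo.sigmaCore_le M hgy) hg
  obtain ⟨N, o⟩ := OddLocal.Support.exists_overgroup hG hM (pow_mem hx _) hy1 hyM
  obtain ⟨B, hB, hBle⟩ := TauTwo.exists_pair_complement hG o.max o.compl (o.tau2 q hq (by rw [hyo]))
  exact ⟨q, y, N, B, pow_mem (mem_zpowers x) _, ⟨hG, hM, hq, pow_mem hx _, hyo, hyM, o, hB, hBle⟩, hgy, hg, hn⟩

namespace Config

variable (c : Config M N A x g p)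
include c

theorem fact : Fact p.Prime := ⟨c.loc.prime⟩

theorem hall_eq : Cfsg.fittingHallOf M = Cfsg.sigmaCore M :=
  (OddLocal.Support.sigmaCore_eq_fittingHallOf c.loc.hG c.loc.hM c.nilp).symm

theorem p_dvd : p ∣ Nat.card (Cfsg.sigmaCore M) := c.loc.order ▸ Subgroup.orderOf_dvd_natCard _ c.loc.mem

/-- The Sylow `p`-subgroup of `M_σ`. -/
theorem exists_sylow : ∃ P : Sylow p G, (P : Subgroup G) ≤ Cfsg.sigmaCore M ∧
    M ≤ normalizer ((P : Subgroup G) : Set G) ∧
    ∀ T : Subgroup G, IsPGroup p T → T ≤ M → T ≤ (P : Subgroup G) := by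
  have := c.fact
  obtain ⟨R⟩ : Nonempty (Sylow p M) := inferInstance
  obtain ⟨P, hP⟩ := SigmaTrans.sigma_sylow c.loc.q_sigma R
  have hPle : (P : Subgroup G) ≤ Cfsg.sigmaCore M :=
    hP ▸ map_mono (OddLocal.SigmaCore.sylow_le c.loc.hG c.loc.hM c.loc.q_sigma R)
  have hPn := TauTwo.le_normalizer_of_nilpotent c.nilp P hPle
  refine ⟨P, hPle, hPn, fun T hT hTM => ?_⟩
  exact le_sup_left.trans (P.3 (hT.to_sup_of_normal_right' P.2 (hTM.trans hPn)) le_sup_right).le

theorem commute_of_coprime {y : G} (hy : y ∈ Cfsg.sigmaCore M) (h : (orderOf y).Coprime p) : y * x = x * y :=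
  OddLocal.commute_of_mem_nilpotent c.nilp hy c.loc.mem (by rwa [c.loc.order])

/-- An abelian `σ`-group of `M` centralizing `x` is a `σ(N)'`-group of `M ∩ N`. -/
theorem commutative_of_centralizes {T : Subgroup G} (hT : T ≤ Cfsg.sigmaCore M)
    (hTx : T ≤ centralizer ({x} : Set G)) : IsMulCommutative T ∧ T ≤ M ⊓ N := by
  have hle : T ≤ M ⊓ N := le_inf (hT.trans (TauTwo.sigmaCore_le M)) (hTx.trans c.loc.o.le)
  have := c.nilp
  exact ⟨TauTwo.nilpotent_commutative c.loc.hG c.loc.o.max (hle.trans inf_le_right) (Core.isNilpotent_of_le hT)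
    fun t ht hd => c.loc.not_sigma_of_common ht (hd.trans (card_dvd_of_le hle)), hle⟩

/-- With an abelian Sylow `p`-subgroup, `M_σ` is abelian of rank two. -/
theorem abelian_case {S : Sylow p G} (hS : IsMulCommutative (S : Subgroup G)) :
    IsMulCommutative (Cfsg.sigmaCore M) ∧ Cfsg.RankLE 2 (Cfsg.sigmaCore M) ∧
      ¬ Cfsg.RankLE 1 (Cfsg.sigmaCore M) := by
  have := c.fact
  obtain ⟨P, hPle, hPn, hPmax⟩ := c.exists_sylow
  have hPc : IsMulCommutative (P : Subgroup G) := by
    obtain ⟨w, rfl⟩ := MulAction.exists_smul_eq G S P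
    have := hS
    show IsMulCommutative ↥((S : Subgroup G).map (MulAut.conj w).toMonoidHom)
    infer_instance
  have hxP : x ∈ (P : Subgroup G) := hPmax _ (IsPGroup.of_card (n := 1) (by
    rw [Nat.card_zpowers, c.loc.order, pow_one])) (zpowers_le.mpr (TauTwo.sigmaCore_le M c.loc.mem)) (mem_zpowers x)
  have hC : Cfsg.sigmaCore M ≤ centralizer ({x} : Set G) := fun y hy => by
    refine HallGen.mem_of_primePow_parts _ y fun w hw t k ht ho => mem_centralizer_singleton_iff.mpr ?_
    have hwO := (zpowers_le.mpr hy) hw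
    rcases eq_or_ne t p with rfl | hne
    · have hwP : w ∈ (P : Subgroup G) := hPmax _ (IsPGroup.of_card (n := k) (by rw [Nat.card_zpowers, ho]))
        (zpowers_le.mpr (TauTwo.sigmaCore_le M hwO)) (mem_zpowers w)
      exact congrArg Subtype.val (hPc.is_comm.comm (⟨w, hwP⟩ : (P : Subgroup G)) ⟨x, hxP⟩)
    · exact c.commute_of_coprime hwO (ho ▸ ((Nat.coprime_primes ht c.loc.prime).mpr hne).pow_left k)
  obtain ⟨hab, hle⟩ := c.commutative_of_centralizes le_rfl hC
  refine ⟨hab, fun t ht B hBc hBe => ?_, fun h => ?_⟩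
  · have := Fact.mk ht
    by_cases hB : t ∣ Nat.card B
    · have hBM : B.map (Cfsg.sigmaCore M).subtype ≤ M ⊓ N := (map_subtype_le _).trans hle
      have hd : t ∣ Nat.card ↥(M ⊓ N) := hB.trans
        ((card_map_of_injective (Cfsg.sigmaCore M).subtype_injective (K := B)).symm ▸ card_dvd_of_le hBM)
      have hr := OddLocal.SigmaComplement.rank_le_two c.loc.hG c.loc.o.max c.loc.o.compl hd
      have hBN : B.map (Cfsg.sigmaCore M).subtype ≤ N := hBM.trans inf_le_right
      have h2 := hr ((B.map (Cfsg.sigmaCore M).subtype).subgroupOf N) (by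
        have := hBc
        infer_instance) (by
        rintro ⟨a, ha⟩ ⟨b, hb, rfl⟩
        refine Subtype.ext ?_
        exact (congrArg Subtype.val (hBe _ hb) :))
      rwa [Nat.card_congr (subgroupOfEquivOfLe hBN).toEquiv,
        card_map_of_injective (Cfsg.sigmaCore M).subtype_injective] at h2
    · have : B = ⊥ := by
        refine eq_bot_iff.mpr fun b hb => mem_bot.mpr ?_
        by_contra hb1
        exact hB (orderOf_eq_prime (hBe b hb) hb1 ▸ B.orderOf_dvd_natCard hb)
      rw [this, card_bot]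
      exact Nat.one_le_pow _ _ ht.pos
  · have h1 := h p c.loc.prime (A.subgroupOf (Cfsg.sigmaCore M)) (by
      have := c.loc.pair.1.1
      infer_instance) (fun a ha => Subtype.ext (c.loc.pair.1.2 a ha))
    rw [Nat.card_congr (subgroupOfEquivOfLe c.loc.A_le_core).toEquiv, c.loc.pair.2, pow_one] at h1
    nlinarith [c.loc.prime.two_le]

/-- If the Sylow `p`-subgroups are not abelian then `τ₂(N) = {p}`. -/
theorem tau2_eq (hS : ∀ S : Sylow p G, ¬ IsMulCommutative (S : Subgroup G)) : Cfsg.tau2 N = {p} :=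
  have := c.fact
  (TauTwo.nonabelian_case c.loc.hG c.loc.o.max c.loc.o.compl c.loc.q_tau2 hS c.loc.pair c.loc.le).1

/-- Primes of `M ∩ N` other than `p` have rank one in `N`. -/
theorem rank_one (hS : ∀ S : Sylow p G, ¬ IsMulCommutative (S : Subgroup G)) {t : ℕ} (ht : t.Prime)
    (hne : t ≠ p) (hd : t ∣ Nat.card ↥(M ⊓ N)) : Cfsg.PRankLE t 1 N := by
  have := Fact.mk ht
  by_contra h
  have h2 : t ∈ Cfsg.tau2 N := ⟨ht, c.loc.not_sigma_of_common ht hd,
    OddLocal.SigmaComplement.rank_le_two c.loc.hG c.loc.o.max c.loc.o.compl hd, h⟩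
  rw [c.tau2_eq hS] at h2
  exact hne h2

/-- With a nonabelian Sylow `p`-subgroup, `O_{p'}(M_σ)` is cyclic. -/
theorem primeCore_cyclic (hS : ∀ S : Sylow p G, ¬ IsMulCommutative (S : Subgroup G)) :
    IsCyclic (Cfsg.pPrimeCore p ↥(Cfsg.sigmaCore M)) := by
  have := c.fact
  set H := Cfsg.sigmaCore M
  set Q := Cfsg.pPrimeCore p ↥H with hQ
  set Q' := Q.map H.subtype with hQ'
  have hcard : Nat.card Q' = Nat.card Q := card_map_of_injective H.subtype_injective
  have hQx : Q' ≤ centralizer ({x} : Set G) := fun y hy => mem_centralizer_singleton_iff.mpr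
    (c.commute_of_coprime (map_subtype_le _ hy) (Nat.Coprime.coprime_dvd_left
      ((Subgroup.orderOf_dvd_natCard _ hy).trans hcard.dvd) (Core.coprime_card_pPrimeCore p ↥H)))
  obtain ⟨hab, hle⟩ := c.commutative_of_centralizes (map_subtype_le _) hQx
  have : IsZGroup Q' := ⟨fun t ht T => by
    have := Fact.mk ht
    by_cases hd : t ∣ Nat.card Q'
    · have hne : t ≠ p := fun e => by
        subst e
        exact ht.not_dvd_one ((Core.coprime_card_pPrimeCore t ↥H).gcd_eq_one ▸
          Nat.dvd_gcd (hcard ▸ hd) dvd_rfl)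
      have hc := OddLocal.PrimeActionTools.cyclic_of_rank c.loc.hG (c.rank_one hS ht hne (hd.trans (card_dvd_of_le hle)))
        (T.2.map Q'.subtype) ((map_subtype_le _).trans (hle.trans inf_le_right))
      exact isCyclic_of_surjective ((T : Subgroup Q').equivMapOfInjective Q'.subtype Q'.subtype_injective).symm
        (MulEquiv.surjective _)
    · have h0 : (T : Subgroup Q') = ⊥ := by
        rw [← card_eq_one]
        obtain ⟨k, hk⟩ := IsPGroup.iff_card.mp T.2
        rcases k with _ | k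
        · simpa using hk
        · exact absurd ((hk ▸ dvd_pow_self t (by omega) : t ∣ Nat.card (T : Subgroup Q')).trans
            (card_subgroup_dvd_card _)) hd
      rw [h0]
      infer_instance⟩
  have hQn : Group.IsNilpotent Q' := @CommGroup.isNilpotent _
    { (inferInstance : Group ↥Q') with mul_comm := hab.is_comm.comm }
  have : IsCyclic Q' := inferInstance
  exact isCyclic_of_surjective (Q.equivMapOfInjective H.subtype H.subtype_injective).symm (MulEquiv.surjective _)

end Config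

end CfsgLib.TwoGroups.NonTI
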