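import Cfsg.Agent.Lib.TwoGroups.AlphaCore
import Cfsg.Agent.S1443

/-!
Owner: helper12. Centralisers in `M` of `α'`-subgroups.
-/

set_option autoImplicit false

namespace CfsgLib.TwoGroups.AlphaCent

open Subgroup

variable {G : Type*} [Group G] [Finite G] {p : ℕ} [Fact p.Prime] {M : Subgroup G}

/-- An elementary abelian subgroup of order `≥ p ^ 2` in a larger one lies in one maximal subgroup. -/
theorem inUniqueMaximal_of_lt (hG : Cfsg.IsMinSimpleOddOrder G)
    {E B : Subgroup G} (hE : Cfsg.IsElementaryAbelian p E) (hE2 : p ^ 2 ≤ Nat.card E)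
    (hB : Cfsg.IsElementaryAbelian p B) (hlt : E < B) : Cfsg.InUniqueMaximal E := by
  have hp : p.Prime := Fact.out
  have hB3 : p ^ 3 ≤ Nat.card B := by
    obtain ⟨j, hj⟩ := IsPGroup.iff_card.mp (Signalizer.elementary_isPGroup hB)
    have hlt2 := Transfer.card_lt_of_lt hlt
    rw [hj] at hlt2 ⊢
    have := (Nat.pow_lt_pow_iff_right hp.one_lt).mp (hE2.trans_lt hlt2)
    exact Nat.pow_le_pow_right hp.pos this
  exact Uniqueness.inUniqueMaximal_of_centralizing hG
    (SCNUnique.inUniqueMaximal_elementary hG hB hB3) hE hE2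
    (fun e he => mem_centralizer_iff.mpr fun b hb => Signalizer.elementary_comm hB hb (hlt.le he))

/-- A `p`-subgroup of `M` lies in the normal Hall subgroup `M_α` for `p ∈ α(M)`. -/
theorem le_alphaCore (hG : Cfsg.IsMinSimpleOddOrder G) (hM : IsCoatom M)
    (hp : p ∈ Cfsg.alpha M) {B : Subgroup G} (hB : IsPGroup p B) (hBM : B ≤ M) :
    B ≤ Cfsg.alphaCore M := by
  obtain ⟨-, hndvd, -⟩ := AlphaCore.structure_quotient hG hM
  intro b hb
  refine ⟨⟨b, hBM hb⟩, (QuotientGroup.eq_one_iff _).mp (orderOf_eq_one_iff.mp ?_), rfl⟩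
  obtain ⟨k, hk⟩ := hB ⟨b, hb⟩
  refine Nat.eq_one_of_dvd_coprimes
    (((Nat.Prime.coprime_iff_not_dvd Fact.out).mpr (hndvd p Fact.out hp)).symm.pow_right k)
    (orderOf_dvd_natCard _) (orderOf_dvd_of_pow_eq_one ?_)
  rw [← QuotientGroup.mk_pow,
    show (⟨b, hBM hb⟩ : ↥M) ^ p ^ k = 1 from Subtype.ext (congrArg Subtype.val hk :)]
  rfl

/-- S1406. -/
theorem centralizer_unique (hG : Cfsg.IsMinSimpleOddOrder G)
    (hM : IsCoatom M) {X : Subgroup G} (hXM : X ≤ M)
    (hXα : ∀ q : ℕ, q.Prime → q ∣ Nat.card X → q ∉ Cfsg.alpha M)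
    (hr : ¬ Cfsg.RankLE 1 ↥(Cfsg.alphaCore M ⊓ centralizer (X : Set G))) :
    Cfsg.InUniqueMaximal (M ⊓ centralizer (X : Set G)) := by
  simp only [Cfsg.RankLE, not_forall] at hr
  obtain ⟨q, hq, hr⟩ := hr
  have := Fact.mk hq
  obtain ⟨E, hEle, hE, hE2⟩ := Uniqueness.exists_elementary_of_not_rank hr
  set K₀ := M ⊓ centralizer (X : Set G) with hK₀
  have hK₀t : K₀ ≠ ⊤ := fun h => hM.1 (top_le_iff.mp (h.ge.trans inf_le_left))
  set A := Cfsg.alphaCore M
  have hAM : A ≤ M := map_subtype_le _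
  have hEK₀ : E ≤ K₀ := le_inf ((hEle.trans inf_le_left).trans hAM) (hEle.trans inf_le_right)
  obtain ⟨⟨-, hApi, -⟩, -⟩ := AlphaCore.alphaCore_hall hG hM
  have hqd : q ∣ Nat.card A := by
    obtain ⟨k, hk⟩ := IsPGroup.iff_card.mp (Signalizer.elementary_isPGroup hE)
    have hk0 : k ≠ 0 := by
      rintro rfl
      rw [pow_zero] at hk
      have := (Nat.one_lt_pow (by omega : (1 + 1) ≠ 0) hq.one_lt).trans_le hE2
      omega
    exact ((dvd_pow_self q hk0).trans hk.symm.dvd).trans (card_dvd_of_le (hEle.trans inf_le_left))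
  have hqα : q ∈ Cfsg.alpha M := hApi q hq hqd
  have hXA : X ≤ normalizer (A : Set G) := hXM.trans (by
    rw [show A = (Cfsg.piCore (Cfsg.alpha M) ↥M).map M.subtype from rfl]
    intro m hm
    exact le_normalizer_map M.subtype
      ⟨⟨m, hm⟩, Core.le_normalizer_of_normal ⊤ (Cfsg.piCore (Cfsg.alpha M) ↥M) (mem_top _), rfl⟩)
  have hcop : (Nat.card X).Coprime (Nat.card A) :=
    Nat.coprime_of_dvd fun k hk hkX hkA => hXα k hk hkX (hApi k hk hkA)
  have hXs : Group.IsSolvable X :=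
    hG.2.2.2 X fun h => hM.1 (top_le_iff.mp (h.ge.trans hXM))
  have hXE : X ≤ normalizer (E : Set G) :=
    (le_centralizer_iff.mp (hEle.trans inf_le_right)).trans (centralizer_le_normalizer _)
  obtain ⟨P, hEP, hXP⟩ := Core.exists_invariant_sylow_ge hXA hcop (Or.inl hXs)
    (hEle.trans inf_le_left) (Signalizer.elementary_isPGroup hE) hXE
  set P' := (P : Subgroup A).map A.subtype with hP'
  by_cases hmax : ∀ B : Subgroup G, B ≤ P' → Cfsg.IsElementaryAbelian q B → E ≤ B → B = E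
  swap
  · push Not at hmax
    obtain ⟨B, -, hB, hEB, hne⟩ := hmax
    exact Uniqueness.inUniqueMaximal_mono
      (inUniqueMaximal_of_lt hG hE hE2 hB (lt_of_le_of_ne hEB (Ne.symm hne))) hK₀t hEK₀
  have hq2 : q ≠ 2 := Uniqueness.odd_prime hG
    (hqd.trans A.card_subgroup_dvd_card)
  have hcen : X ≤ centralizer (P' : Set G) := by
    refine Cfsg.Agent.S1443.result q hq2 P' E X (P.2.map _) hEP hE hXP
      (hq.coprime_iff_not_dvd.mpr fun hd => hXα q hq hd hqα).symm fun x hx hxo => ?_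
    obtain ⟨hxP, hxE⟩ := hx
    have hEz : zpowers x ≤ centralizer (E : Set G) := zpowers_le.mpr hxE
    have hB : Cfsg.IsElementaryAbelian q (E ⊔ zpowers x) := by
      have := hE.1
      have hcc : IsMulCommutative ↥(E ⊔ zpowers x) := le_centralizer_iff_isMulCommutative.mp (sup_le
        (le_centralizer_iff.mp (sup_le (le_centralizer_iff_isMulCommutative.mpr hE.1) hEz))
        (le_centralizer_iff.mp (sup_le (le_centralizer_iff.mp hEz)
          (le_centralizer_iff_isMulCommutative.mpr inferInstance))))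
      refine ⟨hcc, ?_⟩
      intro g hg
      obtain ⟨a, ha, b, hb, rfl⟩ := (Core.mem_sup_iff_mul'
        ((le_centralizer_iff.mp hEz).trans (centralizer_le_normalizer _))).mp hg
      obtain ⟨⟨i, rfl⟩, hb⟩ : a ∈ zpowers x ∧ b ∈ E := ⟨ha, hb⟩
      have hcm : Commute (x ^ i) b := (mem_centralizer_iff.mp (hEz ⟨i, rfl⟩) b hb).symm
      rw [hcm.mul_pow, hE.2 b hb, mul_one, ← zpow_natCast, ← zpow_mul, mul_comm, zpow_mul,
        zpow_natCast, ← hxo, pow_orderOf_eq_one, one_zpow]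
    have heq := hmax _ (sup_le hEP (zpowers_le.mpr hxP)) hB le_sup_left
    intro y hy
    refine mem_centralizer_singleton_iff.mpr ?_
    exact mem_centralizer_iff.mp (le_centralizer_iff.mp (hEle.trans inf_le_right) hy) x
      (heq.le (mem_sup_right (mem_zpowers x))) |>.symm
  have hP'K : P' ≤ K₀ := le_inf ((map_subtype_le _).trans hAM) (le_centralizer_iff.mp hcen)
  -- an elementary subgroup of order `q ^ 3` of `M` is conjugate into `P'`
  obtain ⟨B, hBM, hB, hB3⟩ := Uniqueness.exists_elementary_of_not_rank (X := M) hqα.2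
  have hBA := le_alphaCore hG hM hqα (Signalizer.elementary_isPGroup hB) hBM
  obtain ⟨Q, hQ⟩ := ((Signalizer.elementary_isPGroup hB).comap_subtype (K := A)).exists_le_sylow
  obtain ⟨a, ha⟩ := MulAction.exists_smul_eq A Q P
  have hle : B.map (MulAut.conj (a : G)).toMonoidHom ≤ P' := by
    rintro _ ⟨b, hb, rfl⟩
    refine ⟨a * ⟨b, hBA hb⟩ * a⁻¹, ?_, rfl⟩
    rw [SetLike.mem_coe, ← ha, Transfer.mem_sylow_smul]
    simpa [mul_assoc] using hQ (show (⟨b, hBA hb⟩ : A) ∈ B.comap A.subtype from hb)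
  exact Uniqueness.inUniqueMaximal_mono (Uniqueness.inUniqueMaximal_map_conj
    (SCNUnique.inUniqueMaximal_elementary hG hB hB3) (a : G)) hK₀t (hle.trans hP'K)

end CfsgLib.TwoGroups.AlphaCent
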