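import Cfsg.Agent.Lib.TwoGroups.TauTwoAbelianCase
import Cfsg.Agent.Lib.Orders.AbelianLift
import Cfsg.Agent.Lib.Core.FPF
import Cfsg.Agent.S1423
import Cfsg.Agent.S1427

/-!
Owner: helper12. When the `τ₁ ∪ τ₃` elements act fixed point freely on `M_σ`, a pair in `E` has either only
fixed point free lines or an `E`-invariant one.
-/

set_option autoImplicit false
set_option linter.unusedSectionVars false

namespace CfsgLib.TwoGroups.TauTwo

open Subgroup
open scoped commutatorElement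

variable {G : Type*} [Group G] [Finite G] {p : ℕ} [Fact p.Prime] {M A E : Subgroup G}

theorem zpowers_eq_of_mem (hA : IsPair p A) {y z : G} (hy : y ∈ A) (hy1 : y ≠ 1) (hz : z ∈ zpowers y)
    (hz1 : z ≠ 1) : zpowers z = zpowers y :=
  (eq_zpowers (X := zpowers y) (p := p) (by rw [Nat.card_zpowers]; exact orderOf_eq_prime (hA.1.2 y hy) hy1) hz hz1).symm

theorem bad_unique (hG : Cfsg.IsMinSimpleOddOrder G) (hM : IsCoatom M) (hA : IsPair p A) (hAM : A ≤ M)
    (hpσ : p ∉ Cfsg.sigma M) {y : G} (hy : y ∈ A)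
    (hbad : Cfsg.sigmaCore M ⊓ centralizer ({y} : Set G) ≠ ⊥) (hy1 : y ≠ 1) :
    centralizer ({y} : Set G) ≤ M ∧
      ∀ L : Subgroup G, IsCoatom L → centralizer ({y} : Set G) ≤ L → L = M := by
  rw [← centralizer_zpowers] at hbad ⊢
  exact centralizer_line_unique hG hM hA hAM hpσ (zpowers_le.mpr hy) (fun e => hy1 (zpowers_eq_bot.mp e)) hbad

theorem bad_conj {m : G} (hm : m ∈ M) {y : G} (hbad : Cfsg.sigmaCore M ⊓ centralizer ({y} : Set G) ≠ ⊥) :
    Cfsg.sigmaCore M ⊓ centralizer ({m * y * m⁻¹} : Set G) ≠ ⊥ := by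
  obtain ⟨⟨x, hxO, hxy⟩, hx1⟩ := (ne_bot_iff_exists_ne_one).mp hbad
  intro h
  have hmem : m * x * m⁻¹ ∈ Cfsg.sigmaCore M ⊓ centralizer ({m * y * m⁻¹} : Set G) := by
    refine ⟨(mem_normalizer_iff.mp (le_normalizer_sigmaCore M hm) x).mp hxO, mem_centralizer_singleton_iff.mpr ?_⟩
    calc m * x * m⁻¹ * (m * y * m⁻¹) = m * (x * y) * m⁻¹ := by group
      _ = m * (y * x) * m⁻¹ := by rw [mem_centralizer_singleton_iff.mp hxy]
      _ = m * y * m⁻¹ * (m * x * m⁻¹) := by group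
  rw [h, mem_bot, conj_eq_one_iff] at hmem
  exact hx1 (Subtype.ext hmem)

/-- A line invariant under `N(A)` is fixed point free. -/
theorem good_of_invariant (hG : Cfsg.IsMinSimpleOddOrder G) (hM : IsCoatom M) (hA : IsPair p A) (hAM : A ≤ M)
    (hpσ : p ∉ Cfsg.sigma M) {w : G} (hw : w ∈ A) (hw1 : w ≠ 1)
    (hN : normalizer (A : Set G) ≤ normalizer ((zpowers w : Subgroup G) : Set G)) :
    Cfsg.sigmaCore M ⊓ centralizer ({w} : Set G) = ⊥ := by
  by_contra hbad
  obtain ⟨-, huniq⟩ := bad_unique hG hM hA hAM hpσ hw hbad hw1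
  have hb : zpowers w ≠ ⊥ := fun e => hw1 (zpowers_eq_bot.mp e)
  obtain ⟨L, hL, hNL⟩ := (eq_top_or_exists_le_coatom (normalizer ((zpowers w : Subgroup G) : Set G))).resolve_left
    (TransitivityHyp.normalizer_ne_top hG hb
      (Uniqueness.ne_top_of_pGroup hG (hA.isPGroup.to_le (zpowers_le.mpr hw))))
  have hCL : centralizer ({w} : Set G) ≤ L := by
    rw [← centralizer_zpowers]
    exact (centralizer_le_normalizer _).trans hNL
  exact not_normalizer_le hG hM hA hAM hpσ (huniq L hL hCL ▸ hN.trans hNL)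

/-- A fixed point free element of prime order moves `A` only along a line with fixed points. -/
theorem commutator_mem_line {q : ℕ} [Fact q.Prime] (hG : Cfsg.IsMinSimpleOddOrder G) (hM : IsCoatom M)
    (hA : IsPair p A) (hAM : A ≤ M) (hpσ : p ∉ Cfsg.sigma M) (hqp : q ≠ p) (hqσ : q ∉ Cfsg.sigma M) {k : G}
    (hkM : k ∈ M) (hko : orderOf k = q) (hkA : k ∈ normalizer (A : Set G))
    (hgood : Cfsg.sigmaCore M ⊓ centralizer ({k} : Set G) = ⊥) {y : G} (hy : y ∈ A) (hy1 : y ≠ 1)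
    (hbad : Cfsg.sigmaCore M ⊓ centralizer ({y} : Set G) ≠ ⊥) {a : G} (ha : a ∈ A) :
    ⁅k, a⁆ ∈ zpowers y := by
  set O := Cfsg.sigmaCore M
  obtain ⟨r, hr, hrd⟩ := Nat.exists_prime_and_dvd (fun h1 => hbad (eq_bot_of_card_eq _ h1))
  have := Fact.mk hr
  obtain ⟨x, hx⟩ := exists_prime_orderOf_dvd_card' r hrd
  have hrσ : r ∈ Cfsg.sigma M := mem_sigma_of_dvd hr (hrd.trans (card_dvd_of_le inf_le_left)) hG hM
  have hxp : IsPGroup r (zpowers (⟨(x : G), x.2.1⟩ : O)) := IsPGroup.of_card (n := 1) (by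
    rw [Nat.card_zpowers, orderOf_mk, Subgroup.orderOf_coe, hx, pow_one])
  obtain ⟨Q, hQ⟩ := hxp.exists_le_sylow
  obtain ⟨S, hS⟩ := sigma_sylow_top hG hM hrσ Q
  have hSO : (S : Subgroup G) ≤ O := hS ▸ map_subtype_le _
  have hMS := le_normalizer_of_nilpotent (isNilpotent_sigmaCore hG hM hA hAM hpσ) S hSO
  have hxS : (x : G) ∈ (S : Subgroup G) := hS ▸ ⟨⟨(x : G), x.2.1⟩, hQ (mem_zpowers _), rfl⟩
  have hqr : q ≠ r := fun e => hqσ (e ▸ hrσ)
  have hpr : p ≠ r := fun e => hpσ (e ▸ hrσ)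
  have hcA : ∀ t : ℕ, t.Prime → t ≠ p → (Nat.card A).Coprime t := fun t ht htp => by
    rw [hA.2]
    exact ((Nat.coprime_primes Fact.out ht).mpr (Ne.symm htp)).pow_left 2
  have hle := fpf_commutator hG hM.1 (R := zpowers k) (Q := A) (V := (S : Subgroup G))
    (by rw [Nat.card_zpowers, hko]) (zpowers_le.mpr hkM) hAM (hSO.trans (sigmaCore_le M))
    (zpowers_le.mpr hkA) S.2 (hAM.trans hMS) ((zpowers_le.mpr hkM).trans hMS)
    (hcA q Fact.out hqp) (hcA r hr hpr.symm) hqr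
    (by rw [centralizer_zpowers, eq_bot_iff, ← hgood]; exact inf_le_inf_right _ hSO)
  have hcS := hle (commutator_mem_commutator (mem_zpowers k) ha)
  have hcA' : ⁅k, a⁆ ∈ A := by
    rw [commutatorElement_def]
    exact mul_mem ((mem_normalizer_iff.mp hkA a).mp ha) (inv_mem ha)
  by_contra hne
  have hx1 : (x : G) ≠ 1 := fun e => hr.ne_one (by rw [← hx, ← Subgroup.orderOf_coe, e, orderOf_one])
  have hxy : (x : G) ∈ centralizer (A : Set G) := by
    refine le_centralizer_iff.mp (?_ : A ≤ centralizer ((zpowers (x : G) : Subgroup G) : Set G)) (mem_zpowers _)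
    rw [← IsPair.sup_lines hA hy hy1 hcA' hne, centralizer_zpowers]
    exact sup_le (zpowers_le.mpr (mem_centralizer_singleton_iff.mpr (mem_centralizer_singleton_iff.mp x.2.2).symm))
      (zpowers_le.mpr (mem_centralizer_singleton_iff.mpr (mem_centralizer_iff.mp hcS _ hxS).symm))
  exact hx1 (mem_bot.mp ((sigma_inf_centralizer hG hM hA hAM hpσ).le ⟨x.2.1, hxy⟩))

/-- An element fixing three lines of `A` fixes all. -/
theorem fixes_of_three (hA : IsPair p A) {k z w v : G} (hz : z ∈ A) (hz1 : z ≠ 1) (hw : w ∈ A)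
    (hwz : w ∉ zpowers z) (hv : v ∈ A) (hvz : v ∉ zpowers z) (hvw : v ∉ zpowers w)
    (hkz : k * z * k⁻¹ ∈ zpowers z) (hkw : k * w * k⁻¹ ∈ zpowers w) (hkv : k * v * k⁻¹ ∈ zpowers v)
    {a : G} (ha : a ∈ A) : k * a * k⁻¹ ∈ zpowers a := by
  have hp : p.Prime := Fact.out
  have hsup := IsPair.sup_lines hA hz hz1 hw hwz
  have hw1 : w ≠ 1 := fun e => hwz (e ▸ one_mem _)
  have hco : ∀ u ∈ A, u ≠ 1 → orderOf u = p := fun u hu hu1 => orderOf_eq_prime (hA.1.2 u hu) hu1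
  have hcomm : Commute z w := Signalizer.elementary_comm hA.1 hz hw
  have hdec : ∀ b ∈ A, ∃ i j : ℤ, b = z ^ i * w ^ j := by
    intro b hb
    rw [← hsup] at hb
    obtain ⟨b1, hb1, b2, hb2, e⟩ := (Core.mem_sup_iff_mul' (show zpowers w ≤ normalizer
      ((zpowers z : Subgroup G) : Set G) from le_trans (zpowers_le.mpr (mem_centralizer_iff.mpr fun c hc => by
        obtain ⟨i, rfl⟩ := mem_zpowers_iff.mp hc
        exact (hcomm.zpow_left i).eq)) (centralizer_le_normalizer _))).mp ((sup_comm (zpowers z) (zpowers w)).le hb)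
    obtain ⟨i, rfl⟩ := mem_zpowers_iff.mp hb1
    obtain ⟨j, rfl⟩ := mem_zpowers_iff.mp hb2
    exact ⟨i, j, e⟩
  obtain ⟨α, hα⟩ := mem_zpowers_iff.mp hkz
  obtain ⟨β, hβ⟩ := mem_zpowers_iff.mp hkw
  obtain ⟨γ, hγ⟩ := mem_zpowers_iff.mp hkv
  obtain ⟨i, j, hij⟩ := hdec v hv
  have hk : ∀ i j : ℤ, k * (z ^ i * w ^ j) * k⁻¹ = z ^ (α * i) * w ^ (β * j) := by
    intro i j
    rw [zpow_mul, zpow_mul, hα, hβ, conj_zpow, conj_zpow]; group
  have h1 : z ^ ((α - γ) * i) = w ^ ((γ - β) * j) := by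
    have h2 := hγ
    rw [hij, hk, (hcomm.zpow_zpow i j).mul_zpow, ← zpow_mul, ← zpow_mul] at h2
    rw [sub_mul, sub_mul, zpow_sub, zpow_sub, mul_comm γ i, mul_comm γ j]
    have hc : Commute (z ^ (i * γ)) (w ^ (j * γ) * (w ^ (β * j))⁻¹) :=
      (hcomm.zpow_zpow _ _).mul_right (hcomm.zpow_zpow _ _).inv_right
    calc z ^ (α * i) * (z ^ (i * γ))⁻¹
        = (z ^ (α * i) * w ^ (β * j)) * (w ^ (β * j))⁻¹ * (z ^ (i * γ))⁻¹ := by group
      _ = z ^ (i * γ) * (w ^ (j * γ) * (w ^ (β * j))⁻¹) * (z ^ (i * γ))⁻¹ := by rw [← h2]; group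
      _ = w ^ (j * γ) * (w ^ (β * j))⁻¹ := by rw [hc.eq, mul_inv_cancel_right]
  have hz0 : z ^ ((α - γ) * i) = 1 := by
    by_contra hne
    exact hwz (zpowers_eq_of_mem hA hz hz1 (mem_zpowers_iff.mpr ⟨_, rfl⟩) hne ▸
      (zpowers_eq_of_mem hA hw hw1 (mem_zpowers_iff.mpr ⟨_, h1.symm⟩) hne).ge (mem_zpowers w))
  have hi : ¬ (p : ℤ) ∣ i := fun h => hvw (mem_zpowers_iff.mpr ⟨j, by
    rw [hij, orderOf_dvd_iff_zpow_eq_one.mp (show (orderOf z : ℤ) ∣ i by rw [hco z hz hz1]; exact h), one_mul]⟩)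
  have hj : ¬ (p : ℤ) ∣ j := fun h => hvz (mem_zpowers_iff.mpr ⟨i, by
    rw [hij, orderOf_dvd_iff_zpow_eq_one.mp (show (orderOf w : ℤ) ∣ j by rw [hco w hw hw1]; exact h), mul_one]⟩)
  have hpZ : Prime (p : ℤ) := Nat.prime_iff_prime_int.mp hp
  have hαγ : (p : ℤ) ∣ α - γ := (hpZ.dvd_or_dvd (hco z hz hz1 ▸ orderOf_dvd_iff_zpow_eq_one.mpr hz0)).resolve_right hi
  have hγβ : (p : ℤ) ∣ γ - β := (hpZ.dvd_or_dvd (hco w hw hw1 ▸ orderOf_dvd_iff_zpow_eq_one.mpr
    (h1.symm.trans hz0))).resolve_right hj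
  obtain ⟨i', j', rfl⟩ := hdec a ha
  refine mem_zpowers_iff.mpr ⟨γ, ?_⟩
  rw [hk, (hcomm.zpow_zpow i' j').mul_zpow, ← zpow_mul, ← zpow_mul]
  congr 1
  · refine (orderOf_dvd_sub_iff_zpow_eq_zpow).mp ?_
    rw [hco z hz hz1, mul_comm i', ← sub_mul, ← neg_sub, neg_mul, dvd_neg]
    exact hαγ.mul_right _
  · refine (orderOf_dvd_sub_iff_zpow_eq_zpow).mp ?_
    rw [hco w hw hw1, mul_comm j', ← sub_mul]
    exact hγβ.mul_right _

/-- No fixed point free element acts irreducibly when `A` has a line with fixed points. -/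
theorem irreducible_false {q : ℕ} [Fact q.Prime] (hG : Cfsg.IsMinSimpleOddOrder G) (hM : IsCoatom M)
    (hE : Cfsg.IsComplIn E (Cfsg.sigmaCore M) M) (hA : IsPair p A) (hAE : A ≤ E) (hpσ : p ∉ Cfsg.sigma M)
    (hab : ∀ S : Sylow p G, IsMulCommutative (S : Subgroup G)) (hqp : q ≠ p) (hq1 : Cfsg.PRankLE q 1 M)
    {k k₀ : G} (hkE : k ∈ E) (hkq : IsPGroup q (zpowers k)) (hk₀ : k₀ ∈ zpowers k) (hk₀o : orderOf k₀ = q)
    (hk₀A : k₀ ∈ centralizer (A : Set G)) (hno : ∀ z ∈ A, z ≠ 1 → k * z * k⁻¹ ∉ zpowers z)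
    {y : G} (hy : y ∈ A) (hy1 : y ≠ 1) (hbad : Cfsg.sigmaCore M ⊓ centralizer ({y} : Set G) ≠ ⊥) : False := by
  have hp : p.Prime := Fact.out
  have hAM := hAE.trans hE.1
  have hCE : centralizer (A : Set G) ≤ E := (le_inf (centralizer_le hG hM hA hAM) le_rfl).trans
    (centralizer_le_complement (sigma_inf_centralizer hG hM hA hAM hpσ) hE hAE)
  obtain ⟨hEA, hΩ, -⟩ := le_normalizer_pair hG hM hA hpσ hE hAE
  have hkA := hEA hkE
  obtain ⟨L, hL, hNL⟩ := (eq_top_or_exists_le_coatom (normalizer (A : Set G))).resolve_left (ne_top_normalizer hG hA)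
  have hLM : L ≠ M := fun e => not_normalizer_le hG hM hA hAM hpσ (e ▸ hNL)
  have hAL : A ≤ L := le_normalizer.trans hNL
  -- `p ∈ σ(L)`
  obtain ⟨S, hAS⟩ := hA.isPGroup.exists_le_sylow
  have := hab S
  have hSC : (S : Subgroup G) ≤ centralizer (A : Set G) := fun u hu => mem_centralizer_iff.mpr fun a ha =>
    congrArg Subtype.val (mul_comm' (⟨a, hAS ha⟩ : (S : Subgroup G)) ⟨u, hu⟩)
  have hSL : (S : Subgroup G) ≤ L := hSC.trans ((centralizer_le_normalizer _).trans hNL)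
  have hNS : normalizer ((S : Subgroup G) : Set G) ≤ normalizer (A : Set G) := by
    intro g hg
    refine Transfer.map_conj_eq_self_iff.mp (eq_of_le_of_card_ge ?_ (Transfer.card_map_conj g A).ge)
    rintro _ ⟨a, ha, rfl⟩
    exact hΩ _ (hCE (hSC ((mem_normalizer_iff.mp hg a).mp (hAS ha)))) (by rw [← map_pow, hA.1.2 a ha, map_one])
  have hpσL : p ∈ Cfsg.sigma L := ⟨hp, hA.dvd_card.trans (card_dvd_of_le hAL), S.subtype hSL, by
    rw [Sylow.coe_subtype, map_subgroupOf_eq_of_le hSL]; exact hNS.trans hNL⟩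
  have hAO : A ≤ Cfsg.sigmaCore L := le_sigmaCore hG hL hpσL hA.isPGroup hAL
  have hkL : k ∈ L := hNL hkA
  have hk₀L : k₀ ∈ L := zpowers_le.mpr hkL hk₀
  -- `y` is a commutator with `k`
  obtain ⟨a, ha, hya⟩ : ∃ a ∈ A, ⁅k, a⁆ = y := by
    let f : A → A := fun a => ⟨⁅k, (a : G)⁆, by
      rw [commutatorElement_def]
      exact mul_mem ((mem_normalizer_iff.mp hkA _).mp a.2) (inv_mem a.2)⟩
    have hf : Function.Injective f := by
      intro a b hab'
      have h1 : k * (a : G) * k⁻¹ * (a : G)⁻¹ = k * (b : G) * k⁻¹ * (b : G)⁻¹ := congrArg Subtype.val hab'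
      by_contra hne
      refine hno _ (mul_mem (inv_mem b.2) a.2) (fun e => hne (Subtype.ext (inv_mul_eq_one.mp e).symm)) ?_
      have h2 : k * ((b : G)⁻¹ * (a : G)) * k⁻¹ = (b : G)⁻¹ * (a : G) := by
        have h3 : k * (a : G) * k⁻¹ = k * (b : G) * k⁻¹ * (b : G)⁻¹ * (a : G) := by
          rw [← h1, inv_mul_cancel_right]
        calc k * ((b : G)⁻¹ * (a : G)) * k⁻¹ = (k * (b : G) * k⁻¹)⁻¹ * (k * (a : G) * k⁻¹) := by group
          _ = (b : G)⁻¹ * (a : G) := by rw [h3]; group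
      rw [h2]
      exact mem_zpowers _
    obtain ⟨a, ha⟩ := Finite.injective_iff_surjective.mp hf ⟨y, hy⟩
    exact ⟨a, a.2, congrArg Subtype.val ha⟩
  have hqσ : q ∉ Cfsg.sigma L := by
    intro hq
    have hkO : k ∈ Cfsg.sigmaCore L := le_sigmaCore hG hL hq hkq (zpowers_le.mpr hkL) (mem_zpowers k)
    have hyd : zpowers y ≤ ⁅Cfsg.sigmaCore L, Cfsg.sigmaCore L⁆ :=
      zpowers_le.mpr (hya ▸ commutator_mem_commutator hkO (hAO ha))
    obtain ⟨P⟩ : Nonempty (Sylow p ↥(Cfsg.sigmaCore L)) := inferInstance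
    have h1 := (Cfsg.Agent.S1423.result hG L hL p hpσL (zpowers y) (zpowers_le.mpr (hAL hy))
      (by rw [Nat.card_zpowers]; exact orderOf_eq_prime (hA.1.2 y hy) hy1) P (Or.inr hyd)).1.1
    rw [centralizer_zpowers] at h1
    exact hLM ((bad_unique hG hM hA hAM hpσ hy hbad hy1).2 L hL h1)
  -- a Sylow `q`-subgroup of `L` over `k`
  obtain ⟨R, hR⟩ := (hkq.comap_subtype (K := L)).exists_le_sylow
  set R' := (R : Subgroup L).map L.subtype with hR'
  have hR'L : R' ≤ L := map_subtype_le _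
  have hR'q : IsPGroup q R' := R.2.map _
  have hkR : k ∈ R' := mem_map.mpr ⟨⟨k, hkL⟩, hR (mem_comap.mpr (mem_zpowers k)), rfl⟩
  have hk₀R : k₀ ∈ R' := zpowers_le.mpr hkR hk₀
  have hRc := sylow_commutative hG hL hqσ R
  have hk1 : k₀ ≠ 1 := fun e => (Fact.out : q.Prime).ne_one (by rw [← hk₀o, e, orderOf_one])
  have hkC : k ∉ centralizer (A : Set G) := fun h => hno y hy hy1 (by
    rw [← mem_centralizer_iff.mp h y hy, mul_inv_cancel_right]; exact mem_zpowers y)
  by_cases hcy : IsCyclic R'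
  · obtain ⟨EL, hEL, hREL⟩ := exists_complement_ge hG hL hR'L fun r hr hd => by
      obtain ⟨j, hj⟩ := IsPGroup.iff_card.mp hR'q
      exact (((Nat.prime_dvd_prime_iff_eq hr Fact.out).mp (hr.dvd_of_dvd_pow (hj ▸ hd))) ▸ hqσ)
    obtain ⟨T, hT⟩ := (hR'q.comap_subtype (K := EL)).exists_le_sylow
    have hTR : (T : Subgroup EL).map EL.subtype = R' := by
      have hle : R' ≤ (T : Subgroup EL).map EL.subtype := fun x hx =>
        mem_map.mpr ⟨⟨x, hREL hx⟩, hT (mem_comap.mpr hx), rfl⟩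
      have hTL : (T : Subgroup EL).map EL.subtype ≤ L := (map_subtype_le _).trans hEL.1
      refine le_antisymm ?_ hle
      intro x hx
      refine mem_map.mpr ⟨⟨x, hTL hx⟩, ?_, rfl⟩
      exact (R.3 ((T.2.map EL.subtype).comap_subtype (K := L)) (fun r hr => mem_comap.mpr
        (hle (mem_map_of_mem _ hr)))).le (mem_comap.mpr hx)
    have hTc : IsCyclic (T : Subgroup EL) := by
      have : IsCyclic ↥((T : Subgroup EL).map EL.subtype) := hTR ▸ hcy
      exact isCyclic_of_injective ((T : Subgroup EL).equivMapOfInjective EL.subtype EL.subtype_injective).toMonoidHom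
        (MulEquiv.injective _)
    have hTb : (T : Subgroup EL) ≠ ⊥ := fun e => hk1 (by
      have := hTR.ge hk₀R
      rwa [e, Subgroup.map_bot, mem_bot] at this)
    have h1 := Cfsg.Agent.S1427.result hG L hL EL hEL q T hTb hTc k₀ (hTR.ge hk₀R) hk1
    rw [hTR] at h1
    refine hkC (mem_centralizer_iff.mpr fun c hc => ?_)
    have h2 := h1.le ⟨hAO hc, mem_centralizer_singleton_iff.mpr (mem_centralizer_iff.mp hk₀A c hc)⟩
    exact (mem_centralizer_iff.mp h2.2 k hkR).symm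
  · obtain ⟨B, hBR, hB1, hB2⟩ := exists_pair hG hR'q hcy
    have hBL : B ≤ L := hBR.trans hR'L
    have hn := isNilpotent_sigmaCore hG hL (⟨hB1, hB2⟩ : IsPair q B) hBL hqσ
    obtain ⟨Q, hQ⟩ := (hA.isPGroup.comap_subtype (K := Cfsg.sigmaCore L)).exists_le_sylow
    obtain ⟨T, hT⟩ := sigma_sylow_top hG hL hpσL Q
    have hAT : A ≤ (T : Subgroup G) := fun x hx => hT ▸ mem_map.mpr ⟨⟨x, hAO hx⟩, hQ (mem_comap.mpr hx), rfl⟩
    have hLT := le_normalizer_of_nilpotent hn T (hT ▸ map_subtype_le _)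
    have := hab T
    have hTC : (T : Subgroup G) ≤ centralizer (A : Set G) := fun u hu => mem_centralizer_iff.mpr fun c hc =>
      congrArg Subtype.val (mul_comm' (⟨c, hAT hc⟩ : (T : Subgroup G)) ⟨u, hu⟩)
    have hLA : L ≤ normalizer (A : Set G) := by
      intro l hl
      refine Transfer.map_conj_eq_self_iff.mp (eq_of_le_of_card_ge ?_ (Transfer.card_map_conj l A).ge)
      rintro _ ⟨c, hc, rfl⟩
      exact hΩ _ (hCE (hTC ((mem_normalizer_iff.mp (hLT hl) c).mp (hAT hc)))) (by rw [← map_pow, hA.1.2 c hc, map_one])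
    have hRN : R' ≤ normalizer (A : Set G) := hR'L.trans hLA
    have hsemi : ∀ x ∈ R', ∀ c ∈ A, c ≠ 1 → x * c = c * x → x ∈ centralizer (A : Set G) := by
      intro x hx c hc hc1 hxc
      by_contra hxA
      set W := A ⊓ centralizer ({x} : Set G) with hW
      have hcW : c ∈ W := ⟨hc, mem_centralizer_singleton_iff.mpr hxc.symm⟩
      have hWc : zpowers c = W := by
        refine eq_of_le_of_card_ge (zpowers_le.mpr hcW) ?_
        rw [Nat.card_zpowers, orderOf_eq_prime (hA.1.2 c hc) hc1]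
        obtain ⟨j, hj, hjc⟩ := (Nat.dvd_prime_pow hp).1 (hA.2 ▸ card_dvd_of_le (inf_le_left : W ≤ A))
        have hj2 : j ≠ 2 := fun e => hxA (mem_centralizer_iff.mpr fun d hd =>
          mem_centralizer_singleton_iff.mp
            (((eq_of_le_of_card_ge inf_le_left (by rw [hjc, e, hA.2])).ge hd : d ∈ W).2))
        rw [hjc]
        exact (Nat.pow_le_pow_right hp.pos (show j ≤ 1 by omega)).trans (pow_one p).le
      refine hno c hc hc1 (hWc.ge ⟨(mem_normalizer_iff.mp hkA c).mp hc, mem_centralizer_singleton_iff.mpr ?_⟩)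
      have hkx : Commute k x := congrArg Subtype.val (hRc.is_comm.comm (⟨k, hkR⟩ : R') ⟨x, hx⟩)
      have hcx : Commute c x := hxc.symm
      exact ((hkx.mul_left hcx).mul_left hkx.inv_left).eq
    set f := A.normalizerMonoidHom
    have hker : ∀ z : normalizer (A : Set G), f z = 1 ↔ (z : G) ∈ centralizer (A : Set G) := fun z => by
      rw [← MonoidHom.mem_ker, normalizerMonoidHom_ker, mem_subgroupOf]
    set X := (R'.subgroupOf (normalizer (A : Set G))).map f with hX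
    have hXc : IsMulCommutative X := ⟨⟨by
      rintro ⟨_, ⟨u, hu, rfl⟩⟩ ⟨_, ⟨v, hv, rfl⟩⟩
      have e : u * v = v * u := Subtype.ext (show (u : G) * (v : G) = (v : G) * (u : G) from
        congrArg Subtype.val (hRc.is_comm.comm (⟨(u : G), hu⟩ : R') ⟨(v : G), hv⟩))
      exact Subtype.ext (show f u * f v = f v * f u by rw [← map_mul, ← map_mul, e])⟩⟩
    have hXcy : IsCyclic X := by
      let H := SemidirectProduct A X X.subtype
      have : Finite H := Finite.of_equiv _ SemidirectProduct.equivProd.symm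
      set K₁ := (SemidirectProduct.inl : A →* H).range with hK₁
      set B₁ := (SemidirectProduct.inr : X →* H).range with hB₁
      have hK₁n : K₁.Normal := by
        rw [hK₁, SemidirectProduct.range_inl_eq_ker_rightHom]; infer_instance
      have h1 : B₁ ≤ normalizer (K₁ : Set H) := by rw [normalizer_eq_top (H := K₁)]; exact le_top
      have h2 : ∀ b ∈ B₁, b ≠ 1 → K₁ ⊓ centralizer {b} = ⊥ := by
        rintro _ ⟨⟨_, ⟨u, hu, rfl⟩⟩, rfl⟩ hb1
        rw [eq_bot_iff]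
        rintro _ ⟨⟨c, rfl⟩, hc⟩
        rw [mem_bot]
        by_contra hc1
        refine hb1 ?_
        have hc' := mem_centralizer_singleton_iff.mp hc
        have e : (f u) c = c := by
          apply SemidirectProduct.inl_injective (φ := X.subtype)
          rw [show (f u) c = X.subtype ⟨f u, u, hu, rfl⟩ c from rfl, SemidirectProduct.inl_aut, ← hc', map_inv,
            mul_inv_cancel_right]
        have e' : (u : G) * (c : G) * (u : G)⁻¹ = (c : G) := congrArg Subtype.val e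
        have hu0 : f u = 1 := (hker u).mpr (hsemi u hu c c.2 (fun h => hc1 (by
          rw [show c = 1 from Subtype.ext h, map_one])) (mul_inv_eq_iff_eq_mul.mp e'))
        rw [show (⟨f u, u, hu, rfl⟩ : X) = 1 from Subtype.ext hu0, map_one]
      have h3 : K₁ ≠ ⊥ := fun h => hy1 (by
        have : SemidirectProduct.inl (φ := X.subtype) ⟨y, hy⟩ ∈ K₁ := ⟨_, rfl⟩
        rw [h, mem_bot, ← map_one (SemidirectProduct.inl (φ := X.subtype))] at this
        exact congrArg Subtype.val (SemidirectProduct.inl_injective this))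
      have : IsMulCommutative B₁ := ⟨⟨by
        rintro ⟨_, u, rfl⟩ ⟨_, v, rfl⟩
        exact Subtype.ext (show SemidirectProduct.inr u * SemidirectProduct.inr v =
          (SemidirectProduct.inr v * SemidirectProduct.inr u : H) by
          rw [← map_mul, hXc.is_comm.comm u v, map_mul])⟩⟩
      have hc := CfsgLib.Core.FPF.isCyclic_of_isMulCommutative h1 h2 h3 (B := B₁) le_rfl
      exact isCyclic_of_injective (MonoidHom.ofInjective (f := (SemidirectProduct.inr : X →* H)) SemidirectProduct.inr_injective).toMonoidHom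
        (MulEquiv.injective _)
    refine (IsPair.not_rank_one (A := B) (⟨hB1, hB2⟩ : IsPair q B) (M := M) fun b hb => ?_) hq1
    refine hE.1 ?_
    have hbN := hRN (hBR hb)
    set b' : normalizer (A : Set G) := ⟨b, hbN⟩
    set k' : normalizer (A : Set G) := ⟨k, hkA⟩
    have hbX : f b' ∈ X := mem_map_of_mem f (show b' ∈ R'.subgroupOf _ from hBR hb)
    have hkX : f k' ∈ X := mem_map_of_mem f (show k' ∈ R'.subgroupOf _ from hkR)
    have hd : orderOf (f b') ∣ orderOf (f k') := by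
      refine (orderOf_dvd_of_pow_eq_one (n := q) (by
        rw [← map_pow, show b' ^ q = 1 from Subtype.ext (hB1.2 b hb), map_one])).trans ?_
      obtain ⟨j, hj⟩ := IsPGroup.iff_card.mp hkq
      rw [Nat.card_zpowers] at hj
      obtain ⟨c, -, hc⟩ := (Nat.dvd_prime_pow Fact.out).mp
        (orderOf_dvd_of_pow_eq_one (n := q ^ j) (x := f k') (by
          rw [← map_pow, show k' ^ q ^ j = 1 from Subtype.ext (by rw [← hj]; exact pow_orderOf_eq_one k), map_one]))
      rw [hc]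
      refine dvd_pow_self q ?_
      rintro rfl
      exact hkC ((hker k').mp (orderOf_eq_one_iff.mp (by simpa using hc)))
    have hle := CfsgLib.Orders.AbelianLift.le_of_card_dvd_of_isCyclic (Q := X) (zpowers_le.mpr hbX) (zpowers_le.mpr hkX)
      (by rw [Nat.card_zpowers, Nat.card_zpowers]; exact hd)
    obtain ⟨j, hj⟩ := mem_zpowers_iff.mp (hle (mem_zpowers _))
    have h4 : f ((k' ^ j)⁻¹ * b') = 1 := by rw [map_mul, map_inv, map_zpow, hj, inv_mul_cancel]
    have h5 := hCE ((hker _).mp h4)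
    have h6 := mul_mem (zpow_mem hkE j) h5
    simpa [b', k'] using h6

/-- Either all lines of `A` are fixed point free, or one of them is also `E`-invariant. -/
theorem good_dichotomy (hG : Cfsg.IsMinSimpleOddOrder G) (hM : IsCoatom M)
    (hE : Cfsg.IsComplIn E (Cfsg.sigmaCore M) M) (hp : p ∈ Cfsg.tau2 M) (hA : IsPair p A) (hAE : A ≤ E)
    (hab : ∀ S : Sylow p G, IsMulCommutative (S : Subgroup G))
    (hall : ∀ t : ℕ, t ∈ Cfsg.tau2 M → ∀ [Fact t.Prime] (S : Sylow t G), IsMulCommutative (S : Subgroup G))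
    (h : ∀ e ∈ E, e ≠ 1 → (∀ t : ℕ, t.Prime → t ∣ orderOf e → t ∈ Cfsg.tau1 M ∪ Cfsg.tau3 M) →
      Cfsg.sigmaCore M ⊓ centralizer ({e} : Set G) = ⊥) :
    (∀ z ∈ A, z ≠ 1 → Cfsg.sigmaCore M ⊓ centralizer ({z} : Set G) = ⊥) ∨
      ∃ z ∈ A, z ≠ 1 ∧ Cfsg.sigmaCore M ⊓ centralizer ({z} : Set G) = ⊥ ∧
        E ≤ normalizer ((zpowers z : Subgroup G) : Set G) := by
  have hAM := hAE.trans hE.1
  have hpσ := hp.2.1
  obtain ⟨hEA, hΩ, -⟩ := le_normalizer_pair hG hM hA hpσ hE hAE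
  by_contra hcon
  push Not at hcon
  obtain ⟨⟨y, hy, hy1, hbad⟩, hno⟩ := hcon
  have hinv : ∀ z ∈ A, z ≠ 1 → ∀ e : G, e ∈ E → e * z * e⁻¹ ∈ zpowers z →
      e ∈ normalizer ((zpowers z : Subgroup G) : Set G) := by
    intro z hz hz1 e he hez
    refine Transfer.map_conj_eq_self_iff.mp (eq_of_le_of_card_ge ?_ (Transfer.card_map_conj e _).ge)
    rintro _ ⟨c, hc, rfl⟩
    obtain ⟨i, rfl⟩ := mem_zpowers_iff.mp hc
    show e * z ^ i * e⁻¹ ∈ zpowers z
    rw [← conj_zpow]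
    exact zpow_mem hez i
  have hnoinv : ∀ w ∈ A, w ≠ 1 → ∃ e ∈ E, e * w * e⁻¹ ∉ zpowers w := by
    intro w hw hw1
    by_contra hc
    push Not at hc
    by_cases hwg : Cfsg.sigmaCore M ⊓ centralizer ({w} : Set G) = ⊥
    · exact hno w hw hw1 hwg fun e he => hinv w hw hw1 e he (hc e he)
    obtain ⟨g, hgA, hgM⟩ := SetLike.not_le_iff_exists.mp (not_normalizer_le hG hM hA hAM hpσ)
    have hw' : g * w * g⁻¹ ∈ A := (mem_normalizer_iff.mp hgA w).mp hw
    have hw'1 : g * w * g⁻¹ ≠ 1 := fun e => hw1 (conj_eq_one_iff.mp e)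
    refine hno _ hw' hw'1 ?_ fun e he => hinv _ hw' hw'1 e he ?_
    · by_contra hb
      obtain ⟨hle, -⟩ := bad_unique hG hM hA hAM hpσ hw' hb hw'1
      obtain ⟨-, huniq⟩ := bad_unique hG hM hA hAM hpσ hw hwg hw1
      have e1 := huniq (M.map (MulAut.conj g⁻¹).toMonoidHom)
        (((MulAut.conj g⁻¹).mapSubgroup).isCoatom_iff M |>.mpr hM) fun c hc =>
          ⟨g * c * g⁻¹, hle (mem_centralizer_singleton_iff.mpr (by
            calc g * c * g⁻¹ * (g * w * g⁻¹) = g * (c * w) * g⁻¹ := by group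
              _ = g * (w * c) * g⁻¹ := by rw [mem_centralizer_singleton_iff.mp hc]
              _ = g * w * g⁻¹ * (g * c * g⁻¹) := by group)), by
            show g⁻¹ * (g * c * g⁻¹) * g⁻¹⁻¹ = c
            group⟩
      have h2 := NonSigma.mem_normalizer_self hG hM (ProperPLength.maximal_ne_bot hG hM) e1
      exact hgM (by simpa using inv_mem h2)
    · obtain ⟨i, hi⟩ := mem_zpowers_iff.mp (hc e he)
      have hd : (g * e)⁻¹ * (e * g) ∈ centralizer (A : Set G) := by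
        rw [show (g * e)⁻¹ * (e * g) = ⁅e⁻¹, g⁻¹⁆ by rw [commutatorElement_def]; group]
        exact derived_le_centralizer hG hA hab
          (commutator_mem_commutator (inv_mem (hEA he)) (inv_mem hgA))
      refine mem_zpowers_iff.mpr ⟨i, ?_⟩
      rw [conj_zpow, hi]
      have h3 := mem_centralizer_iff.mp hd w hw
      calc g * (e * w * e⁻¹) * g⁻¹ = (g * e) * (w * ((g * e)⁻¹ * (e * g))) * ((g * e)⁻¹ * (e * g))⁻¹ * (g * e)⁻¹ := by
            group
        _ = (g * e) * (((g * e)⁻¹ * (e * g)) * w) * ((g * e)⁻¹ * (e * g))⁻¹ * (g * e)⁻¹ := by rw [h3]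
        _ = e * (g * w * g⁻¹) * e⁻¹ := by group
  -- an element of prime power order moving `⟨y⟩`
  obtain ⟨k, q, hkE, hqpr, hkq, hky⟩ : ∃ (k : G) (q : ℕ), k ∈ E ∧ q.Prime ∧ IsPGroup q (zpowers k) ∧
      k * y * k⁻¹ ∉ zpowers y := by
    by_contra hc
    push Not at hc
    obtain ⟨e, he, hey⟩ := hnoinv y hy hy1
    refine hey ((mem_normalizer_iff.mp ?_ y).mp (mem_zpowers y))
    refine HallGen.mem_of_primePow_parts (normalizer ((zpowers y : Subgroup G) : Set G)) e fun u hu t j ht hto => ?_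
    have hue : u ∈ E := zpowers_le.mpr he hu
    exact hinv y hy hy1 u hue (hc u t hue ht (IsPGroup.of_card (n := j) (by rw [Nat.card_zpowers, hto])))
  have := Fact.mk hqpr
  have hk1 : k ≠ 1 := fun e => hky (by rw [e]; simp)
  have hkC : k ∉ centralizer (A : Set G) := fun hC => hky (by
    rw [← mem_centralizer_iff.mp hC y hy, mul_inv_cancel_right]; exact mem_zpowers y)
  obtain ⟨j, hj⟩ := IsPGroup.iff_card.mp hkq
  rw [Nat.card_zpowers] at hj
  have hj0 : j ≠ 0 := fun e => hk1 (orderOf_eq_one_iff.mp (by rw [hj, e, pow_zero]))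
  have hqE : q ∣ Nat.card E := by
    refine ((dvd_pow_self q hj0).trans hj.symm.dvd).trans ?_
    rw [← Nat.card_zpowers]
    exact card_dvd_of_le (zpowers_le.mpr hkE)
  have hqp : q ≠ p := by
    rintro rfl
    exact hkC (pElement_centralizes hA hab (hEA hkE) hkq)
  obtain ⟨hqσ, ⟨hq13, hq1⟩ | hq2⟩ := tau_cases hG hM hE hqpr hqE
  swap
  · have h1 := pElement_centralizes_core (p := q) (t := p) hG hM hE hq2 (fun S => hall q hq2 S) hkE hkq
    refine hkC (Subgroup.centralizer_le (fun a ha => ?_) h1)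
    have := normal_subgroupOf_of_le_normalizer hEA
    exact (map_subgroupOf_eq_of_le hAE).ge.trans (map_mono (Core.le_pCore hA.isPGroup.comap_subtype)) ha
  set k₀ := k ^ q ^ (j - 1) with hk₀
  have hk₀o : orderOf k₀ = q := by
    rw [orderOf_pow, hj, Nat.gcd_eq_right (pow_dvd_pow q (Nat.sub_le j 1)),
      Nat.pow_div (Nat.sub_le j 1) hqpr.pos, show j - (j - 1) = 1 by omega, pow_one]
  have hk₀z : k₀ ∈ zpowers k := pow_mem (mem_zpowers k) _
  have hk₀E : k₀ ∈ E := pow_mem hkE _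
  have hgood : Cfsg.sigmaCore M ⊓ centralizer ({k₀} : Set G) = ⊥ :=
    h k₀ hk₀E (fun e => hqpr.ne_one (by rw [← hk₀o, e, orderOf_one])) fun t ht hd => by
      rw [hk₀o] at hd
      rwa [(Nat.prime_dvd_prime_iff_eq ht hqpr).mp hd]
  have hk₀A : k₀ ∈ centralizer (A : Set G) := by
    refine mem_centralizer_iff.mpr fun a ha => (commutatorElement_eq_one_iff_mul_comm.mp ?_).symm
    have hy' : k * y * k⁻¹ ∈ A := (mem_normalizer_iff.mp (hEA hkE) y).mp hy
    have hy'1 : k * y * k⁻¹ ≠ 1 := fun e => hy1 (conj_eq_one_iff.mp e)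
    have h1 := commutator_mem_line hG hM hA hAM hpσ hqp hqσ (hE.1 hk₀E) hk₀o (hEA hk₀E) hgood hy hy1 hbad ha
    have h2 := commutator_mem_line hG hM hA hAM hpσ hqp hqσ (hE.1 hk₀E) hk₀o (hEA hk₀E) hgood hy' hy'1
      (bad_conj (hE.1 hkE) hbad) ha
    by_contra hne
    exact hky ((zpowers_eq_of_mem hA hy hy1 h1 hne) ▸
      (zpowers_eq_of_mem hA hy' hy'1 h2 hne).ge (mem_zpowers _))
  refine irreducible_false hG hM hE hA hAE hpσ hab hqp hq1 hkE hkq hk₀z hk₀o hk₀A ?_ hy hy1 hbad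
  -- `k` fixes no line
  intro z hz hz1 hkz
  obtain ⟨e, he, hez⟩ := hnoinv z hz hz1
  have hw : e * z * e⁻¹ ∈ A := (mem_normalizer_iff.mp (hEA he) z).mp hz
  have hcomm : ∀ u ∈ A, k * (e * u * e⁻¹) * k⁻¹ = e * (k * u * k⁻¹) * e⁻¹ := by
    intro u hu
    have hd : (k * e)⁻¹ * (e * k) ∈ centralizer (A : Set G) := by
      rw [show (k * e)⁻¹ * (e * k) = ⁅e⁻¹, k⁻¹⁆ by rw [commutatorElement_def]; group]
      exact derived_le_centralizer hG hA hab (commutator_mem_commutator (inv_mem (hEA he)) (inv_mem (hEA hkE)))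
    have h3 := mem_centralizer_iff.mp hd u hu
    calc k * (e * u * e⁻¹) * k⁻¹ = (k * e) * (u * ((k * e)⁻¹ * (e * k))) * ((k * e)⁻¹ * (e * k))⁻¹ * (k * e)⁻¹ := by
          group
      _ = (k * e) * (((k * e)⁻¹ * (e * k)) * u) * ((k * e)⁻¹ * (e * k))⁻¹ * (k * e)⁻¹ := by rw [h3]
      _ = e * (k * u * k⁻¹) * e⁻¹ := by group
  have hfix : ∀ u ∈ A, k * u * k⁻¹ ∈ zpowers u → k * (e * u * e⁻¹) * k⁻¹ ∈ zpowers (e * u * e⁻¹) := by
    intro u hu hku
    obtain ⟨i, hi⟩ := mem_zpowers_iff.mp hku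
    exact mem_zpowers_iff.mpr ⟨i, by rw [hcomm u hu, conj_zpow, hi]⟩
  set w := e * z * e⁻¹ with hwdef
  have hw1 : w ≠ 1 := fun e' => hez (e' ▸ one_mem _)
  have hv : e * w * e⁻¹ ∈ A := (mem_normalizer_iff.mp (hEA he) w).mp hw
  have hkw := hfix z hz hkz
  have hvz : e * w * e⁻¹ ∉ zpowers z := by
    intro hc
    -- `e²` and hence `e` fixes the line
    have h2 : e ^ 2 ∈ normalizer ((zpowers z : Subgroup G) : Set G) := by
      refine hinv z hz hz1 _ (pow_mem he 2) ?_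
      rwa [show e ^ 2 * z * (e ^ 2)⁻¹ = e * w * e⁻¹ by rw [hwdef, pow_two]; group]
    obtain ⟨m, hm⟩ := exists_pow_eq_self_of_coprime (x := e) (n := 2)
      ((Nat.coprime_two_left).mpr (hG.1.of_dvd_nat (orderOf_dvd_natCard e)))
    have h3 : e ∈ normalizer ((zpowers z : Subgroup G) : Set G) := hm ▸ pow_mem h2 m
    exact hez ((mem_normalizer_iff.mp h3 z).mp (mem_zpowers z))
  have hvw : e * w * e⁻¹ ∉ zpowers w := by
    intro hc
    obtain ⟨i, hi⟩ := mem_zpowers_iff.mp hc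
    refine hez (mem_zpowers_iff.mpr ⟨i, ?_⟩)
    have h4 : e * z ^ i * e⁻¹ = e * w * e⁻¹ := by rw [← conj_zpow, ← hwdef, hi]
    exact mul_left_cancel (mul_right_cancel h4)
  exact hky (fixes_of_three hA hz hz1 hw hez hv hvz hvw hkz hkw (hfix w hw hkw) hy)

end CfsgLib.TwoGroups.TauTwo
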