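import Cfsg.Agent.Lib.TwoGroups.SigmaFactor
import Cfsg.Agent.Lib.OddLocal.KappaDecomp

/-!
Owner: helper12. A subgroup of `U` of full exponent with no fixed points on `M_σ` (Bender–Glauberman, 15.1 (c)).
-/

set_option autoImplicit false
set_option linter.unusedSectionVars false

namespace CfsgLib.TwoGroups.SigmaFactor

open Subgroup
open CfsgLib.TwoGroups.TauTwo

variable {G : Type*} [Group G] [Finite G] {M K U : Subgroup G}

/-- `U` is abelian when `K ≠ 1`. -/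
theorem commutative_of_ne_bot (hG : Cfsg.IsMinSimpleOddOrder G) (hM : IsCoatom M)
    (h : Cfsg.IsSigmaDecomposition M K U) (hK : K ≠ ⊥) : IsMulCommutative U := by
  obtain ⟨E, d⟩ := OddLocal.Kappa.exists_data hG hM h.hall hK
  obtain ⟨V, -, hVc, hV, -, -⟩ := d.exists_U hG
  have hU := OddLocal.Kappa.hall_of_compl hG hM h.hall h.compl
  set π : Set ℕ := OddLocal.Kappa.restPrimes M
  have : Group.IsSolvable M := hG.2.2.2 M hM.1
  have key : ∀ {T : Subgroup G}, Cfsg.IsPiHallOf π T M → Cfsg.IsPiHall π (T.subgroupOf M) := fun {T} hT =>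
    ⟨fun t ht hd => hT.2.1 t ht (by rwa [Nat.card_congr (subgroupOfEquivOfLe hT.1).toEquiv] at hd),
      fun t ht hπ => hT.2.2 t ht hπ⟩
  obtain ⟨m, hm⟩ := Core.piHall_conj (key hV) (key hU)
  refine ⟨⟨fun a b => Subtype.ext ?_⟩⟩
  have mem : ∀ a ∈ U, (m : G)⁻¹ * a * (m : G) ∈ V := fun a ha => by
    have h1 : (⟨a, hU.1 ha⟩ : M) ∈ U.subgroupOf M := mem_subgroupOf.mpr ha
    rw [← hm, Subgroup.mem_pointwise_smul_iff_inv_smul_mem, MulAut.smul_def, MulAut.conj_inv_apply] at h1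
    simpa [mem_subgroupOf, mul_assoc] using h1
  have h2 := congrArg Subtype.val (hVc.is_comm.comm (⟨_, mem a a.2⟩ : V) ⟨_, mem b b.2⟩)
  calc (a : G) * b = m * ((m : G)⁻¹ * a * m * ((m : G)⁻¹ * b * m)) * (m : G)⁻¹ := by group
    _ = m * ((m : G)⁻¹ * b * m * ((m : G)⁻¹ * a * m)) * (m : G)⁻¹ := by
      rw [show (m : G)⁻¹ * a * m * ((m : G)⁻¹ * b * m) = (m : G)⁻¹ * b * m * ((m : G)⁻¹ * a * m) from h2]
    _ = b * a := by group

/-- The `τ₂`-elements of `U K` lie in `U`. -/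
theorem mem_U_of_pElement (hG : Cfsg.IsMinSimpleOddOrder G) (hM : IsCoatom M)
    (h : Cfsg.IsSigmaDecomposition M K U) {t j : ℕ} (ht : t ∈ Cfsg.tau2 M) {w : G} (hw : w ∈ U ⊔ K)
    (hwo : orderOf w = t ^ j) : w ∈ U := by
  have := Fact.mk ht.1
  have hU := OddLocal.Kappa.hall_of_compl hG hM h.hall h.compl
  have hκ : t ∉ Cfsg.kappa M := fun hk => ht.2.2.2 (OddLocal.Kappa.rank_one_of_kappa hk)
  set E := U ⊔ K
  have hn : (U.subgroupOf E).Normal := normal_subgroupOf_of_le_normalizer (sup_le le_normalizer h.normal)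
  have hi : ¬ t ∣ (U.subgroupOf E).index := fun hd => hU.2.2 t ht.1 ⟨ht.1, hκ, ht.2.1⟩ (by
    rw [← relIndex_mul_relIndex U E M le_sup_left (sup_le_M h)]
    exact Dvd.dvd.mul_right hd _)
  obtain ⟨x, hx⟩ := exists_conj_mem_of_index hi (g := (⟨w, hw⟩ : E)) (k := j) (by rw [orderOf_mk, hwo])
  have h1 := hn.conj_mem _ hx x⁻¹
  simpa [mem_subgroupOf, mul_assoc] using h1

/-- A fixed point free element of maximal order in the `t`-part of `U`. -/
theorem exists_good (hG : Cfsg.IsMinSimpleOddOrder G) (hM : IsCoatom M) (h : Cfsg.IsSigmaDecomposition M K U)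
    (hUc : IsMulCommutative U) {t : ℕ} [Fact t.Prime] (ht : t ∈ Cfsg.tau2 M) :
    ∃ z ∈ U, ∃ k : ℕ, orderOf z = t ^ k ∧ (∀ g ∈ U, ∀ j : ℕ, orderOf g = t ^ j → j ≤ k) ∧
      ∀ w ∈ zpowers z, orderOf w = t → w ∉ Cfsg.sigmaHat M := by
  have htp : t.Prime := Fact.out
  set O := Cfsg.sigmaCore M
  have hE := isComplIn hG hM h
  obtain ⟨A, hA, hAE⟩ := exists_pair_complement hG hM hE ht
  have hAM := hAE.trans hE.1
  have htσ := ht.2.1
  obtain ⟨hEA, hΩ, -⟩ := le_normalizer_pair hG hM hA htσ hE hAE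
  have hCE : centralizer (A : Set G) ≤ U ⊔ K := (le_inf (TauTwo.centralizer_le hG hM hA hAM) le_rfl).trans
    (centralizer_le_complement (sigma_inf_centralizer hG hM hA hAM htσ) hE hAE)
  have hAU : A ≤ U := fun a ha => by
    by_cases ha1 : a = 1
    · rw [ha1]; exact one_mem _
    exact mem_U_of_pElement hG hM h ht (hAE ha) (j := 1) (by rw [pow_one]; exact orderOf_eq_prime (hA.1.2 a ha) ha1)
  have hUC : U ≤ centralizer (A : Set G) := fun x hx => mem_centralizer_iff.mpr fun a ha =>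
    congrArg Subtype.val (hUc.is_comm.comm (⟨a, hAU ha⟩ : U) ⟨x, hx⟩)
  -- an element of maximal `t`-power order
  have hfin : Set.Finite {j : ℕ | ∃ g ∈ U, orderOf g = t ^ j} :=
    (Set.finite_le_nat (Nat.card G)).subset fun j ⟨g, _, hg⟩ =>
      (Nat.lt_pow_self htp.one_lt).le.trans (hg ▸ orderOf_le_card)
  obtain ⟨k, ⟨u, hu, huo⟩, hmax⟩ := Set.exists_max_image _ id hfin ⟨0, 1, one_mem _, by simp⟩
  have hk1 : 1 ≤ k := by
    obtain ⟨a, ha, ha1⟩ := A.bot_or_exists_ne_one.resolve_left hA.ne_bot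
    exact hmax 1 ⟨a, hAU ha, by rw [pow_one]; exact orderOf_eq_prime (hA.1.2 a ha) ha1⟩
  obtain ⟨i, rfl⟩ : ∃ i, k = i + 1 := ⟨k - 1, by omega⟩
  have hpow : ∀ v : G, orderOf v = t ^ (i + 1) → orderOf (v ^ t ^ i) = t := fun v hv => by
    rw [orderOf_pow, hv, Nat.gcd_eq_right (pow_dvd_pow t (Nat.le_succ i)), Nat.pow_div (Nat.le_succ i) htp.pos,
      show i + 1 - i = 1 by omega, pow_one]
  have hyA : ∀ v ∈ U, orderOf v = t ^ (i + 1) → v ^ t ^ i ∈ A := fun v hv hvo =>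
    hΩ _ (mem_sup_left (pow_mem hv _)) (orderOf_dvd_iff_pow_eq_one.mp (hpow v hvo).dvd)
  have main : ∀ v ∈ U, orderOf v = t ^ (i + 1) → O ⊓ centralizer ({v ^ t ^ i} : Set G) = ⊥ →
      ∀ w ∈ zpowers v, orderOf w = t → w ∉ Cfsg.sigmaHat M := by
    rintro v hv hvo hgood w hw hwo ⟨-, y, hy, hy1, hwy⟩
    refine hy1 (mem_bot.mp (hgood.le ⟨hy, ?_⟩))
    rw [← centralizer_zpowers, ← socle_eq hw hwo (hpow v hvo), centralizer_zpowers]
    exact mem_centralizer_singleton_iff.mpr hwy.symm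
  by_cases hgood : O ⊓ centralizer ({u ^ t ^ i} : Set G) = ⊥
  · exact ⟨u, hu, i + 1, huo, fun g hg j hj => hmax j ⟨g, hg, hj⟩, main u hu huo hgood⟩
  obtain ⟨g, hgA, hgM⟩ := SetLike.not_le_iff_exists.mp (not_normalizer_le hG hM hA hAM htσ)
  have hvo : orderOf (g * u * g⁻¹) = t ^ (i + 1) := (MulEquiv.orderOf_eq (MulAut.conj g) u).trans huo
  have hvU : g * u * g⁻¹ ∈ U := mem_U_of_pElement hG hM h ht
    (hCE ((mem_normalizer_iff.mp (le_normalizer_centralizer A hgA) u).mp (hUC hu))) hvo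
  refine ⟨g * u * g⁻¹, hvU, i + 1, hvo, fun g hg j hj => hmax j ⟨g, hg, hj⟩, main _ hvU hvo ?_⟩
  by_contra hb
  set y := u ^ t ^ i
  have hy1 : y ≠ 1 := fun e => htp.ne_one ((hpow u huo).symm.trans (by rw [show u ^ t ^ i = 1 from e, orderOf_one]))
  rw [conj_pow] at hb
  have hy' : g * y * g⁻¹ ∈ A := (mem_normalizer_iff.mp hgA y).mp (hyA u hu huo)
  obtain ⟨hle, -⟩ := bad_unique hG hM hA hAM htσ hy' hb fun e => hy1 (conj_eq_one_iff.mp e)
  obtain ⟨-, huniq⟩ := bad_unique hG hM hA hAM htσ (hyA u hu huo) hgood hy1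
  have e1 := huniq (M.map (MulAut.conj g⁻¹).toMonoidHom)
    (((MulAut.conj g⁻¹).mapSubgroup).isCoatom_iff M |>.mpr hM) fun c hc =>
      ⟨g * c * g⁻¹, hle (mem_centralizer_singleton_iff.mpr (by
        calc g * c * g⁻¹ * (g * y * g⁻¹) = g * (c * y) * g⁻¹ := by group
          _ = g * (y * c) * g⁻¹ := by rw [mem_centralizer_singleton_iff.mp hc]
          _ = g * y * g⁻¹ * (g * c * g⁻¹) := by group)), by
        show g⁻¹ * (g * c * g⁻¹) * g⁻¹⁻¹ = c
        group⟩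
  have h2 := NonSigma.mem_normalizer_self hG hM (ProperPLength.maximal_ne_bot hG hM) e1
  exact hgM (by simpa using inv_mem h2)

/-- S1360. -/
theorem exists_same_exponent_free (hG : Cfsg.IsMinSimpleOddOrder G) (hM : IsCoatom M)
    (h : Cfsg.IsSigmaDecomposition M K U) :
    ∃ U₀ : Subgroup G, U₀ ≤ U ∧ Monoid.exponent U₀ = Monoid.exponent U ∧
      ∀ u ∈ U₀, u ∈ Cfsg.sigmaHat M → u = 1 := by
  classical
  by_cases hK : K = ⊥
  · have hE : Cfsg.IsComplIn U (Cfsg.sigmaCore M) M := by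
      have := isComplIn hG hM h; rwa [hK, sup_bot_eq] at this
    obtain ⟨-, E₀, hle, hexp, hgood⟩ := frobenius_type hG hM hE fun e he he1 hτ => by
      by_contra hb
      obtain ⟨⟨y, hy, hye⟩, hy1⟩ := (ne_bot_iff_exists_ne_one).mp hb
      obtain ⟨s, hs, hsd⟩ := Nat.exists_prime_and_dvd (fun e' : orderOf e = 1 => he1 (orderOf_eq_one_iff.mp e'))
      have h2 := tau2_of_mem_U hG hM h he
        ⟨hE.1 he, y, hy, fun e' => hy1 (Subtype.ext e'), (mem_centralizer_singleton_iff.mp hye).symm⟩ s hs hsd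
      rcases hτ s hs hsd with h1 | h3
      · exact h2.2.2.2 h1.2.2.2.2
      · exact h2.2.2.2 h3.2.2.2
    refine ⟨E₀, hle, hexp, fun u hu hh => by_contra fun hu1 => ?_⟩
    obtain ⟨-, y, hy, hy1, huy⟩ := hh
    exact hy1 (mem_bot.mp ((hgood u hu hu1).le ⟨hy, mem_centralizer_singleton_iff.mpr huy.symm⟩))
  have hUc := commutative_of_ne_bot hG hM h hK
  have hz : ∀ t : Cfsg.tau2 M, ∃ z ∈ U, ∃ k : ℕ, orderOf z = (t : ℕ) ^ k ∧
      (∀ g ∈ U, ∀ j : ℕ, orderOf g = (t : ℕ) ^ j → j ≤ k) ∧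
      ∀ w ∈ zpowers z, orderOf w = t → w ∉ Cfsg.sigmaHat M := fun t => by
    have := Fact.mk t.2.1
    exact exists_good hG hM h hUc t.2
  choose z hzU k hzo hmax hgood using hz
  let n : ℕ → ℕ := fun t => Nat.card U / t ^ (Nat.card U).factorization t
  let U₀ : Subgroup G :=
    { carrier := {u | u ∈ U ∧ ∀ t : Cfsg.tau2 M, u ^ n t ∈ zpowers (z t)}
      one_mem' := ⟨one_mem U, fun t => by rw [one_pow]; exact one_mem _⟩
      mul_mem' := fun {a b} ha hb => ⟨mul_mem ha.1 hb.1, fun t => by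
        rw [(show Commute a b from congrArg Subtype.val
          (hUc.is_comm.comm (⟨a, ha.1⟩ : U) ⟨b, hb.1⟩)).mul_pow]
        exact mul_mem (ha.2 t) (hb.2 t)⟩
      inv_mem' := fun {a} ha => ⟨inv_mem ha.1, fun t => by rw [inv_pow]; exact inv_mem (ha.2 t)⟩ }
  have hkill : ∀ (u : G) (t : ℕ) (s j : ℕ), u ∈ U → s.Prime → t.Prime → s ≠ t → orderOf u = s ^ j →
      u ^ n t = 1 := by
    intro u t s j hu hs ht hst huo
    refine orderOf_dvd_iff_pow_eq_one.mp ?_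
    refine Nat.Coprime.dvd_of_dvd_mul_left (m := t ^ (Nat.card U).factorization t) ?_ ?_
    · rw [huo]; exact Nat.Coprime.pow _ _ ((Nat.coprime_primes hs ht).mpr hst)
    · rw [Nat.ordProj_mul_ordCompl_eq_self]
      exact Subgroup.orderOf_dvd_natCard U hu
  refine ⟨U₀, fun u hu => hu.1, Nat.dvd_antisymm (Monoid.exponent_dvd.2 fun g => ?_)
    (Monoid.exponent_dvd.2 fun g => ?_), fun u hu hh => by_contra fun hu1 => ?_⟩
  · rw [← Subgroup.orderOf_coe, ← orderOf_mk (g : G) (g.2.1 : (g : G) ∈ U)]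
    exact Monoid.order_dvd_exponent _
  · rw [Nat.dvd_iff_prime_pow_dvd_dvd]
    intro s j hs hd
    rcases Nat.eq_zero_or_pos j with rfl | hj
    · exact one_dvd _
    rw [← Subgroup.orderOf_coe] at hd
    set g' := (g : G) ^ (orderOf (g : G) / s ^ j) with hg'
    have hgo : orderOf g' = s ^ j := orderOf_pow_orderOf_div (orderOf_pos (g : G)).ne' hd
    have hgU : g' ∈ U := pow_mem g.2 _
    obtain ⟨v, hvU, l, hvo, hjl, hv⟩ : ∃ v ∈ U, ∃ l, orderOf v = s ^ l ∧ j ≤ l ∧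
        ∀ t : Cfsg.tau2 M, (t : ℕ) = s → v ∈ zpowers (z t) := by
      by_cases hτ : s ∈ Cfsg.tau2 M
      · exact ⟨z ⟨s, hτ⟩, hzU _, k ⟨s, hτ⟩, hzo ⟨s, hτ⟩, hmax ⟨s, hτ⟩ g' hgU j hgo, fun t ht => by
          rw [show t = ⟨s, hτ⟩ from Subtype.ext ht]; exact mem_zpowers _⟩
      · exact ⟨g', hgU, j, hgo, le_rfl, fun t ht => absurd (ht ▸ t.2) hτ⟩
    have hmem : v ∈ U₀ := ⟨hvU, fun t => by
      by_cases hts : (t : ℕ) = s
      · exact pow_mem (hv t hts) _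
      · rw [hkill v t s l hvU hs t.2.1 (Ne.symm hts) hvo]; exact one_mem _⟩
    refine (pow_dvd_pow s hjl).trans ?_
    rw [← hvo, ← orderOf_mk v hmem]
    exact Monoid.order_dvd_exponent _
  · obtain ⟨t, ht, htd⟩ := Nat.exists_prime_and_dvd (fun e : orderOf u = 1 => hu1 (orderOf_eq_one_iff.mp e))
    have hτ := tau2_of_mem_U hG hM h hu.1 hh t ht htd
    set w := u ^ (orderOf u / t) with hw
    have hwo : orderOf w = t := orderOf_pow_orderOf_div (orderOf_pos u).ne' htd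
    have hwn : w ^ n t ∈ zpowers (z ⟨t, hτ⟩) := (pow_mem (show u ∈ U₀ from hu) _ : w ∈ U₀).2 ⟨t, hτ⟩
    obtain ⟨m, hm⟩ := exists_pow_eq_self_of_coprime (x := w) (n := n t)
      (hwo.symm ▸ (Nat.coprime_ordCompl ht (Nat.card_pos (α := U)).ne').symm)
    exact hgood ⟨t, hτ⟩ w (hm ▸ pow_mem hwn m) hwo (sigmaHat_zpowers hh (pow_mem (mem_zpowers u) _))

end CfsgLib.TwoGroups.SigmaFactor
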