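import Cfsg.Agent.Lib.TwoGroups.AlphaCent

/-!
Owner: helper12. Primes of a maximal subgroup outside `σ(M)`.
-/

set_option autoImplicit false

namespace CfsgLib.TwoGroups.NonSigma

open Subgroup

variable {G : Type*} [Group G] [Finite G] {p : ℕ} [Fact p.Prime] {M : Subgroup G}

/-- A cyclic group has one subgroup of order `p`. -/
theorem eq_of_card_prime {C : Type*} [Group C] [Finite C] (hC : IsCyclic C) {H K : Subgroup C}
    (hH : Nat.card H = p) (hK : Nat.card K = p) : H = K := by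
  have hp : p.Prime := Fact.out
  obtain ⟨g, hg⟩ := hC.exists_generator
  have hpow : ∀ {L : Subgroup C}, Nat.card L = p → ∀ x ∈ L, x ^ p = 1 := fun {L} hL x hx => by
    have h := pow_card_eq_one' (x := (⟨x, hx⟩ : L))
    rw [hL] at h
    exact congrArg Subtype.val h
  have hcomm : ∀ a b : C, a * b = b * a := fun a b => by
    obtain ⟨i, rfl⟩ := mem_zpowers_iff.mp (hg a)
    obtain ⟨j, rfl⟩ := mem_zpowers_iff.mp (hg b)
    rw [← zpow_add, ← zpow_add, add_comm]
  have hn : H ≤ normalizer (K : Set C) := fun h _ => centralizer_le_normalizer _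
    (mem_centralizer_iff.mpr fun k _ => hcomm k h)
  have hle : ∀ x ∈ H ⊔ K, x ^ p = 1 := by
    intro x hx
    obtain ⟨a, ha, b, hb, rfl⟩ := (Core.mem_sup_iff_mul' hn).mp hx
    rw [(show Commute a b from hcomm a b).mul_pow, hpow hK a ha, hpow hH b hb, one_mul]
  obtain ⟨t, ht⟩ := (inferInstance : IsCyclic ↥(H ⊔ K)).exists_generator
  have hcard : Nat.card ↥(H ⊔ K) ≤ p := by
    rw [← card_top (G := ↥(H ⊔ K)), ← (eq_top_iff' _).mpr ht, Nat.card_zpowers]
    exact orderOf_le_of_pow_eq_one hp.pos (Subtype.ext (hle t t.2))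
  exact (eq_of_le_of_card_ge le_sup_left (by rw [hH]; exact hcard)).trans
    (eq_of_le_of_card_ge le_sup_right (by rw [hK]; exact hcard)).symm

/-- Some element of a normaliser of a Sylow subgroup lies outside `M`. -/
theorem exists_outside (hpM : p ∣ Nat.card M) (hp : p ∉ Cfsg.sigma M) (P : Sylow p M) :
    ∃ g ∈ normalizer (((P : Subgroup M).map M.subtype : Subgroup G) : Set G), g ∉ M := by
  by_contra h
  push Not at h
  exact hp ⟨Fact.out, hpM, P, h⟩

theorem mem_normalizer_self (hG : Cfsg.IsMinSimpleOddOrder G) (hM : IsCoatom M) (hMb : M ≠ ⊥)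
    {g : G} (h : M.map (MulAut.conj g).toMonoidHom = M) : g ∈ M := by
  have hg : g ∈ normalizer (M : Set G) := Transfer.map_conj_eq_self_iff.mp h
  rcases (le_normalizer : M ≤ normalizer (M : Set G)).lt_or_eq with h' | h'
  · exact absurd (hM.2 _ h') (TransitivityHyp.normalizer_ne_top hG hMb hM.1)
  · exact h'.ge hg

/-- A uniqueness element centraliser. -/
def Unique (M : Subgroup G) (x : G) : Prop :=
  centralizer ({x} : Set G) ≤ M ∧
    ∀ L : Subgroup G, IsCoatom L → centralizer ({x} : Set G) ≤ L → L = M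

/-- S1407. -/
theorem exists_central (hG : Cfsg.IsMinSimpleOddOrder G)
    (hM : IsCoatom M) (hpM : p ∣ Nat.card M) (hp : p ∉ Cfsg.sigma M) (P : Sylow p M) :
    ∃ x : G, x ∈ ((center ↥(P : Subgroup M)).map (P : Subgroup M).subtype).map M.subtype ∧
      orderOf x = p ∧
      IsZGroup ↥(Cfsg.alphaCore M ⊓ centralizer ({x} : Set G)) ∧
      ¬ Unique M x := by
  have hp' : p.Prime := Fact.out
  set P' := (P : Subgroup M).map M.subtype with hP'
  obtain ⟨g, hg, hgM⟩ := exists_outside hpM hp P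
  have hMb : M ≠ ⊥ := fun h => hp'.ne_one (Nat.dvd_one.mp (by rw [h, card_bot] at hpM; exact hpM))
  -- an element of order `p` in the centre
  have : Nontrivial (P : Subgroup M) :=
    (nontrivial_iff_ne_bot _).mpr (P.ne_bot_of_dvd_card hpM)
  have hZ := P.2.center_nontrivial
  have hpZ : p ∣ Nat.card (center (P : Subgroup M)) := by
    obtain ⟨n, hn⟩ := IsPGroup.iff_card.mp (P.2.to_subgroup (center (P : Subgroup M)))
    have h1 : 1 < Nat.card (center (P : Subgroup M)) := Finite.one_lt_card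
    have hn0 : n ≠ 0 := by
      rintro rfl
      rw [hn] at h1
      simp at h1
    exact hn ▸ dvd_pow_self p hn0
  obtain ⟨z, hz⟩ := exists_prime_orderOf_dvd_card' p hpZ
  set x : G := ((((z : (P : Subgroup M)) : M)) : G) with hx
  have hxo : orderOf x = p := by rw [hx, Subgroup.orderOf_coe, Subgroup.orderOf_coe, Subgroup.orderOf_coe, hz]
  set Z := ((center ↥(P : Subgroup M)).map (P : Subgroup M).subtype).map M.subtype with hZdef
  have hxZ : x ∈ Z := ⟨_, ⟨z, z.2, rfl⟩, rfl⟩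
  have hconj : ∀ y ∈ Z, g * y * g⁻¹ ∈ Z := by
    rintro _ ⟨_, ⟨c, hc', rfl⟩, rfl⟩
    obtain ⟨w, hw, hwe⟩ := (mem_normalizer_iff.mp hg _).mp (⟨_, c.2, rfl⟩ : ((c : M) : G) ∈ P')
    refine ⟨w, ⟨⟨w, hw⟩, mem_center_iff.mpr fun u => Subtype.ext (Subtype.ext ?_), rfl⟩, hwe⟩
    obtain ⟨v, hv, hve⟩ := (mem_normalizer_iff''.mp hg _).mp (⟨_, u.2, rfl⟩ : ((u : M) : G) ∈ P')
    have h1 : ((v : M) : G) * ((c : M) : G) = ((c : M) : G) * ((v : M) : G) :=
      congrArg (fun s : (P : Subgroup M) => ((s : M) : G)) (mem_center_iff.mp hc' ⟨v, hv⟩)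
    have hw' : (w : G) = g * ((c : M) : G) * g⁻¹ := hwe
    have hv' : (v : G) = g⁻¹ * ((u : M) : G) * g := hve
    rw [hv'] at h1
    show ((u : M) : G) * (w : G) = (w : G) * ((u : M) : G)
    rw [hw']
    calc ((u : M) : G) * (g * ((c : M) : G) * g⁻¹)
        = g * (g⁻¹ * ((u : M) : G) * g * ((c : M) : G)) * g⁻¹ := by group
      _ = g * (((c : M) : G) * (g⁻¹ * ((u : M) : G) * g)) * g⁻¹ := by rw [h1]
      _ = g * ((c : M) : G) * g⁻¹ * ((u : M) : G) := by group
  -- some central element of order `p` has no uniqueness centraliser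
  obtain ⟨y, hyZ, hyo, hy⟩ : ∃ y ∈ Z, orderOf y = p ∧ ¬ Unique M y := by
    by_contra hall
    push Not at hall
    have hyo : orderOf (g * x * g⁻¹) = p := by
      rw [← hxo]
      exact orderOf_injective (MulAut.conj g).toMonoidHom (MulAut.conj g).injective x
    obtain ⟨hx1, hx2⟩ := hall x hxZ hxo
    obtain ⟨hy1, hy2⟩ := hall _ (hconj x hxZ) hyo
    have he := ((MulAut.conj g).mapSubgroup).isCoatom_iff M
    refine hgM (mem_normalizer_self hG hM hMb (hy2 _ (he.mpr hM) ?_))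
    intro c hc'
    refine ⟨g⁻¹ * c * g, hx1 (mem_centralizer_singleton_iff.mpr ?_), ?_⟩
    · have h1 := mem_centralizer_singleton_iff.mp hc'
      calc g⁻¹ * c * g * x = g⁻¹ * (c * (g * x * g⁻¹)) * g := by group
        _ = g⁻¹ * ((g * x * g⁻¹) * c) * g := by rw [h1]
        _ = x * (g⁻¹ * c * g) := by group
    · show g * (g⁻¹ * c * g) * g⁻¹ = c
      group
  set K := Cfsg.alphaCore M ⊓ centralizer ({y} : Set G) with hK
  refine ⟨y, hyZ, hyo, ⟨fun q hq Q => ?_⟩, hy⟩
  have := Fact.mk hq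
  by_contra hQ
  refine hy ?_
  have hyM : y ∈ M := map_subtype_le _ hyZ
  have hq2 : q ≠ 2 := by
    refine Uniqueness.odd_prime hG ?_
    obtain ⟨k, hk⟩ := IsPGroup.iff_card.mp Q.2
    have hk0 : k ≠ 0 := by
      rintro rfl
      have hb := eq_bot_of_card_eq _ (hk.trans (pow_zero q))
      exact hQ (by rw [hb]; infer_instance)
    exact (((dvd_pow_self q hk0).trans hk.symm.dvd).trans (card_subgroup_dvd_card _)).trans
      (card_subgroup_dvd_card _)
  obtain ⟨E, -, hE, hE2⟩ := Transfer.exists_normal_elementary_card_sq hq2 Q.2 hQ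
  have hyα : ∀ r : ℕ, r.Prime → r ∣ Nat.card (zpowers y) → r ∉ Cfsg.alpha M := by
    intro r hr hd hrα
    rw [Nat.card_zpowers, hyo, Nat.prime_dvd_prime_iff_eq hr hp'] at hd
    subst hd
    exact hp (SigmaTrans.alpha_subset_sigma hG hM hrα)
  have hcen : centralizer (zpowers y : Set G) = centralizer ({y} : Set G) := by
    rw [zpowers_eq_closure, centralizer_closure]
  have hr : ¬ Cfsg.RankLE 1 ↥(Cfsg.alphaCore M ⊓ centralizer (zpowers y : Set G)) := by
    rw [hcen]
    intro h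
    have := hE.1
    have h1 := h q hq (E.map (Q : Subgroup K).subtype) inferInstance (by
      rintro _ ⟨e, he, rfl⟩
      rw [← map_pow, hE.2 e he, map_one])
    rw [card_map_of_injective (Q : Subgroup K).subtype_injective, hE2, pow_one, sq] at h1
    have := hq.one_lt
    nlinarith
  have hU := AlphaCent.centralizer_unique hG hM (zpowers_le.mpr hyM) hyα hr
  rw [hcen] at hU
  have hy1 : y ≠ 1 := fun e => by
    rw [e, orderOf_one] at hyo
    exact hp'.ne_one hyo.symm
  have hle := Uniqueness.le_of_inUniqueMaximal hU hM inf_le_left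
    (TransitivityHyp.centralizer_singleton_ne_top hG hy1) inf_le_right
  exact ⟨hle, fun L hL hCL => hU.unique ⟨hL, inf_le_right.trans hCL⟩ ⟨hM, inf_le_left⟩⟩

/-- An elementary `p`-subgroup of order `≥ p ^ 2` of `M` is not a uniqueness subgroup. -/
theorem not_inUniqueMaximal (hG : Cfsg.IsMinSimpleOddOrder G) (hM : IsCoatom M)
    (hp : p ∉ Cfsg.sigma M) {A : Subgroup G} (hAM : A ≤ M) (hA : Cfsg.IsElementaryAbelian p A)
    (hA2 : p ^ 2 ≤ Nat.card A) : ¬ Cfsg.InUniqueMaximal A := by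
  intro hU
  have hp' : p.Prime := Fact.out
  have hAb : A ≠ ⊥ := Uniqueness.ne_bot_of_inUniqueMaximal hG hU
  have hpM : p ∣ Nat.card M := by
    obtain ⟨k, hk⟩ := IsPGroup.iff_card.mp (Signalizer.elementary_isPGroup hA)
    have hk0 : k ≠ 0 := by
      rintro rfl
      rw [pow_zero] at hk
      have := (Nat.one_lt_pow (by omega : 2 ≠ 0) hp'.one_lt).trans_le hA2
      omega
    exact ((dvd_pow_self p hk0).trans hk.symm.dvd).trans (card_dvd_of_le hAM)
  obtain ⟨P, hP⟩ := ((Signalizer.elementary_isPGroup hA).comap_subtype (K := M)).exists_le_sylow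
  have hAP : A ≤ (P : Subgroup M).map M.subtype := fun x hx => ⟨⟨x, hAM hx⟩, hP hx, rfl⟩
  obtain ⟨g, hg, hgM⟩ := exists_outside hpM hp P
  refine hgM (Uniqueness.le_of_inUniqueMaximal hU hM hAM ?_ (hAP.trans le_normalizer) hg)
  exact TransitivityHyp.normalizer_ne_top hG (fun hb => hAb (le_bot_iff.mp (hb ▸ hAP)))
    (Uniqueness.ne_top_of_pGroup hG (P.2.map _))

/-- S1408. -/
theorem rank_two (hG : Cfsg.IsMinSimpleOddOrder G) (hM : IsCoatom M)
    (hp : p ∉ Cfsg.sigma M) (hr1 : ¬ Cfsg.PRankLE p 1 M) :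
    ¬ Cfsg.IsIdealPrime p G ∧ ∀ A : Subgroup G, A ≤ M → Cfsg.IsElementaryAbelian p A →
      Nat.card A = p ^ 2 → ∀ B : Subgroup G, Cfsg.IsElementaryAbelian p B → A ≤ B → B = A := by
  have key : ∀ A : Subgroup G, A ≤ M → Cfsg.IsElementaryAbelian p A → Nat.card A = p ^ 2 →
      ∀ B : Subgroup G, Cfsg.IsElementaryAbelian p B → A ≤ B → B = A := by
    intro A hAM hA hA2 B hB hAB
    by_contra hne
    exact not_inUniqueMaximal hG hM hp hAM hA hA2.ge
      (AlphaCent.inUniqueMaximal_of_lt hG hA hA2.ge hB (lt_of_le_of_ne hAB (Ne.symm hne)))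
  refine ⟨fun ⟨_, _, hid⟩ => ?_, key⟩
  obtain ⟨E, hEM, hE, hE2⟩ := Uniqueness.exists_elementary_of_not_rank (X := M) hr1
  obtain ⟨A, hAE, hA2⟩ : ∃ A : Subgroup G, A ≤ E ∧ Nat.card A = p ^ 2 := by
    obtain ⟨k, hk⟩ := IsPGroup.iff_card.mp (Signalizer.elementary_isPGroup hE)
    rw [hk] at hE2
    obtain ⟨A, hA⟩ := Sylow.exists_subgroup_card_pow_prime_of_le_card (p := p) (n := 2)
      Fact.out (Signalizer.elementary_isPGroup hE) (by rw [hk]; exact hE2)
    exact ⟨A.map E.subtype, map_subtype_le _, by rw [card_map_of_injective E.subtype_injective, hA]⟩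
  have hA := Signalizer.elementary_of_le hE hAE
  obtain ⟨S, hS⟩ := (Signalizer.elementary_isPGroup hA).exists_le_sylow
  obtain ⟨B, -, hB, hlt⟩ := hid S A hS hA hA2
  exact hlt.ne (key A (hAE.trans hEM) hA hA2 B hB hlt.le).symm

/-- S1409. -/
theorem order_p (hG : Cfsg.IsMinSimpleOddOrder G) (hM : IsCoatom M)
    (hp : p ∉ Cfsg.sigma M) {X : Subgroup G} (hX : Nat.card X = p)
    (hNX : normalizer (X : Set G) ≤ M) :
    (Cfsg.PRankLE p 2 M ∧ ¬ Cfsg.PRankLE p 1 M) ∧ ¬ Cfsg.IsIdealPrime p G ∧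
      ∃ A : Subgroup G, Cfsg.IsElementaryAbelian p A ∧ Nat.card A = p ^ 2 ∧ X ≤ A := by
  have hp' : p.Prime := Fact.out
  have hXp : IsPGroup p X := IsPGroup.of_card (n := 1) (by rw [hX, pow_one])
  have hXc : IsCyclic X := isCyclic_of_prime_card hX
  have hXe : ∀ x ∈ X, x ^ p = 1 := fun x hx => by
    have := pow_card_eq_one' (x := (⟨x, hx⟩ : X))
    rw [hX] at this
    exact congrArg Subtype.val this
  have hXM : X ≤ M := le_normalizer.trans hNX
  have hr2 : Cfsg.PRankLE p 2 M := by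
    by_contra h
    exact hp (SigmaTrans.alpha_subset_sigma hG hM ⟨hp', h⟩)
  have hpM : p ∣ Nat.card M := hX ▸ card_dvd_of_le hXM
  obtain ⟨P, hP⟩ := (hXp.comap_subtype (K := M)).exists_le_sylow
  set P' := (P : Subgroup M).map M.subtype with hP'
  have hXP : X ≤ P' := fun x hx => ⟨⟨x, hXM hx⟩, hP hx, rfl⟩
  obtain ⟨g, hg, hgM⟩ := exists_outside hpM hp P
  have hnc : ¬ IsCyclic P' := by
    intro hcyc
    refine hgM (hNX (Transfer.map_conj_eq_self_iff.mp ?_))
    have hle : X.map (MulAut.conj g).toMonoidHom ≤ P' :=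
      (map_mono hXP).trans (Transfer.map_conj_eq_self_iff.mpr hg).le
    have h1 : (X.map (MulAut.conj g).toMonoidHom).subgroupOf P' = X.subgroupOf P' := by
      refine eq_of_card_prime (p := p) hcyc ?_ ?_
      · rw [Nat.card_congr (subgroupOfEquivOfLe hle).toEquiv, Transfer.card_map_conj, hX]
      · rw [Nat.card_congr (subgroupOfEquivOfLe hXP).toEquiv, hX]
    rw [← map_subgroupOf_eq_of_le hle, h1, map_subgroupOf_eq_of_le hXP]
  have hp2 : p ≠ 2 := Uniqueness.odd_prime hG (hX ▸ X.card_subgroup_dvd_card)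
  obtain ⟨E₀, hE₀n, hE₀, hE₀2⟩ := Transfer.exists_normal_elementary_card_sq hp2 (P.2.map M.subtype) hnc
  set E := E₀.map P'.subtype with hEdef
  have hE : Cfsg.IsElementaryAbelian p E := by
    have := hE₀.1
    refine ⟨inferInstance, ?_⟩
    rintro _ ⟨a, ha, rfl⟩
    rw [← map_pow, hE₀.2 a ha, map_one]
  have hE2 : Nat.card E = p ^ 2 := by rw [hEdef, card_map_of_injective P'.subtype_injective, hE₀2]
  have hEM : E ≤ M := (map_subtype_le _).trans (map_subtype_le _)
  have hr1 : ¬ Cfsg.PRankLE p 1 M := by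
    intro h
    have h1 := h (E.subgroupOf M) ⟨⟨fun u v => Subtype.ext (Subtype.ext
      (Signalizer.elementary_comm hE u.2 v.2))⟩⟩ (fun a ha => Subtype.ext (hE.2 _ ha))
    rw [Nat.card_congr (subgroupOfEquivOfLe hEM).toEquiv, hE2, pow_one, sq] at h1
    have := hp'.one_lt
    nlinarith
  refine ⟨⟨hr2, hr1⟩, (rank_two hG hM hp hr1).1, ?_⟩
  by_cases hXE : X ≤ E
  · exact ⟨E, hE, hE2, hXE⟩
  have hPp : IsPGroup p P' := P.2.map _
  have hE₀b : E₀ ≠ ⊥ := fun h => by
    rw [h, card_bot] at hE₀2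
    exact absurd hE₀2.symm (Nat.one_lt_pow (by omega) hp'.one_lt).ne'
  obtain ⟨⟨e, heE, hec⟩, he1⟩ := Subgroup.ne_bot_iff_exists_ne_one.mp
    (by have := hPp.isNilpotent; exact Core.inf_center_ne_bot_of_isNilpotent E₀ hE₀b)
  set e' : G := (e : G) with he'
  have heo : orderOf e' = p := by
    refine orderOf_eq_prime (hE.2 e' ⟨e, heE, rfl⟩) fun h => he1 (Subtype.ext (Subtype.ext h))
  have hecX : ∀ x ∈ X, x * e' = e' * x := fun x hx =>
    congrArg Subtype.val (mem_center_iff.mp hec ⟨x, hXP hx⟩)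
  have heX : X ⊓ zpowers e' = ⊥ := by
    rcases (Nat.dvd_prime hp').mp (hX ▸ card_dvd_of_le (inf_le_left : X ⊓ zpowers e' ≤ X)) with h | h
    · exact eq_bot_of_card_eq _ h
    · exfalso
      refine hXE ?_
      have h1 : X ⊓ zpowers e' = X := eq_of_le_of_card_ge inf_le_left (by rw [h, hX])
      exact (h1.ge.trans inf_le_right).trans (zpowers_le.mpr ⟨e, heE, rfl⟩)
  have hXn : zpowers e' ≤ normalizer (X : Set G) := by
    refine zpowers_le.mpr (centralizer_le_normalizer _ (mem_centralizer_iff.mpr hecX))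
  refine ⟨X ⊔ zpowers e', ?_, ?_, le_sup_left⟩
  · have hXz : X ≤ centralizer (zpowers e' : Set G) := le_centralizer_iff.mpr
      (zpowers_le.mpr (mem_centralizer_iff.mpr hecX))
    refine ⟨le_centralizer_iff_isMulCommutative.mp (sup_le
      (le_centralizer_iff.mp (sup_le (le_centralizer_iff_isMulCommutative.mpr inferInstance)
        (le_centralizer_iff.mp hXz)))
      (le_centralizer_iff.mp (sup_le hXz (le_centralizer_iff_isMulCommutative.mpr inferInstance)))), ?_⟩
    intro t ht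
    obtain ⟨a, ha, b, hb, rfl⟩ := (Core.mem_sup_iff_mul' hXn).mp (by rwa [sup_comm] at ht ⊢)
    obtain ⟨i, rfl⟩ := hb
    have hcm : Commute a (e' ^ i) := (show Commute a e' from hecX a ha).zpow_right i
    rw [hcm.mul_pow, hXe a ha, one_mul, ← zpow_natCast, ← zpow_mul, mul_comm, zpow_mul,
      zpow_natCast, hE.2 e' ⟨e, heE, rfl⟩, one_zpow]
  · have h1 := Core.card_sup_mul_card_inf (zpowers e') X hXn
    rw [inf_comm, heX, card_bot, mul_one, hX, Nat.card_zpowers, heo, sup_comm] at h1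
    rw [h1, sq]

end CfsgLib.TwoGroups.NonSigma
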