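import Cfsg.Agent.Lib.TwoGroups.TauTwoFrobenius

/-!
Owner: helper12. The part `U` of a standard factorisation `M = K U M_σ` (Bender–Glauberman, Lemma 15.1).
-/

set_option autoImplicit false
set_option linter.unusedSectionVars false

namespace CfsgLib.TwoGroups.SigmaFactor

open Subgroup
open CfsgLib.TwoGroups.TauTwo

variable {G : Type*} [Group G] [Finite G] {M K U : Subgroup G}

theorem sup_le_M (h : Cfsg.IsSigmaDecomposition M K U) : U ⊔ K ≤ M := sup_le h.compl.1 h.hall.1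

/-- `K` and `M_σ` meet trivially. -/
theorem inf_sigmaCore (hG : Cfsg.IsMinSimpleOddOrder G) (hM : IsCoatom M)
    (h : Cfsg.IsSigmaDecomposition M K U) : K ⊓ Cfsg.sigmaCore M = ⊥ := by
  refine inf_eq_bot_of_coprime (Nat.coprime_of_dvd fun t ht hdK hdO => ?_)
  exact (h.hall.2.1 t ht hdK).2.2.1 (mem_sigma_of_dvd ht hdO hG hM)

/-- `U K` is a complement to `M_σ`. -/
theorem isComplIn (hG : Cfsg.IsMinSimpleOddOrder G) (hM : IsCoatom M) (h : Cfsg.IsSigmaDecomposition M K U) :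
    Cfsg.IsComplIn (U ⊔ K) (Cfsg.sigmaCore M) M := by
  have hKO : K ≤ normalizer (Cfsg.sigmaCore M : Set G) := h.hall.1.trans (TauTwo.le_normalizer_sigmaCore M)
  refine ⟨sup_le_M h, map_subtype_le _, eq_bot_iff.mpr fun x hx => ?_, fun m hm => ?_⟩
  · obtain ⟨u, hu, k, hk, rfl⟩ := (OddLocal.mem_sup_of_le_normalizer h.normal).mp hx.1
    have hu1 : u ∈ U ⊓ (K ⊔ Cfsg.sigmaCore M) :=
      ⟨hu, by simpa using mul_mem (mem_sup_right hx.2) (inv_mem (mem_sup_left hk))⟩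
    rw [h.compl.2.2.1, mem_bot] at hu1
    subst hu1
    have h2 : k ∈ K ⊓ Cfsg.sigmaCore M := ⟨hk, by simpa using hx.2⟩
    rw [inf_sigmaCore hG hM h] at h2
    simpa using h2
  · obtain ⟨u, hu, b, hb, rfl⟩ := h.compl.2.2.2 m hm
    rw [sup_comm] at hb
    obtain ⟨o, ho, k, hk, rfl⟩ := (OddLocal.mem_sup_of_le_normalizer hKO).mp hb
    refine ⟨u * k, mul_mem (mem_sup_left hu) (mem_sup_right hk), k⁻¹ * o * k,
      (mem_normalizer_iff''.mp (hKO hk) o).mp ho, by group⟩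

/-- The primes of `U` lie outside `σ(M) ∪ κ(M)`. -/
theorem not_mem (hG : Cfsg.IsMinSimpleOddOrder G) (hM : IsCoatom M) (h : Cfsg.IsSigmaDecomposition M K U)
    {t : ℕ} (ht : t.Prime) (hd : t ∣ Nat.card U) : t ∉ Cfsg.sigma M ∧ t ∉ Cfsg.kappa M := by
  have := Fact.mk ht
  refine ⟨OddLocal.SigmaComplement.not_mem_sigma hG hM (isComplIn hG hM h) (hd.trans (card_dvd_of_le le_sup_left)),
    fun hκ => h.hall.2.2 t ht hκ ?_⟩
  rw [← relIndex_mul_relIndex K (K ⊔ Cfsg.sigmaCore M) M le_sup_left h.compl.2.1,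
    OddLocal.IsComplIn_relIndex_right h.compl]
  exact Dvd.dvd.mul_left hd _

theorem le_normalizer_sup (hG : Cfsg.IsMinSimpleOddOrder G) (hM : IsCoatom M)
    (h : Cfsg.IsSigmaDecomposition M K U) :
    M ≤ normalizer ((U ⊔ Cfsg.sigmaCore M : Subgroup G) : Set G) := by
  intro m hm
  obtain ⟨e, he, o, ho, rfl⟩ := (isComplIn hG hM h).2.2.2 m hm
  refine mul_mem ?_ (le_normalizer (mem_sup_right ho))
  have hUK : U ⊔ K ≤ normalizer (U : Set G) := sup_le le_normalizer h.normal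
  refine Transfer.map_conj_eq_self_iff.mp ?_
  rw [Subgroup.map_sup, Transfer.map_conj_eq_self_iff.mpr (hUK he),
    Transfer.map_conj_eq_self_iff.mpr (TauTwo.le_normalizer_sigmaCore M ((isComplIn hG hM h).1 he))]

/-- A prime of `M` outside `σ(M) ∪ κ(M)` dividing the order of an element with fixed points on `M_σ` is in
`τ₂(M)`. -/
theorem mem_tau2 (hG : Cfsg.IsMinSimpleOddOrder G) (hM : IsCoatom M) {x : G} (hx : x ∈ Cfsg.sigmaHat M)
    {t : ℕ} (ht : t.Prime) (hd : t ∣ orderOf x) (hσ : t ∉ Cfsg.sigma M) (hκ : t ∉ Cfsg.kappa M) :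
    t ∈ Cfsg.tau2 M := by
  have := Fact.mk ht
  obtain ⟨hxM, y, hy, hy1, hxy⟩ := hx
  have hdM : t ∣ Nat.card M := by
    refine hd.trans ?_
    rw [← Nat.card_zpowers]
    exact card_dvd_of_le (zpowers_le.mpr hxM)
  refine ⟨ht, hσ, by_contra fun h3 => hσ (SigmaTrans.alpha_subset_sigma hG hM ⟨ht, h3⟩), fun h1 => hκ ?_⟩
  set w : M := (⟨x, hxM⟩ : M) ^ (orderOf x / t) with hw
  have hwo : orderOf w = t := by
    rw [hw, ← orderOf_mk x hxM, orderOf_pow_orderOf_div (orderOf_pos _).ne' (by rwa [orderOf_mk])]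
  refine ⟨ht, hdM, hσ, fun P => ⟨?_, ?_⟩⟩
  · have := sylow_cyclic_of_rank_one hG h1 (P.2.map M.subtype) (map_subtype_le _)
    exact isCyclic_of_injective ((P : Subgroup M).equivMapOfInjective M.subtype M.subtype_injective).toMonoidHom
      (MulEquiv.injective _)
  obtain ⟨Q, hQ⟩ := (IsPGroup.of_card (p := t) (n := 1) (G := zpowers w)
    (by rw [Nat.card_zpowers, hwo, pow_one])).exists_le_sylow
  obtain ⟨m, hm⟩ := MulAction.exists_smul_eq M Q P
  refine ⟨m * w * m⁻¹, ?_, fun e => ?_, (m : G) * y * (m : G)⁻¹,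
    (mem_normalizer_iff.mp (TauTwo.le_normalizer_sigmaCore M m.2) y).mp hy,
    fun e => hy1 (conj_eq_one_iff.mp e), ?_⟩
  · rw [← hm, Sylow.smul_def]
    exact ⟨w, hQ (mem_zpowers w), rfl⟩
  · rw [conj_eq_one_iff] at e
    rw [e, orderOf_one] at hwo
    exact ht.ne_one hwo.symm
  · have hwy : Commute (w : G) y := by
      rw [hw, SubmonoidClass.coe_pow]
      exact (show Commute x y from hxy).pow_left _
    show (m : G) * (w : G) * (m : G)⁻¹ * ((m : G) * y * (m : G)⁻¹) =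
      (m : G) * y * (m : G)⁻¹ * ((m : G) * (w : G) * (m : G)⁻¹)
    calc (m : G) * (w : G) * (m : G)⁻¹ * ((m : G) * y * (m : G)⁻¹) = (m : G) * ((w : G) * y) * (m : G)⁻¹ := by group
      _ = (m : G) * (y * (w : G)) * (m : G)⁻¹ := by rw [hwy.eq]
      _ = _ := by group

theorem tau2_of_mem_U (hG : Cfsg.IsMinSimpleOddOrder G) (hM : IsCoatom M) (h : Cfsg.IsSigmaDecomposition M K U)
    {x : G} (hx : x ∈ U) (hx' : x ∈ Cfsg.sigmaHat M) : ∀ t : ℕ, t.Prime → t ∣ orderOf x → t ∈ Cfsg.tau2 M :=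
  fun t ht hd => by
    obtain ⟨h1, h2⟩ := not_mem hG hM h ht (hd.trans (Subgroup.orderOf_dvd_natCard U hx))
    exact mem_tau2 hG hM hx' ht hd h1 h2

theorem sigmaHat_zpowers {x w : G} (hx : x ∈ Cfsg.sigmaHat M) (hw : w ∈ zpowers x) : w ∈ Cfsg.sigmaHat M := by
  obtain ⟨hxM, y, hy, hy1, hxy⟩ := hx
  obtain ⟨i, rfl⟩ := mem_zpowers_iff.mp hw
  exact ⟨zpow_mem hxM i, y, hy, hy1, ((show Commute x y from hxy).zpow_left i).eq⟩

/-- The `τ₂`-elements of a complement with fixed points on `M_σ` lie in an abelian normal subgroup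
containing a pair. -/
theorem exists_abelian (hG : Cfsg.IsMinSimpleOddOrder G) (hM : IsCoatom M) {E : Subgroup G}
    (hE : Cfsg.IsComplIn E (Cfsg.sigmaCore M) M) :
    ∃ B : Subgroup G, B ≤ E ∧ E ≤ normalizer (B : Set G) ∧ IsMulCommutative B ∧
      (∀ x ∈ E, x ∈ Cfsg.sigmaHat M → (∀ t : ℕ, t.Prime → t ∣ orderOf x → t ∈ Cfsg.tau2 M) → x ∈ B) ∧
      ∀ t ∈ Cfsg.tau2 M, ∃ A : Subgroup G, IsPair t A ∧ A ≤ B := by
  set O := Cfsg.sigmaCore M
  by_cases hc : ∀ t : ℕ, t ∈ Cfsg.tau2 M → ∀ [Fact t.Prime] (S : Sylow t G), IsMulCommutative (S : Subgroup G)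
  · have hmem : ∀ t j : ℕ, t ∈ Cfsg.tau2 M → ∀ w ∈ E, orderOf w = t ^ j → w ∈ Cfsg.fittingOf E := by
      intro t j ht w hw hwo
      have := Fact.mk ht.1
      exact pElement_mem_fitting hG hM hE ht (fun S => hc t ht S) hw
        (IsPGroup.of_card (n := j) (by rw [Nat.card_zpowers, hwo]))
    refine ⟨Cfsg.fittingOf E, map_subtype_le _, fun x hx => le_normalizer_map E.subtype
      ⟨⟨x, hx⟩, Core.le_normalizer_of_normal ⊤ (Cfsg.fittingSubgroup E) (mem_top _), rfl⟩,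
      fitting_commutative hG hM hE, fun x hxE hx hτ => ?_, fun t ht => ?_⟩
    · refine HallGen.mem_of_primePow_parts _ x fun w hw t j ht hto => ?_
      rcases Nat.eq_zero_or_pos j with rfl | hj
      · have hw1 : w = 1 := orderOf_eq_one_iff.mp (by rw [hto, pow_zero])
        rw [hw1]; exact one_mem _
      refine hmem t j (hτ t ht ?_) w (zpowers_le.mpr hxE hw) hto
      refine (dvd_pow_self t hj.ne').trans (hto.symm.dvd.trans ?_)
      obtain ⟨i, rfl⟩ := mem_zpowers_iff.mp hw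
      exact orderOf_dvd_of_pow_eq_one (by
        rw [← zpow_natCast, ← zpow_mul, mul_comm, zpow_mul, zpow_natCast, pow_orderOf_eq_one, one_zpow])
    · have := Fact.mk ht.1
      obtain ⟨A, hA, hAE⟩ := exists_pair_complement hG hM hE ht
      refine ⟨A, hA, fun a ha => ?_⟩
      by_cases ha1 : a = 1
      · rw [ha1]; exact one_mem _
      · exact hmem t 1 ht a (hAE ha) (by rw [pow_one]; exact orderOf_eq_prime (hA.1.2 a ha) ha1)
  push Not at hc
  obtain ⟨p, hp, hpF, S, hS⟩ := hc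
  have hS' : ∀ T : Sylow p G, ¬ IsMulCommutative (T : Subgroup G) := fun T hT => hS ⟨⟨fun a b =>
    (S.equiv T).injective (by rw [map_mul, map_mul]; exact hT.is_comm.comm _ _)⟩⟩
  obtain ⟨A, hA, hAE⟩ := exists_pair_complement hG hM hE hp
  have hpσ := hp.2.1
  have hAM := hAE.trans hE.1
  obtain ⟨hEA, hΩ, -⟩ := le_normalizer_pair hG hM hA hpσ hE hAE
  obtain ⟨hτ, ⟨hA₀c, -⟩, hline⟩ := nonabelian_case hG hM hE hp hS' hA hAE
  refine ⟨A, hAE, hEA, ⟨⟨fun a b => Subtype.ext (Signalizer.elementary_comm hA.1 a.2 b.2)⟩⟩,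
    fun x hxE hx hτx => ?_, fun t ht => ⟨A, by
      rw [hτ, Set.mem_singleton_iff] at ht
      subst ht; exact hA, le_rfl⟩⟩
  by_cases hx1 : x = 1
  · rw [hx1]; exact one_mem _
  obtain ⟨-, y, hy, hy1, hxy⟩ := hx
  -- `x` is a `p`-element
  obtain ⟨j, hj⟩ : ∃ j, orderOf x = p ^ j := ⟨_, Nat.eq_prime_pow_of_unique_prime_dvd (orderOf_pos x).ne'
    fun {d} hd hdd => by have := hτx d hd hdd; rwa [hτ, Set.mem_singleton_iff] at this⟩
  have hj0 : j ≠ 0 := fun e => hx1 (orderOf_eq_one_iff.mp (by rw [hj, e, pow_zero]))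
  obtain ⟨l, rfl⟩ : ∃ l, j = l + 1 := ⟨j - 1, by omega⟩
  rcases Nat.eq_zero_or_pos l with rfl | hl
  · exact hΩ x hxE (by rw [← pow_one p, ← hj, pow_orderOf_eq_one])
  exfalso
  set v := x ^ p ^ (l - 1) with hv
  have hvp : v ^ p = x ^ p ^ l := by rw [hv, ← pow_mul, ← pow_succ, show l - 1 + 1 = l by omega]
  have hvo : orderOf (v ^ p) = p := by
    rw [hvp, orderOf_pow, hj, Nat.gcd_eq_right (pow_dvd_pow p (Nat.le_succ l)),
      Nat.pow_div (Nat.le_succ l) hp.1.pos, show l + 1 - l = 1 by omega, pow_one]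
  have hbad : O ⊓ centralizer ({v ^ p} : Set G) ≠ ⊥ := fun e => hy1 (mem_bot.mp (e.le ⟨hy, by
    rw [hvp]
    exact mem_centralizer_singleton_iff.mpr ((show Commute x y from hxy).symm.pow_right _).eq⟩))
  have hvA : v ^ p ∈ A := hΩ _ (pow_mem (pow_mem hxE _) _) (by
    have := pow_orderOf_eq_one (v ^ p)
    rwa [hvo] at this)
  have := no_root hG hM hA hAM hpσ hS' (hEA (pow_mem hxE _))
    ((IsPGroup.of_card (n := l + 1) (G := zpowers x) (by rw [Nat.card_zpowers, hj])).to_le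
      (zpowers_le.mpr (pow_mem (mem_zpowers x) _))) hvA hbad
  rw [this, orderOf_one] at hvo
  exact hp.1.ne_one hvo.symm

/-- S1358. -/
theorem sylow_facts (hG : Cfsg.IsMinSimpleOddOrder G) (hM : IsCoatom M) (h : Cfsg.IsSigmaDecomposition M K U)
    (p : ℕ) (hp : p.Prime) (P : Sylow p U) :
    IsMulCommutative (P : Subgroup U) ∧ Cfsg.PRankLE p 2 (P : Subgroup U) := by
  have := Fact.mk hp
  by_cases hd : p ∣ Nat.card U
  swap
  · have hb : (P : Subgroup U) = ⊥ := by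
      obtain ⟨k, hk⟩ := IsPGroup.iff_card.1 P.2
      rcases Nat.eq_zero_or_pos k with rfl | hk0
      · exact card_eq_one.1 (hk.trans (pow_zero p))
      · exact absurd ((dvd_pow_self p hk0.ne').trans (hk ▸ card_subgroup_dvd_card _)) hd
    refine ⟨⟨⟨fun a b => Subtype.ext ?_⟩⟩, fun D hD hDp => ?_⟩
    · rw [Subgroup.coe_mul, Subgroup.coe_mul, mem_bot.mp (hb.le a.2), mem_bot.mp (hb.le b.2)]
    · have : Nat.card (P : Subgroup U) = 1 := by rw [hb, card_bot]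
      exact ((Subgroup.card_le_card_group D).trans this.le).trans (Nat.one_le_pow _ _ hp.pos)
  obtain ⟨hσ, -⟩ := not_mem hG hM h hp hd
  refine ⟨?_, ?_⟩
  · have hle : (P : Subgroup U).map U.subtype ≤ M := (map_subtype_le _).trans h.compl.1
    have : IsMulCommutative ↥((P : Subgroup U).map U.subtype) :=
      nilpotent_commutative hG hM hle (P.2.map U.subtype).isNilpotent fun s hs hsd => by
        obtain ⟨k, hk⟩ := IsPGroup.iff_card.1 (P.2.map U.subtype)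
        rwa [(Nat.prime_dvd_prime_iff_eq hs hp).mp (hs.dvd_of_dvd_pow (hk ▸ hsd))]
    exact ⟨⟨fun a b => Subtype.ext (Subtype.ext (congrArg (fun z : ↥((P : Subgroup U).map U.subtype) => (z : G))
      (this.is_comm.comm ⟨((a : U) : G), a, a.2, rfl⟩ ⟨((b : U) : G), b, b.2, rfl⟩)))⟩⟩
  · exact CfsgLib.PGroups.prankLE_of_injective
      (OddLocal.SigmaComplement.rank_le_two hG hM (isComplIn hG hM h) (hd.trans (card_dvd_of_le le_sup_left)))
      (f := (inclusion h.compl.1).comp (P : Subgroup U).subtype)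
      ((inclusion_injective h.compl.1).comp (P : Subgroup U).subtype_injective)

/-- S1359. -/
theorem closure_commutative (hG : Cfsg.IsMinSimpleOddOrder G) (hM : IsCoatom M)
    (h : Cfsg.IsSigmaDecomposition M K U) :
    IsMulCommutative (closure ((U : Set G) ∩ Cfsg.sigmaHat M)) := by
  obtain ⟨B, -, -, hB, hmem, -⟩ := exists_abelian hG hM (isComplIn hG hM h)
  have hle : closure ((U : Set G) ∩ Cfsg.sigmaHat M) ≤ B := (closure_le B).mpr fun x hx =>
    hmem x (mem_sup_left hx.1) hx.2 (tau2_of_mem_U hG hM h hx.1 hx.2)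
  exact ⟨⟨fun a b => Subtype.ext (congrArg (fun z : B => (z : G))
    (hB.is_comm.comm ⟨(a : G), hle a.2⟩ ⟨(b : G), hle b.2⟩))⟩⟩

/-- S1361. -/
theorem centralizer_unique (hG : Cfsg.IsMinSimpleOddOrder G) (hM : IsCoatom M)
    (h : Cfsg.IsSigmaDecomposition M K U) {X : Subgroup G} (hXU : X ≤ U) (hX : X ≠ ⊥)
    (hXc : Cfsg.sigmaCore M ⊓ centralizer (X : Set G) ≠ ⊥) :
    centralizer (X : Set G) ≤ M ∧ ∀ L : Subgroup G, IsCoatom L → centralizer (X : Set G) ≤ L → L = M := by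
  obtain ⟨⟨y, hy, hyX⟩, hy1'⟩ := ne_bot_iff_exists_ne_one.mp hXc
  have hy1 : y ≠ 1 := fun e => hy1' (Subtype.ext e)
  obtain ⟨x, hx, hx1⟩ := (bot_or_exists_ne_one X).resolve_left hX
  have hhat : ∀ z ∈ X, z ∈ Cfsg.sigmaHat M := fun z hz =>
    ⟨h.compl.1 (hXU hz), y, hy, hy1, mem_centralizer_iff.mp hyX z hz⟩
  have hτ := tau2_of_mem_U hG hM h (hXU hx) (hhat x hx)
  obtain ⟨hle, -⟩ := centralizer_tau2_element hG hM (h.compl.1 (hXU hx)) hx1 hτ (hhat x hx)
  have hCX : centralizer (X : Set G) ≤ centralizer ({x} : Set G) :=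
    Subgroup.centralizer_le (Set.singleton_subset_iff.mpr hx)
  refine ⟨hCX.trans hle, fun L hL hXL => ?_⟩
  obtain ⟨t, ht, htd⟩ := Nat.exists_prime_and_dvd (fun e : orderOf x = 1 => hx1 (orderOf_eq_one_iff.mp e))
  have := Fact.mk ht
  obtain ⟨B, hBE, -, hB, hmem, hpair⟩ := exists_abelian hG hM (isComplIn hG hM h)
  obtain ⟨A, hA, hAB⟩ := hpair t (hτ t ht htd)
  by_contra hne
  have hAC : A ≤ centralizer (X : Set G) := fun a ha => mem_centralizer_iff.mpr fun z hz =>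
    congrArg Subtype.val (hB.is_comm.comm
      (⟨z, hmem z (mem_sup_left (hXU hz)) (hhat z hz) (tau2_of_mem_U hG hM h (hXU hz) (hhat z hz))⟩ : B)
      ⟨a, hAB ha⟩)
  have h1 : y ∈ Cfsg.sigmaCore M ⊓ L := ⟨hy, hXL hyX⟩
  rw [sigmaCore_inf_eq_bot hG hM hA (hAB.trans (hBE.trans (isComplIn hG hM h).1)) (hτ t ht htd).2.1 hL hne
    (hAC.trans hXL), mem_bot] at h1
  exact hy1 h1

/-- S1362. -/
theorem isTISubset (hG : Cfsg.IsMinSimpleOddOrder G) (hM : IsCoatom M) (h : Cfsg.IsSigmaDecomposition M K U) :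
    Cfsg.IsTISubset (Cfsg.sigmaA M U \ (Cfsg.sigmaCore M : Set G)) := by
  intro g hg a ha hga
  exfalso
  -- a `τ₂`-element in the powers of a member
  have key : ∀ a ∈ Cfsg.sigmaA M U \ (Cfsg.sigmaCore M : Set G), ∃ i : ℤ, a ^ i ≠ 1 ∧ a ^ i ∈ M ∧
      a ^ i ∈ Cfsg.sigmaHat M ∧ ∀ t : ℕ, t.Prime → t ∣ orderOf (a ^ i) → t ∈ Cfsg.tau2 M := by
    rintro a ⟨⟨hhat, hmem⟩, haO⟩
    by_contra hno
    push Not at hno
    refine haO (HallGen.mem_of_primePow_parts _ a fun w hw t j ht hto => ?_)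
    obtain ⟨i, rfl⟩ := mem_zpowers_iff.mp hw
    by_cases hw1 : a ^ i = 1
    · rw [hw1]; exact one_mem _
    have hj : j ≠ 0 := fun e => hw1 (orderOf_eq_one_iff.mp (by rw [hto, e, pow_zero]))
    have := Fact.mk ht
    by_cases hσ : t ∈ Cfsg.sigma M
    · exact TauTwo.le_sigmaCore hG hM hσ (IsPGroup.of_card (n := j) (by rw [Nat.card_zpowers, hto]))
        (zpowers_le.mpr (zpow_mem hhat.1 i)) (mem_zpowers _)
    exfalso
    obtain ⟨s, hs, hsd, hsτ⟩ := hno i hw1 (zpow_mem hhat.1 i) (sigmaHat_zpowers hhat hw)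
    rw [hto] at hsd
    obtain rfl := (Nat.prime_dvd_prime_iff_eq hs ht).mp (hs.dvd_of_dvd_pow hsd)
    refine hsτ (mem_tau2 hG hM (sigmaHat_zpowers hhat hw) hs (hto ▸ dvd_pow_self s hj) hσ fun hκ => ?_)
    have hd : s ∣ Nat.card ↥(U ⊔ Cfsg.sigmaCore M) :=
      (hto ▸ dvd_pow_self s hj).trans (Subgroup.orderOf_dvd_natCard _
        (zpowers_le.mpr (SetLike.mem_coe.mp hmem) hw))
    have hd' := Core.card_sup_dvd U (Cfsg.sigmaCore M) (h.compl.1.trans (TauTwo.le_normalizer_sigmaCore M))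
    rw [sup_comm] at hd'
    rcases hs.dvd_mul.mp ((sup_comm U (Cfsg.sigmaCore M) ▸ hd).trans hd') with hd | hd
    · exact (not_mem hG hM h hs hd).2 hκ
    · exact hσ (mem_sigma_of_dvd hs hd hG hM)
  obtain ⟨i, hi1, hiM, hihat, hiτ⟩ := key _ hga
  have ha' : ∀ j : ℤ, (g * a * g⁻¹) ^ j = g * a ^ j * g⁻¹ := fun j => conj_zpow
  rw [ha'] at hi1 hiM hihat hiτ
  have hiM' : a ^ i ∈ M := zpow_mem ha.1.1.1 i
  have hi1' : a ^ i ≠ 1 := fun e => hi1 (by rw [e]; group)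
  obtain ⟨-, u2⟩ := centralizer_tau2_element hG hM hiM' hi1'
    (fun t ht hd => hiτ t ht (by rwa [show g * a ^ i * g⁻¹ = MulAut.conj g (a ^ i) from rfl, MulEquiv.orderOf_eq]))
    (sigmaHat_zpowers ha.1.1 (zpow_mem (mem_zpowers a) i))
  obtain ⟨hle, -⟩ := centralizer_tau2_element hG hM hiM hi1 hiτ hihat
  have e1 := u2 (M.map (MulAut.conj g⁻¹).toMonoidHom) (((MulAut.conj g⁻¹).mapSubgroup).isCoatom_iff M |>.mpr hM)
    fun c hc => ⟨g * c * g⁻¹, hle (mem_centralizer_singleton_iff.mpr (by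
      calc g * c * g⁻¹ * (g * a ^ i * g⁻¹) = g * (c * a ^ i) * g⁻¹ := by group
        _ = g * (a ^ i * c) * g⁻¹ := by rw [mem_centralizer_singleton_iff.mp hc]
        _ = g * a ^ i * g⁻¹ * (g * c * g⁻¹) := by group)), by
      show g⁻¹ * (g * c * g⁻¹) * g⁻¹⁻¹ = c
      group⟩
  have hgM : g ∈ M := by
    simpa using inv_mem (NonSigma.mem_normalizer_self hG hM (ProperPLength.maximal_ne_bot hG hM) e1)
  -- `M` normalises the set
  have hN : ∀ m ∈ M, ∀ b ∈ Cfsg.sigmaA M U \ (Cfsg.sigmaCore M : Set G),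
      m * b * m⁻¹ ∈ Cfsg.sigmaA M U \ (Cfsg.sigmaCore M : Set G) := by
    rintro m hm b ⟨⟨⟨hbM, y, hy, hy1, hby⟩, hbU⟩, hbO⟩
    have hO := TauTwo.le_normalizer_sigmaCore M hm
    refine ⟨⟨⟨mul_mem (mul_mem hm hbM) (inv_mem hm), m * y * m⁻¹, (mem_normalizer_iff.mp hO y).mp hy,
      fun e => hy1 (conj_eq_one_iff.mp e), ?_⟩, (mem_normalizer_iff.mp (le_normalizer_sup hG hM h hm) b).mp hbU⟩,
      fun e => hbO ((mem_normalizer_iff.mp hO b).mpr e)⟩
    calc m * b * m⁻¹ * (m * y * m⁻¹) = m * (b * y) * m⁻¹ := by group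
      _ = m * (y * b) * m⁻¹ := by rw [hby]
      _ = _ := by group
  refine hg (mem_set_normalizer_iff.mpr fun b => ⟨fun hb => hN g hgM b hb, fun hb => ?_⟩)
  simpa [mul_assoc] using hN g⁻¹ (inv_mem hgM) _ hb

end CfsgLib.TwoGroups.SigmaFactor
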