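import Cfsg.Agent.S1358
import Cfsg.Agent.S1361
import Cfsg.Agent.S1362
import Cfsg.Agent.Lib.TwoGroups.TypeFive

/-!
Owner: helper12. Complements of `M_F` in Types I and II belong to standard factorisations.
-/

set_option autoImplicit false
set_option linter.unusedSectionVars false

namespace CfsgLib.TwoGroups.TypeComplement

open Subgroup

variable {G : Type*} [Group G] [Finite G] {M K U : Subgroup G} {m : G}

theorem relIndex_map_conj (hK : K ≤ M) (hm : m ∈ M) :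
    (K.map (MulAut.conj m).toMonoidHom).relIndex M = K.relIndex M := by
  have hMm : M.map (MulAut.conj m).toMonoidHom = M := Transfer.map_conj_eq_self_iff.mpr (le_normalizer hm)
  refine Nat.eq_of_mul_eq_mul_left (Nat.card_pos (α := K)) ?_
  have h1 : Nat.card K * K.relIndex M = Nat.card M := by
    rw [← relIndex_bot_left K, relIndex_mul_relIndex ⊥ K M bot_le hK, relIndex_bot_left]
  have h2 : Nat.card ↥(K.map (MulAut.conj m).toMonoidHom) * (K.map (MulAut.conj m).toMonoidHom).relIndex M =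
      Nat.card M := by
    rw [← relIndex_bot_left (K.map (MulAut.conj m).toMonoidHom),
      relIndex_mul_relIndex ⊥ _ M bot_le (hMm ▸ map_mono hK), relIndex_bot_left]
  rw [card_map_of_injective (MulAut.conj m).injective] at h2
  rw [h1, h2]

/-- Standard factorisations are carried along by conjugation in `M`. -/
theorem decomposition_conj (h : Cfsg.IsSigmaDecomposition M K U) (hm : m ∈ M) :
    Cfsg.IsSigmaDecomposition M (K.map (MulAut.conj m).toMonoidHom) (U.map (MulAut.conj m).toMonoidHom) := by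
  have hMm : M.map (MulAut.conj m).toMonoidHom = M := Transfer.map_conj_eq_self_iff.mpr (le_normalizer hm)
  have hOm : (Cfsg.sigmaCore M).map (MulAut.conj m).toMonoidHom = Cfsg.sigmaCore M :=
    Transfer.map_conj_eq_self_iff.mpr (TauTwo.le_normalizer_sigmaCore M hm)
  refine ⟨?_, ⟨hMm ▸ map_mono h.hall.1, fun t ht hd => h.hall.2.1 t ht
      (by rwa [card_map_of_injective (MulAut.conj m).injective] at hd),
    fun t ht hk hd => h.hall.2.2 t ht hk (by rwa [relIndex_map_conj h.hall.1 hm] at hd)⟩, ?_, ?_⟩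
  · have := h.cyclic
    exact isCyclic_of_surjective (K.equivMapOfInjective _ (MulAut.conj m).injective).toMonoidHom
      (MulEquiv.surjective _)
  · have hsup : (K ⊔ Cfsg.sigmaCore M).map (MulAut.conj m).toMonoidHom =
        K.map (MulAut.conj m).toMonoidHom ⊔ Cfsg.sigmaCore M := by rw [Subgroup.map_sup, hOm]
    rw [← hsup]
    refine ⟨(map_mono h.compl.1).trans hMm.le, (map_mono h.compl.2.1).trans hMm.le, ?_, fun y hy => ?_⟩
    · rw [← map_inf _ _ _ (MulAut.conj m).injective, h.compl.2.2.1, Subgroup.map_bot]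
    · rw [← hMm] at hy
      obtain ⟨w, hw, rfl⟩ := hy
      obtain ⟨u, hu, s, hs, rfl⟩ := h.compl.2.2.2 w hw
      exact ⟨_, mem_map_of_mem _ hu, _, mem_map_of_mem _ hs, map_mul _ _ _⟩
  · rintro _ ⟨k, hk, rfl⟩
    exact le_normalizer_map _ ⟨k, h.normal hk, rfl⟩

/-- The factorisation containing a complement of `M_F` for Type I. -/
theorem typeOne (hG : Cfsg.IsMinSimpleOddOrder G) (hM : IsCoatom M) (hI : Cfsg.IsOfTypeI M)
    (hU : Cfsg.IsComplIn (Cfsg.fittingHallOf M) U M) :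
    ∃ K, Cfsg.IsSigmaDecomposition M K U ∧ Cfsg.fittingHallOf M = Cfsg.sigmaCore M ∧
      U ⊔ Cfsg.sigmaCore M = M := by
  obtain ⟨K, U₀, h⟩ := Chapter15.exists_decomposition hG hM (Chapter15.kappaCyclic hG)
  have hK : K = ⊥ := by
    by_contra hK
    refine TypesExclusive.not_one_typeP hG hM hI ?_
    by_cases hU₀ : U₀ = ⊥
    · by_cases hne : Cfsg.fittingHallOf M = Cfsg.sigmaCore M
      · exact TypesExclusive.isOfTypeP_of_five (TypeFive.typeFive hG hM h hK hU₀ hne)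
      · exact TypesExclusive.isOfTypeP_of_three (TypeTwoThree.typeThreeFour hG hM h hK hne)
    · exact TypesExclusive.isOfTypeP_of_two (TypeTwoThree.typeTwo hG hM h hK hU₀)
  subst hK
  have hH := (TypeFrobenius.isOfTypeF hG hM h rfl).2
  rw [hH] at hU
  have hn : U ≤ normalizer (Cfsg.sigmaCore M : Set G) := hU.2.1.trans (TauTwo.le_normalizer_sigmaCore M)
  have hM' : U ⊔ Cfsg.sigmaCore M = M := by
    refine le_antisymm (sup_le hU.2.1 (TauTwo.sigmaCore_le M)) fun a ha => ?_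
    obtain ⟨o, ho, u, hu, rfl⟩ := hU.2.2.2 a ha
    exact mul_mem (mem_sup_right ho) (mem_sup_left hu)
  refine ⟨⊥, ⟨h.cyclic, h.hall, ?_, bot_le⟩, hH, hM'⟩
  rw [bot_sup_eq]
  refine ⟨hU.2.1, hU.1, inf_comm (Cfsg.sigmaCore M) U ▸ hU.2.2.1, fun a ha => ?_⟩
  obtain ⟨o, ho, u, hu, rfl⟩ := hU.2.2.2 a ha
  exact ⟨u, hu, u⁻¹ * o * u, (mem_normalizer_iff''.mp (hn hu) o).mp ho, by group⟩

/-- The factorisation containing a complement of `M_F` in `M'` for Type II. -/
theorem typeTwo (hG : Cfsg.IsMinSimpleOddOrder G) (hM : IsCoatom M) (h2 : Cfsg.IsOfTypeII M)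
    (hU : Cfsg.IsComplIn (Cfsg.fittingHallOf M) U ⁅M, M⁆) :
    ∃ K, Cfsg.IsSigmaDecomposition M K U ∧ Cfsg.fittingHallOf M = Cfsg.sigmaCore M ∧
      U ⊔ Cfsg.sigmaCore M = ⁅M, M⁆ := by
  obtain ⟨K, U₀, h⟩ := Chapter15.exists_decomposition hG hM (Chapter15.kappaCyclic hG)
  obtain ⟨hK, hU₀⟩ := (TypeFrobenius.typeTwo_iff hG hM h).mp h2
  have hH := TypeTwoThree.fittingHall_eq_of_U hG hM h hU₀
  have hU₀' := TypeTwoThree.isComplIn_U hG hM h hK
  rw [← hH] at hU₀'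
  obtain ⟨m, hm, rfl⟩ := HallComplements.exists_conj
    (Core.isSolvable_of_le (hG.2.2.2 M hM.1) (Subgroup.commutator_le_self M))
    (TypePData.coprime_fittingHall hG hM) hU₀' hU
  have hm' := Subgroup.commutator_le_self M hm
  have hd := decomposition_conj h hm'
  refine ⟨_, hd, hH, ?_⟩
  rw [TypeP2.derived_eq hG hM hd fun e => hK ((map_eq_bot_iff_of_injective _ (MulAut.conj m).injective).mp e)]

/-- The facts about such a complement. -/
theorem facts (hG : Cfsg.IsMinSimpleOddOrder G) (hM : IsCoatom M)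
    (h : Cfsg.IsSigmaDecomposition M K U) (hH : Cfsg.fittingHallOf M = Cfsg.sigmaCore M)
    (hA : Cfsg.typeA M \ Cfsg.typeA1 M = Cfsg.sigmaA M U \ (Cfsg.sigmaCore M : Set G)) :
    (∀ (p : ℕ), p.Prime → ∀ P : Sylow p U, IsMulCommutative (P : Subgroup U) ∧ Cfsg.PRankLE p 2 (P : Subgroup U)) ∧
      (∀ X : Set G, X ⊆ (U : Set G) \ {1} → X.Nonempty → Cfsg.fittingHallOf M ⊓ centralizer X ≠ ⊥ →
        centralizer X ≤ M ∧ ∀ L : Subgroup G, IsCoatom L → centralizer X ≤ L → L = M) ∧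
      Cfsg.IsTISubset (Cfsg.typeA M \ Cfsg.typeA1 M) := by
  refine ⟨fun p hp P => Cfsg.Agent.S1358.result hG M hM K U h p hp P, fun X hX ⟨a, ha⟩ hC => ?_, ?_⟩
  · have hle : closure X ≤ U := (closure_le U).mpr fun y hy => (hX hy).1
    have hne : closure X ≠ ⊥ := fun e => (hX ha).2 (mem_bot.mp (e ▸ subset_closure ha))
    rw [← Subgroup.centralizer_closure X] at hC ⊢
    rw [hH] at hC
    exact Cfsg.Agent.S1361.result hG M hM K U h _ hle hne hC
  · rw [hA]
    exact Cfsg.Agent.S1362.result hG M hM K U h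

/-- S1390. -/
theorem main (hG : Cfsg.IsMinSimpleOddOrder G) (hM : IsCoatom M)
    (hU : (Cfsg.IsOfTypeI M ∧ Cfsg.IsComplIn (Cfsg.fittingHallOf M) U M) ∨
      (Cfsg.IsOfTypeII M ∧ Cfsg.IsComplIn (Cfsg.fittingHallOf M) U ⁅M, M⁆)) :
    (∀ (p : ℕ), p.Prime → ∀ P : Sylow p U, IsMulCommutative (P : Subgroup U) ∧ Cfsg.PRankLE p 2 (P : Subgroup U)) ∧
      (∀ X : Set G, X ⊆ (U : Set G) \ {1} → X.Nonempty → Cfsg.fittingHallOf M ⊓ centralizer X ≠ ⊥ →
        centralizer X ≤ M ∧ ∀ L : Subgroup G, IsCoatom L → centralizer X ≤ L → L = M) ∧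
      Cfsg.IsTISubset (Cfsg.typeA M \ Cfsg.typeA1 M) := by
  classical
  rcases hU with ⟨hI, hU⟩ | ⟨h2, hU⟩
  · obtain ⟨K, h, hH, hM'⟩ := typeOne hG hM hI hU
    refine facts hG hM h hH ?_
    have h34 : ¬ (Cfsg.IsOfTypeIII M ∨ Cfsg.IsOfTypeIV M) := fun h' =>
      TypesExclusive.not_one_typeP hG hM hI (TypesExclusive.isOfTypeP_of_three h')
    ext a
    simp only [Cfsg.typeA, if_pos hI, Cfsg.typeA1, Cfsg.typeCore, if_neg h34, Cfsg.sigmaA, Cfsg.sigmaHat, hH, hM',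
      Set.mem_diff, Set.mem_inter_iff, Set.mem_setOf_eq, SetLike.mem_coe, Set.mem_singleton_iff]
    constructor
    · rintro ⟨⟨haM, ha1, hex⟩, hn⟩
      exact ⟨⟨⟨haM, hex⟩, haM⟩, fun hh => hn ⟨hh, ha1⟩⟩
    · rintro ⟨⟨⟨haM, hex⟩, -⟩, hn⟩
      exact ⟨⟨haM, fun e => hn (e ▸ one_mem _), hex⟩, fun hh => hn hh.1⟩
  · obtain ⟨K, h, hH, hD⟩ := typeTwo hG hM h2 hU
    refine facts hG hM h hH ?_
    have hI : ¬ Cfsg.IsOfTypeI M := fun h1 =>
      TypesExclusive.not_one_typeP hG hM h1 (TypesExclusive.isOfTypeP_of_two h2)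
    have h34 : ¬ (Cfsg.IsOfTypeIII M ∨ Cfsg.IsOfTypeIV M) := TypesExclusive.not_two_three hG hM h2
    ext a
    simp only [Cfsg.typeA, if_neg hI, Cfsg.typeA1, Cfsg.typeCore, if_neg h34, Cfsg.sigmaA, Cfsg.sigmaHat, hH, hD,
      Set.mem_diff, Set.mem_inter_iff, Set.mem_setOf_eq, SetLike.mem_coe, Set.mem_singleton_iff]
    constructor
    · rintro ⟨⟨haD, ha1, hex⟩, hn⟩
      exact ⟨⟨⟨Subgroup.commutator_le_self M haD, hex⟩, haD⟩, fun hh => hn ⟨hh, ha1⟩⟩
    · rintro ⟨⟨⟨-, hex⟩, haD⟩, hn⟩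
      exact ⟨⟨haD, fun e => hn (e ▸ one_mem _), hex⟩, fun hh => hn hh.1⟩

end CfsgLib.TwoGroups.TypeComplement
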