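import Cfsg.Agent.Lib.TwoGroups.TypeP2
import Cfsg.Agent.Lib.OddLocal.SupportOvergroup
import Cfsg.Agent.S1431

/-!
Owner: helper12. `M_F`, `M''` and `F(M)` (Bender–Glauberman, Theorem 15.2 (a), (b)): the general part and
the case of a nilpotent `M_σ`. Here `C_M(M_σ)` is even abelian.
-/

set_option autoImplicit false
set_option linter.unusedSectionVars false

namespace CfsgLib.TwoGroups.FittingStructure

open Subgroup
open scoped commutatorElement

variable {G : Type*} [Group G] [Finite G] {M K U E : Subgroup G}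

/-- A prime power element of a subgroup with index prime to it in a normalising overgroup. -/
theorem mem_of_normal_index {N T : Subgroup G} {t j : ℕ} (ht : t.Prime) (hNT : N ≤ T)
    (hn : T ≤ normalizer (N : Set G)) (hi : ¬ t ∣ N.relIndex T) {w : G} (hw : w ∈ T) (hwo : orderOf w = t ^ j) :
    w ∈ N := by
  have := Fact.mk ht
  have hN : (N.subgroupOf T).Normal := (normal_subgroupOf_iff_le_normalizer hNT).mpr hn
  obtain ⟨x, hx⟩ := TauTwo.exists_conj_mem_of_index hi (g := (⟨w, hw⟩ : T)) (k := j) (by rw [orderOf_mk, hwo])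
  have h1 := hN.conj_mem _ hx x⁻¹
  simpa [mem_subgroupOf, mul_assoc] using h1

theorem le_normalizer_fittingHallOf (M : Subgroup G) : M ≤ normalizer (Cfsg.fittingHallOf M : Set G) :=
  fun m hm => le_normalizer_map M.subtype
    ⟨⟨m, hm⟩, Core.le_normalizer_of_normal ⊤ (Cfsg.fittingHall M) (mem_top _), rfl⟩

/-- Normal nilpotent Hall subgroups lie in `M_F`. -/
theorem le_fittingHallOf {N : Subgroup G} (hNM : N ≤ M) (hn : M ≤ normalizer (N : Set G))
    (hnil : Group.IsNilpotent N) (hcop : (Nat.card N).Coprime (N.relIndex M)) : N ≤ Cfsg.fittingHallOf M := by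
  rw [← map_subgroupOf_eq_of_le hNM]
  refine map_mono (OddLocal.le_fittingHall ((normal_subgroupOf_iff_le_normalizer hNM).mpr hn)
    (Group.nilpotent_of_mulEquiv (subgroupOfEquivOfLe hNM).symm) ?_)
  rw [Nat.card_congr (subgroupOfEquivOfLe hNM).toEquiv]
  exact hcop

theorem fittingHallOf_le_fittingOf (M : Subgroup G) : Cfsg.fittingHallOf M ≤ Cfsg.fittingOf M :=
  OddLocal.FittingSigma.le_fittingOf (OddLocal.fittingHallOf_le M) (le_normalizer_fittingHallOf M)
    (OddLocal.fittingHallOf_nilpotent M)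

/-- `M_F ≤ M_σ`. -/
theorem fittingHallOf_le_sigmaCore (hG : Cfsg.IsMinSimpleOddOrder G) (hM : IsCoatom M) :
    Cfsg.fittingHallOf M ≤ Cfsg.sigmaCore M := by
  refine OddLocal.SigmaEmbedding.le_sigmaCore_of_pi hG hM (OddLocal.fittingHallOf_le M) fun t ht hd => ?_
  have := Fact.mk ht
  set F := Cfsg.fittingHallOf M with hF
  obtain ⟨P⟩ : Nonempty (Sylow t F) := inferInstance
  set P' := (P : Subgroup F).map F.subtype with hP'
  have hP'M : P' ≤ M := (map_subtype_le _).trans (OddLocal.fittingHallOf_le M)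
  have hPn : (P : Subgroup F).Normal :=
    ((Group.isNilpotent_of_finite_tfae (G := F)).out 0 3 rfl rfl).mp (OddLocal.fittingHallOf_nilpotent M) t
      ‹_› P
  have := P.characteristic_of_normal hPn
  have hMP : M ≤ normalizer (P' : Set G) :=
    (le_normalizer_fittingHallOf M).trans (OddLocal.PLengthEndgame.normalizer_le_char F (P : Subgroup F))
  have hP1 : P' ≠ ⊥ := fun e => by
    have h0 : (P : Subgroup F) = ⊥ := (map_eq_bot_iff_of_injective _ F.subtype_injective).mp e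
    have := P.not_dvd_index
    rw [h0, index_bot] at this
    exact this hd
  have hnd : ¬ t ∣ P'.relIndex M := by
    rw [← relIndex_mul_relIndex P' F M (map_subtype_le _) (OddLocal.fittingHallOf_le M), ht.dvd_mul]
    push Not
    refine ⟨?_, fun h => ht.not_dvd_one (?_ : t ∣ 1)⟩
    · rw [relIndex, subgroupOf, hP', comap_map_eq_self_of_injective F.subtype_injective]
      exact P.not_dvd_index
    · rw [← (OddLocal.fittingHallOf_coprime M).gcd_eq_one]
      exact Nat.dvd_gcd hd h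
  have hT := (P.2.map F.subtype).comap_subtype (K := M)
  refine ⟨ht, hd.trans (card_dvd_of_le (OddLocal.fittingHallOf_le M)), hT.toSylow hnd, ?_⟩
  rw [show ((hT.toSylow hnd : Sylow t M) : Subgroup M).map M.subtype = P' from map_subgroupOf_eq_of_le hP'M]
  rcases hM.le_iff.mp hMP with h | h
  · exact absurd h (TransitivityHyp.normalizer_ne_top hG hP1 (Uniqueness.ne_top_of_pGroup hG (P.2.map _)))
  · exact h.le

/-- `F(M) ≤ C_M(M_F) M_F`. -/
theorem fitting_le (M : Subgroup G) :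
    Cfsg.fittingOf M ≤ (M ⊓ centralizer (Cfsg.fittingHallOf M : Set G)) ⊔ Cfsg.fittingHallOf M := by
  intro x hx
  refine HallGen.mem_of_primePow_parts _ x fun w hw t j ht hto => ?_
  have hwF : w ∈ Cfsg.fittingOf M := zpowers_le.mpr hx hw
  have hwM : w ∈ M := OddLocal.fittingOf_le M hwF
  by_cases htd : t ∣ Nat.card (Cfsg.fittingHallOf M)
  · exact mem_sup_right (mem_of_normal_index ht (OddLocal.fittingHallOf_le M) (le_normalizer_fittingHallOf M)
      (fun hd => ht.not_dvd_one ((OddLocal.fittingHallOf_coprime M).gcd_eq_one ▸ Nat.dvd_gcd htd hd)) hwM hto)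
  · refine mem_sup_left ⟨hwM, mem_centralizer_iff.mpr fun y hy => ?_⟩
    refine OddLocal.commute_of_mem_nilpotent (OddLocal.FittingSigma.isNilpotent_fittingOf M)
      (fittingHallOf_le_fittingOf M hy) hwF ?_
    rw [hto]
    exact Nat.Coprime.pow_right _ ((ht.coprime_iff_not_dvd.mpr fun h =>
      htd (h.trans (Subgroup.orderOf_dvd_natCard _ hy))).symm)

/-- A prime outside `σ(M)` of an element centralising `M_σ` lies in `τ₂(M)`. -/
theorem tau2_of_centralizes (hG : Cfsg.IsMinSimpleOddOrder G) (hM : IsCoatom M) {x : G} (hxM : x ∈ M)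
    (hx : x ∈ centralizer (Cfsg.sigmaCore M : Set G)) {t : ℕ} (ht : t.Prime) (hd : t ∣ orderOf x)
    (hσ : t ∉ Cfsg.sigma M) : t ∈ Cfsg.tau2 M := by
  have := Fact.mk ht
  set O := Cfsg.sigmaCore M with hO
  obtain ⟨y, hy, hy1⟩ := O.bot_or_exists_ne_one.resolve_left (TauTwo.sigmaCore_ne_bot hG hM)
  refine SigmaFactor.mem_tau2 hG hM ⟨hxM, y, hy, hy1, (mem_centralizer_iff.mp hx y hy).symm⟩ ht hd hσ fun hκ => ?_
  set z := x ^ (orderOf x / t) with hz
  have hzo : orderOf z = t := orderOf_pow_orderOf_div (orderOf_pos x).ne' hd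
  set X := zpowers z with hX
  have hXc : Nat.card X = t := by rw [hX, Nat.card_zpowers, hzo]
  have hXM : X ≤ M := zpowers_le.mpr (pow_mem hxM _)
  have hOX : O ≤ centralizer (X : Set G) := le_centralizer_iff.mp (zpowers_le.mpr (pow_mem hx _))
  have : Group.IsSolvable M := hG.2.2.2 M hM.1
  obtain ⟨H, hH, hXH⟩ := Core.exists_piHall_ge (G := ↥M) (π := Cfsg.kappa M) (K := X.subgroupOf M)
    fun s hs hsd => by
      rw [Nat.card_congr (subgroupOfEquivOfLe hXM).toEquiv, hXc] at hsd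
      rwa [(Nat.prime_dvd_prime_iff_eq hs ht).mp hsd]
  set K := H.map M.subtype with hK'
  have hK : Cfsg.IsPiHallOf (Cfsg.kappa M) K M := ⟨map_subtype_le _,
    fun s hs hsd => hH.1 s hs (by rwa [hK', card_map_of_injective M.subtype_injective] at hsd),
    fun s hs hsπ hsd => hH.2 s hs hsπ (by
      rwa [relIndex, subgroupOf, hK', comap_map_eq_self_of_injective M.subtype_injective] at hsd)⟩
  have hXK : X ≤ K := (map_subgroupOf_eq_of_le hXM).ge.trans (map_mono hXH)
  have hK1 : K ≠ ⊥ := fun e => ht.ne_one (by rw [← hXc, le_bot_iff.mp (hXK.trans e.le), card_bot])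
  obtain ⟨F, d⟩ := OddLocal.Kappa.exists_data hG hM hK hK1
  have hstar : O ⊓ centralizer (K : Set G) = O := by
    rw [← d.fixed X (hXc.symm ▸ ht) hXK, inf_eq_left.mpr hOX]
  obtain ⟨q, hq, hqd⟩ := Nat.exists_prime_and_dvd
    (fun e : Nat.card O = 1 => TauTwo.sigmaCore_ne_bot hG hM (eq_bot_of_card_eq _ e))
  obtain ⟨S⟩ : Nonempty (Sylow q O) := inferInstance
  obtain ⟨-, -, h3, -⟩ := Cfsg.Agent.S1431.result hG M hM K hK hK1
  exact (h3 q hq (by rw [hstar]; exact hqd) S).2.2 (by rw [hstar]; exact map_subtype_le _)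

/-- `C_M(M_σ)` is abelian. -/
theorem centralizer_sigmaCore_commutative (hG : Cfsg.IsMinSimpleOddOrder G) (hM : IsCoatom M) :
    IsMulCommutative ↥(M ⊓ centralizer (Cfsg.sigmaCore M : Set G)) := by
  set O := Cfsg.sigmaCore M with hO
  obtain ⟨E, hE, -⟩ := TauTwo.exists_complement_ge hG hM (bot_le : (⊥ : Subgroup G) ≤ M) fun t ht hd => by
    rw [card_bot] at hd; exact absurd (Nat.dvd_one.mp hd) ht.ne_one
  obtain ⟨B, -, -, hB, hmem, -⟩ := SigmaFactor.exists_abelian hG hM hE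
  set C := M ⊓ centralizer (O : Set G) with hC
  set Z := O ⊓ centralizer (O : Set G) with hZ
  set B' := B ⊓ centralizer (O : Set G) with hB'
  have hcop := OddLocal.FixedTauOne.coprime_complement hG hM hE
  obtain ⟨y, hy, hy1⟩ := O.bot_or_exists_ne_one.resolve_left (TauTwo.sigmaCore_ne_bot hG hM)
  have hle : C ≤ B' ⊔ Z := by
    intro x hx
    refine HallGen.mem_of_primePow_parts _ x fun w hw t j ht hto => ?_
    have hwC : w ∈ C := zpowers_le.mpr hx hw
    by_cases hσ : t ∈ Cfsg.sigma M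
    · have := Fact.mk ht
      exact mem_sup_right ⟨TauTwo.le_sigmaCore hG hM hσ (IsPGroup.of_card (n := j) (by
        rw [Nat.card_zpowers, hto])) (zpowers_le.mpr hwC.1) (mem_zpowers w), hwC.2⟩
    refine mem_sup_left ⟨?_, hwC.2⟩
    obtain ⟨e, he, o, ho, rfl⟩ := hE.2.2.2 w hwC.1
    have hco : o * (e * o) = e * o * o := mem_centralizer_iff.mp hwC.2 o ho
    have hcomm : Commute e o := by
      have : o * e = e * o := mul_right_cancel (by simpa [mul_assoc] using hco)
      exact this.symm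
    have ho1 : o = 1 := by
      have h1 : (e * o) ^ t ^ j = 1 := hto ▸ pow_orderOf_eq_one (e * o)
      rw [hcomm.mul_pow] at h1
      have h2 : o ^ t ^ j ∈ E ⊓ O := ⟨by rw [eq_inv_of_mul_eq_one_right h1]; exact E.inv_mem (E.pow_mem he _),
        pow_mem ho _⟩
      rw [hE.2.2.1, mem_bot] at h2
      refine orderOf_eq_one_iff.mp (Nat.eq_one_of_dvd_coprimes ?_ (orderOf_dvd_of_pow_eq_one h2)
        (Subgroup.orderOf_dvd_natCard O ho))
      exact Nat.Coprime.pow_left _ (ht.coprime_iff_not_dvd.mpr fun hd => hσ (TauTwo.mem_sigma_of_dvd ht hd hG hM))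
    rw [ho1, mul_one] at hwC hto ⊢
    refine hmem e he ⟨hwC.1, y, hy, hy1, (mem_centralizer_iff.mp hwC.2 y hy).symm⟩ fun s hs hsd => ?_
    rw [hto] at hsd
    obtain rfl := (Nat.prime_dvd_prime_iff_eq hs ht).mp (hs.dvd_of_dvd_pow hsd)
    rcases Nat.eq_zero_or_pos j with rfl | hj
    · exact absurd (Nat.dvd_one.mp (by simpa using hsd)) hs.ne_one
    exact tau2_of_centralizes hG hM hwC.1 hwC.2 hs (hto ▸ dvd_pow_self s hj.ne') hσ
  have hBZ : B' ≤ centralizer (Z : Set G) := inf_le_right.trans (Subgroup.centralizer_le inf_le_left)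
  have hBB : B' ≤ centralizer (B' : Set G) :=
    (inf_le_left.trans (le_centralizer_iff_isMulCommutative.mpr hB)).trans (Subgroup.centralizer_le inf_le_left)
  have hZZ : Z ≤ centralizer (Z : Set G) := inf_le_right.trans (Subgroup.centralizer_le inf_le_left)
  have hsup : B' ⊔ Z ≤ centralizer ((B' ⊔ Z : Subgroup G) : Set G) := by
    refine sup_le (le_centralizer_iff.mp (sup_le hBB ?_)) (le_centralizer_iff.mp (sup_le hBZ hZZ))
    exact le_centralizer_iff.mp hBZ
  exact le_centralizer_iff_isMulCommutative.mp (hle.trans (hsup.trans (Subgroup.centralizer_le hle)))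

/-- `M'' ≤ M_σ`. -/
theorem second_derived_le (hG : Cfsg.IsMinSimpleOddOrder G) (hM : IsCoatom M) :
    ⁅⁅M, M⁆, ⁅M, M⁆⁆ ≤ Cfsg.sigmaCore M := by
  set O := Cfsg.sigmaCore M with hO
  obtain ⟨E, hE, -⟩ := TauTwo.exists_complement_ge hG hM (bot_le : (⊥ : Subgroup G) ≤ M) fun t ht hd => by
    rw [card_bot] at hd; exact absurd (Nat.dvd_one.mp hd) ht.ne_one
  have hOM : O ≤ M := TauTwo.sigmaCore_le M
  have : (O.subgroupOf M).Normal :=
    (normal_subgroupOf_iff_le_normalizer hOM).mpr (TauTwo.le_normalizer_sigmaCore M)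
  let π := QuotientGroup.mk' (O.subgroupOf M)
  have key : ∀ {A : Subgroup G}, A ≤ M → ∀ a ∈ A ⊔ O, ∀ b ∈ A ⊔ O, ⁅a, b⁆ ∈ ⁅A, A⁆ ⊔ O := by
    intro A hA a ha b hb
    have hAO : A ≤ normalizer (O : Set G) := hA.trans (TauTwo.le_normalizer_sigmaCore M)
    obtain ⟨a', ha', o, ho, rfl⟩ := (Core.mem_sup_iff_mul hAO).mp ha
    obtain ⟨b', hb', o', ho', rfl⟩ := (Core.mem_sup_iff_mul hAO).mp hb
    have h1 : ∀ (c d : G) (hc : c ∈ M) (hd : d ∈ O), π ⟨c * d, mul_mem hc (hOM hd)⟩ = π ⟨c, hc⟩ :=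
      fun c d hc hd => QuotientGroup.eq.mpr (mem_subgroupOf.mpr (by
        show (c * d)⁻¹ * c ∈ O
        rw [mul_inv_rev, inv_mul_cancel_right]
        exact inv_mem hd))
    have h2 : π ⁅(⟨a', hA ha'⟩ : M), ⟨b', hA hb'⟩⁆ =
        π ⁅(⟨a' * o, mul_mem (hA ha') (hOM ho)⟩ : M), ⟨b' * o', mul_mem (hA hb') (hOM ho')⟩⁆ := by
      rw [map_commutatorElement, map_commutatorElement, h1 _ _ (hA ha') ho, h1 _ _ (hA hb') ho']
    have h3 : ⁅a', b'⁆⁻¹ * ⁅a' * o, b' * o'⁆ ∈ O := mem_subgroupOf.mp (QuotientGroup.eq.mp h2)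
    have h4 := mul_mem (mem_sup_left (commutator_mem_commutator ha' hb') : ⁅a', b'⁆ ∈ ⁅A, A⁆ ⊔ O)
      (mem_sup_right h3)
    rwa [mul_inv_cancel_left] at h4
  have hMEO : M ≤ E ⊔ O := fun m hm => by
    obtain ⟨e, he, o, ho, rfl⟩ := hE.2.2.2 m hm
    exact mul_mem (mem_sup_left he) (mem_sup_right ho)
  set D := ⁅E, E⁆
  have hder : ⁅M, M⁆ ≤ D ⊔ O := commutator_le.mpr fun a ha b hb => key hE.1 a (hMEO ha) b (hMEO hb)
  refine (commutator_mono hder hder).trans (commutator_le.mpr fun a ha b hb => ?_)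
  have h5 := key ((commutator_le_self E).trans hE.1) a ha b hb
  rwa [show ⁅D, D⁆ = (⊥ : Subgroup G) from commutator_eq_bot_iff_le_centralizer.mpr
    (OddLocal.TauThree.derived_commutes hG hM hE le_rfl le_rfl), bot_sup_eq] at h5

/-- `F(M) ≤ M'` when `K ≠ 1`. -/
theorem fitting_le_derived (hG : Cfsg.IsMinSimpleOddOrder G) (hM : IsCoatom M)
    (h : Cfsg.IsSigmaDecomposition M K U) (hK : K ≠ ⊥) : Cfsg.fittingOf M ≤ ⁅M, M⁆ := by
  intro x hx
  refine HallGen.mem_of_primePow_parts _ x fun w hw t j ht hto => ?_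
  have := Fact.mk ht
  have hwF : w ∈ Cfsg.fittingOf M := zpowers_le.mpr hx hw
  have hwM : w ∈ M := OddLocal.fittingOf_le M hwF
  by_cases hσ : t ∈ Cfsg.sigma M
  · exact OddLocal.BetaCore.sigmaCore_le_derived hG hM (TauTwo.le_sigmaCore hG hM hσ
      (IsPGroup.of_card (n := j) (by rw [Nat.card_zpowers, hto])) (zpowers_le.mpr hwM) (mem_zpowers w))
  rcases Nat.eq_zero_or_pos j with rfl | hj
  · rw [orderOf_eq_one_iff.mp (hto.trans (pow_zero t))]; exact one_mem _
  rw [TypeP2.derived_eq hG hM h hK]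
  refine mem_of_normal_index ht (sup_le h.compl.1 (TauTwo.sigmaCore_le M))
    (SigmaFactor.le_normalizer_sup hG hM h) (fun hd => ?_) hwM hto
  set π : Set ℕ := {q | q.Prime ∧ q ∉ Cfsg.sigma M}
  set F := Cfsg.fittingOf M with hF
  have hzY : w ∈ Cfsg.piCoreOf π F := by
    have hmem := HallGen.mem_pCore_of_mem_nilpotent_normal (G := F) (N := ⊤) inferInstance
      (by
        have := OddLocal.FittingSigma.isNilpotent_fittingOf M
        exact Group.nilpotent_of_mulEquiv (Subgroup.topEquiv (G := F)).symm)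
      (mem_top (⟨w, hwF⟩ : F)) (k := j) (by rw [orderOf_mk, hto])
    refine ⟨⟨w, hwF⟩, Components.le_piCore inferInstance (fun r hr hd => ?_) hmem, rfl⟩
    obtain ⟨k, hk⟩ := IsPGroup.iff_card.mp (Core.isPGroup_pCore t F)
    rw [(Nat.prime_dvd_prime_iff_eq hr ht).mp (hr.dvd_of_dvd_pow (hk ▸ hd))]
    exact ⟨ht, hσ⟩
  have hτ := (OddLocal.FittingSigma.sigma_prime_part hG hM).2.1 t ht
    ((hto ▸ dvd_pow_self t hj.ne').trans (Subgroup.orderOf_dvd_natCard _ hzY))
  refine (OddLocal.Kappa.hall_of_compl hG hM h.hall h.compl).2.2 t ht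
    ⟨ht, fun hk => hτ.2.2.2 (OddLocal.Kappa.rank_one_of_kappa hk), hσ⟩ ?_
  rw [← relIndex_mul_relIndex U (U ⊔ Cfsg.sigmaCore M) M le_sup_left (sup_le h.compl.1 (TauTwo.sigmaCore_le M))]
  exact hd.mul_left _

/-- `C_M(M_F) ≤ F(M)` for nilpotent `M_σ`. -/
theorem fitting_eq_of_nilpotent (hG : Cfsg.IsMinSimpleOddOrder G) (hM : IsCoatom M)
    (hn : Group.IsNilpotent (Cfsg.sigmaCore M)) :
    Cfsg.fittingOf M = (M ⊓ centralizer (Cfsg.fittingHallOf M : Set G)) ⊔ Cfsg.fittingHallOf M := by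
  refine le_antisymm (fitting_le M) (sup_le ?_ (fittingHallOf_le_fittingOf M))
  rw [← OddLocal.Support.sigmaCore_eq_fittingHallOf hG hM hn]
  refine OddLocal.FittingSigma.le_fittingOf inf_le_left (fun m hm => ?_) ?_
  · refine mem_normalizer_iff.mpr fun x => ?_
    have h1 := mem_normalizer_iff.mp
      (TauTwo.le_normalizer_centralizer _ (TauTwo.le_normalizer_sigmaCore M hm)) x
    exact ⟨fun hx => ⟨M.mul_mem (M.mul_mem hm hx.1) (M.inv_mem hm), h1.mp hx.2⟩,
      fun hx => ⟨by simpa [mul_assoc] using M.mul_mem (M.mul_mem (M.inv_mem hm) hx.1) hm, h1.mpr hx.2⟩⟩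
  · have := centralizer_sigmaCore_commutative hG hM
    exact @CommGroup.isNilpotent _ { (inferInstance : Group ↥(M ⊓ centralizer (Cfsg.sigmaCore M : Set G))) with
      mul_comm := fun a b => this.is_comm.comm a b }

end CfsgLib.TwoGroups.FittingStructure
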