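import Mathlib
import Cfsg.Prelude.Def_OddOrderLocal
import Cfsg.Agent.Lib.Core.Hall
import Cfsg.Agent.Lib.Core.Coprime
import Cfsg.Agent.Lib.OddLocal.Basic
import Cfsg.Agent.Lib.OddLocal.FittingHall
import Cfsg.Agent.Lib.OddLocal.PLengthEndgame
import Cfsg.Agent.Lib.TwoGroups.FittingStructure

/-!
Owner: helper12. Complements of a Hall subgroup in a solvable subgroup: they are Hall subgroups, conjugate,
and can be chosen invariant under a coprime group of operators.
-/

set_option autoImplicit false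
set_option linter.unusedSectionVars false

namespace CfsgLib.TwoGroups.HallComplements

open Subgroup
open scoped Pointwise

variable {G : Type*} [Group G] [Finite G] {M H A U V : Subgroup G}

/-- A complement of a Hall subgroup is a Hall subgroup for the other primes. -/
theorem isPiHall_compl (hc : (Nat.card H).Coprime (H.relIndex M)) (hU : Cfsg.IsComplIn H U M) :
    Cfsg.IsPiHall (Cfsg.primesNotDvd (Nat.card H)) (U.subgroupOf M) := by
  rw [OddLocal.IsComplIn_relIndex_left hU] at hc
  refine ⟨fun t ht hd => ⟨ht, fun hd' => ?_⟩, fun t ht htπ hd => htπ.2 ?_⟩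
  · rw [Nat.card_congr (subgroupOfEquivOfLe hU.2.1).toEquiv] at hd
    exact Nat.not_coprime_of_dvd_of_dvd ht.one_lt hd' hd hc
  · change t ∣ U.relIndex M at hd
    rwa [OddLocal.IsComplIn_relIndex_right hU] at hd

theorem fittingHall_characteristic (D : Type*) [Group D] [Finite D] : (Cfsg.fittingHall D).Characteristic :=
  characteristic_iff_map_le.2 fun φ => by
    obtain ⟨hn, hc⟩ := OddLocal.fittingHall_spec D
    refine OddLocal.le_fittingHall ((Cfsg.fittingHall_normal D).map _ φ.surjective) ?_ ?_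
    · have := hn
      exact Group.nilpotent_of_mulEquiv (equivMapOfInjective _ φ.toMonoidHom φ.injective)
    · rw [card_map_of_injective (f := φ.toMonoidHom) φ.injective,
        Subgroup.index_map_of_bijective (f := φ.toMonoidHom) φ.bijective]
      exact hc

theorem card_eq (hU : Cfsg.IsComplIn H U M) (hV : Cfsg.IsComplIn H V M) : Nat.card U = Nat.card V := by
  rw [← OddLocal.IsComplIn_relIndex_left hU, OddLocal.IsComplIn_relIndex_left hV]

/-- Two complements of a Hall subgroup of a solvable group are conjugate in that group. -/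
theorem exists_conj (hs : Group.IsSolvable M) (hc : (Nat.card H).Coprime (H.relIndex M))
    (hU : Cfsg.IsComplIn H U M) (hV : Cfsg.IsComplIn H V M) :
    ∃ m ∈ M, V = U.map (MulAut.conj m).toMonoidHom := by
  obtain ⟨⟨m, hm⟩, e⟩ := Core.piHall_conj (isPiHall_compl hc hU) (isPiHall_compl hc hV)
  refine ⟨m, hm, ?_⟩
  rw [← map_subgroupOf_eq_of_le hV.2.1, ← e]
  ext g
  constructor
  · rintro ⟨w, hw, rfl⟩
    rw [SetLike.mem_coe, mem_smul_pointwise_iff_exists] at hw
    obtain ⟨v, hv, rfl⟩ := hw
    exact ⟨v, hv, rfl⟩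
  · rintro ⟨v, hv, rfl⟩
    exact ⟨_, smul_mem_pointwise_smul (⟨v, hU.2.1 hv⟩ : M) _ (U.subgroupOf M) hv, rfl⟩

theorem isComplIn_of_hall (hHM : H ≤ M) (hHn : M ≤ normalizer (H : Set G))
    (hc : (Nat.card H).Coprime (H.relIndex M)) {W : Subgroup M}
    (hW : Cfsg.IsPiHall (Cfsg.primesNotDvd (Nat.card H)) W) : Cfsg.IsComplIn H (W.map M.subtype) M := by
  set W' := W.map M.subtype with hW'
  have hWM : W' ≤ M := map_subtype_le _
  have hcardW : Nat.card W' = Nat.card W := card_map_of_injective M.subtype_injective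
  have hWH : (Nat.card H).Coprime (Nat.card W') := Nat.coprime_of_dvd fun t ht h1 h2 =>
    (hW.1 t ht (hcardW ▸ h2)).2 h1
  have hinf : H ⊓ W' = ⊥ := inf_eq_bot_of_coprime hWH
  have hidx : (W'.relIndex M).Coprime (H.relIndex M) := Nat.coprime_of_dvd fun t ht h1 h2 => by
    rw [relIndex, subgroupOf, hW', comap_map_eq_self_of_injective M.subtype_injective] at h1
    exact hW.2 t ht ⟨ht, fun h => Nat.not_coprime_of_dvd_of_dvd ht.one_lt h h2 hc⟩ h1
  have hsup : H ⊔ W' = M := by
    refine le_antisymm (sup_le hHM hWM) (relIndex_eq_one.mp (Nat.eq_one_of_dvd_coprimes hidx ?_ ?_))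
    · exact relIndex_dvd_of_le_left _ le_sup_right
    · exact relIndex_dvd_of_le_left _ le_sup_left
  refine ⟨hHM, hWM, hinf, fun m hm => ?_⟩
  rw [← hsup] at hm
  exact (OddLocal.mem_sup_of_le_normalizer (hWM.trans hHn)).mp hm

/-- A coprime group of operators fixes some complement of an invariant normal Hall subgroup. -/
theorem exists_invariant (hs : Group.IsSolvable M) (hHM : H ≤ M) (hHn : M ≤ normalizer (H : Set G))
    (hc : (Nat.card H).Coprime (H.relIndex M)) (hAM : A ≤ normalizer (M : Set G))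
    (hAH : A ≤ normalizer (H : Set G)) (hcop : (Nat.card A).Coprime (Nat.card M)) :
    ∃ U : Subgroup G, Cfsg.IsComplIn H U M ∧ A ≤ normalizer (U : Set G) := by
  obtain ⟨W, hW⟩ := Core.exists_piHall (G := ↥M) (Cfsg.primesNotDvd (Nat.card H))
  have hU := isComplIn_of_hall hHM hHn hc hW
  set U := W.map M.subtype
  obtain ⟨k, hk, hkA⟩ := Core.exists_invariant_conj hAM hcop (Or.inr hs) (P := U) fun a ha => by
    have e1 : M.map (MulAut.conj a).toMonoidHom = M := by
      rw [← Core.conj_smul_eq_map, Core.mem_normalizer_iff_conj_smul_eq.mp (hAM ha)]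
    have e2 : H.map (MulAut.conj a).toMonoidHom = H := by
      rw [← Core.conj_smul_eq_map, Core.mem_normalizer_iff_conj_smul_eq.mp (hAH ha)]
    have hUa : Cfsg.IsComplIn H (U.map (MulAut.conj a).toMonoidHom) M := by
      refine ⟨hHM, e1 ▸ map_mono hU.2.1, ?_, fun m hm => ?_⟩
      · rw [← e2, ← map_inf _ _ _ (MulAut.conj a).injective, hU.2.2.1, Subgroup.map_bot]
      · rw [← e1] at hm
        obtain ⟨w, hw, rfl⟩ := hm
        obtain ⟨h, hh, u, hu, rfl⟩ := hU.2.2.2 w hw
        exact ⟨_, e2.le (mem_map_of_mem _ hh), _, mem_map_of_mem _ hu, map_mul _ _ _⟩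
    obtain ⟨m, hm, e⟩ := exists_conj hs hc hU hUa
    exact ⟨m, hm, by rw [Core.conj_smul_eq_map, Core.conj_smul_eq_map, e]⟩
  refine ⟨MulAut.conj k • U, ?_, hkA⟩
  rw [Core.conj_smul_eq_map]
  have e1 : M.map (MulAut.conj k).toMonoidHom = M := by
    rw [← Core.conj_smul_eq_map, Core.mem_normalizer_iff_conj_smul_eq.mp (le_normalizer hk)]
  have e2 : H.map (MulAut.conj k).toMonoidHom = H := by
    rw [← Core.conj_smul_eq_map, Core.mem_normalizer_iff_conj_smul_eq.mp (hHn hk)]
  refine ⟨hHM, e1 ▸ map_mono hU.2.1, ?_, fun m hm => ?_⟩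
  · rw [← e2, ← map_inf _ _ _ (MulAut.conj k).injective, hU.2.2.1, Subgroup.map_bot]
  · rw [← e1] at hm
    obtain ⟨w, hw, rfl⟩ := hm
    obtain ⟨h, hh, u, hu, rfl⟩ := hU.2.2.2 w hw
    exact ⟨_, e2.le (mem_map_of_mem _ hh), _, mem_map_of_mem _ hu, map_mul _ _ _⟩

/-- A normal subgroup containing `M_F` whose order is prime to its index has the same `M_F`. -/
theorem fittingHallOf_eq {D : Subgroup G} (hDM : D ≤ M) (hD : M ≤ normalizer (D : Set G))
    (hF : Cfsg.fittingHallOf M ≤ D) (hc : (Nat.card D).Coprime (D.relIndex M)) :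
    Cfsg.fittingHallOf D = Cfsg.fittingHallOf M := by
  have hmul : ∀ {X : Subgroup G}, X ≤ D → X.relIndex M = X.relIndex D * D.relIndex M := fun h =>
    (relIndex_mul_relIndex _ _ _ h hDM).symm
  apply le_antisymm
  · have hle : Cfsg.fittingHallOf D ≤ D := OddLocal.fittingHallOf_le D
    have hn : M ≤ normalizer (Cfsg.fittingHallOf D : Set G) := by
      intro m hm
      rw [Core.mem_normalizer_iff_conj_smul_eq, Core.conj_smul_eq_map]
      have : (Cfsg.fittingHall ↥D).Characteristic := fittingHall_characteristic _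
      have := OddLocal.PLengthEndgame.normalizer_le_char D (Cfsg.fittingHall ↥D) (hD hm)
      rw [Core.mem_normalizer_iff_conj_smul_eq, Core.conj_smul_eq_map] at this
      exact this
    intro y hy
    refine mem_map.mpr ⟨⟨y, (hle.trans hDM) hy⟩, OddLocal.le_fittingHall
      (N := (Cfsg.fittingHallOf D).subgroupOf M) ?_ ?_ ?_ (mem_subgroupOf.mpr hy), rfl⟩
    · exact (normal_subgroupOf_iff_le_normalizer (hle.trans hDM)).mpr hn
    · have := OddLocal.fittingHallOf_nilpotent D
      exact Group.nilpotent_of_mulEquiv (subgroupOfEquivOfLe (hle.trans hDM)).symm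
    · rw [Nat.card_congr (subgroupOfEquivOfLe (hle.trans hDM)).toEquiv]
      show (Nat.card _).Coprime ((Cfsg.fittingHallOf D).relIndex M)
      rw [hmul hle]
      exact (OddLocal.fittingHallOf_coprime D).mul_right (hc.coprime_dvd_left (card_dvd_of_le hle))
  · intro y hy
    refine mem_map.mpr ⟨⟨y, hF hy⟩, OddLocal.le_fittingHall
      (N := (Cfsg.fittingHallOf M).subgroupOf D) ?_ ?_ ?_ (mem_subgroupOf.mpr hy), rfl⟩
    · exact (normal_subgroupOf_iff_le_normalizer hF).mpr (hDM.trans (FittingStructure.le_normalizer_fittingHallOf M))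
    · have := OddLocal.fittingHallOf_nilpotent M
      exact Group.nilpotent_of_mulEquiv (subgroupOfEquivOfLe hF).symm
    · rw [Nat.card_congr (subgroupOfEquivOfLe hF).toEquiv]
      show (Nat.card _).Coprime ((Cfsg.fittingHallOf M).relIndex D)
      exact (OddLocal.fittingHallOf_coprime M).coprime_dvd_right (Dvd.intro _ (hmul hF).symm)

end CfsgLib.TwoGroups.HallComplements
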