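import Cfsg.Agent.S1364
import Cfsg.Agent.S1365
import Cfsg.Agent.S1366
import Cfsg.Agent.S1368
import Cfsg.Agent.S1370
import Cfsg.Agent.Lib.TwoGroups.KappaStar
import Cfsg.Agent.Lib.TwoGroups.HallComplements

/-!
Owner: helper12. The data `Cfsg.IsTypePWith` attached to a standard factorisation with `K ≠ 1`.
-/

set_option autoImplicit false
set_option linter.unusedSectionVars false

namespace CfsgLib.TwoGroups.TypePData

open Subgroup

variable {G : Type*} [Group G] [Finite G] {M K U V : Subgroup G}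

theorem coprime_K_derived (hG : Cfsg.IsMinSimpleOddOrder G) (hM : IsCoatom M)
    (h : Cfsg.IsSigmaDecomposition M K U) (hK : K ≠ ⊥) : (Nat.card K).Coprime (Nat.card ↥⁅M, M⁆) := by
  obtain ⟨E, d⟩ := OddLocal.Kappa.exists_data hG hM h.hall hK
  exact Nat.coprime_of_dvd fun t ht h1 h2 => by
    have := h.hall.2.1 t ht h1
    rw [d.kappa_eq hG] at this
    exact this.2.2.2.1 h2

theorem le_normalizer_derived (M : Subgroup G) : M ≤ normalizer ((⁅M, M⁆ : Subgroup G) : Set G) :=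
  le_normalizer_iff_commutator_le_right.mpr (Subgroup.commutator_mono le_rfl (Subgroup.commutator_le_self M))

theorem isComplIn_derived (hG : Cfsg.IsMinSimpleOddOrder G) (hM : IsCoatom M)
    (h : Cfsg.IsSigmaDecomposition M K U) (hK : K ≠ ⊥) : Cfsg.IsComplIn ⁅M, M⁆ K M := by
  refine ⟨Subgroup.commutator_le_self M, h.hall.1,
    inf_eq_bot_of_coprime (coprime_K_derived hG hM h hK).symm, fun m hm => ?_⟩
  refine (OddLocal.mem_sup_of_le_normalizer (h.hall.1.trans (le_normalizer_derived M))).mp ?_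
  obtain ⟨u, hu, s, hs, rfl⟩ := h.compl.2.2.2 m hm
  refine mul_mem (le_sup_left (a := ⁅M, M⁆) (TypeP2.U_le_derived hG hM h hK hu)) ?_
  exact (sup_le (le_sup_right (a := ⁅M, M⁆))
    ((OddLocal.BetaCore.sigmaCore_le_derived hG hM).trans (le_sup_left (b := K))) :
      K ⊔ Cfsg.sigmaCore M ≤ ⁅M, M⁆ ⊔ K) hs

theorem coprime_derived (hG : Cfsg.IsMinSimpleOddOrder G) (hM : IsCoatom M)
    (h : Cfsg.IsSigmaDecomposition M K U) (hK : K ≠ ⊥) :
    (Nat.card ↥⁅M, M⁆).Coprime (⁅M, M⁆.relIndex M) := by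
  rw [OddLocal.IsComplIn_relIndex_left (isComplIn_derived hG hM h hK)]
  exact (coprime_K_derived hG hM h hK).symm

theorem coprime_K (h : Cfsg.IsSigmaDecomposition M K U) : (Nat.card K).Coprime (K.relIndex M) :=
  Nat.coprime_of_dvd fun t ht h1 h2 => h.hall.2.2 t ht (h.hall.2.1 t ht h1) h2

theorem fittingHall_le (hG : Cfsg.IsMinSimpleOddOrder G) (hM : IsCoatom M) :
    Cfsg.fittingHallOf M ≤ ⁅M, M⁆ :=
  (FittingStructure.fittingHallOf_le_sigmaCore hG hM).trans (OddLocal.BetaCore.sigmaCore_le_derived hG hM)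

/-- `M_F` is a Hall subgroup of `M'`. -/
theorem coprime_fittingHall (hG : Cfsg.IsMinSimpleOddOrder G) (hM : IsCoatom M) :
    (Nat.card (Cfsg.fittingHallOf M)).Coprime ((Cfsg.fittingHallOf M).relIndex ⁅M, M⁆) :=
  (OddLocal.fittingHallOf_coprime M).coprime_dvd_right
    (Dvd.intro _ (relIndex_mul_relIndex _ _ _ (fittingHall_le hG hM) (Subgroup.commutator_le_self M)))

/-- A nilpotent `K`-invariant complement of `M_F` in `M'` gives data of type P. -/
theorem isTypePWith (hG : Cfsg.IsMinSimpleOddOrder G) (hM : IsCoatom M)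
    (h : Cfsg.IsSigmaDecomposition M K U) (hK : K ≠ ⊥) (hVn : Group.IsNilpotent V)
    (hKV : K ≤ normalizer (V : Set G)) (hV : Cfsg.IsComplIn (Cfsg.fittingHallOf M) V ⁅M, M⁆) :
    Cfsg.IsTypePWith M K V (Cfsg.sigmaCore M ⊓ centralizer (K : Set G)) := by
  obtain ⟨hSc, hS1, hSH, hHc⟩ := Cfsg.Agent.S1364.result hG M hM K U h hK
  obtain ⟨-, hS2⟩ := Cfsg.Agent.S1365.result hG M hM K U h hK
  obtain ⟨Ms, ⟨hMs, hKst, hKstH⟩, -⟩ := Cfsg.Agent.S1366.result hG M hM K U h hK
  obtain ⟨-, hZc⟩ := Cfsg.Agent.S1368.result hG M hM K U h hK Ms hMs hKst hKstH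
  obtain ⟨hTI, hNZ⟩ := Cfsg.Agent.S1370.result hG M hM K U h hK
  obtain ⟨hF2, hFe, hFd⟩ := Chapter15.second_derived hG hM (Chapter15.starPrime hG) (Chapter15.kappaCyclic hG)
  set S := Cfsg.sigmaCore M ⊓ centralizer (K : Set G) with hSdef
  have hD := isComplIn_derived hG hM h hK
  have hκ : (Cfsg.kappa M).Nonempty := by
    obtain ⟨t, ht, htd⟩ := Nat.exists_prime_and_dvd (fun e : Nat.card K = 1 => hK (eq_bot_of_card_eq _ e))
    exact ⟨t, h.hall.2.1 t ht htd⟩
  have hKS : K ⊓ S = ⊥ := by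
    refine le_bot_iff.mp ((le_inf ?_ ?_).trans hD.2.2.1.le)
    · exact (inf_le_right.trans inf_le_left).trans (OddLocal.BetaCore.sigmaCore_le_derived hG hM)
    · exact inf_le_left
  have hcomm : ∀ a ∈ K, ∀ b ∈ S, a * b = b * a := fun a ha b hb => mem_centralizer_iff.mp hb.2 a ha
  refine ⟨hK, h.cyclic, coprime_K h, hD, hVn, hKV, hV, hHc, ?_, ?_, hFd hκ, le_inf hSH hS2, fun x hx hx1 => ?_,
    hK, hS1, hKS, hcomm, hZc, fun X hX hX1 => ?_⟩
  · rw [sup_comm, ← hFe]; exact hF2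
  · rw [sup_comm, ← hFe]
  · have hC : M ⊓ centralizer ({x} : Set G) = K ⊔ S :=
      OddLocal.Kappa.centralizer_eq hG hM h.cyclic h.hall hx hx1
    apply le_antisymm
    · intro y hy
      have hy' : y ∈ K ⊔ S := hC ▸ ⟨Subgroup.commutator_le_self M hy.1, hy.2⟩
      obtain ⟨a, ha, b, hb, rfl⟩ := (OddLocal.mem_sup_of_le_normalizer
        ((inf_le_right.trans (Subgroup.centralizer_le_normalizer _)) : S ≤ normalizer (K : Set G))).mp hy'
      have hb' : b ∈ ⁅M, M⁆ := OddLocal.BetaCore.sigmaCore_le_derived hG hM hb.1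
      have h1 : a * b * b⁻¹ ∈ ⁅M, M⁆ := mul_mem (mem_inf.mp hy).1 (inv_mem hb')
      rw [mul_inv_cancel_right] at h1
      have ha' : a ∈ (⁅M, M⁆ ⊓ K : Subgroup G) := ⟨h1, ha⟩
      rw [hD.2.2.1, mem_bot] at ha'
      rw [ha', one_mul]; exact hb
    · exact fun y hy => ⟨OddLocal.BetaCore.sigmaCore_le_derived hG hM hy.1,
        mem_centralizer_singleton_iff.mpr (hcomm x hx y hy).symm⟩
  · obtain ⟨x, hx⟩ := hX1
    apply le_antisymm
    · intro g hg
      by_contra hgZ
      have hgx := (mem_set_normalizer_iff.mp hg x).mp hx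
      have := hTI g (fun hn => hgZ (hNZ ▸ hn)) x (hX hx) (hX hgx)
      exact (hX hx).2 (Or.inl (this ▸ one_mem K))
    · intro g hg
      refine mem_set_normalizer_iff.mpr fun y => ?_
      have := hZc
      have hcg : ∀ w ∈ K ⊔ S, g * w * g⁻¹ = w := fun w hw => by
        have := (IsMulCommutative.is_comm (M := ↥(K ⊔ S))).comm ⟨g, hg⟩ ⟨w, hw⟩
        have e : g * w = w * g := congrArg Subtype.val this
        rw [e, mul_inv_cancel_right]
      constructor
      · intro hy; rwa [hcg y (hX hy).1]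
      · intro hy
        have h1 := (hX hy).1
        have h2 : y ∈ K ⊔ S := by simpa [mul_assoc] using mul_mem (mul_mem (inv_mem hg) h1) hg
        rwa [hcg y h2] at hy

end CfsgLib.TwoGroups.TypePData
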