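import Cfsg.Agent.S1360
import Cfsg.Agent.S1363
import Cfsg.Agent.S1372
import Cfsg.Agent.Lib.TwoGroups.TypePData

/-!
Owner: helper12. Standard factorisations with `K ≠ 1` and `M_F ≠ 1` give Types II, III and IV.
-/

set_option autoImplicit false
set_option linter.unusedSectionVars false

namespace CfsgLib.TwoGroups.TypeTwoThree

open Subgroup

variable {G : Type*} [Group G] [Finite G] {M K U : Subgroup G}

theorem fittingHall_eq_of_U (hG : Cfsg.IsMinSimpleOddOrder G) (hM : IsCoatom M)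
    (h : Cfsg.IsSigmaDecomposition M K U) (hU : U ≠ ⊥) : Cfsg.fittingHallOf M = Cfsg.sigmaCore M :=
  (OddLocal.Support.sigmaCore_eq_fittingHallOf hG hM (TypeP2.isNilpotent_sigmaCore hG hM h hU)).symm

theorem isComplIn_U (hG : Cfsg.IsMinSimpleOddOrder G) (hM : IsCoatom M)
    (h : Cfsg.IsSigmaDecomposition M K U) (hK : K ≠ ⊥) :
    Cfsg.IsComplIn (Cfsg.sigmaCore M) U ⁅M, M⁆ := by
  refine ⟨OddLocal.BetaCore.sigmaCore_le_derived hG hM, TypeP2.U_le_derived hG hM h hK,
    le_bot_iff.mp ((le_inf inf_le_right (inf_le_left.trans le_sup_right)).trans h.compl.2.2.1.le),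
    fun m hm => ?_⟩
  rw [TypeP2.derived_eq hG hM h hK, sup_comm] at hm
  exact (OddLocal.mem_sup_of_le_normalizer (h.compl.1.trans (TauTwo.le_normalizer_sigmaCore M))).mp hm

/-- `M'` is of Frobenius type when `K ≠ 1` and `U ≠ 1`. -/
theorem derived_typeF (hG : Cfsg.IsMinSimpleOddOrder G) (hM : IsCoatom M)
    (h : Cfsg.IsSigmaDecomposition M K U) (hK : K ≠ ⊥) (hU : U ≠ ⊥) :
    Cfsg.IsOfTypeF ↥⁅M, M⁆ ∧ Cfsg.fittingHallOf ⁅M, M⁆ = Cfsg.fittingHallOf M := by
  have hH := fittingHall_eq_of_U hG hM h hU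
  have hc := isComplIn_U hG hM h hK
  have hUab := (Cfsg.Agent.S1363.result hG M hM K U h hK).1
  obtain ⟨U₀, hU₀, hexp, hfree⟩ := Cfsg.Agent.S1360.result hG M hM K U h
  set D := ⁅M, M⁆ with hD
  have hFD : Cfsg.fittingHallOf D = Cfsg.fittingHallOf M :=
    HallComplements.fittingHallOf_eq (Subgroup.commutator_le_self M) (TypePData.le_normalizer_derived M)
      (TypePData.fittingHall_le hG hM) (TypePData.coprime_derived hG hM h hK)
  have hsub : (Cfsg.sigmaCore M).subgroupOf D = Cfsg.fittingHall ↥D := by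
    rw [← hH, ← hFD]; exact comap_map_eq_self_of_injective D.subtype_injective _
  refine ⟨⟨Core.isSolvable_of_le (hG.2.2.2 M hM.1) (Subgroup.commutator_le_self M),
    hG.1.of_dvd_nat D.card_subgroup_dvd_card, ?_, ?_, U.subgroupOf D, ?_, ?_,
    ⟨U.subgroupOf D, le_rfl, le_normalizer, ?_, fun x _ _ => inf_le_left⟩,
    U₀.subgroupOf D, comap_mono hU₀, ?_, ?_⟩, hFD⟩
  · rw [← hsub]
    intro e
    exact TauTwo.sigmaCore_ne_bot hG hM (le_bot_iff.mp fun y hy => by
      have : (⟨y, hc.1 hy⟩ : D) ∈ (Cfsg.sigmaCore M).subgroupOf D := hy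
      rw [e, mem_bot] at this
      exact mem_bot.mpr (congrArg Subtype.val this))
  · rw [← hsub]
    intro e
    refine hU (eq_bot_iff.mpr fun u hu => hc.2.2.1 ▸ mem_inf.mpr ⟨?_, hu⟩)
    exact mem_subgroupOf.mp (show (⟨u, hc.2.1 hu⟩ : D) ∈ (Cfsg.sigmaCore M).subgroupOf D from e ▸ mem_top _)
  · rw [Ne, subgroupOf_eq_bot]
    intro e
    exact hU (e.eq_bot_of_le hc.2.1)
  · rw [← hsub]; exact OddLocal.IsComplIn_isComplement' hc
  · have := hUab
    infer_instance
  · have h1 := Monoid.exponent_eq_of_mulEquiv (subgroupOfEquivOfLe (hU₀.trans hc.2.1))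
    have h2 := Monoid.exponent_eq_of_mulEquiv (subgroupOfEquivOfLe hc.2.1)
    rw [h1, h2, hexp]
  · intro u hu hu1 x hx hux
    by_contra hx1
    rw [← hsub, mem_subgroupOf] at hx
    refine hu1 (Subtype.ext (hfree u hu ⟨(Subgroup.commutator_le_self M) u.2, x, hx, ?_, ?_⟩))
    · exact fun e => hx1 (Subtype.ext e)
    · exact congrArg Subtype.val hux

/-- Type II. -/
theorem typeTwo (hG : Cfsg.IsMinSimpleOddOrder G) (hM : IsCoatom M)
    (h : Cfsg.IsSigmaDecomposition M K U) (hK : K ≠ ⊥) (hU : U ≠ ⊥) : Cfsg.IsOfTypeII M := by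
  obtain ⟨hUab, hN⟩ := Cfsg.Agent.S1363.result hG M hM K U h hK
  have hnil : Group.IsNilpotent U := @CommGroup.isNilpotent _
    { (inferInstance : Group ↥U) with mul_comm := hUab.is_comm.comm }
  obtain ⟨hKp, hTI, -⟩ := Cfsg.Agent.S1372.result hG M hM K U h hK hU
  exact ⟨K, U, _, TypePData.isTypePWith hG hM h hK hnil h.normal
    (by rw [fittingHall_eq_of_U hG hM h hU]; exact isComplIn_U hG hM h hK),
    hU, hKp, hTI, hUab, hN, derived_typeF hG hM h hK hU⟩

/-- A complement of `M_F` in `M'` is nilpotent. -/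
theorem nilpotent_compl (hG : Cfsg.IsMinSimpleOddOrder G) (hM : IsCoatom M) {V : Subgroup G}
    (hV : Cfsg.IsComplIn (Cfsg.fittingHallOf M) V ⁅M, M⁆) : Group.IsNilpotent V := by
  have hn := (Chapter15.hall_chain hG hM (Chapter15.starPrime hG) (Chapter15.kappaCyclic hG)).2.2.2.2
  have hVM : V ≤ M := hV.2.1.trans (Subgroup.commutator_le_self M)
  set π := QuotientGroup.mk' (Cfsg.fittingHall ↥M) with hπ
  let f : V →* ↥((commutator ↥M).map π) := (π.comp (Subgroup.inclusion hVM)).codRestrict _ fun v => by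
    refine mem_map_of_mem _ ?_
    have : (v : G) ∈ (commutator ↥M).map M.subtype := by
      rw [map_subtype_commutator]; exact hV.2.1 v.2
    obtain ⟨w, hw, e⟩ := this
    exact (show w = Subgroup.inclusion hVM v from Subtype.ext e) ▸ hw
  have hinj : Function.Injective f := (injective_iff_map_eq_one f).mpr fun v hv => by
    have h1 : π (Subgroup.inclusion hVM v) = 1 := congrArg Subtype.val hv
    have h2 : (v : G) ∈ Cfsg.fittingHallOf M := ⟨_, (QuotientGroup.eq_one_iff _).mp h1, rfl⟩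
    exact Subtype.ext (mem_bot.mp (hV.2.2.1 ▸ mem_inf.mpr ⟨h2, v.2⟩))
  have := hn
  exact Group.nilpotent_of_mulEquiv (MonoidHom.ofInjective hinj).symm

/-- Types III and IV. -/
theorem typeThreeFour (hG : Cfsg.IsMinSimpleOddOrder G) (hM : IsCoatom M)
    (h : Cfsg.IsSigmaDecomposition M K U) (hK : K ≠ ⊥) (hne : Cfsg.fittingHallOf M ≠ Cfsg.sigmaCore M) :
    Cfsg.IsOfTypeIII M ∨ Cfsg.IsOfTypeIV M := by
  have hS := Chapter15.starPrime hG
  obtain ⟨hU, hTI, hKp⟩ := Chapter15.fitting_hall_ne hG hM hS h hne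
  obtain ⟨-, hσ, -⟩ := Chapter15.fitting_hall_ne_structure hG hM hS h hne
  have hDM : ⁅M, M⁆ ≤ M := Subgroup.commutator_le_self M
  obtain ⟨V, hV, hKV⟩ := HallComplements.exists_invariant (A := K) (H := Cfsg.fittingHallOf M) (M := ⁅M, M⁆)
    (Core.isSolvable_of_le (hG.2.2.2 M hM.1) hDM) (TypePData.fittingHall_le hG hM)
    (hDM.trans (FittingStructure.le_normalizer_fittingHallOf M)) (TypePData.coprime_fittingHall hG hM)
    (h.hall.1.trans (TypePData.le_normalizer_derived M))
    (h.hall.1.trans (FittingStructure.le_normalizer_fittingHallOf M)) (TypePData.coprime_K_derived hG hM h hK)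
  have hVn := nilpotent_compl hG hM hV
  have hV1 : V ≠ ⊥ := fun e => hne <| le_antisymm (FittingStructure.fittingHallOf_le_sigmaCore hG hM) <| by
    intro y hy
    obtain ⟨a, ha, b, hb, rfl⟩ := hV.2.2.2 y (OddLocal.BetaCore.sigmaCore_le_derived hG hM hy)
    rw [e, mem_bot] at hb
    rwa [hb, mul_one]
  have hN : normalizer (V : Set G) ≤ M := by
    obtain ⟨p, hp, hpd⟩ := Nat.exists_prime_and_dvd (fun e : Nat.card V = 1 => hV1 (eq_bot_of_card_eq _ e))
    have := Fact.mk hp
    have hpσ : p ∈ Cfsg.sigma M := TauTwo.mem_sigma_of_dvd hp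
      (hpd.trans (card_dvd_of_le (hV.2.1.trans hσ.ge))) hG hM
    obtain ⟨P⟩ : Nonempty (Sylow p V) := inferInstance
    have hPn : (P : Subgroup V).Normal := by have := hVn; infer_instance
    have := P.characteristic_of_normal hPn
    refine (OddLocal.PLengthEndgame.normalizer_le_char V (P : Subgroup V)).trans ?_
    have hPM : (P : Subgroup V).map V.subtype ≤ M := (map_subtype_le _).trans (hV.2.1.trans hDM)
    have hnd : ¬ p ∣ ((P : Subgroup V).map V.subtype).relIndex M := by
      rw [← relIndex_mul_relIndex _ V M (map_subtype_le _) (hV.2.1.trans hDM), hp.dvd_mul]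
      push Not
      refine ⟨?_, ?_⟩
      · rw [relIndex, subgroupOf, comap_map_eq_self_of_injective V.subtype_injective]
        exact P.not_dvd_index
      · rw [← relIndex_mul_relIndex V _ M hV.2.1 hDM, hp.dvd_mul]
        push Not
        refine ⟨fun hd => ?_, fun hd => ?_⟩
        · rw [OddLocal.IsComplIn_relIndex_right hV] at hd
          have hc := TypePData.coprime_fittingHall hG hM
          rw [OddLocal.IsComplIn_relIndex_left hV] at hc
          exact Nat.not_coprime_of_dvd_of_dvd hp.one_lt hd hpd hc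
        · exact Nat.not_coprime_of_dvd_of_dvd hp.one_lt (hpd.trans (card_dvd_of_le hV.2.1)) hd
            (TypePData.coprime_derived hG hM h hK)
    have hT := (P.2.map V.subtype).comap_subtype (K := M)
    have e : ((hT.toSylow hnd : Sylow p M) : Subgroup M).map M.subtype = (P : Subgroup V).map V.subtype :=
      map_subgroupOf_eq_of_le hPM
    rw [← e]
    exact SigmaTrans.exists_sylow_of_sigma hpσ _
  have hP := TypePData.isTypePWith hG hM h hK hVn hKV hV
  by_cases hab : IsMulCommutative V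
  · exact Or.inl ⟨K, V, _, hP, hV1, hKp, hTI, hab, hN⟩
  · exact Or.inr ⟨K, V, _, hP, hV1, hKp, hTI, hab, hN⟩

end CfsgLib.TwoGroups.TypeTwoThree
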