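import Cfsg.Agent.Lib.TwoGroups.HallComplements
import Cfsg.Agent.Lib.TwoGroups.TypePData

/-!
Owner: helper12. The five types of maximal subgroups exclude each other.
-/

set_option autoImplicit false
set_option linter.unusedSectionVars false

namespace CfsgLib.TwoGroups.TypesExclusive

open Subgroup

variable {G : Type*} [Group G] [Finite G] {M W₁ U W₂ W₁' U' W₂' : Subgroup G}

/-- The complements `U` of two sets of type-P data are conjugate in `M`. -/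
theorem exists_conj (hG : Cfsg.IsMinSimpleOddOrder G) (hM : IsCoatom M) (hP : Cfsg.IsTypePWith M W₁ U W₂)
    (hP' : Cfsg.IsTypePWith M W₁' U' W₂') : ∃ m ∈ M, U' = U.map (MulAut.conj m).toMonoidHom := by
  obtain ⟨m, hm, e⟩ := HallComplements.exists_conj
    (Core.isSolvable_of_le (hG.2.2.2 M hM.1) (Subgroup.commutator_le_self M))
    (TypePData.coprime_fittingHall hG hM) hP.U_compl hP'.U_compl
  exact ⟨m, Subgroup.commutator_le_self M hm, e⟩

theorem U_eq_bot_iff (hP : Cfsg.IsTypePWith M W₁ U W₂) (hP' : Cfsg.IsTypePWith M W₁' U' W₂') :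
    U = ⊥ ↔ U' = ⊥ := by
  rw [← card_eq_one, ← card_eq_one (H := U'), HallComplements.card_eq hP.U_compl hP'.U_compl]

theorem normalizer_le (hG : Cfsg.IsMinSimpleOddOrder G) (hM : IsCoatom M) (hP : Cfsg.IsTypePWith M W₁ U W₂)
    (hP' : Cfsg.IsTypePWith M W₁' U' W₂') (h : normalizer (U' : Set G) ≤ M) : normalizer (U : Set G) ≤ M := by
  obtain ⟨m, hm, rfl⟩ := exists_conj hG hM hP hP'
  intro n hn
  have h1 : m * n * m⁻¹ ∈ normalizer ((U.map (MulAut.conj m).toMonoidHom : Subgroup G) : Set G) :=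
    le_normalizer_map _ ⟨n, hn, rfl⟩
  have h2 := mul_mem (mul_mem (inv_mem hm) (h h1)) hm
  simpa [mul_assoc] using h2

theorem isOfTypeP_of_two (h : Cfsg.IsOfTypeII M) : Cfsg.IsOfTypeP M :=
  let ⟨W, U, V, hP, _⟩ := h; ⟨W, U, V, hP⟩

theorem isOfTypeP_of_three (h : Cfsg.IsOfTypeIII M ∨ Cfsg.IsOfTypeIV M) : Cfsg.IsOfTypeP M :=
  h.elim (fun ⟨W, U, V, hP, _⟩ => ⟨W, U, V, hP⟩) fun ⟨W, U, V, hP, _⟩ => ⟨W, U, V, hP⟩

theorem isOfTypeP_of_five (h : Cfsg.IsOfTypeV M) : Cfsg.IsOfTypeP M :=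
  let ⟨W, U, V, hP, _⟩ := h; ⟨W, U, V, hP⟩

theorem not_two_three (hG : Cfsg.IsMinSimpleOddOrder G) (hM : IsCoatom M) (h : Cfsg.IsOfTypeII M)
    (h' : Cfsg.IsOfTypeIII M ∨ Cfsg.IsOfTypeIV M) : False := by
  obtain ⟨W₁, U, W₂, hP, -, -, -, -, hN, -⟩ := h
  rcases h' with ⟨W₁', U', W₂', hP', -, -, -, -, hN'⟩ | ⟨W₁', U', W₂', hP', -, -, -, -, hN'⟩ <;>
    exact hN (normalizer_le hG hM hP hP' hN')

theorem not_two_five (h : Cfsg.IsOfTypeII M) (h' : Cfsg.IsOfTypeV M) : False := by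
  obtain ⟨W₁, U, W₂, hP, hU, -⟩ := h
  obtain ⟨W₁', U', W₂', hP', hU', -⟩ := h'
  exact hU ((U_eq_bot_iff hP hP').mpr hU')

theorem not_three_five (h : Cfsg.IsOfTypeIII M ∨ Cfsg.IsOfTypeIV M) (h' : Cfsg.IsOfTypeV M) : False := by
  obtain ⟨W₁', U', W₂', hP', hU', -⟩ := h'
  rcases h with ⟨W₁, U, W₂, hP, hU, -⟩ | ⟨W₁, U, W₂, hP, hU, -⟩ <;>
    exact hU ((U_eq_bot_iff hP hP').mpr hU')

/-- A complement of `M_F` in `M` built from type-P data. -/
theorem isComplIn_sup (hG : Cfsg.IsMinSimpleOddOrder G) (hM : IsCoatom M) (hP : Cfsg.IsTypePWith M W₁ U W₂) :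
    Cfsg.IsComplIn (Cfsg.fittingHallOf M) (U ⊔ W₁) M := by
  refine ⟨OddLocal.fittingHallOf_le M, sup_le (hP.U_compl.2.1.trans (Subgroup.commutator_le_self M))
    hP.W₁_compl.2.1, eq_bot_iff.mpr fun y hy => ?_, fun m hm => ?_⟩
  · obtain ⟨u, hu, w, hw, rfl⟩ := (OddLocal.mem_sup_of_le_normalizer hP.U_normal).mp (mem_inf.mp hy).2
    have hyD := TypePData.fittingHall_le hG hM (mem_inf.mp hy).1
    have hwD : w ∈ ⁅M, M⁆ := by
      have := mul_mem (inv_mem (hP.U_compl.2.1 hu)) hyD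
      simpa using this
    have hw1 : w = 1 := mem_bot.mp (hP.W₁_compl.2.2.1 ▸ mem_inf.mpr ⟨hwD, hw⟩)
    subst hw1
    rw [mul_one] at hy ⊢
    exact hP.U_compl.2.2.1 ▸ mem_inf.mpr ⟨(mem_inf.mp hy).1, hu⟩
  · obtain ⟨d, hd, w, hw, rfl⟩ := hP.W₁_compl.2.2.2 m hm
    obtain ⟨h, hh, u, hu, rfl⟩ := hP.U_compl.2.2.2 d hd
    exact ⟨h, hh, u * w, mul_mem_sup hu hw, by group⟩

/-- No group is of Frobenius type and of type P. -/
theorem not_typeF_typeP (hG : Cfsg.IsMinSimpleOddOrder G) (hM : IsCoatom M) (hF : Cfsg.IsOfTypeF ↥M)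
    (hP : Cfsg.IsTypePWith M W₁ U W₂) : False := by
  obtain ⟨-, -, -, -, F, -, hFc, ⟨F₁, hF₁F, hFn, hF₁a, hF₁c⟩, F₀, hF₀F, hexp, hfree⟩ := hF
  set H := Cfsg.fittingHallOf M with hHdef
  set V := U ⊔ W₁ with hVdef
  have hV := isComplIn_sup hG hM hP
  have hHsub : H.subgroupOf M = Cfsg.fittingHall ↥M := comap_map_eq_self_of_injective M.subtype_injective _
  have hE : Cfsg.IsComplIn H (F.map M.subtype) M := by
    refine ⟨OddLocal.fittingHallOf_le M, map_subtype_le _, ?_, fun m hm => ?_⟩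
    · rw [hHdef, Cfsg.fittingHallOf, ← map_inf _ _ _ M.subtype_injective, hFc.disjoint.eq_bot, Subgroup.map_bot]
    · obtain ⟨⟨⟨a, ha⟩, ⟨b, hb⟩⟩, hab⟩ := hFc.existsUnique (⟨m, hm⟩ : M) |>.exists
      exact ⟨a, mem_map_of_mem _ ha, b, mem_map_of_mem _ hb, congrArg Subtype.val hab.symm⟩
  obtain ⟨m, hm, e⟩ := HallComplements.exists_conj (hG.2.2.2 M hM.1) (OddLocal.fittingHallOf_coprime M) hE hV
  have hmem : ∀ v : G, v ∈ V ↔ ∃ f : M, f ∈ F ∧ v = m * f * m⁻¹ := fun v => by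
    rw [hVdef, e]
    constructor
    · rintro ⟨-, ⟨f, hf, rfl⟩, rfl⟩; exact ⟨f, hf, rfl⟩
    · rintro ⟨f, hf, rfl⟩; exact ⟨f, ⟨f, hf, rfl⟩, rfl⟩
  -- an element of `W₂`
  obtain ⟨y, hy, hy1⟩ := W₂.bot_or_exists_ne_one.resolve_left hP.selfNormalizing.2.1
  have hyH : y ∈ H := (hP.W₂_le hy).1
  have hyM : y ∈ M := OddLocal.fittingHallOf_le M hyH
  have hyw : ∀ w ∈ W₁, w * y = y * w := fun w hw => hP.selfNormalizing.2.2.2.1 w hw y hy
  set y' : M := ⟨m⁻¹ * y * m, mul_mem (mul_mem (inv_mem hm) hyM) hm⟩ with hy'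
  have hy'H : y' ∈ Cfsg.fittingHall ↥M := by
    rw [← hHsub, mem_subgroupOf]
    exact (mem_normalizer_iff''.mp (FittingStructure.le_normalizer_fittingHallOf M hm) y).mp hyH
  have hy'1 : y' ≠ 1 := fun h => hy1 (by
    have := congrArg Subtype.val h
    simpa [hy', mul_assoc, mul_inv_eq_iff_eq_mul, inv_mul_eq_iff_eq_mul] using this)
  have hpull : ∀ w ∈ W₁, ∃ f : M, f ∈ F ∧ w = m * f * m⁻¹ ∧ f * y' = y' * f := fun w hw => by
    obtain ⟨f, hf, rfl⟩ := (hmem w).mp (le_sup_right (a := U) hw)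
    refine ⟨f, hf, rfl, Subtype.ext ?_⟩
    have := hyw _ hw
    calc ((f : M) : G) * (m⁻¹ * y * m) = m⁻¹ * (m * f * m⁻¹ * y) * m := by group
      _ = m⁻¹ * (y * (m * f * m⁻¹)) * m := by rw [this]
      _ = m⁻¹ * y * m * f := by group
  -- `W₁` lies in the abelian normal subgroup
  have hF₁ : ∀ w ∈ W₁, ∃ f : M, f ∈ F₁ ∧ w = m * f * m⁻¹ := fun w hw => by
    obtain ⟨f, hf, hfe, hfy⟩ := hpull w hw
    exact ⟨f, hF₁c y' hy'H hy'1 ⟨hf, mem_centralizer_singleton_iff.mpr hfy⟩, hfe⟩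
  have hUC : ∀ w ∈ W₁, ∀ u ∈ U, w * u = u * w := fun w hw u hu => by
    rcases eq_or_ne w 1 with rfl | hw1
    · simp
    obtain ⟨f, hf, rfl⟩ := hF₁ w hw
    obtain ⟨g, hg, rfl⟩ := (hmem u).mp (le_sup_left (b := W₁) hu)
    set c : M := f * g * f⁻¹ * g⁻¹ with hc
    have hcF₁ : c ∈ F₁ := by
      rw [hc, show f * g * f⁻¹ * g⁻¹ = f * (g * f⁻¹ * g⁻¹) by group]
      exact mul_mem hf ((mem_normalizer_iff.mp (hFn hg) _).mp (inv_mem hf))
    have hcc : (m * c * m⁻¹ : G) = (m * f * m⁻¹) * (m * g * m⁻¹) * (m * f * m⁻¹)⁻¹ * (m * g * m⁻¹)⁻¹ := by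
      simp only [hc, Subgroup.coe_mul, InvMemClass.coe_inv]; group
    have hcU : (m * c * m⁻¹ : G) ∈ U := by
      rw [hcc]; exact mul_mem ((mem_normalizer_iff.mp (hP.U_normal hw) _).mp hu) (inv_mem hu)
    have hcw : c * f = f * c := congrArg Subtype.val
      ((IsMulCommutative.is_comm (M := F₁)).comm ⟨c, hcF₁⟩ ⟨f, hf⟩)
    have hc2 : (m * c * m⁻¹ : G) ∈ W₂ := by
      rw [← hP.W₂_centralizer _ hw hw1]
      refine mem_inf.mpr ⟨hP.U_compl.2.1 hcU, mem_centralizer_singleton_iff.mpr ?_⟩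
      have := congrArg Subtype.val hcw
      simp only [Subgroup.coe_mul] at this
      calc (m * c * m⁻¹ : G) * (m * f * m⁻¹) = m * (c * f) * m⁻¹ := by group
        _ = m * (f * c) * m⁻¹ := by rw [this]
        _ = m * f * m⁻¹ * (m * c * m⁻¹) := by group
    have hc1 : (m * c * m⁻¹ : G) = 1 :=
      mem_bot.mp (hP.U_compl.2.2.1 ▸ mem_inf.mpr ⟨(hP.W₂_le hc2).1, hcU⟩)
    rw [hcc, mul_inv_eq_one, mul_inv_eq_iff_eq_mul] at hc1
    exact hc1
  have hU1 : U = ⊥ := eq_bot_iff.mpr fun u hu => by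
    obtain ⟨w, hw, hw1⟩ := W₁.bot_or_exists_ne_one.resolve_left hP.W₁_ne
    have : u ∈ W₂ := by
      rw [← hP.W₂_centralizer w hw hw1]
      exact mem_inf.mpr ⟨hP.U_compl.2.1 hu, mem_centralizer_singleton_iff.mpr (hUC w hw u hu).symm⟩
    exact hP.U_compl.2.2.1 ▸ mem_inf.mpr ⟨(hP.W₂_le this).1, hu⟩
  have hVW : V = W₁ := by rw [hVdef, hU1, bot_sup_eq]
  have hcard : Nat.card F = Nat.card W₁ := by
    rw [← hVW, hVdef, e, card_map_of_injective (MulAut.conj m).injective, card_map_of_injective M.subtype_injective]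
  have hFcyc : IsCyclic F := by
    have := hP.W₁_cyclic
    have e' : W₁ = (F.map M.subtype).map (MulAut.conj m).toMonoidHom := hVW ▸ e
    exact isCyclic_of_surjective (((F.equivMapOfInjective _ M.subtype_injective).trans
      ((F.map M.subtype).equivMapOfInjective _ (MulAut.conj m).injective)).trans
      (MulEquiv.subgroupCongr e'.symm)).symm.toMonoidHom (MulEquiv.surjective _)
  have hF₀ : F₀ = F := by
    refine eq_of_le_of_card_ge hF₀F (Nat.le_of_dvd Nat.card_pos ?_)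
    rw [← IsCyclic.exponent_eq_card (α := F), ← hexp]
    exact Group.exponent_dvd_nat_card
  obtain ⟨w, hw, hw1⟩ := W₁.bot_or_exists_ne_one.resolve_left hP.W₁_ne
  obtain ⟨f, hf, rfl, hfy⟩ := hpull w hw
  exact hy'1 (hfree f (hF₀ ▸ hf) (fun h => hw1 (by simp [h])) y' hy'H hfy)

theorem not_one_typeP (hG : Cfsg.IsMinSimpleOddOrder G) (hM : IsCoatom M) (h : Cfsg.IsOfTypeI M)
    (h' : Cfsg.IsOfTypeP M) : False :=
  let ⟨_, _, _, hP⟩ := h'
  not_typeF_typeP hG hM h.1 hP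

end CfsgLib.TwoGroups.TypesExclusive
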