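import Cfsg.Agent.S1421
import Cfsg.Agent.Lib.TwoGroups.KappaStar
import Cfsg.Agent.Lib.TwoGroups.OvergroupFrobenius
import Cfsg.Agent.Lib.TwoGroups.TypesExclusive
import Cfsg.Agent.Lib.TwoGroups.TypeTwoThree

/-!
Owner: helper12. `K = 1` gives Frobenius type, and the types read off from a standard factorisation.
-/

set_option autoImplicit false
set_option linter.unusedSectionVars false

namespace CfsgLib.TwoGroups.TypeFrobenius

open Subgroup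

variable {G : Type*} [Group G] [Finite G] {M K U : Subgroup G}

/-- `K = 1` leaves `U` as a complement of `M_σ` and `κ(M)` empty. -/
theorem kappa_eq_empty (hG : Cfsg.IsMinSimpleOddOrder G) (hM : IsCoatom M)
    (h : Cfsg.IsSigmaDecomposition M K U) (hK : K = ⊥) : Cfsg.kappa M = ∅ := by
  refine Set.eq_empty_iff_forall_notMem.mpr fun t ht => h.hall.2.2 t ht.1 ht ?_
  rw [hK, relIndex_bot_left]
  exact ht.2.1

theorem isComplIn_U (h : Cfsg.IsSigmaDecomposition M K U) (hK : K = ⊥) :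
    Cfsg.IsComplIn U (Cfsg.sigmaCore M) M := by
  have := h.compl
  rwa [hK, bot_sup_eq] at this

/-- With `κ(M)` empty the elements of `τ₁ ∪ τ₃` act fixed point freely on `M_σ`. -/
theorem fpf_tau (hG : Cfsg.IsMinSimpleOddOrder G) (hM : IsCoatom M) (hκ : Cfsg.kappa M = ∅)
    {E : Subgroup G} (hE : Cfsg.IsComplIn E (Cfsg.sigmaCore M) M) {e : G} (he : e ∈ E) (he1 : e ≠ 1)
    (hτ : ∀ p : ℕ, p.Prime → p ∣ orderOf e → p ∈ Cfsg.tau1 M ∪ Cfsg.tau3 M) :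
    Cfsg.sigmaCore M ⊓ centralizer ({e} : Set G) = ⊥ := by
  obtain ⟨t, ht, htd⟩ := Nat.exists_prime_and_dvd (fun h : orderOf e = 1 => he1 (orderOf_eq_one_iff.mp h))
  have := Fact.mk ht
  refine eq_bot_iff.mpr fun o ho => ?_
  by_contra ho1
  have h2 := SigmaFactor.mem_tau2 hG hM
    ⟨hE.1 he, o, ho.1, ho1, (mem_centralizer_singleton_iff.mp ho.2).symm⟩ ht htd
    (OddLocal.SigmaComplement.not_mem_sigma hG hM hE (htd.trans (Subgroup.orderOf_dvd_natCard _ he)))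
    (by rw [hκ]; exact Set.notMem_empty t)
  rcases hτ t ht htd with h | h
  · exact h2.2.2.2 h.2.2.2.2
  · exact h2.2.2.2 h.2.2.2

/-- `K = 1` gives Frobenius type. -/
theorem isOfTypeF (hG : Cfsg.IsMinSimpleOddOrder G) (hM : IsCoatom M)
    (h : Cfsg.IsSigmaDecomposition M K U) (hK : K = ⊥) :
    Cfsg.IsOfTypeF ↥M ∧ Cfsg.fittingHallOf M = Cfsg.sigmaCore M := by
  have hU := Chapter15.U_ne_bot hG hM h hK
  have hc := isComplIn_U h hK
  have hκ := kappa_eq_empty hG hM h hK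
  have hH := TypeTwoThree.fittingHall_eq_of_U hG hM h hU
  obtain ⟨⟨A₀, hA₀U, hA₀n, hA₀a, hA₀c⟩, E₀, hE₀U, hexp, hfree⟩ :=
    Cfsg.Agent.S1421.result hG M hM U hc fun e he he1 hτ => fpf_tau hG hM hκ hc he he1 hτ
  have hsub : (Cfsg.sigmaCore M).subgroupOf M = Cfsg.fittingHall ↥M := by
    rw [← hH]; exact comap_map_eq_self_of_injective M.subtype_injective _
  have hUM := hc.1
  refine ⟨⟨hG.2.2.2 M hM.1, hG.1.of_dvd_nat M.card_subgroup_dvd_card, ?_, ?_, U.subgroupOf M, ?_, ?_,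
    ⟨A₀.subgroupOf M, comap_mono hA₀U, ?_, ?_, ?_⟩, E₀.subgroupOf M, comap_mono hE₀U, ?_, ?_⟩, hH⟩
  · rw [← hsub, Ne, subgroupOf_eq_bot]
    exact fun e => TauTwo.sigmaCore_ne_bot hG hM (e.eq_bot_of_le (TauTwo.sigmaCore_le M))
  · rw [← hsub]
    intro e
    refine hU (eq_bot_iff.mpr fun u hu => hc.2.2.1 ▸ mem_inf.mpr ⟨hu, ?_⟩)
    exact mem_subgroupOf.mp (show (⟨u, hUM hu⟩ : M) ∈ (Cfsg.sigmaCore M).subgroupOf M from e ▸ mem_top _)
  · rw [Ne, subgroupOf_eq_bot]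
    exact fun e => hU (e.eq_bot_of_le hUM)
  · rw [← hsub]; exact (OddLocal.IsComplIn_isComplement' hc).symm
  · intro m hm
    refine mem_normalizer_iff.mpr fun y => ?_
    exact mem_normalizer_iff.mp (hA₀n hm) y
  · infer_instance
  · intro x hx hx1
    rw [← hsub, mem_subgroupOf] at hx
    rintro u ⟨hu, huc⟩
    refine hA₀c x hx (fun e => hx1 (Subtype.ext e)) ⟨hu, mem_centralizer_singleton_iff.mpr ?_⟩
    exact congrArg Subtype.val (mem_centralizer_singleton_iff.mp huc)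
  · rw [Monoid.exponent_eq_of_mulEquiv (subgroupOfEquivOfLe (hE₀U.trans hUM)),
      Monoid.exponent_eq_of_mulEquiv (subgroupOfEquivOfLe hUM), hexp]
  · intro u hu hu1 x hx hux
    by_contra hx1
    rw [← hsub, mem_subgroupOf] at hx
    have := hfree u hu (fun e => hu1 (Subtype.ext e))
    exact hx1 (Subtype.ext (mem_bot.mp (this ▸ mem_inf.mpr
      ⟨hx, mem_centralizer_singleton_iff.mpr (congrArg Subtype.val hux).symm⟩)))

/-- A subgroup of type P has `K ≠ 1`. -/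
theorem ne_bot_of_typeP (hG : Cfsg.IsMinSimpleOddOrder G) (hM : IsCoatom M)
    (h : Cfsg.IsSigmaDecomposition M K U) (hP : Cfsg.IsOfTypeP M) : K ≠ ⊥ := fun hK =>
  let ⟨_, _, _, hP⟩ := hP
  TypesExclusive.not_typeF_typeP hG hM (isOfTypeF hG hM h hK).1 hP

theorem typeTwo_iff (hG : Cfsg.IsMinSimpleOddOrder G) (hM : IsCoatom M)
    (h : Cfsg.IsSigmaDecomposition M K U) : Cfsg.IsOfTypeII M ↔ (K ≠ ⊥ ∧ U ≠ ⊥) := by
  refine ⟨fun h2 => ?_, fun ⟨hK, hU⟩ => TypeTwoThree.typeTwo hG hM h hK hU⟩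
  have hK := ne_bot_of_typeP hG hM h (TypesExclusive.isOfTypeP_of_two h2)
  refine ⟨hK, fun hU => ?_⟩
  by_cases hne : Cfsg.fittingHallOf M = Cfsg.sigmaCore M
  · obtain ⟨W₁, V, W₂, hP, hV, -⟩ := h2
    have hD : ⁅M, M⁆ = Cfsg.sigmaCore M := by
      rw [TypeP2.derived_eq hG hM h hK, hU, bot_sup_eq]
    exact hV (eq_bot_iff.mpr fun v hv =>
      hP.U_compl.2.2.1 ▸ mem_inf.mpr ⟨hne.symm ▸ (hD ▸ hP.U_compl.2.1 hv), hv⟩)
  · exact TypesExclusive.not_two_three hG hM h2 (TypeTwoThree.typeThreeFour hG hM h hK hne)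

theorem typeThreeFour_iff (hG : Cfsg.IsMinSimpleOddOrder G) (hM : IsCoatom M)
    (h : Cfsg.IsSigmaDecomposition M K U) :
    (Cfsg.IsOfTypeIII M ∨ Cfsg.IsOfTypeIV M) ↔
      (K ≠ ⊥ ∧ U = ⊥ ∧ Cfsg.fittingHallOf M ≠ Cfsg.sigmaCore M) := by
  refine ⟨fun h3 => ?_, fun ⟨hK, _, hne⟩ => TypeTwoThree.typeThreeFour hG hM h hK hne⟩
  have hK := ne_bot_of_typeP hG hM h (TypesExclusive.isOfTypeP_of_three h3)
  have hU : U = ⊥ := by_contra fun hU =>
    TypesExclusive.not_two_three hG hM (TypeTwoThree.typeTwo hG hM h hK hU) h3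
  refine ⟨hK, hU, fun hne => ?_⟩
  have hD : ⁅M, M⁆ = Cfsg.sigmaCore M := by
    rw [TypeP2.derived_eq hG hM h hK, hU, bot_sup_eq]
  have key : ∀ {W₁ V W₂ : Subgroup G}, Cfsg.IsTypePWith M W₁ V W₂ → V = ⊥ := fun {W₁ V W₂} hP =>
    eq_bot_iff.mpr fun v hv => hP.U_compl.2.2.1 ▸ mem_inf.mpr ⟨hne.symm ▸ (hD ▸ hP.U_compl.2.1 hv), hv⟩
  rcases h3 with ⟨W₁, V, W₂, hP, hV, -⟩ | ⟨W₁, V, W₂, hP, hV, -⟩ <;> exact hV (key hP)

end CfsgLib.TwoGroups.TypeFrobenius
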