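import Cfsg.Agent.Lib.TwoGroups.Transitivity
import Cfsg.Agent.Lib.Components.Radicals
import Cfsg.Prelude.Def_OddOrder

/-!
Owner: helper12. Transitivity for subgroups satisfying the transitivity hypothesis in a minimal
simple group of odd order.
-/

set_option autoImplicit false

namespace CfsgLib.TwoGroups.TransitivityHyp

open Subgroup CfsgLib.TwoGroups.Transitivity

variable {G : Type*} [Group G] [Finite G] {A : Subgroup G}

omit [Finite G] in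
theorem normalizer_ne_top (hG : Cfsg.IsMinSimpleOddOrder G) {H : Subgroup G} (hb : H ≠ ⊥)
    (ht : H ≠ ⊤) : normalizer (H : Set G) ≠ ⊤ := fun h => by
  have := normalizer_eq_top_iff.1 h
  have := hG.2.1
  exact (IsSimpleGroup.eq_bot_or_eq_top_of_normal H inferInstance).elim hb ht

omit [Finite G] in
theorem centralizer_singleton_ne_top (hG : Cfsg.IsMinSimpleOddOrder G) {a : G} (ha : a ≠ 1) :
    centralizer ({a} : Set G) ≠ ⊤ := fun h => by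
  have := hG.2.1
  have hc : a ∈ center G :=
    mem_center_iff.mpr fun g => mem_centralizer_singleton_iff.mp (h.ge (mem_top g))
  rcases IsSimpleGroup.eq_bot_or_eq_top_of_normal (center G) inferInstance with hb | ht
  · exact ha (mem_bot.mp (hb ▸ hc))
  · exact hG.2.2.1 ⟨⟨fun x y => mem_center_iff.mp (ht.ge (mem_top y)) x⟩⟩

theorem isPiSubgroup_piCoreOf (π : Set ℕ) (X : Subgroup G) :
    ∀ r : ℕ, r.Prime → r ∣ Nat.card (Cfsg.piCoreOf π X) → r ∈ π := fun r hr hd => by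
  rw [Cfsg.piCoreOf, card_map_of_injective X.subtype_injective] at hd
  exact Components.piCore_isPiSubgroup π r hr hd

omit [Finite G] in
theorem le_normalizer_piCoreOf (π : Set ℕ) (X : Subgroup G) :
    X ≤ normalizer (Cfsg.piCoreOf π X : Set G) := by
  have hn : (Cfsg.piCore π X).Normal := Cfsg.piCore_normal π X
  intro x hx
  rw [mem_normalizer_iff]
  intro y
  constructor
  · rintro ⟨z, hz, rfl⟩
    exact ⟨⟨x, hx⟩ * z * ⟨x, hx⟩⁻¹, hn.conj_mem z hz _, rfl⟩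
  · rintro ⟨z, hz, he⟩
    refine ⟨⟨x, hx⟩⁻¹ * z * ⟨x, hx⟩⁻¹⁻¹, hn.conj_mem z hz _, ?_⟩
    show x⁻¹ * (z : G) * x⁻¹⁻¹ = y
    rw [show (z : G) = x * y * x⁻¹ from he]
    group

variable {q : ℕ} [Fact q.Prime]

theorem le_piCoreOf (hA : Cfsg.TransitivityHypothesis A) {X Q : Subgroup G} (hX : X ≠ ⊤)
    (hAX : A ≤ X) (hQX : Q ≤ X)
    (hQ : ∀ r : ℕ, r.Prime → r ∣ Nat.card Q → ¬ r ∣ Nat.card A)
    (hAQ : A ≤ normalizer (Q : Set G)) :
    Q ≤ Cfsg.piCoreOf (Cfsg.primesNotDvd (Nat.card A)) X := by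
  rw [← hA.2.2 X hX hAX]
  exact le_sSup ⟨hQX, fun r hr hd => ⟨hr, hQ r hr hd⟩, hAQ⟩

/-- Every `π(A)'`-subgroup centralising `A` lies in `K`. -/
theorem le_coreCentralizer (hG : Cfsg.IsMinSimpleOddOrder G) (hA : Cfsg.TransitivityHypothesis A)
    {U : Subgroup G} (hU : ∀ r : ℕ, r.Prime → r ∣ Nat.card U → ¬ r ∣ Nat.card A)
    (hUC : U ≤ centralizer (A : Set G)) :
    U ≤ Cfsg.piCoreOf (Cfsg.primesNotDvd (Nat.card A)) (centralizer (A : Set G)) := by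
  set π := Cfsg.primesNotDvd (Nat.card A) with hπ
  set C := centralizer (A : Set G)
  set N := normalizer (A : Set G)
  have hCN : C ≤ N := centralizer_le_normalizer _
  set M := Cfsg.piCoreOf π N
  have hUM : U ≤ M := le_piCoreOf hA (normalizer_ne_top hG hA.1 hA.2.1) le_normalizer
    (hUC.trans hCN) hU (le_trans (le_centralizer_iff.mp hUC) (centralizer_le_normalizer _))
  have h : (M.subgroupOf C) ≤ Cfsg.piCore π ↥C := by
    refine Components.le_piCore (normal_subgroupOf_iff_le_normalizer_inf.mpr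
      ((le_inf (hCN.trans (le_normalizer_piCoreOf π N)) le_normalizer).trans
        inf_normalizer_le_normalizer_inf)) fun r hr hd => ?_
    rw [← inf_subgroupOf_right, Nat.card_congr (subgroupOfEquivOfLe inf_le_right).toEquiv] at hd
    exact isPiSubgroup_piCoreOf π N r hr (hd.trans (card_dvd_of_le inf_le_left))
  exact fun u hu => ⟨⟨u, hUC hu⟩, h (hUM hu), rfl⟩

theorem not_dvd_of_isPGroup (hqA : ¬ q ∣ Nat.card A) {Q : Subgroup G} (hQ : IsPGroup q Q) :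
    ∀ r : ℕ, r.Prime → r ∣ Nat.card Q → ¬ r ∣ Nat.card A := by
  intro r hr hd
  obtain ⟨k, hk⟩ := IsPGroup.iff_card.mp hQ
  rw [hk] at hd
  rwa [(Nat.prime_dvd_prime_iff_eq hr Fact.out).mp (hr.dvd_of_dvd_pow hd)]

/-- Two maximal members meeting a proper overgroup of `A` are joined through a third one. -/
theorem exists_join (hG : Cfsg.IsMinSimpleOddOrder G) (hA : Cfsg.TransitivityHypothesis A)
    (hqA : ¬ q ∣ Nat.card A) {X Q₁ Q₂ : Subgroup G} (hX : X ≠ ⊤) (hAX : A ≤ X)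
    (hQ₁ : IsMaxInv A q Q₁) (hQ₂ : IsMaxInv A q Q₂) :
    ∃ c ∈ Cfsg.piCoreOf (Cfsg.primesNotDvd (Nat.card A)) (centralizer (A : Set G)),
      ∃ Q₃, IsMaxInv A q Q₃ ∧ (X ⊓ Q₁).map (MulAut.conj c).toMonoidHom ≤ Q₃ ∧ X ⊓ Q₂ ≤ Q₃ := by
  set π := Cfsg.primesNotDvd (Nat.card A) with hπ
  set M := Cfsg.piCoreOf π X
  have hAM : A ≤ normalizer (M : Set G) := hAX.trans (le_normalizer_piCoreOf π X)
  have hMπ := isPiSubgroup_piCoreOf π X
  have hcop : (Nat.card A).Coprime (Nat.card M) :=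
    Nat.coprime_of_dvd fun k hk hkA hkM => (hMπ k hk hkM).2 hkA
  have hAs : Group.IsSolvable A := hG.2.2.2 A hA.2.1
  have hR : ∀ Q : Subgroup G, IsMaxInv A q Q → ∃ S : Sylow q M,
      X ⊓ Q ≤ (S : Subgroup M).map M.subtype ∧
      A ≤ normalizer ((S : Subgroup M).map M.subtype : Set G) := by
    intro Q hQ
    have hN : A ≤ normalizer ((X ⊓ Q : Subgroup G) : Set G) :=
      (le_inf (hAX.trans le_normalizer) hQ.2.1).trans inf_normalizer_le_normalizer_inf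
    have hq : IsPGroup q ↥(X ⊓ Q) := hQ.1.to_le inf_le_right
    exact Core.exists_invariant_sylow_ge hAM hcop (Or.inl hAs)
      (le_piCoreOf hA hX hAX inf_le_left (not_dvd_of_isPGroup hqA hq) hN) hq hN
  obtain ⟨S₁, hS₁, hAS₁⟩ := hR Q₁ hQ₁
  obtain ⟨S₂, hS₂, hAS₂⟩ := hR Q₂ hQ₂
  obtain ⟨c, hcA, hc⟩ := Core.invariant_sylow_conj hAM hcop (Or.inl hAs) S₁ S₂ hAS₁ hAS₂
  have hcK : (c : G) ∈ Cfsg.piCoreOf π (centralizer (A : Set G)) := by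
    refine le_coreCentralizer hG hA (U := zpowers (c : G)) (fun r hr hd => (hMπ r hr ?_).2)
      (zpowers_le.mpr hcA) (mem_zpowers _)
    exact hd.trans (card_dvd_of_le (zpowers_le.mpr c.2))
  obtain ⟨Q₃, hQ₃le, hQ₃⟩ := exists_maxInv (q := q) (S₂.2.map M.subtype) hAS₂
  refine ⟨c, hcK, Q₃, hQ₃, ?_, hS₂.trans hQ₃le⟩
  rintro _ ⟨x, hx, rfl⟩
  obtain ⟨s, hs, rfl⟩ := hS₁ hx
  refine hQ₃le ⟨c * s * c⁻¹, ?_, rfl⟩
  rw [← hc]
  show c * s * c⁻¹ ∈ ((c • S₁ : Sylow q M) : Subgroup M)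
  rw [CfsgLib.Transfer.mem_sylow_smul]
  simpa [mul_assoc] using (show s ∈ (S₁ : Subgroup M) from hs)

theorem trans_of_ne_bot (hG : Cfsg.IsMinSimpleOddOrder G) (hA : Cfsg.TransitivityHypothesis A)
    (hqA : ¬ q ∣ Nat.card A) {Q₁ Q₂ : Subgroup G} (hQ₁ : IsMaxInv A q Q₁) (hQ₂ : IsMaxInv A q Q₂)
    (hne : Q₁ ⊓ Q₂ ≠ ⊥) :
    ∃ c ∈ Cfsg.piCoreOf (Cfsg.primesNotDvd (Nat.card A)) (centralizer (A : Set G)),
      Q₁.map (MulAut.conj c).toMonoidHom = Q₂ := by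
  set K := Cfsg.piCoreOf (Cfsg.primesNotDvd (Nat.card A)) (centralizer (A : Set G))
  suffices key : ∀ n : ℕ, ∀ Q₁ Q₂ : Subgroup G, IsMaxInv A q Q₁ → IsMaxInv A q Q₂ →
      Q₁ ⊓ Q₂ ≠ ⊥ → Nat.card G - Nat.card ↥(Q₁ ⊓ Q₂) = n →
      ∃ c ∈ K, Q₁.map (MulAut.conj c).toMonoidHom = Q₂ from key _ Q₁ Q₂ hQ₁ hQ₂ hne rfl
  intro n
  induction n using Nat.strong_induction_on with
  | _ n ih =>
    intro Q₁ Q₂ hQ₁ hQ₂ hne hn
    have hconj1 : ∀ Q : Subgroup G, Q.map (MulAut.conj (1 : G)).toMonoidHom = Q := fun Q => by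
      ext x; rw [CfsgLib.Transfer.mem_map_conj]; simp
    by_cases h1 : Q₁ ⊓ Q₂ = Q₁
    · exact ⟨1, one_mem _, by
        rw [hconj1]; exact (hQ₁.2.2 Q₂ hQ₂.1 hQ₂.2.1 (h1 ▸ inf_le_right)).symm⟩
    by_cases h2 : Q₁ ⊓ Q₂ = Q₂
    · exact ⟨1, one_mem _, by rw [hconj1]; exact hQ₂.2.2 Q₁ hQ₁.1 hQ₁.2.1 (h2 ▸ inf_le_left)⟩
    set D := Q₁ ⊓ Q₂ with hD
    have hDtop : D ≠ ⊤ := fun h => h1 (le_antisymm inf_le_left (le_top.trans h.ge))
    obtain ⟨c, hc, Q₃, hQ₃, hle1, hle2⟩ := exists_join hG hA hqA (normalizer_ne_top hG hne hDtop)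
      ((le_inf hQ₁.2.1 hQ₂.2.1).trans inf_normalizer_le_normalizer_inf) hQ₁ hQ₂
    have hgrow : ∀ Q : Subgroup G, IsPGroup q Q → D < Q →
        Nat.card D < Nat.card ↥(normalizer (D : Set G) ⊓ Q) := fun Q hQ hlt => by
      rw [inf_comm]
      exact Transfer.card_lt_of_lt (Transfer.lt_inf_normalizer hQ hlt)
    have hg1 : Nat.card D < Nat.card ↥(Q₁.map (MulAut.conj c).toMonoidHom ⊓ Q₃) := by
      refine lt_of_lt_of_le ?_ (card_le_of_le (le_inf (map_mono inf_le_right) hle1))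
      rw [CfsgLib.Transfer.card_map_conj]
      exact hgrow Q₁ hQ₁.1 (lt_of_le_of_ne inf_le_left h1)
    have hg2 : Nat.card D < Nat.card ↥(Q₃ ⊓ Q₂) :=
      lt_of_lt_of_le (hgrow Q₂ hQ₂.1 (lt_of_le_of_ne inf_le_right h2))
        (card_le_of_le (le_inf hle2 inf_le_right))
    have hsmall : ∀ U V : Subgroup G, Nat.card D < Nat.card ↥(U ⊓ V) →
        Nat.card G - Nat.card ↥(U ⊓ V) < n ∧ U ⊓ V ≠ ⊥ := fun U V h => by
      have := Subgroup.card_le_card_group (U ⊓ V)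
      refine ⟨by omega, fun hb => ?_⟩
      rw [hb, card_bot] at h
      have : 0 < Nat.card D := Nat.card_pos
      omega
    obtain ⟨d, hd, hd'⟩ := ih _ (hsmall _ _ hg1).1 _ _
      (map_conj_maxInv (map_subtype_le _ hc) hQ₁) hQ₃ (hsmall _ _ hg1).2 rfl
    obtain ⟨e, he, he'⟩ := ih _ (hsmall _ _ hg2).1 _ _ hQ₃ hQ₂ (hsmall _ _ hg2).2 rfl
    refine ⟨e * d * c, mul_mem (mul_mem he hd) hc, ?_⟩
    rw [← he', ← hd', Subgroup.map_map, Subgroup.map_map]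
    congr 1
    ext x
    simp [mul_assoc]

theorem trans_of_meets (hG : Cfsg.IsMinSimpleOddOrder G) (hA : Cfsg.TransitivityHypothesis A)
    (hqA : ¬ q ∣ Nat.card A) {H Q₁ Q₂ : Subgroup G} (hH : H ≠ ⊤) (hAH : A ≤ H)
    (hQ₁ : IsMaxInv A q Q₁) (hQ₂ : IsMaxInv A q Q₂) (h₁ : H ⊓ Q₁ ≠ ⊥) (h₂ : H ⊓ Q₂ ≠ ⊥) :
    ∃ c ∈ Cfsg.piCoreOf (Cfsg.primesNotDvd (Nat.card A)) (centralizer (A : Set G)),
      Q₁.map (MulAut.conj c).toMonoidHom = Q₂ := by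
  obtain ⟨c, hc, Q₃, hQ₃, hle1, hle2⟩ := exists_join hG hA hqA hH hAH hQ₁ hQ₂
  have hne1 : Q₁.map (MulAut.conj c).toMonoidHom ⊓ Q₃ ≠ ⊥ := fun hb => h₁ <|
    (map_eq_bot_iff_of_injective _ (MulAut.conj c).injective).mp
      (le_bot_iff.mp (hb ▸ le_inf (map_mono inf_le_right) hle1))
  have hne2 : Q₃ ⊓ Q₂ ≠ ⊥ := fun hb => h₂ (le_bot_iff.mp (hb ▸ le_inf hle2 inf_le_right))
  obtain ⟨d, hd, hd'⟩ := trans_of_ne_bot hG hA hqA
    (map_conj_maxInv (map_subtype_le _ hc) hQ₁) hQ₃ hne1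
  obtain ⟨e, he, he'⟩ := trans_of_ne_bot hG hA hqA hQ₃ hQ₂ hne2
  refine ⟨e * d * c, mul_mem (mul_mem he hd) hc, ?_⟩
  rw [← he', ← hd', Subgroup.map_map, Subgroup.map_map]
  congr 1
  ext x
  simp [mul_assoc]

omit [Fact q.Prime] in
theorem le_centralizer_singleton {a : G} (ha : a ∈ centralizer (A : Set G)) :
    A ≤ centralizer ({a} : Set G) := fun x hx =>
  mem_centralizer_singleton_iff.mpr (mem_centralizer_iff.mp ha x hx)

theorem isMaxInv_of_mem {Q : Subgroup G} (h : Q ∈ Cfsg.maxInvSubgroups ⊤ A {q}) :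
    IsMaxInv A q Q := by
  obtain ⟨⟨-, hQq, hQE⟩, hQm⟩ := h
  refine ⟨?_, hQE, fun R hR hRE hle => hQm R ⟨le_top, fun r hr hrd => ?_, hRE⟩ hle⟩
  · exact IsPGroup.of_card (n := (Nat.card Q).primeFactorsList.length)
      (Nat.eq_prime_pow_of_unique_prime_dvd Nat.card_pos.ne' (fun {d} hd hdd => hQq d hd hdd))
  · obtain ⟨k, hk⟩ := IsPGroup.iff_card.mp hR
    rw [hk] at hrd
    exact (Nat.prime_dvd_prime_iff_eq hr Fact.out).mp (hr.dvd_of_dvd_pow hrd)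

theorem exists_elementary {k : ℕ}
    (hZ : ¬ Cfsg.RankLE k ↥(A ⊓ centralizer (A : Set G))) :
    ∃ r : ℕ, r.Prime ∧ r ∣ Nat.card A ∧ ∃ A₀ : Subgroup G, Cfsg.IsElementaryAbelian r A₀ ∧
      A₀ ≤ A ⊓ centralizer (A : Set G) ∧ r ^ (k + 1) ≤ Nat.card A₀ := by
  simp only [Cfsg.RankLE, Cfsg.PRankLE, not_forall, not_le] at hZ
  obtain ⟨r, hr, B, hBc, hBp, hB⟩ := hZ
  have := Fact.mk hr
  have hBr : IsPGroup r B := fun b => ⟨1, Subtype.ext (by rw [pow_one]; exact hBp b b.2)⟩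
  obtain ⟨j, hj⟩ := IsPGroup.iff_card.mp hBr
  set A₀ := B.map (A ⊓ centralizer (A : Set G)).subtype with hA₀
  have hcard : Nat.card A₀ = r ^ j := by
    rw [hA₀, card_map_of_injective (subtype_injective _), hj]
  rw [hj] at hB
  have hjk : k + 1 ≤ j := (Nat.pow_lt_pow_iff_right hr.one_lt).mp hB
  refine ⟨r, hr, ?_, A₀, ⟨inferInstance, ?_⟩, map_subtype_le _, ?_⟩
  · exact (dvd_pow_self r (by omega : j ≠ 0)).trans (hcard.symm.dvd.trans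
      (card_dvd_of_le ((map_subtype_le _).trans inf_le_left)))
  · rintro _ ⟨b, hb, rfl⟩
    rw [← map_pow, hBp b hb, map_one]
  · rw [hcard]
    exact Nat.pow_le_pow_right hr.pos hjk

theorem trans_of_rank_three (hG : Cfsg.IsMinSimpleOddOrder G) (hA : Cfsg.TransitivityHypothesis A)
    (hqA : ¬ q ∣ Nat.card A) (hZ : ¬ Cfsg.RankLE 2 ↥(A ⊓ centralizer (A : Set G)))
    {Q₁ Q₂ : Subgroup G} (hQ₁ : IsMaxInv A q Q₁) (hQ₂ : IsMaxInv A q Q₂) :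
    ∃ c ∈ Cfsg.piCoreOf (Cfsg.primesNotDvd (Nat.card A)) (centralizer (A : Set G)),
      Q₁.map (MulAut.conj c).toMonoidHom = Q₂ := by
  by_cases hne : Q₁ ⊓ Q₂ ≠ ⊥
  · exact trans_of_ne_bot hG hA hqA hQ₁ hQ₂ hne
  push Not at hne
  have hconj1 : Q₁.map (MulAut.conj (1 : G)).toMonoidHom = Q₁ := by
    ext x; rw [CfsgLib.Transfer.mem_map_conj]; simp
  by_cases h1 : Q₁ ⊓ Q₂ = Q₁
  · exact ⟨1, one_mem _, by
      rw [hconj1]; exact (hQ₁.2.2 Q₂ hQ₂.1 hQ₂.2.1 (h1 ▸ inf_le_right)).symm⟩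
  by_cases h2 : Q₁ ⊓ Q₂ = Q₂
  · exact ⟨1, one_mem _, by rw [hconj1]; exact hQ₂.2.2 Q₁ hQ₁.1 hQ₁.2.1 (h2 ▸ inf_le_left)⟩
  obtain ⟨r, hr, hrA, A₀, hA₀, hA₀Z, hA₀3⟩ := exists_elementary hZ
  have := Fact.mk hr
  have hqr : q ≠ r := fun h => hqA (h ▸ hrA)
  obtain ⟨a, ha, ha1, hg1, hg2⟩ := Signalizer.exists_common_growth hA₀ hA₀3 hqr hQ₁.1 hQ₂.1
    ((hA₀Z.trans inf_le_left).trans hQ₁.2.1) ((hA₀Z.trans inf_le_left).trans hQ₂.2.1) h1 h2
  refine trans_of_meets hG hA hqA (centralizer_singleton_ne_top hG ha1)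
    (le_centralizer_singleton (hA₀Z ha).2) hQ₁ hQ₂ (fun hb => hg1 ?_) (fun hb => hg2 ?_)
  · exact fun x hx => (bot_le : (⊥ : Subgroup G) ≤ _)
      (hb.le (⟨hx.2, hx.1.2⟩ : x ∈ centralizer ({a} : Set G) ⊓ Q₁))
  · exact fun x hx => (bot_le : (⊥ : Subgroup G) ≤ _)
      (hb.le (⟨hx.2, hx.1.2⟩ : x ∈ centralizer ({a} : Set G) ⊓ Q₂))

theorem trans_of_rank_two (hG : Cfsg.IsMinSimpleOddOrder G) (hA : Cfsg.TransitivityHypothesis A)
    (hqA : ¬ q ∣ Nat.card A) (hqC : q ∣ Nat.card (centralizer (A : Set G)))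
    (hZ : ¬ Cfsg.RankLE 1 ↥(A ⊓ centralizer (A : Set G)))
    {Q₁ Q₂ : Subgroup G} (hQ₁ : IsMaxInv A q Q₁) (hQ₂ : IsMaxInv A q Q₂) :
    ∃ c ∈ Cfsg.piCoreOf (Cfsg.primesNotDvd (Nat.card A)) (centralizer (A : Set G)),
      Q₁.map (MulAut.conj c).toMonoidHom = Q₂ := by
  obtain ⟨R⟩ : Nonempty (Sylow q (centralizer (A : Set G))) := inferInstance
  set R' := (R : Subgroup (centralizer (A : Set G))).map (centralizer (A : Set G)).subtype with hR'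
  have hR'C : R' ≤ centralizer (A : Set G) := map_subtype_le _
  have hR'b : R' ≠ ⊥ := fun hb => R.ne_bot_of_dvd_card hqC
    ((map_eq_bot_iff_of_injective _ (subtype_injective _)).mp hb)
  obtain ⟨Q₃, hle3, hQ₃⟩ := exists_maxInv (q := q) (R.2.map (centralizer (A : Set G)).subtype)
    (le_trans (le_centralizer_iff.mp hR'C) (centralizer_le_normalizer _))
  obtain ⟨r, hr, hrA, A₀, hA₀, hA₀Z, hA₀2⟩ := exists_elementary hZ
  have := Fact.mk hr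
  have key : ∀ Q : Subgroup G, IsMaxInv A q Q →
      ∃ H : Subgroup G, H ≠ ⊤ ∧ A ≤ H ∧ H ⊓ Q ≠ ⊥ ∧ H ⊓ Q₃ ≠ ⊥ := by
    intro Q hQ
    by_contra hno
    push Not at hno
    have hQb : Q ≠ ⊥ := fun hb => by
      have h := hQ.2.2 Q₃ hQ₃.1 hQ₃.2.1 (hb ▸ bot_le)
      rw [h, hb] at hle3
      exact hR'b (le_bot_iff.mp hle3)
    refine hQb (le_bot_iff.mp (Signalizer.le_of_hyperplanes_le hA₀ (fun hd =>
      not_dvd_of_isPGroup hqA hQ.1 r hr hd hrA)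
      ((hA₀Z.trans inf_le_left).trans hQ.2.1) fun B hB hBi => ?_))
    have hBb : B ≠ ⊥ := fun hb => by
      rw [hb, relIndex_bot_left] at hBi
      have : r < r ^ (1 + 1) := by rw [pow_succ, pow_one]; exact lt_mul_of_one_lt_left hr.pos hr.one_lt
      omega
    obtain ⟨⟨a, ha⟩, ha0⟩ := B.ne_bot_iff_exists_ne_one.mp hBb
    intro x hx
    by_contra hx1
    refine hx1 (mem_bot.mpr ?_)
    by_contra hx1'
    refine hR'b (le_bot_iff.mp ?_)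
    rw [← hno _ (centralizer_singleton_ne_top hG (fun e => ha0 (Subtype.ext e)))
      (le_centralizer_singleton (hA₀Z (hB ha)).2) (fun hb => hx1' ?_)]
    · exact le_inf (hR'C.trans (centralizer_le (Set.singleton_subset_iff.mpr (hA₀Z (hB ha)).1))) hle3
    · exact mem_bot.mp (hb ▸ (⟨centralizer_le (Set.singleton_subset_iff.mpr ha) hx.2, hx.1⟩ :
        x ∈ centralizer ({a} : Set G) ⊓ Q))
  obtain ⟨H₁, hH₁, hAH₁, h11, h13⟩ := key Q₁ hQ₁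
  obtain ⟨H₂, hH₂, hAH₂, h22, h23⟩ := key Q₂ hQ₂
  obtain ⟨d, hd, hd'⟩ := trans_of_meets hG hA hqA hH₁ hAH₁ hQ₁ hQ₃ h11 h13
  obtain ⟨e, he, he'⟩ := trans_of_meets hG hA hqA hH₂ hAH₂ hQ₃ hQ₂ h23 h22
  refine ⟨e * d, mul_mem he hd, ?_⟩
  rw [← he', ← hd', Subgroup.map_map]
  congr 1
  ext x
  simp [mul_assoc]

end CfsgLib.TwoGroups.TransitivityHyp
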