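import Cfsg.Agent.Lib.TwoGroups.OvergroupPrimes
import Cfsg.Agent.Lib.TwoGroups.TypeP2
import Cfsg.Agent.Lib.OddLocal.CosetFibres

/-!
Owner: helper12. When `κ(M)` and `τ₂(M)` are empty (Bender–Glauberman, 14.13 and 15.9).
-/

set_option autoImplicit false
set_option linter.unusedSectionVars false

namespace CfsgLib.TwoGroups.OvergroupPrimes

open Subgroup
open CfsgLib.OddLocal
open TauTwo (IsPair)

variable {G : Type*} [Group G] [Finite G] {M N H A B E R Y : Subgroup G} {x b : G} {q p r s : ℕ}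
  [Fact p.Prime] [Fact r.Prime] [Fact s.Prime]

/-- `κ` is invariant under conjugation. -/
theorem kappa_conj (hG : Cfsg.IsMinSimpleOddOrder G) (hM : IsCoatom M) (g : G) (ht : p ∈ Cfsg.kappa M) :
    p ∈ Cfsg.kappa (M.map (MulAut.conj g).toMonoidHom) := by
  obtain ⟨E, hE, -⟩ := TauTwo.exists_complement_ge hG hM (bot_le : (⊥ : Subgroup G) ≤ M) fun t ht hd => by
    rw [card_bot] at hd; exact absurd (Nat.dvd_one.mp hd) ht.ne_one
  obtain ⟨P, hP, hPE⟩ := Kappa.exists_line_tau3 hG hM hE ht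
  obtain ⟨⟨y, hy⟩, hy1⟩ := (Cfsg.sigmaCore M ⊓ centralizer (P : Set G)).ne_bot_iff_exists_ne_one.mp
    (Kappa.nonregular_of_kappa hG ht hP (hPE.trans hE.1))
  refine Kappa.mem_kappa hG (fun h => ht.2.2.1 ((SigmaDisjoint.sigma_conj g).mp h))
    (PrimeActionTools.prankLE_conj (Kappa.rank_one_of_kappa ht) g)
    (X := P.map (MulAut.conj g).toMonoidHom) (by rw [Transfer.card_map_conj, hP])
    (map_mono (hPE.trans hE.1)) fun e => hy1 (Subtype.ext ?_)
  refine conj_eq_one_iff.mp (mem_bot.mp (e ▸ mem_inf.mpr ⟨Support.mem_core_conj hG hM hy.1 g, ?_⟩))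
  refine mem_centralizer_iff.mpr ?_
  rintro _ ⟨w, hw, rfl⟩
  show g * w * g⁻¹ * (g * y * g⁻¹) = g * y * g⁻¹ * (g * w * g⁻¹)
  calc g * w * g⁻¹ * (g * y * g⁻¹) = g * (w * y) * g⁻¹ := by group
    _ = g * (y * w) * g⁻¹ := by rw [mem_centralizer_iff.mp hy.2 w hw]
    _ = _ := by group

theorem kappa_of_conj (hG : Cfsg.IsMinSimpleOddOrder G) (hM : IsCoatom M) {g : G}
    (ht : p ∈ Cfsg.kappa (M.map (MulAut.conj g).toMonoidHom)) : p ∈ Cfsg.kappa M := by
  have := kappa_conj hG (SylowUnique.isCoatom_conj hM g) g⁻¹ ht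
  rwa [PrimeActionTools.map_conj_inv] at this

theorem dvd_of_hall {π : Set ℕ} {K : Subgroup G} (hK : Cfsg.IsPiHallOf π K M) (hp : p ∈ π)
    (hd : p ∣ Nat.card M) : p ∣ Nat.card K := by
  refine (((Fact.out : p.Prime).dvd_mul (n := K.relIndex M)).mp ?_).resolve_right (hK.2.2 p Fact.out hp)
  rwa [← relIndex_bot_left K, relIndex_mul_relIndex ⊥ K M bot_le hK.1, relIndex_bot_left]

namespace Local

variable (d : Local M N A x q)
include d

theorem U_eq_bot {K U : Subgroup G} (h : Cfsg.IsSigmaDecomposition M K U) (hK : K ≠ ⊥) : U = ⊥ := by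
  by_contra hU
  refine d.not_le fun c hc => ?_
  by_contra hcM
  have hxF := TypeP2.sigmaCore_le_fitting d.hG d.hM h hU d.mem
  refine d.prime.ne_one ?_
  have h2 : c ∉ normalizer (Cfsg.fittingOf M : Set G) := by
    intro hN
    have hle : M ≤ normalizer (Cfsg.fittingOf M : Set G) := FittingSigma.le_normalizer_fittingOf M
    rcases hle.lt_or_eq with h' | h'
    · refine TransitivityHyp.normalizer_ne_top d.hG ?_ ?_ (d.hM.2 _ h')
      · exact fun e => d.prime.ne_one (by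
          have h9 : x ∈ (⊥ : Subgroup G) := e ▸ hxF
          rw [← d.order, mem_bot.mp h9, orderOf_one])
      · exact fun e => d.hM.1 (top_le_iff.mp (e ▸ OddLocal.fittingOf_le M))
    · exact hcM (h' ▸ hN)
  have h1 := mem_centralizer_singleton_iff.mp hc
  have h3 : x = 1 := TypeP2.fitting_isTISubset d.hG d.hM h hK hU c h2 x hxF (by
    rw [show c * x * c⁻¹ = x by rw [h1, mul_inv_cancel_right]]
    exact hxF)
  rw [← d.order, h3, orderOf_one]

theorem mem_kappa_of_dvd {K U : Subgroup G} (h : Cfsg.IsSigmaDecomposition M K U) (hK : K ≠ ⊥)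
    (hd : p ∣ Nat.card M) (hσ : p ∉ Cfsg.sigma M) : p ∈ Cfsg.kappa M := by
  have hc := SigmaFactor.isComplIn d.hG d.hM h
  rw [d.U_eq_bot h hK, bot_sup_eq] at hc
  rw [← IsComplIn_card_mul hc] at hd
  exact h.hall.2.1 p Fact.out (((Fact.out : p.Prime).dvd_mul.mp hd).resolve_right fun h' =>
    hσ (TauTwo.mem_sigma_of_dvd Fact.out h' d.hG d.hM))

/-- A common prime kills `κ(M)`. -/
theorem kappa_empty_of_common (hpN : p ∈ Cfsg.sigma N) (hpd : p ∣ Nat.card M) : Cfsg.kappa M = ∅ := by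
  refine Set.eq_empty_iff_forall_notMem.mpr fun v hv => ?_
  have := Fact.mk hv.1
  obtain ⟨K, U, h⟩ := Chapter15.exists_decomposition d.hG d.hM (Chapter15.kappaCyclic d.hG)
  have hK : K ≠ ⊥ := fun e => hv.1.not_dvd_one (by
    have := dvd_of_hall h.hall hv hv.2.1
    rwa [e, card_bot] at this)
  have hpκ := d.mem_kappa_of_dvd h hK hpd (d.not_sigma_both hpN)
  obtain ⟨E, dM⟩ := Kappa.exists_data d.hG d.hM h.hall hK
  obtain ⟨H, pM⟩ := dM.exists_pair d.hG
  obtain ⟨F, dH⟩ := pM.data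
  have hpH : p ∈ Cfsg.sigma H := TauTwo.mem_sigma_of_dvd Fact.out ((dvd_of_hall h.hall hpκ hpd).trans
    (card_dvd_of_le (pM.star_star.ge.trans inf_le_left))) d.hG dH.max
  obtain ⟨g, hg⟩ := SigmaDisjoint.sigma_disjoint d.hG dH.max d.o.max hpH hpN
  obtain ⟨t, T, ht, hT, hTle⟩ := FixedTauOne.exists_prime_sub dM.star_ne_bot
  have := Fact.mk ht
  have htd : t ∣ Nat.card ↥(Kappa.Kstar M K) := hT ▸ card_dvd_of_le hTle
  exact d.not_sigma_kappa (hg ▸ kappa_conj d.hG dH.max g (dH.hall.2.1 t ht htd)) (dM.sigma_star d.hG ht htd)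

/-- `κ(N) ≠ ∅` kills `κ(M)`. -/
theorem kappa_empty (hr : r ∈ Cfsg.kappa N) : Cfsg.kappa M = ∅ := by
  refine Set.eq_empty_iff_forall_notMem.mpr fun v hv => ?_
  have := Fact.mk hv.1
  obtain ⟨R, hR, hRle⟩ := Kappa.exists_line_tau3 d.hG d.o.max d.o.compl hr
  have hrd : r ∣ Nat.card M := hR ▸ card_dvd_of_le (hRle.trans inf_le_left)
  obtain ⟨K, U, h⟩ := Chapter15.exists_decomposition d.hG d.hM (Chapter15.kappaCyclic d.hG)
  have hK : K ≠ ⊥ := fun e => hv.1.not_dvd_one (by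
    have := dvd_of_hall h.hall hv hv.2.1
    rwa [e, card_bot] at this)
  have hrM := d.mem_kappa_of_dvd h hK hrd (d.not_sigma_kappa hr)
  obtain ⟨E, dM⟩ := Kappa.exists_data d.hG d.hM h.hall hK
  obtain ⟨H', pM⟩ := dM.exists_pair d.hG
  obtain ⟨F', dH'⟩ := pM.data
  obtain ⟨KN, F₀, dN, hRK⟩ := exists_data_ge d.hG d.o.max hR (hRle.trans inf_le_right) hr
  obtain ⟨H, pN⟩ := dN.exists_pair d.hG
  obtain ⟨F, dH⟩ := pN.data
  have h1 : r ∈ Cfsg.sigma H' := TauTwo.mem_sigma_of_dvd Fact.out ((dvd_of_hall h.hall hrM hrd).trans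
    (card_dvd_of_le (pM.star_star.ge.trans inf_le_left))) d.hG dH'.max
  have h2 : r ∈ Cfsg.sigma H := TauTwo.mem_sigma_of_dvd Fact.out
    ((hR ▸ card_dvd_of_le hRK : r ∣ Nat.card KN).trans
      (card_dvd_of_le (pN.star_star.ge.trans inf_le_left))) d.hG dH.max
  obtain ⟨g, hg⟩ := SigmaDisjoint.sigma_disjoint d.hG dH.max dH'.max h2 h1
  obtain ⟨t, T, ht, hT, hTle⟩ := FixedTauOne.exists_prime_sub dN.star_ne_bot
  have := Fact.mk ht
  have htd : t ∣ Nat.card ↥(Kappa.Kstar N KN) := hT ▸ card_dvd_of_le hTle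
  have htk : t ∈ Cfsg.kappa H' := hg ▸ kappa_conj d.hG dH.max g (dH.hall.2.1 t ht htd)
  exact d.not_sigma_both (dN.sigma_star d.hG ht htd)
    (dM.sigma_star d.hG ht (dvd_of_hall dH'.hall htk htk.2.1))

/-- A line of a complement fixes a nontrivial element of a pair of another prime. -/
theorem exists_fixed (hE : Cfsg.IsComplIn E (Cfsg.sigmaCore M) M) (hs : s ∈ Cfsg.tau2 M) (hB : IsPair s B)
    (hBE : B ≤ E) (hY : Nat.card Y = r) (hYE : Y ≤ E) (hne : r ≠ s) :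
    ∃ b ∈ B, b ≠ 1 ∧ b ∈ centralizer (Y : Set G) := by
  have := d.fact
  obtain ⟨hEB, -, -⟩ := TauTwo.le_normalizer_pair d.hG d.hM hB hs.2.1 hE hBE
  have hBM := hBE.trans hE.1
  have hYp := FixedTauOne.isPGroup_of_card_eq hY
  by_contra hcon
  push Not at hcon
  have h0 : B ⊓ centralizer (Y : Set G) = ⊥ := (eq_bot_iff_forall _).mpr fun b hb =>
    by_contra fun hb1 => hcon b hb.1 hb1 hb.2
  have hBd : B ≤ ⁅M, M⁆ := by
    rw [← Core.commutator_sup_centralizer (hYE.trans hEB) (TauTwo.coprime_pGroups hne hYp hB.isPGroup)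
      (Or.inl (d.hG.2.2.2 Y (Uniqueness.ne_top_of_pGroup d.hG hYp))), h0, sup_bot_eq]
    exact commutator_mono hBM (hYE.trans hE.1)
  obtain ⟨Q₀, hQ₀⟩ := Core.exists_invariant_sylow (A := B) (K := Cfsg.sigmaCore M)
    (hBM.trans (TauTwo.le_normalizer_sigmaCore M)) (TauTwo.coprime_sigmaCore d.hG d.hM hs.2.1 hB.isPGroup)
    (Or.inl (d.hG.2.2.2 B (Uniqueness.ne_top_of_pGroup d.hG hB.isPGroup))) q
  refine Q₀.ne_bot_of_dvd_card (d.order ▸ Subgroup.orderOf_dvd_natCard _ d.mem) ?_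
  refine (map_eq_bot_iff_of_injective _ (Cfsg.sigmaCore M).subtype_injective).mp (le_bot_iff.mp ?_)
  rw [← TauTwo.sigma_inf_centralizer d.hG d.hM hB hBM hs.2.1]
  refine le_inf (map_subtype_le _) (le_centralizer_iff.mp ?_)
  exact TauTwo.centralizes_of_derived d.hG d.hM (fun e : q = s => hs.2.1 (e ▸ d.q_sigma)) (d.not_beta M)
    hB.isPGroup hBd (Q₀.2.map _) ((map_subtype_le _).trans (TauTwo.sigmaCore_le M)) hQ₀

end Local

/-- A fixed element of a pair of `M` in another maximal subgroup `H`. -/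
theorem mem_kappa_of_fixed (hG : Cfsg.IsMinSimpleOddOrder G) (hM : IsCoatom M) (hH : IsCoatom H) (hne : H ≠ M)
    (hB : IsPair s B) (hBM : B ≤ M) (hb : b ∈ B) (hb1 : b ≠ 1) (hbH : b ∈ H) (hsH : s ∉ Cfsg.sigma H)
    (hY : Y ≠ ⊥) (hYH : Y ≤ Cfsg.sigmaCore H) (hYM : Y ≤ M) (hbY : b ∈ centralizer (Y : Set G)) :
    s ∈ Cfsg.kappa H := by
  have hbo : orderOf b = s := orderOf_eq_prime (hB.1.2 b hb) hb1
  set Z := zpowers b with hZ
  have hZc : Nat.card Z = s := by rw [hZ, Nat.card_zpowers, hbo]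
  have hZH : Z ≤ H := zpowers_le.mpr hbH
  have hfix : Cfsg.sigmaCore H ⊓ centralizer (Z : Set G) ≠ ⊥ := fun e =>
    hY (le_bot_iff.mp (e ▸ le_inf hYH (le_centralizer_iff.mp (zpowers_le.mpr hbY))))
  by_cases h1 : Cfsg.PRankLE s 1 H
  · exact Kappa.mem_kappa hG hsH h1 hZc hZH hfix
  exfalso
  have hτ : s ∈ Cfsg.tau2 H :=
    ⟨Fact.out, hsH, not_not.mp fun h => hsH (SigmaTrans.alpha_subset_sigma hG hH ⟨Fact.out, h⟩), h1⟩
  obtain ⟨F, hF, hbF⟩ := TauTwo.exists_complement_ge hG hH hZH fun v hv hd => by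
    rw [(Nat.prime_dvd_prime_iff_eq hv Fact.out).mp (hZc ▸ hd)]; exact hsH
  obtain ⟨B', hB', hB'F⟩ := TauTwo.exists_pair_complement hG hH hF hτ
  obtain ⟨-, hmem, -⟩ := TauTwo.le_normalizer_pair hG hH hB' hsH hF hB'F
  have hZB' : Z ≤ B' := zpowers_le.mpr (hmem b (hbF (mem_zpowers b)) (hB.1.2 b hb))
  have hCH := (TauTwo.centralizer_line_unique hG hH hB' (hB'F.trans hF.1) hsH hZB'
    (FixedTauOne.ne_bot_of_card_eq hZc) hfix).1
  have hBH : B ≤ H := (hB.le_centralizer.trans (centralizer_le (zpowers_le.mpr hb))).trans hCH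
  exact hY (le_bot_iff.mp (TauTwo.sigmaCore_inf_eq_bot hG hH hB hBH hsH hM hne.symm hBM ▸ le_inf hYH hYM))

namespace Local

variable (d : Local M N A x q)
include d

theorem not_sigma_of_tau2 (hs : s ∈ Cfsg.tau2 M) : s ∉ Cfsg.sigma N := fun h => by
  obtain ⟨B, hB, hBM⟩ := TauTwo.exists_isPair hs.2.2.2
  exact hB.not_beta d.hG (TauTwo.not_inUniqueMaximal d.hG d.hM hB hBM hs.2.1) N
    (d.mem_beta h (hB.dvd_card.trans (card_dvd_of_le hBM)))

/-- A common prime kills `τ₂(M)`. -/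
theorem tau2_empty_of_common (hpN : p ∈ Cfsg.sigma N) (hpd : p ∣ Nat.card M) : Cfsg.tau2 M = ∅ := by
  refine Set.eq_empty_iff_forall_notMem.mpr fun v hv => ?_
  have := Fact.mk hv.1
  have hsN := d.not_sigma_of_tau2 hv
  have hpM := d.not_sigma_both hpN
  have hpv : p ≠ v := fun e => hsN (e ▸ hpN)
  obtain ⟨w, hw⟩ := exists_prime_orderOf_dvd_card' (G := M) p hpd
  set X := zpowers (w : G) with hX
  have hXc : Nat.card X = p := by rw [hX, Nat.card_zpowers, orderOf_coe, hw]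
  have hXM : X ≤ M := zpowers_le.mpr w.2
  have hXp := FixedTauOne.isPGroup_of_card_eq hXc
  obtain ⟨E, hE, hXE⟩ := TauTwo.exists_complement_ge d.hG d.hM hXM fun t ht hd => by
    rw [(Nat.prime_dvd_prime_iff_eq ht Fact.out).mp (hXc ▸ hd)]; exact hpM
  obtain ⟨B, hB, hBE⟩ := TauTwo.exists_pair_complement d.hG d.hM hE hv
  obtain ⟨b, hb, hb1, hbX⟩ := d.exists_fixed hE hv hB hBE hXc hXE hpv
  obtain ⟨g, hg⟩ := SigmaTrans.exists_conj_le hpN hXp
  set L := N.map (MulAut.conj g).toMonoidHom with hLdef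
  have hL : IsCoatom L := SylowUnique.isCoatom_conj d.o.max g
  have hpL : p ∈ Cfsg.sigma L := (SigmaDisjoint.sigma_conj g).mpr hpN
  have hXL : X ≤ L := fun y hy => Transfer.mem_map_conj.mpr (hg y hy)
  have hNX : normalizer (X : Set G) ≤ L := by
    set X' := X.map (MulAut.conj g⁻¹).toMonoidHom with hX'
    have hX'N : X' ≤ N := by
      rintro _ ⟨y, hy, rfl⟩
      simpa using hg y hy
    have h1 := TauTwo.normalizer_le_of_beta d.hG d.o.max (d.mem_beta hpN hpd)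
      (hXp.map (MulAut.conj g⁻¹).toMonoidHom)
      (fun e => FixedTauOne.ne_bot_of_card_eq hXc ((map_eq_bot_iff_of_injective _ (MulAut.conj g⁻¹).injective).mp e))
      hX'N
    rw [Transfer.normalizer_map_conj] at h1
    intro y hy
    exact Transfer.mem_map_conj.mpr (by simpa using h1 (mem_map_of_mem _ hy))
  have hvL : v ∈ Cfsg.kappa L := mem_kappa_of_fixed d.hG d.hM hL (fun e => hpM (e ▸ hpL)) hB (hBE.trans hE.1)
    hb hb1 (hNX (centralizer_le_normalizer _ hbX)) (fun h => hsN ((SigmaDisjoint.sigma_conj g).mp h))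
    (FixedTauOne.ne_bot_of_card_eq hXc) (TauTwo.le_sigmaCore d.hG hL hpL hXp hXL) hXM hbX
  exact d.not_tau2_kappa (kappa_of_conj d.hG d.o.max hvL) hv

end Local

end CfsgLib.TwoGroups.OvergroupPrimes
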