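import Mathlib
import Cfsg.Prelude.Def_CaseTheorems

/-!
Klein four-subgroups: construction from two commuting involutions, existence in elementary abelian
subgroups, and the chain relation of the commuting graph of four-subgroups.
-/

set_option autoImplicit false
set_option linter.style.haveILetI false

namespace CfsgLib.TwoGroups

open Subgroup

variable {G H : Type*} [Group G] [Group H]

/-- The subgroup `{1, a, b, ab}` of two commuting elements of order dividing two. -/
def fourOf {a b : G} (ha : a * a = 1) (hb : b * b = 1) (hab : a * b = b * a) : Subgroup G where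
  carrier := {x | x = 1 ∨ x = a ∨ x = b ∨ x = a * b}
  one_mem' := Or.inl rfl
  mul_mem' := by
    have h1 : b * a = a * b := hab.symm
    have h2 : ∀ x, a * (a * x) = x := fun x => by rw [← mul_assoc, ha, one_mul]
    have h3 : ∀ x, b * (b * x) = x := fun x => by rw [← mul_assoc, hb, one_mul]
    have h4 : ∀ x, b * (a * x) = a * (b * x) := fun x => by rw [← mul_assoc, h1, mul_assoc]
    intro x y hx hy
    rcases hx with rfl | rfl | rfl | rfl <;> rcases hy with rfl | rfl | rfl | rfl <;>
      simp [mul_assoc, ha, hb, h1, h2, h3, h4]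
  inv_mem' := by
    have hai : a⁻¹ = a := inv_eq_of_mul_eq_one_right ha
    have hbi : b⁻¹ = b := inv_eq_of_mul_eq_one_right hb
    intro x hx
    rcases hx with rfl | rfl | rfl | rfl <;> simp [mul_inv_rev, hai, hbi, hab]

theorem mem_fourOf {a b x : G} (ha : a * a = 1) (hb : b * b = 1) (hab : a * b = b * a) :
    x ∈ fourOf ha hb hab ↔ x = 1 ∨ x = a ∨ x = b ∨ x = a * b := Iff.rfl

theorem fourOf_le {a b : G} (ha : a * a = 1) (hb : b * b = 1) (hab : a * b = b * a)
    {A : Subgroup G} (haA : a ∈ A) (hbA : b ∈ A) : fourOf ha hb hab ≤ A := by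
  rintro x (rfl | rfl | rfl | rfl)
  exacts [one_mem A, haA, hbA, mul_mem haA hbA]

theorem isKleinFour_fourOf {a b : G} (ha : a * a = 1) (hb : b * b = 1) (hab : a * b = b * a)
    (ha1 : a ≠ 1) (hb1 : b ≠ 1) (hne : a ≠ b) : IsKleinFour (fourOf ha hb hab) := by
  have hcard : Nat.card (fourOf ha hb hab) = 4 := by
    have hset : ((fourOf ha hb hab : Subgroup G) : Set G) = {1, a, b, a * b} := by
      ext x
      simp only [Set.mem_insert_iff, Set.mem_singleton_iff]
      exact Iff.rfl
    have h1 : (1 : G) ≠ a * b := fun h => hne (by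
      rw [← mul_one b, h, ← mul_assoc, ← hab, mul_assoc, hb, mul_one])
    have hab1 : a ≠ a * b := fun h => hb1 (mul_eq_left.1 h.symm)
    have hab2 : b ≠ a * b := fun h => ha1 (mul_eq_right.1 h.symm)
    rw [← SetLike.coe_sort_coe, Nat.card_coe_set_eq, hset,
      Set.ncard_insert_of_notMem (by simp [ha1.symm, hb1.symm, h1]) (Set.toFinite _),
      Set.ncard_insert_of_notMem (by simp [hne, hab1]) (Set.toFinite _),
      Set.ncard_pair hab2]
  haveI : Finite (fourOf ha hb hab) := Nat.finite_of_card_ne_zero (by omega)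
  haveI : Nontrivial (fourOf ha hb hab) := Finite.one_lt_card_iff_nontrivial.1 (by omega)
  refine ⟨hcard, (Monoid.exponent_eq_prime_iff Nat.prime_two).2 fun x hx => ?_⟩
  refine orderOf_eq_prime (Subtype.ext ?_) hx
  rw [SubmonoidClass.coe_pow, pow_two]
  rcases x.2 with h | h | h | h <;> simp only [h, OneMemClass.coe_one]
  · exact one_mul 1
  · exact ha
  · exact hb
  · rw [mul_assoc, ← mul_assoc b a, ← hab, mul_assoc, hb, mul_one, ha]

theorem klein_mul_self {W : Subgroup G} (hW : IsKleinFour W) {x : G} (hx : x ∈ W) : x * x = 1 :=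
  congrArg Subtype.val (IsKleinFour.mul_self (⟨x, hx⟩ : W))

theorem mul_comm_of_mul_self {A : Subgroup G} (hA : ∀ a ∈ A, a * a = 1) {x y : G} (hx : x ∈ A)
    (hy : y ∈ A) : x * y = y * x := by
  have hi : ∀ a ∈ A, a⁻¹ = a := fun a ha => inv_eq_of_mul_eq_one_right (hA a ha)
  have h := hi _ (mul_mem hx hy)
  rw [mul_inv_rev, hi x hx, hi y hy] at h
  exact h.symm

theorem klein_comm {W : Subgroup G} (hW : IsKleinFour W) {x y : G} (hx : x ∈ W) (hy : y ∈ W) :
    x * y = y * x :=
  mul_comm_of_mul_self (fun _ ha => klein_mul_self hW ha) hx hy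

theorem klein_isPGroup {W : Subgroup G} (hW : IsKleinFour W) : IsPGroup 2 W :=
  IsPGroup.of_card (n := 2) hW.card_four

theorem exists_ne_one_of_two_le [Finite G] {A : Subgroup G} (hcard : 2 ≤ Nat.card A) :
    ∃ a ∈ A, a ≠ 1 := by
  refine A.bot_or_exists_ne_one.resolve_left fun h => ?_
  rw [h, card_bot] at hcard
  omega

/-- An elementary abelian 2-subgroup of order at least 3 contains a four-subgroup. -/
theorem exists_klein_le [Finite G] {A : Subgroup G} (hA : ∀ a ∈ A, a ^ 2 = 1)
    (hcard : 3 ≤ Nat.card A) : ∃ W : Subgroup G, W ≤ A ∧ IsKleinFour W := by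
  simp only [pow_two] at hA
  obtain ⟨a, haA, ha1⟩ := exists_ne_one_of_two_le (A := A) (by omega)
  obtain ⟨b, hbA, hb1, hba⟩ : ∃ b ∈ A, b ≠ 1 ∧ a ≠ b := by
    by_contra hno
    push Not at hno
    have hsub : (A : Set G) ⊆ {1, a} := fun x hx => by
      rcases eq_or_ne x 1 with h | h
      · exact Or.inl h
      · exact Or.inr (hno x hx h).symm
    have h2 := Set.ncard_le_ncard hsub (Set.toFinite _)
    rw [← Nat.card_coe_set_eq, SetLike.coe_sort_coe, Set.ncard_pair ha1.symm] at h2
    omega
  exact ⟨fourOf (hA a haA) (hA b hbA) (mul_comm_of_mul_self hA haA hbA), fourOf_le _ _ _ haA hbA,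
    isKleinFour_fourOf _ _ _ ha1 hb1 hba⟩

theorem isKleinFour_map {f : G →* H} (hf : Function.Injective f) {W : Subgroup G}
    (hW : IsKleinFour W) : IsKleinFour (W.map f) where
  card_four := (Nat.card_congr (W.equivMapOfInjective f hf).toEquiv).symm.trans hW.card_four
  exponent_two := (Monoid.exponent_eq_of_mulEquiv (W.equivMapOfInjective f hf)).symm.trans
    hW.exponent_two

/-- A subgroup has 2-rank at least 2 exactly when it contains a four-subgroup. -/
theorem not_pRankLE_iff_exists_klein [Finite G] (Q : Subgroup G) :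
    ¬ Cfsg.PRankLE 2 1 Q ↔ ∃ W : Subgroup G, W ≤ Q ∧ IsKleinFour W := by
  constructor
  · intro h
    simp only [Cfsg.PRankLE, not_forall] at h
    obtain ⟨A, -, hA2, hA⟩ := h
    obtain ⟨W, -, hWk⟩ := exists_klein_le hA2 (by omega)
    exact ⟨W.map Q.subtype, map_subtype_le W, isKleinFour_map Q.subtype_injective hWk⟩
  · rintro ⟨W, hWQ, hW⟩ h
    haveI : IsKleinFour (W.subgroupOf Q) :=
      ⟨(Nat.card_congr (subgroupOfEquivOfLe hWQ).toEquiv).trans hW.card_four,
        (Monoid.exponent_eq_of_mulEquiv (subgroupOfEquivOfLe hWQ)).trans hW.exponent_two⟩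
    have := h (W.subgroupOf Q) IsKleinFour.isMulCommutative fun a ha => by
      rw [pow_two]
      exact klein_mul_self ‹_› ha
    rw [IsKleinFour.card_four] at this
    omega

theorem not_pRankLE_top_iff_exists_klein [Finite G] :
    ¬ Cfsg.PRankLE 2 1 G ↔ ∃ W : Subgroup G, IsKleinFour W := by
  constructor
  · intro h
    simp only [Cfsg.PRankLE, not_forall] at h
    obtain ⟨A, -, hA2, hA⟩ := h
    obtain ⟨W, -, hWk⟩ := exists_klein_le hA2 (by omega)
    exact ⟨W, hWk⟩
  · rintro ⟨W, hW⟩ h
    haveI := hW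
    have := h W IsKleinFour.isMulCommutative fun a ha => by
      rw [pow_two]
      exact klein_mul_self hW ha
    rw [IsKleinFour.card_four] at this
    omega

/-- One step in the commuting graph of four-subgroups. -/
def FourStep (A B : Subgroup G) : Prop :=
  IsKleinFour A ∧ IsKleinFour B ∧ ∀ a ∈ A, ∀ b ∈ B, a * b = b * a

/-- Reachability in the commuting graph of four-subgroups. -/
abbrev FourChain (A B : Subgroup G) : Prop := Relation.ReflTransGen FourStep A B

theorem FourStep.symm {A B : Subgroup G} (h : FourStep A B) : FourStep B A :=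
  ⟨h.2.1, h.1, fun a ha b hb => (h.2.2 b hb a ha).symm⟩

theorem FourChain.symm {A B : Subgroup G} (h : FourChain A B) : FourChain B A := by
  induction h with
  | refl => exact .refl
  | tail _ hs ih => exact Relation.ReflTransGen.head hs.symm ih

theorem FourStep.map {f : G →* H} (hf : Function.Injective f) {A B : Subgroup G}
    (h : FourStep A B) : FourStep (A.map f) (B.map f) := by
  refine ⟨isKleinFour_map hf h.1, isKleinFour_map hf h.2.1, ?_⟩
  rintro _ ⟨a, ha, rfl⟩ _ ⟨b, hb, rfl⟩
  rw [← map_mul, ← map_mul, h.2.2 a ha b hb]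

theorem FourChain.map {f : G →* H} (hf : Function.Injective f) {A B : Subgroup G}
    (h : FourChain A B) : FourChain (A.map f) (B.map f) := by
  induction h with
  | refl => exact .refl
  | tail _ hs ih => exact ih.tail (hs.map hf)

theorem FourChain.conj (g : G) {A B : Subgroup G} (h : FourChain A B) :
    FourChain (A.map (MulAut.conj g).toMonoidHom) (B.map (MulAut.conj g).toMonoidHom) :=
  h.map (MulAut.conj g).injective

/-- Four-subgroups inside a four-connected subgroup are joined by a chain of the whole group. -/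
theorem fourChain_of_isFourConnected {S : Subgroup G} (hS : Cfsg.IsFourConnected S)
    {U V : Subgroup G} (hU : IsKleinFour U) (hV : IsKleinFour V) (hUS : U ≤ S) (hVS : V ≤ S) :
    FourChain U V := by
  have key : ∀ {X : Subgroup G}, IsKleinFour X → X ≤ S → IsKleinFour (X.subgroupOf S) :=
    fun {X} hX hXS =>
      ⟨(Nat.card_congr (subgroupOfEquivOfLe hXS).toEquiv).trans hX.card_four,
        (Monoid.exponent_eq_of_mulEquiv (subgroupOfEquivOfLe hXS)).trans hX.exponent_two⟩
  have h : FourChain (U.subgroupOf S) (V.subgroupOf S) := hS _ _ (key hU hUS) (key hV hVS)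
  simpa [inf_eq_left.2 hUS, inf_eq_left.2 hVS] using h.map S.subtype_injective

end CfsgLib.TwoGroups
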