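import Mathlib

/-!
Actions on three points: the kernel has index dividing 6, and elements of odd order are either
trivial or transitive.
-/

set_option autoImplicit false

namespace CfsgLib.TwoGroups

variable {M X : Type*} [Group M] [MulAction M X]

theorem three_eq_of_ne (hX : Nat.card X = 3) {x y z w : X} (hxy : x ≠ y) (hxz : x ≠ z) (hyz : y ≠ z) :
    w = x ∨ w = y ∨ w = z := by
  by_contra hh
  push Not at hh
  haveI : Finite X := Nat.finite_of_card_ne_zero (by rw [hX]; norm_num)
  have h4 : ({w, x, y, z} : Set X).ncard = 4 := by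
    rw [Set.ncard_insert_of_notMem (by simp [hh.1, hh.2.1, hh.2.2]), Set.ncard_eq_three.2
      ⟨x, y, z, hxy, hxz, hyz, rfl⟩]
  have := Set.ncard_le_card ({w, x, y, z} : Set X)
  omega

theorem three_fix_all (hX : Nat.card X = 3) {g : M} {x y : X} (hxy : x ≠ y) (hx : g • x = x)
    (hy : g • y = y) (w : X) : g • w = w := by
  by_contra hw
  have hwx : w ≠ x := fun h => hw (h ▸ hx)
  have hwy : w ≠ y := fun h => hw (h ▸ hy)
  rcases three_eq_of_ne hX hxy hwx.symm hwy.symm (w := g • w) with h | h | h
  · exact hwx (smul_left_cancel g (h.trans hx.symm))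
  · exact hwy (smul_left_cancel g (h.trans hy.symm))
  · exact hw h

theorem three_sq_fix_all (hX : Nat.card X = 3) {g : M} {x : X} (hx : g • x = x) (w : X) :
    (g * g) • w = w := by
  rw [mul_smul]
  by_cases hw : g • w = w
  · rw [hw, hw]
  · have hwx : w ≠ x := fun h => hw (h ▸ hx)
    have hgwx : g • w ≠ x := fun h => hwx (smul_left_cancel g (h.trans hx.symm))
    rcases three_eq_of_ne hX hwx.symm hgwx.symm (Ne.symm hw) (w := g • (g • w)) with h | h | h
    · exact absurd (smul_left_cancel g (h.trans hx.symm)) hgwx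
    · exact h
    · exact absurd (smul_left_cancel g h) hw

theorem three_pow_fix {g : M} {x : X} (hx : g • x = x) (n : ℕ) : g ^ n • x = x := by
  induction n with
  | zero => simp
  | succ n ih => rw [pow_succ, mul_smul, hx, ih]

theorem three_odd_fix_all (hX : Nat.card X = 3) {g : M} (hg : Odd (orderOf g)) {x : X}
    (hx : g • x = x) (w : X) : g • w = w := by
  obtain ⟨k, hk⟩ := hg
  have e : (g * g) ^ (k + 1) = g := by
    rw [← pow_two, ← pow_mul, show 2 * (k + 1) = orderOf g + 1 by omega, pow_succ, pow_orderOf_eq_one,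
      one_mul]
  rw [← e]
  exact three_pow_fix (three_sq_fix_all hX hx w) _

theorem three_odd_transitive (hX : Nat.card X = 3) {g : M} (hg : Odd (orderOf g)) {x : X}
    (hx : g • x ≠ x) (y : X) : ∃ n : ℕ, g ^ n • x = y := by
  have h2 : (g * g) • x ≠ x := by
    intro h
    apply hx
    obtain ⟨k, hk⟩ := hg
    have e : (g * g) ^ (k + 1) = g := by
      rw [← pow_two, ← pow_mul, show 2 * (k + 1) = orderOf g + 1 by omega, pow_succ,
        pow_orderOf_eq_one, one_mul]
    rw [← e]; exact three_pow_fix h _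
  have h3 : (g * g) • x ≠ g • x := by
    rw [mul_smul]; exact fun h => hx (smul_left_cancel g h)
  rcases three_eq_of_ne hX (Ne.symm hx) (Ne.symm h2) (Ne.symm h3) (w := y) with rfl | rfl | rfl
  · exact ⟨0, by simp⟩
  · exact ⟨1, by simp⟩
  · exact ⟨2, by rw [pow_two]⟩

/-- The subgroup fixing all three points. -/
def threeKer (M X : Type*) [Group M] [MulAction M X] : Subgroup M :=
  (MulAction.toPermHom M X).ker

theorem mem_threeKer {g : M} : g ∈ threeKer M X ↔ ∀ x : X, g • x = x := by
  rw [threeKer, MonoidHom.mem_ker, Equiv.ext_iff]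
  rfl

theorem three_index_dvd_six (hX : Nat.card X = 3) : (threeKer M X).index ∣ 6 := by
  classical
  haveI : Finite X := Nat.finite_of_card_ne_zero (by rw [hX]; norm_num)
  haveI := Fintype.ofFinite X
  rw [threeKer, Subgroup.index_ker]
  refine (Subgroup.card_subgroup_dvd_card _).trans ?_
  rw [Nat.card_perm, hX]
  decide

theorem three_index_eq_six [Finite M] (hX : Nat.card X = 3) {g₁ g₂ : M} {x y : X}
    (h₁ : g₁ • x ≠ x) (h₂ : g₂ • x = x) (h₂' : g₂ • y ≠ y) : (threeKer M X).index = 6 := by
  have hd := three_index_dvd_six (M := M) hX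
  have hg2 : g₂ ∉ threeKer M X := fun h => h₂' (mem_threeKer.1 h y)
  have hne1 : (threeKer M X).index ≠ 1 := fun h =>
    hg2 (Subgroup.index_eq_one.1 h ▸ Subgroup.mem_top g₂)
  haveI : (threeKer M X).Normal := MonoidHom.normal_ker _
  have heven : 2 ∣ (threeKer M X).index := by
    have hsq : g₂ * g₂ ∈ threeKer M X := mem_threeKer.2 fun w => three_sq_fix_all hX h₂ w
    have h1 : orderOf (QuotientGroup.mk' (threeKer M X) g₂) = 2 :=
      orderOf_eq_prime (by rw [pow_two, ← map_mul]; exact (QuotientGroup.eq_one_iff _).2 hsq)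
        (fun h => hg2 ((QuotientGroup.eq_one_iff _).1 h))
    rw [Subgroup.index_eq_card, ← h1]
    exact orderOf_dvd_natCard _
  have hne2 : (threeKer M X).index ≠ 2 := by
    intro h
    have hg1 : g₁ ∉ threeKer M X := fun h => h₁ (mem_threeKer.1 h x)
    have := (Subgroup.mul_mem_iff_of_index_two h (a := g₁) (b := g₂)).2 (iff_of_false hg1 hg2)
    have h3 := mem_threeKer.1 this x
    rw [mul_smul, h₂] at h3
    exact h₁ h3
  have hle := Nat.le_of_dvd (by norm_num) hd
  interval_cases h : (threeKer M X).index <;> omega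

theorem three_exists_odd_mover [Finite M] (h : 3 ∣ (threeKer M X).index) :
    ∃ g : M, Odd (orderOf g) ∧ ∃ x : X, g • x ≠ x := by
  haveI : (threeKer M X).Normal := MonoidHom.normal_ker _
  haveI : Fact (Nat.Prime 3) := ⟨Nat.prime_three⟩
  rw [Subgroup.index_eq_card] at h
  obtain ⟨q, hq⟩ := exists_prime_orderOf_dvd_card' 3 h
  obtain ⟨g, rfl⟩ := QuotientGroup.mk'_surjective (threeKer M X) q
  refine ⟨g ^ (2 ^ (orderOf g).factorization 2), ?_, ?_⟩
  · rw [orderOf_pow' _ (pow_ne_zero _ two_ne_zero), Nat.gcd_eq_right (Nat.ordProj_dvd _ _),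
      ← Nat.not_even_iff_odd, even_iff_two_dvd]
    exact Nat.not_dvd_ordCompl Nat.prime_two (orderOf_pos g).ne'
  · by_contra hh
    push Not at hh
    have h1 : QuotientGroup.mk' (threeKer M X) g ^ (2 ^ (orderOf g).factorization 2) = 1 := by
      rw [← map_pow]; exact (QuotientGroup.eq_one_iff _).2 (mem_threeKer.2 hh)
    have h2 := orderOf_dvd_of_pow_eq_one h1
    rw [hq] at h2
    have := (Nat.prime_three).dvd_of_dvd_pow h2
    norm_num at this

end CfsgLib.TwoGroups
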