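import Mathlib
import Cfsg.Agent.Lib.TwoGroups.ThreePoint
import Cfsg.Agent.Lib.TwoGroups.Closed

/-!
The automisers of four-groups and of quaternion subgroups of order 8, as permutation groups on
three points.
-/

set_option autoImplicit false

namespace CfsgLib.TwoGroups

variable {G : Type*} [Group G]

theorem conj_mem_of_mem_normalizer {T : Subgroup G} {n : G}
    (hn : n ∈ Subgroup.normalizer (T : Set G)) {t : G} (ht : t ∈ T) : n * t * n⁻¹ ∈ T :=
  (Subgroup.mem_normalizer_iff.1 hn t).1 ht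

/-! ### Four-groups -/

/-- The three involutions of a four-group. -/
def KleinPts (T : Subgroup G) : Type _ := {t : G // t ∈ T ∧ t ≠ 1}

instance instKleinPtsAction (T : Subgroup G) :
    MulAction (Subgroup.normalizer (T : Set G)) (KleinPts T) where
  smul n t := ⟨(n : G) * t.1 * (n : G)⁻¹, conj_mem_of_mem_normalizer n.2 t.2.1, fun h =>
    t.2.2 (by simpa using h)⟩
  one_smul t := Subtype.ext (show ((1 : G) * t.1 * (1 : G)⁻¹ = t.1) by simp)
  mul_smul n k t := Subtype.ext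
    (show ((n : G) * k * t.1 * ((n : G) * k)⁻¹ = (n : G) * ((k : G) * t.1 * (k : G)⁻¹) * (n : G)⁻¹) by
      group)

theorem kleinPts_smul_val {T : Subgroup G} (n : Subgroup.normalizer (T : Set G)) (t : KleinPts T) :
    (n • t).1 = (n : G) * t.1 * (n : G)⁻¹ := rfl

theorem natCard_kleinPts {T : Subgroup G} (hT : IsKleinFour T) : Nat.card (KleinPts T) = 3 := by
  haveI := hT
  haveI : Finite T := Nat.finite_of_card_ne_zero (by rw [IsKleinFour.card_four]; norm_num)
  show Nat.card ↥((T : Set G) \ {1}) = 3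
  rw [Nat.card_coe_set_eq, Set.ncard_sdiff_singleton_of_mem T.one_mem, ← Nat.card_coe_set_eq]
  rw [SetLike.coe_sort_coe, IsKleinFour.card_four]

theorem threeKer_klein (T : Subgroup G) :
    threeKer (Subgroup.normalizer (T : Set G)) (KleinPts T) =
      (Subgroup.centralizer (T : Set G)).subgroupOf (Subgroup.normalizer (T : Set G)) := by
  ext n
  rw [mem_threeKer, Subgroup.mem_subgroupOf, Subgroup.mem_centralizer_iff]
  constructor
  · intro h t ht
    rcases eq_or_ne t 1 with rfl | ht1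
    · simp
    · have h1 : (n : G) * t * (n : G)⁻¹ = t := congrArg Subtype.val (h ⟨t, ht, ht1⟩)
      nth_rewrite 1 [← h1]; group
  · intro h t
    refine Subtype.ext ?_
    rw [kleinPts_smul_val, ← h t.1 t.2.1, mul_inv_cancel_right]

theorem klein_relIndex_dvd_six {T : Subgroup G} (hT : IsKleinFour T) :
    (Subgroup.centralizer (T : Set G)).relIndex (Subgroup.normalizer (T : Set G)) ∣ 6 := by
  rw [Subgroup.relIndex, ← threeKer_klein]
  exact three_index_dvd_six (natCard_kleinPts hT)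

theorem klein_relIndex_eq_six [Finite G] {T : Subgroup G} (hT : IsKleinFour T) {n₁ n₂ t t' : G}
    (hn₁ : n₁ ∈ Subgroup.normalizer (T : Set G)) (hn₂ : n₂ ∈ Subgroup.normalizer (T : Set G))
    (ht : t ∈ T) (ht' : t' ∈ T) (h₁ : n₁ * t * n₁⁻¹ ≠ t) (h₂ : n₂ * t * n₂⁻¹ = t)
    (h₂' : n₂ * t' * n₂⁻¹ ≠ t') :
    (Subgroup.centralizer (T : Set G)).relIndex (Subgroup.normalizer (T : Set G)) = 6 := by
  rw [Subgroup.relIndex, ← threeKer_klein]
  exact three_index_eq_six (natCard_kleinPts hT) (g₁ := ⟨n₁, hn₁⟩) (g₂ := ⟨n₂, hn₂⟩)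
    (x := ⟨t, ht, fun e => h₁ (by rw [e]; group)⟩)
    (y := ⟨t', ht', fun e => h₂' (by rw [e]; group)⟩)
    (fun h => h₁ (congrArg Subtype.val h)) (Subtype.ext h₂) (fun h => h₂' (congrArg Subtype.val h))

/-- An element of odd order moving all three involutions. -/
theorem klein_exists_odd [Finite G] {T : Subgroup G} (hT : IsKleinFour T)
    (h : 3 ∣ (Subgroup.centralizer (T : Set G)).relIndex (Subgroup.normalizer (T : Set G))) :
    ∃ g ∈ Subgroup.normalizer (T : Set G), Odd (orderOf g) ∧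
      (∀ t ∈ T, t ≠ 1 → g * t * g⁻¹ ≠ t) ∧
      ∀ t ∈ T, ∀ t' ∈ T, t ≠ 1 → t' ≠ 1 → ∃ k : ℕ, g ^ k * t * (g ^ k)⁻¹ = t' := by
  rw [Subgroup.relIndex, ← threeKer_klein] at h
  obtain ⟨g, hg, x, hx⟩ := three_exists_odd_mover h
  refine ⟨g, g.2, by rwa [Subgroup.orderOf_coe], fun t ht ht1 hfix => hx ?_, fun t ht t' ht' h1 h1' => ?_⟩
  · exact three_odd_fix_all (natCard_kleinPts hT) hg (x := ⟨t, ht, ht1⟩) (Subtype.ext hfix) x
  · obtain ⟨k, hk⟩ := three_odd_transitive (natCard_kleinPts hT) hg (x := ⟨t, ht, h1⟩)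
      (fun hh => hx (three_odd_fix_all (natCard_kleinPts hT) hg hh x)) ⟨t', ht', h1'⟩
    have h1 : ((g ^ k : Subgroup.normalizer (T : Set G)) : G) * t *
        ((g ^ k : Subgroup.normalizer (T : Set G)) : G)⁻¹ = t' := congrArg Subtype.val hk
    exact ⟨k, by simpa using h1⟩

/-! ### Quaternion groups of order 8 -/

/-- The cyclic subgroups of order 4 of a subgroup. -/
def QuatPts (Q : Subgroup G) : Type _ := {C : Subgroup G // C ≤ Q ∧ Nat.card C = 4}

instance instQuatPtsAction (Q : Subgroup G) :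
    MulAction (Subgroup.normalizer (Q : Set G)) (QuatPts Q) where
  smul n C := ⟨C.1.map (MulAut.conj (n : G)).toMonoidHom,
    fun x hx => by
      obtain ⟨y, hy, rfl⟩ := hx
      exact conj_mem_of_mem_normalizer n.2 (C.2.1 hy),
    by rw [natCard_map_conj, C.2.2]⟩
  one_smul C := Subtype.ext (map_conj_one C.1)
  mul_smul n k C := Subtype.ext (map_conj_mul (n : G) (k : G) C.1)

theorem quatPts_smul_val {Q : Subgroup G} (n : Subgroup.normalizer (Q : Set G)) (C : QuatPts Q) :
    (n • C).1 = C.1.map (MulAut.conj (n : G)).toMonoidHom := rfl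

/-- Generators of a quaternion group of order 8 with the facts that are used. -/
theorem quat8_gens {Q : Subgroup G} (e : Q ≃* QuaternionGroup 2) :
    ∃ i j : G, i ∈ Q ∧ j ∈ Q ∧ orderOf i = 4 ∧ orderOf j = 4 ∧ orderOf (i * j) = 4 ∧
      (∀ v ∈ Q, ∃ a b : ℕ, v = i ^ a * j ^ b) ∧
      (∀ v ∈ Q, orderOf v = 4 → v = i ∨ v = i⁻¹ ∨ v = j ∨ v = j⁻¹ ∨ v = i * j ∨ v = (i * j)⁻¹) ∧
      j ∉ Subgroup.zpowers i ∧ i * j ∉ Subgroup.zpowers i ∧ i * j ∉ Subgroup.zpowers j ∧
      i * j * i⁻¹ = j⁻¹ ∧ j * i * j⁻¹ = i⁻¹ := by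
  set I : QuaternionGroup 2 := QuaternionGroup.a 1 with hI
  set J : QuaternionGroup 2 := QuaternionGroup.xa 0 with hJ
  let f : QuaternionGroup 2 →* G := Q.subtype.comp e.symm.toMonoidHom
  have hf : Function.Injective f := Q.subtype_injective.comp e.symm.injective
  have hfQ : ∀ v, f v ∈ Q := fun v => (e.symm v).2
  have hsurj : ∀ v ∈ Q, ∃ V, f V = v := fun v hv => ⟨e ⟨v, hv⟩, by simp [f]⟩
  have k0 : ∀ v : QuaternionGroup 2, v ^ 4 = 1 := by decide
  have k1 : ∀ v : QuaternionGroup 2, ∃ a b : Fin 4,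
      v = QuaternionGroup.a 1 ^ (a : ℕ) * QuaternionGroup.xa 0 ^ (b : ℕ) := by decide
  have k2 : ∀ v : QuaternionGroup 2, v ^ 2 ≠ 1 →
      v = QuaternionGroup.a 1 ∨ v = (QuaternionGroup.a 1)⁻¹ ∨ v = QuaternionGroup.xa 0 ∨
      v = (QuaternionGroup.xa 0)⁻¹ ∨ v = QuaternionGroup.a 1 * QuaternionGroup.xa 0 ∨
      v = (QuaternionGroup.a 1 * QuaternionGroup.xa 0)⁻¹ := by decide
  have hord : ∀ v : QuaternionGroup 2, v ^ 2 ≠ 1 → orderOf (f v) = 4 := fun v hv => by
    rw [orderOf_injective f hf]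
    exact orderOf_eq_prime_pow (p := 2) (n := 1) (by simpa using hv) (k0 v)
  have hz : ∀ u v : QuaternionGroup 2, orderOf (f u) = 4 → (∀ k : Fin 4, u ^ (k : ℕ) ≠ v) →
      f v ∉ Subgroup.zpowers (f u) := by
    intro u v hu hk hmem
    obtain ⟨n, hn⟩ := Subgroup.mem_zpowers_iff.1 hmem
    refine hk ⟨(n % 4).toNat, by omega⟩ (hf ?_)
    rw [map_pow, ← hn, ← zpow_natCast, Int.toNat_of_nonneg (by omega)]
    conv_rhs => rw [← zpow_mod_orderOf, hu]
    norm_num
  have n1 : I ^ 2 ≠ 1 := by rw [hI]; decide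
  have n2 : J ^ 2 ≠ 1 := by rw [hJ]; decide
  have n3 : (I * J) ^ 2 ≠ 1 := by rw [hI, hJ]; decide
  refine ⟨f I, f J, hfQ _, hfQ _, hord _ n1, hord _ n2, by rw [← map_mul]; exact hord _ n3, ?_, ?_,
    hz _ _ (hord _ n1) (by rw [hI, hJ]; decide),
    by rw [← map_mul]; exact hz _ _ (hord _ n1) (by rw [hI, hJ]; decide),
    by rw [← map_mul]; exact hz _ _ (hord _ n2) (by rw [hI, hJ]; decide), ?_, ?_⟩
  · intro v hv
    obtain ⟨V, rfl⟩ := hsurj v hv
    obtain ⟨a, b, h⟩ := k1 V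
    exact ⟨a, b, by rw [h, map_mul, map_pow, map_pow]⟩
  · intro v hv hv4
    obtain ⟨V, rfl⟩ := hsurj v hv
    have hV : V ^ 2 ≠ 1 := by
      intro h
      rw [orderOf_injective f hf] at hv4
      have := orderOf_dvd_of_pow_eq_one h
      rw [hv4] at this; norm_num at this
    rcases k2 V hV with h | h | h | h | h | h <;> simp only [h, map_mul, map_inv, ← hI, ← hJ] <;> simp
  · rw [← map_inv, ← map_mul, ← map_mul, ← map_inv]; congr 1
  · rw [← map_inv, ← map_mul, ← map_mul, ← map_inv]; congr 1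

theorem zpowers_order_four {v w : G} (hv : orderOf v = 4) (hw : w ∈ Subgroup.zpowers v)
    (hw4 : orderOf w = 4) : w = v ∨ w = v⁻¹ := by
  obtain ⟨n, rfl⟩ := Subgroup.mem_zpowers_iff.1 hw
  have h4 : v ^ (4 : ℤ) = 1 := by
    rw [show (4 : ℤ) = ((4 : ℕ) : ℤ) by rfl, zpow_natCast, ← hv, pow_orderOf_eq_one]
  rw [← zpow_mod_orderOf, hv] at hw4 ⊢
  rcases (show n % 4 = 0 ∨ n % 4 = 1 ∨ n % 4 = 2 ∨ n % 4 = 3 by omega) with h | h | h | h <;>
    simp only [Nat.cast_ofNat, h] at hw4 ⊢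
  · simp at hw4
  · left; exact zpow_one v
  · exfalso
    have := orderOf_dvd_of_pow_eq_one (n := 2) (x := v ^ (2 : ℤ)) (by
      rw [← zpow_natCast, ← zpow_mul]; exact h4)
    rw [hw4] at this; norm_num at this
  · right
    rw [eq_inv_iff_mul_eq_one, ← zpow_add_one]; exact h4

theorem natCard_quatPts {Q : Subgroup G} (e : Q ≃* QuaternionGroup 2) :
    Nat.card (QuatPts Q) = 3 := by
  obtain ⟨i, j, hi, hj, oi, oj, oij, -, hcls, n1, n2, n3, -, -⟩ := quat8_gens e
  have hmk : ∀ v ∈ Q, orderOf v = 4 → Subgroup.zpowers v ≤ Q ∧ Nat.card (Subgroup.zpowers v) = 4 :=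
    fun v hv ho => ⟨Subgroup.zpowers_le.2 hv, by rw [Nat.card_zpowers, ho]⟩
  have hall : ∀ C : Subgroup G, C ≤ Q → Nat.card C = 4 →
      C = Subgroup.zpowers i ∨ C = Subgroup.zpowers j ∨ C = Subgroup.zpowers (i * j) := by
    intro C hC hC4
    haveI : Finite C := Nat.finite_of_card_ne_zero (by rw [hC4]; norm_num)
    have hne : ∃ v ∈ C, orderOf v = 4 := by
      by_contra hno
      push Not at hno
      have key : ∀ u v : QuaternionGroup 2, u ^ 2 = 1 → v ^ 2 = 1 → u ≠ 1 → v ≠ 1 → u = v := by decide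
      have hsq : ∀ v : C, v ^ 2 = 1 := by
        intro v
        by_contra hv
        have h4 : (v : G) ^ 4 = 1 := by
          have := orderOf_dvd_natCard v
          rw [hC4] at this
          exact congrArg Subtype.val (orderOf_dvd_iff_pow_eq_one.1 this)
        exact hno v v.2 (orderOf_eq_prime_pow (p := 2) (n := 1)
          (fun h => hv (Subtype.ext h)) h4)
      classical
      let f : C → Bool := fun v => decide (v = 1)
      have hf : Function.Injective f := by
        intro a b hab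
        simp only [f, decide_eq_decide] at hab
        by_cases ha : a = 1
        · rw [ha, hab.1 ha]
        · have hb : b ≠ 1 := fun h => ha (hab.2 h)
          have := key (e ⟨a, hC a.2⟩) (e ⟨b, hC b.2⟩)
            (by rw [← map_pow, ← map_one e]; exact congrArg e (Subtype.ext (congrArg Subtype.val (hsq a) :)))
            (by rw [← map_pow, ← map_one e]; exact congrArg e (Subtype.ext (congrArg Subtype.val (hsq b) :)))
            (fun h => ha (Subtype.ext (congrArg Subtype.val (e.injective (h.trans (map_one e).symm)) :)))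
            (fun h => hb (Subtype.ext (congrArg Subtype.val (e.injective (h.trans (map_one e).symm)) :)))
          exact Subtype.ext (congrArg Subtype.val (e.injective this) :)
      have := Nat.card_le_card_of_injective f hf
      rw [hC4, Nat.card_eq_fintype_card, Fintype.card_bool] at this
      omega
    obtain ⟨v, hv, ho⟩ := hne
    have hCv : Subgroup.zpowers v = C :=
      Subgroup.eq_of_le_of_card_ge (Subgroup.zpowers_le.2 hv) (by rw [Nat.card_zpowers, ho, hC4])
    rw [← hCv]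
    rcases hcls v (hC hv) ho with rfl | rfl | rfl | rfl | rfl | rfl
    · exact Or.inl rfl
    · exact Or.inl (Subgroup.zpowers_inv)
    · exact Or.inr (Or.inl rfl)
    · exact Or.inr (Or.inl (Subgroup.zpowers_inv))
    · exact Or.inr (Or.inr rfl)
    · exact Or.inr (Or.inr (Subgroup.zpowers_inv))
  have hs : {C : Subgroup G | C ≤ Q ∧ Nat.card C = 4} =
      {Subgroup.zpowers i, Subgroup.zpowers j, Subgroup.zpowers (i * j)} := by
    ext C
    constructor
    · rintro ⟨h1, h2⟩; exact hall C h1 h2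
    · rintro (rfl | rfl | rfl)
      exacts [hmk i hi oi, hmk j hj oj, hmk _ (Q.mul_mem hi hj) oij]
  show Nat.card ↥{C : Subgroup G | C ≤ Q ∧ Nat.card C = 4} = 3
  rw [hs, Nat.card_coe_set_eq, Set.ncard_eq_three]
  exact ⟨_, _, _, fun h => n1 (by rw [h]; exact Subgroup.mem_zpowers _),
    fun h => n2 (by rw [h]; exact Subgroup.mem_zpowers _),
    fun h => n3 (by rw [h]; exact Subgroup.mem_zpowers _), rfl⟩

theorem threeKer_quat [Finite G] {Q : Subgroup G} (e : Q ≃* QuaternionGroup 2) :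
    threeKer (Subgroup.normalizer (Q : Set G)) (QuatPts Q) =
      (Q ⊔ Subgroup.centralizer (Q : Set G)).subgroupOf (Subgroup.normalizer (Q : Set G)) := by
  obtain ⟨i, j, hi, hj, oi, oj, oij, hword, hcls, n1, n2, n3, rij, rji⟩ := quat8_gens e
  ext n
  rw [mem_threeKer, Subgroup.mem_subgroupOf]
  constructor
  · intro h
    have hfix : ∀ v, v ∈ Q → orderOf v = 4 → (n : G) * v * (n : G)⁻¹ = v ∨ (n : G) * v * (n : G)⁻¹ = v⁻¹ := by
      intro v hv ho
      have h1 : (Subgroup.zpowers v).map (MulAut.conj (n : G)).toMonoidHom = Subgroup.zpowers v :=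
        congrArg Subtype.val (h ⟨_, Subgroup.zpowers_le.2 hv, by rw [Nat.card_zpowers, ho]⟩)
      exact zpowers_order_four ho (h1.le (conj_mem_map_conj (Subgroup.mem_zpowers v)))
        (by
          rw [show (n : G) * v * (n : G)⁻¹ = MulAut.conj (n : G) v from rfl, MulEquiv.orderOf_eq, ho])
    have key : ∀ c : G, c * i * c⁻¹ = i → c * j * c⁻¹ = j → c ∈ Subgroup.centralizer (Q : Set G) := by
      intro c h1 h2
      refine Subgroup.mem_centralizer_iff.2 fun v hv => ?_
      obtain ⟨a, b, rfl⟩ := hword v hv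
      have e1 : Commute c i := mul_inv_eq_iff_eq_mul.1 h1
      have e2 : Commute c j := mul_inv_eq_iff_eq_mul.1 h2
      exact ((e1.pow_right a).mul_right (e2.pow_right b)).eq.symm
    have hji : j⁻¹ * i⁻¹ * j = i := by
      calc j⁻¹ * i⁻¹ * j = j⁻¹ * (j * i * j⁻¹) * j := by rw [rji]
        _ = i := by group
    have hij : i⁻¹ * j⁻¹ * i = j := by
      calc i⁻¹ * j⁻¹ * i = i⁻¹ * (i * j * i⁻¹) * i := by rw [rij]
        _ = j := by group
    have hj1 : j⁻¹ * i * j = i⁻¹ := by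
      calc j⁻¹ * i * j = (j⁻¹ * i⁻¹ * j)⁻¹ := by group
        _ = i⁻¹ := by rw [hji]
    have hi1 : i⁻¹ * j * i = j⁻¹ := by
      calc i⁻¹ * j * i = (i⁻¹ * j⁻¹ * i)⁻¹ := by group
        _ = j⁻¹ := by rw [hij]
    have fin : ∀ q ∈ Q, q⁻¹ * ((n : G) * i * (n : G)⁻¹) * q = i →
        q⁻¹ * ((n : G) * j * (n : G)⁻¹) * q = j → (n : G) ∈ Q ⊔ Subgroup.centralizer (Q : Set G) := by
      intro q hq h1 h2
      have hc : q⁻¹ * (n : G) ∈ Subgroup.centralizer (Q : Set G) := by
        apply key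
        · calc q⁻¹ * (n : G) * i * (q⁻¹ * (n : G))⁻¹ = q⁻¹ * ((n : G) * i * (n : G)⁻¹) * q := by group
            _ = i := h1
        · calc q⁻¹ * (n : G) * j * (q⁻¹ * (n : G))⁻¹ = q⁻¹ * ((n : G) * j * (n : G)⁻¹) * q := by group
            _ = j := h2
      have := mul_mem (Subgroup.mem_sup_left (T := Subgroup.centralizer (Q : Set G)) hq)
        (Subgroup.mem_sup_right hc)
      rwa [mul_inv_cancel_left] at this
    rcases hfix i hi oi with h1 | h1 <;> rcases hfix j hj oj with h2 | h2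
    · exact fin 1 Q.one_mem (by simp [h1]) (by simp [h2])
    · exact fin i hi (by rw [h1]; group) (by rw [h2, hij])
    · exact fin j hj (by rw [h1, hji]) (by rw [h2]; group)
    · refine fin (i * j) (Q.mul_mem hi hj) ?_ ?_
      · rw [h1, mul_inv_rev]
        calc j⁻¹ * i⁻¹ * i⁻¹ * (i * j) = j⁻¹ * i⁻¹ * j := by group
          _ = i := hji
      · rw [h2, mul_inv_rev]
        calc j⁻¹ * i⁻¹ * j⁻¹ * (i * j) = j⁻¹ * (i⁻¹ * j⁻¹ * i) * j := by group
          _ = j := by rw [hij]; group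
  · intro hn C
    have hle : Q ⊔ Subgroup.centralizer (Q : Set G) ≤
        Subgroup.normalizer (C.1 : Set G) := by
      refine sup_le ?_ ?_
      · haveI : (C.1.subgroupOf Q).Normal := by
          refine Subgroup.normal_of_index_eq_two ?_
          have h1 := (C.1.subgroupOf Q).card_mul_index
          rw [Nat.card_congr (Subgroup.subgroupOfEquivOfLe C.2.1).toEquiv, C.2.2,
            Nat.card_congr e.toEquiv, Nat.card_eq_fintype_card, QuaternionGroup.card] at h1
          omega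
        exact Subgroup.le_normalizer_of_normal_subgroupOf C.2.1
      · refine Subgroup.le_normalizer_iff.2 fun c hc v hv => ?_
        rw [← (Subgroup.mem_centralizer_iff.1 hc v (C.2.1 hv)), mul_inv_cancel_right]
        exact hv
    exact Subtype.ext (map_conj_eq_iff_mem_normalizer.2 (hle hn))

theorem quat_relIndex_dvd_six [Finite G] {Q : Subgroup G} (e : Q ≃* QuaternionGroup 2) :
    (Q ⊔ Subgroup.centralizer (Q : Set G)).relIndex (Subgroup.normalizer (Q : Set G)) ∣ 6 := by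
  rw [Subgroup.relIndex, ← threeKer_quat e]
  exact three_index_dvd_six (natCard_quatPts e)

theorem quat_relIndex_eq_six [Finite G] {Q : Subgroup G} (e : Q ≃* QuaternionGroup 2) {n₁ n₂ : G}
    (hn₁ : n₁ ∈ Subgroup.normalizer (Q : Set G)) (hn₂ : n₂ ∈ Subgroup.normalizer (Q : Set G))
    {v v' : G} (hv : v ∈ Q) (hv' : v' ∈ Q) (ho : orderOf v = 4) (ho' : orderOf v' = 4)
    (h₁ : n₁ * v * n₁⁻¹ ∉ Subgroup.zpowers v) (h₂ : n₂ * v * n₂⁻¹ ∈ Subgroup.zpowers v)
    (h₂' : n₂ * v' * n₂⁻¹ ∉ Subgroup.zpowers v') :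
    (Q ⊔ Subgroup.centralizer (Q : Set G)).relIndex (Subgroup.normalizer (Q : Set G)) = 6 := by
  rw [Subgroup.relIndex, ← threeKer_quat e]
  refine three_index_eq_six (natCard_quatPts e) (g₁ := ⟨n₁, hn₁⟩) (g₂ := ⟨n₂, hn₂⟩)
    (x := ⟨_, Subgroup.zpowers_le.2 hv, by rw [Nat.card_zpowers, ho]⟩)
    (y := ⟨_, Subgroup.zpowers_le.2 hv', by rw [Nat.card_zpowers, ho']⟩) ?_ ?_ ?_
  · exact fun h => h₁ ((congrArg Subtype.val h :).le (conj_mem_map_conj (Subgroup.mem_zpowers v)))
  · refine Subtype.ext ?_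
    refine Subgroup.eq_of_le_of_card_ge ?_ (natCard_map_conj n₂ _).ge
    show (Subgroup.zpowers v).map (MulAut.conj n₂).toMonoidHom ≤ Subgroup.zpowers v
    rw [MonoidHom.map_zpowers, Subgroup.zpowers_le]
    exact h₂
  · exact fun h => h₂' ((congrArg Subtype.val h :).le (conj_mem_map_conj (Subgroup.mem_zpowers v')))

/-- An element of odd order permuting the cyclic subgroups of order 4 transitively. -/
theorem quat_exists_odd [Finite G] {Q : Subgroup G} (e : Q ≃* QuaternionGroup 2)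
    (h : 3 ∣ (Q ⊔ Subgroup.centralizer (Q : Set G)).relIndex (Subgroup.normalizer (Q : Set G))) :
    ∃ g ∈ Subgroup.normalizer (Q : Set G), Odd (orderOf g) ∧
      (∀ v ∈ Q, orderOf v = 4 → g * v * g⁻¹ ∉ Subgroup.zpowers v) ∧
      ∀ v ∈ Q, ∀ v' ∈ Q, orderOf v = 4 → orderOf v' = 4 →
        ∃ k : ℕ, g ^ k * v * (g ^ k)⁻¹ = v' ∨ g ^ k * v * (g ^ k)⁻¹ = v'⁻¹ := by
  rw [Subgroup.relIndex, ← threeKer_quat e] at h
  obtain ⟨g, hg, x, hx⟩ := three_exists_odd_mover h
  have hc := natCard_quatPts e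
  let pt : ∀ v ∈ Q, orderOf v = 4 → QuatPts Q := fun v hv ho =>
    ⟨_, Subgroup.zpowers_le.2 hv, by rw [Nat.card_zpowers, ho]⟩
  have hmove : ∀ y : QuatPts Q, g • y ≠ y := fun y hy => hx (three_odd_fix_all hc hg hy x)
  refine ⟨g, g.2, by rwa [Subgroup.orderOf_coe], fun v hv ho hfix => hmove (pt v hv ho) ?_,
    fun v hv v' hv' ho ho' => ?_⟩
  · refine Subtype.ext ?_
    refine Subgroup.eq_of_le_of_card_ge ?_ (natCard_map_conj (g : G) _).ge
    show (Subgroup.zpowers v).map (MulAut.conj (g : G)).toMonoidHom ≤ Subgroup.zpowers v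
    rw [MonoidHom.map_zpowers, Subgroup.zpowers_le]
    exact hfix
  · obtain ⟨k, hk⟩ := three_odd_transitive hc hg (hmove (pt v hv ho)) (pt v' hv' ho')
    refine ⟨k, zpowers_order_four ho' ?_ ?_⟩
    · have h1 : (Subgroup.zpowers v).map (MulAut.conj ((g ^ k : Subgroup.normalizer (Q : Set G)) : G)).toMonoidHom
          = Subgroup.zpowers v' := congrArg Subtype.val hk
      have h2 := h1.le (conj_mem_map_conj (Subgroup.mem_zpowers v))
      simpa using h2
    · rw [show (g : G) ^ k * v * ((g : G) ^ k)⁻¹ = MulAut.conj ((g : G) ^ k) v from rfl,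
        MulEquiv.orderOf_eq, ho]

end CfsgLib.TwoGroups
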