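import Mathlib
import Cfsg.Agent.Lib.TwoGroups.Closed

/-!
Sylow subgroups of subgroups, phrased with subgroups of the ambient group.
-/

set_option autoImplicit false

namespace CfsgLib.TwoGroups

variable {G : Type*} [Group G] [Finite G] {p : ℕ} [Fact p.Prime]

omit [Fact p.Prime] [Finite G] in
theorem subgroup_map_subgroupOf_le {A B : Subgroup G} (h : A ≤ B) {C : Subgroup G}
    {k : B} (hk : (A.subgroupOf B).map (MulAut.conj k).toMonoidHom ≤ C.subgroupOf B) :
    A.map (MulAut.conj (k : G)).toMonoidHom ≤ C := by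
  rintro _ ⟨a, ha, rfl⟩
  have h1 := hk (conj_mem_map_conj (g := k) (x := ⟨a, h ha⟩) (Subgroup.mem_subgroupOf.2 ha))
  simpa [Subgroup.mem_subgroupOf] using h1

/-- A maximal `p`-subgroup of `N` contains a conjugate, under `N`, of every `p`-subgroup of `N`. -/
theorem exists_conj_le_of_maximal {N T : Subgroup G} (hTN : T ≤ N) (hT : IsPGroup p T)
    (hmax : ∀ P : Subgroup G, P ≤ N → IsPGroup p P → T ≤ P → Nat.card P ≤ Nat.card T)
    {Q : Subgroup G} (hQN : Q ≤ N) (hQ : IsPGroup p Q) :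
    ∃ k ∈ N, Q.map (MulAut.conj k).toMonoidHom ≤ T := by
  have hT' : IsPGroup p (T.subgroupOf N) := hT.comap_of_injective N.subtype N.subtype_injective
  have hQ' : IsPGroup p (Q.subgroupOf N) := hQ.comap_of_injective N.subtype N.subtype_injective
  obtain ⟨P, hP⟩ := hT'.exists_le_sylow
  have hTP : T ≤ (P : Subgroup N).map N.subtype := fun x hx => ⟨⟨x, hTN hx⟩, hP hx, rfl⟩
  have heq : T = (P : Subgroup N).map N.subtype := Subgroup.eq_of_le_of_card_ge hTP
    (hmax _ (Subgroup.map_subtype_le _) (P.2.map _) hTP)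
  obtain ⟨k, hk⟩ := exists_conj_le_sylow P hQ'
  refine ⟨k, k.2, subgroup_map_subgroupOf_le hQN ?_⟩
  have hc : T.subgroupOf N = (P : Subgroup N) := by
    rw [heq]; exact Subgroup.comap_map_eq_self_of_injective N.subtype_injective _
  rwa [hc]

omit [Fact p.Prime] [Finite G] in
/-- The elements of `p`-power order normalising a Sylow subgroup lie in it. -/
theorem mem_sylow_of_mem_normalizer (S : Sylow p G) {g : G}
    (hg : g ∈ Subgroup.normalizer ((S : Subgroup G) : Set G)) (h : ∃ k : ℕ, g ^ p ^ k = 1) :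
    g ∈ (S : Subgroup G) := by
  have h1 : IsPGroup p (Subgroup.zpowers g) := by
    intro a
    obtain ⟨k, hk⟩ := h
    obtain ⟨j, hj⟩ := Subgroup.mem_zpowers_iff.1 a.2
    refine ⟨k, Subtype.ext ?_⟩
    push_cast
    rw [← hj, ← zpow_natCast, zpow_comm, zpow_natCast, hk, one_zpow]
  have h2 := IsPGroup.to_sup_of_normal_right' h1 S.2
    (Subgroup.zpowers_le.2 hg)
  exact (S.3 h2 le_sup_right).le (Subgroup.mem_sup_left (Subgroup.mem_zpowers g))

/-- If `t` is conjugate to an element `c` centralised by the Sylow subgroup `S`, every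
`p`-subgroup centralising `t` can be moved into `S` with `t` going to `c`. -/
theorem exists_conj_le_sylow_of_isConj (S : Sylow p G) {c t : G}
    (hS : (S : Subgroup G) ≤ Subgroup.centralizer {c}) {g : G} (hg : g * t * g⁻¹ = c)
    {A : Subgroup G} (hA : IsPGroup p A) (hAt : A ≤ Subgroup.centralizer {t}) :
    ∃ x : G, x * t * x⁻¹ = c ∧ A.map (MulAut.conj x).toMonoidHom ≤ (S : Subgroup G) := by
  have hAc : A.map (MulAut.conj g).toMonoidHom ≤ Subgroup.centralizer {c} := by
    rintro _ ⟨a, ha, rfl⟩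
    rw [Subgroup.mem_centralizer_singleton_iff, ← hg]
    show g * a * g⁻¹ * (g * t * g⁻¹) = g * t * g⁻¹ * (g * a * g⁻¹)
    have := Subgroup.mem_centralizer_singleton_iff.1 (hAt ha)
    calc g * a * g⁻¹ * (g * t * g⁻¹) = g * (a * t) * g⁻¹ := by group
      _ = g * (t * a) * g⁻¹ := by rw [this]
      _ = g * t * g⁻¹ * (g * a * g⁻¹) := by group
  obtain ⟨k, hk, hk'⟩ := exists_conj_le_of_maximal hS S.2
    (fun P _ hP hle => (Nat.card_mono (Set.toFinite _) (show (P : Set G) ⊆ ((S : Subgroup G) : Set G) from (S.3 hP hle).le))) hAc (hA.map _)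
  refine ⟨k * g, ?_, by rwa [map_conj_mul]⟩
  calc k * g * t * (k * g)⁻¹ = k * (g * t * g⁻¹) * k⁻¹ := by group
    _ = k * c * k⁻¹ := by rw [hg]
    _ = c := by rw [Subgroup.mem_centralizer_singleton_iff.1 hk, mul_inv_cancel_right]

end CfsgLib.TwoGroups
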