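import Mathlib
import Cfsg.Agent.Lib.TwoGroups.LocalSylow
import Cfsg.Agent.Lib.TwoGroups.FusionTools
import Cfsg.Agent.Lib.Transfer.PResidual
import Cfsg.Agent.Lib.Char.Exceptional.Quaternion

/-!
A Sylow subgroup given as the image of a model group, and subgroups of relative index two.
-/

set_option autoImplicit false

namespace CfsgLib.TwoGroups

variable {G P : Type*} [Group G] [Group P]

theorem map_conj_map_hom (f : P →* G) (g : P) (H : Subgroup P) :
    (H.map f).map (MulAut.conj (f g)).toMonoidHom = (H.map (MulAut.conj g).toMonoidHom).map f := by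
  rw [Subgroup.map_map, Subgroup.map_map]
  congr 1
  ext v
  simp

theorem mem_normalizer_map_iff {f : P →* G} (hf : Function.Injective f) {H : Subgroup P} {g : P} :
    f g ∈ Subgroup.normalizer ((H.map f : Subgroup G) : Set G) ↔
      g ∈ Subgroup.normalizer (H : Set P) := by
  constructor
  · intro h
    refine Subgroup.mem_normalizer_iff.2 fun v => ?_
    rw [← Subgroup.mem_map_iff_mem hf (K := H), ← Subgroup.mem_map_iff_mem hf (K := H) (x := g * v * g⁻¹),
      map_mul, map_mul, map_inv]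
    exact Subgroup.mem_normalizer_iff.1 h (f v)
  · intro h
    rw [← map_conj_eq_iff_mem_normalizer, map_conj_map_hom, map_conj_eq_iff_mem_normalizer.2 h]

/-- A subgroup of the image is the image of a subgroup isomorphic to it. -/
theorem exists_map_eq_of_le_range {f : P →* G} (hf : Function.Injective f) {A : Subgroup G}
    (hA : A ≤ f.range) : ∃ B : Subgroup P, B.map f = A ∧ Nonempty (B ≃* A) :=
  ⟨A.comap f, Subgroup.map_comap_eq_self hA,
    ⟨((A.comap f).equivMapOfInjective f hf).trans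
      (MulEquiv.subgroupCongr (Subgroup.map_comap_eq_self hA))⟩⟩

theorem isKleinFour_of_mulEquiv {A B : Type*} [Group A] [Group B] (e : A ≃* B) (h : IsKleinFour B) :
    IsKleinFour A := by
  haveI := h
  exact ⟨by rw [Nat.card_congr e.toEquiv, IsKleinFour.card_four],
    by rw [Monoid.exponent_eq_of_mulEquiv e, IsKleinFour.exponent_two]⟩

/-- If `A` normalises `B` and `g` carries `B` to `C`, then `A` can be moved into a Sylow subgroup
normalising `C` while `B` still goes to `C`. -/
theorem exists_conj_le_sylow_of_map_conj [Finite G] {p : ℕ} [Fact p.Prime] (S : Sylow p G)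
    {B C : Subgroup G} (hS : (S : Subgroup G) ≤ Subgroup.normalizer (C : Set G)) {g : G}
    (hg : B.map (MulAut.conj g).toMonoidHom = C) {A : Subgroup G} (hA : IsPGroup p A)
    (hAB : A ≤ Subgroup.normalizer (B : Set G)) :
    ∃ x : G, B.map (MulAut.conj x).toMonoidHom = C ∧
      A.map (MulAut.conj x).toMonoidHom ≤ (S : Subgroup G) := by
  have hAC : A.map (MulAut.conj g).toMonoidHom ≤ Subgroup.normalizer (C : Set G) := by
    rintro _ ⟨a, ha, rfl⟩
    rw [← map_conj_eq_iff_mem_normalizer, ← hg, ← map_conj_mul]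
    show B.map (MulAut.conj (g * a * g⁻¹ * g)).toMonoidHom = _
    rw [inv_mul_cancel_right, map_conj_mul, map_conj_eq_iff_mem_normalizer.2 (hAB ha)]
  obtain ⟨k, hk, hk'⟩ := exists_conj_le_of_maximal hS S.2
    (fun Q _ hQ hle => Nat.card_mono (Set.toFinite _)
      (show (Q : Set G) ⊆ ((S : Subgroup G) : Set G) from (S.3 hQ hle).le)) hAC (hA.map _)
  exact ⟨k * g, by rw [map_conj_mul, hg, map_conj_eq_iff_mem_normalizer.2 hk],
    by rwa [map_conj_mul]⟩

section Model

variable [Finite G] {S : Sylow 2 G} {f : P →* G} (hf : Function.Injective f)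
  (hS : f.range = (S : Subgroup G))

/-- The isomorphism of the Sylow subgroup with the model. -/
noncomputable def modelEquiv : (S : Subgroup G) ≃* P :=
  ((MonoidHom.ofInjective hf).trans (MulEquiv.subgroupCongr hS)).symm

omit [Finite G] in
theorem apply_modelEquiv (u : (S : Subgroup G)) : f (modelEquiv hf hS u) = (u : G) :=
  congrArg Subtype.val
    (((MonoidHom.ofInjective hf).trans (MulEquiv.subgroupCongr hS)).apply_symm_apply u)

include hf hS in
/-- The normal subgroup attached to an invariant homomorphism of the model. -/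
theorem exists_normal_of_model {A : Type*} [CommGroup A] (hA : IsPGroup 2 A) (φ : P →* A)
    (hsurj : Function.Surjective φ) (hinv : ∀ u v : P, IsConj (f u) (f v) → φ u = φ v) :
    ∃ K : Subgroup G, K.Normal ∧ K.index = Nat.card A ∧ (∀ u : P, f u ∈ K ↔ φ u = 1) ∧
      (∀ R : Sylow 2 K, Nonempty ((R : Subgroup K) ≃* φ.ker)) ∧
      ∀ g : G, Odd (orderOf g) → g ∈ K := by
  obtain ⟨K, hKn, hKi, hKm, hKS, hKodd⟩ := exists_normal_of_fusion_invariant S hA
    (φ.comp (modelEquiv hf hS).toMonoidHom) (hsurj.comp (modelEquiv hf hS).surjective)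
    (fun u v huv => hinv _ _ (isConj_iff.2 (by
      obtain ⟨g, hg⟩ := huv
      exact ⟨g, by simp only [MulEquiv.coe_toMonoidHom]; rw [apply_modelEquiv, apply_modelEquiv, hg]⟩)))
  refine ⟨K, hKn, hKi, fun u => ?_, fun R => ?_, fun g hg => hKodd g (Nat.coprime_two_right.2 hg)⟩
  · constructor
    · intro hu
      obtain ⟨w, hw, hwu⟩ := hKm.le ⟨hS ▸ ⟨u, rfl⟩, hu⟩
      have hwu' : f (modelEquiv hf hS w) = f u := (apply_modelEquiv hf hS w).trans hwu
      rw [← hf hwu']
      exact hw
    · intro hu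
      refine (hKm.ge ⟨(modelEquiv hf hS).symm u, ?_, ?_⟩).2
      · show φ (modelEquiv hf hS ((modelEquiv hf hS).symm u)) = 1
        rw [MulEquiv.apply_symm_apply, hu]
      · show (((modelEquiv hf hS).symm u : (S : Subgroup G)) : G) = f u
        rw [← apply_modelEquiv hf hS, MulEquiv.apply_symm_apply]
  · obtain ⟨e⟩ := hKS R
    let ψ : (φ.comp (modelEquiv hf hS).toMonoidHom).ker →* φ.ker :=
      { toFun := fun u => ⟨modelEquiv hf hS u.1, u.2⟩
        map_one' := Subtype.ext (map_one _)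
        map_mul' := fun a b => Subtype.ext (map_mul _ _ _) }
    refine ⟨e.trans (MulEquiv.ofBijective ψ ⟨fun a b hab =>
      Subtype.ext ((modelEquiv hf hS).injective (congrArg Subtype.val hab :)), fun v =>
      ⟨⟨(modelEquiv hf hS).symm v.1, by
        show φ (modelEquiv hf hS ((modelEquiv hf hS).symm v.1)) = 1
        rw [MulEquiv.apply_symm_apply]; exact v.2⟩, Subtype.ext (MulEquiv.apply_symm_apply _ _)⟩⟩)⟩

include hf hS in
/-- An invariant homomorphism with cyclic kernel gives a normal complement. -/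
theorem complement_of_model {A : Type*} [CommGroup A] (hA : IsPGroup 2 A) (φ : P →* A)
    (hsurj : Function.Surjective φ) (hcyc : IsCyclic φ.ker)
    (hinv : ∀ u v : P, IsConj (f u) (f v) → φ u = φ v) : Cfsg.HasNormalPComplement 2 G := by
  obtain ⟨K, hKn, hKi, -, hKS, -⟩ := exists_normal_of_model hf hS hA φ hsurj hinv
  obtain ⟨R⟩ : Nonempty (Sylow 2 K) := inferInstance
  obtain ⟨eR⟩ := hKS R
  have hRc : IsCyclic (R : Subgroup K) := eR.isCyclic.2 hcyc
  obtain ⟨K', hK'odd, hsup, hK'mem⟩ :=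
    CfsgLib.Char.Exceptional.exists_odd_complement_of_cyclic R hRc
  haveI : K'.Normal := ⟨fun x hx g => by
    rw [hK'mem] at hx ⊢
    rwa [show g * x * g⁻¹ = MulAut.conj g x from rfl, MulEquiv.orderOf_eq]⟩
  set M := K'.map K.subtype with hM
  have hMK : M ≤ K := Subgroup.map_subtype_le _
  have hmem : ∀ x ∈ K, x ∈ M ↔ Odd (orderOf x) := by
    intro x hx
    rw [show orderOf x = orderOf (⟨x, hx⟩ : K) from Subgroup.orderOf_coe ⟨x, hx⟩, ← hK'mem]
    exact ⟨fun ⟨y, hy, hyx⟩ => by rwa [← show y = ⟨x, hx⟩ from Subtype.ext hyx],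
      fun hy => ⟨⟨x, hx⟩, hy, rfl⟩⟩
  haveI hMn : M.Normal := ⟨fun x hx g => by
    rw [hmem _ (hKn.conj_mem x (hMK hx) g)]
    have := (hmem x (hMK hx)).1 hx
    rwa [show g * x * g⁻¹ = MulAut.conj g x from rfl, MulEquiv.orderOf_eq]⟩
  refine CfsgLib.Transfer.hasNormalPComplement_iff_exists.2 ⟨M, hMn, ?_, ?_⟩
  · rw [hM, Subgroup.card_map_of_injective K.subtype_injective]
    exact Nat.coprime_two_right.2 hK'odd
  · have hdvd : K'.index ∣ Nat.card (R : Subgroup K) := by
      rw [← Subgroup.relIndex_top_right, ← hsup, Subgroup.relIndex_sup_left]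
      exact Subgroup.relIndex_dvd_card _ _
    obtain ⟨e, he⟩ := IsPGroup.iff_card.1 R.2
    obtain ⟨d, -, hd⟩ := (Nat.dvd_prime_pow Nat.prime_two).1 (he ▸ hdvd)
    obtain ⟨a, ha⟩ : ∃ a, Nat.card A = 2 ^ a := by
      haveI : Finite A := Finite.of_surjective _ (hsurj.comp (modelEquiv hf hS).surjective)
      exact IsPGroup.iff_card.1 hA
    refine IsPGroup.of_card (n := d + a) ?_
    rw [← Subgroup.index_eq_card, hM, Subgroup.index_map_subtype, hd, hKi, ha, pow_add]

include hf hS in
/-- A subgroup containing the Sylow part of a normal subgroup does not have index two in it. -/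
theorem relIndex_ne_two_of_model {K H : Subgroup G} [K.Normal]
    (h : ∀ u : P, f u ∈ K → f u ∈ H) : H.relIndex K ≠ 2 := by
  intro h2
  have hle : (S : Subgroup G).subgroupOf K ≤ H.subgroupOf K := by
    intro x hx
    obtain ⟨u, hu⟩ := (hS.ge hx : (x : G) ∈ f.range)
    rw [Subgroup.mem_subgroupOf, ← hu]
    exact h u (hu ▸ x.2)
  have h3 : 2 ∣ ((S : Subgroup G).subgroupOf K).index := by
    have := Subgroup.index_dvd_of_le hle
    rwa [show (H.subgroupOf K).index = H.relIndex K from rfl, h2] at this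
  exact S.not_dvd_index
    (h3.trans (ClassSizes.relIndex_dvd_index_of_normal_right K (S : Subgroup G)))

end Model

/-! ### Relative index two -/

theorem mul_mem_iff_of_relIndex_two {H K : Subgroup G} (h : H.relIndex K = 2) {a b : G}
    (ha : a ∈ K) (hb : b ∈ K) : a * b ∈ H ↔ (a ∈ H ↔ b ∈ H) :=
  Subgroup.mul_mem_iff_of_index_two (H := H.subgroupOf K) h (a := ⟨a, ha⟩) (b := ⟨b, hb⟩)

theorem conj_mem_iff_of_relIndex_two {H K : Subgroup G} (h : H.relIndex K = 2) {k x : G}
    (hk : k ∈ K) (hx : x ∈ K) : k * x * k⁻¹ ∈ H ↔ x ∈ H :=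
  mem_iff_conj_of_index_two (H := H.subgroupOf K) h ⟨k, hk⟩ ⟨x, hx⟩

/-- Two elements that are linked to each other and to their product by conjugation inside `K`
lie in every subgroup of index two of `K`. -/
theorem pair_mem_of_relIndex_two {H K : Subgroup G} (h : H.relIndex K = 2) {a b : G}
    (ha : a ∈ K) (hb : b ∈ K) (hab : ∃ k ∈ K, k * a * k⁻¹ = b ∨ k * a * k⁻¹ = b⁻¹)
    (hab' : ∃ k ∈ K, k * a * k⁻¹ = a * b ∨ k * a * k⁻¹ = (a * b)⁻¹) : a ∈ H ∧ b ∈ H := by
  have e1 : a ∈ H ↔ b ∈ H := by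
    obtain ⟨k, hk, e | e⟩ := hab <;> rw [← conj_mem_iff_of_relIndex_two h hk ha, e]
    exact H.inv_mem_iff
  have e2 : a ∈ H ↔ a * b ∈ H := by
    obtain ⟨k, hk, e | e⟩ := hab' <;> rw [← conj_mem_iff_of_relIndex_two h hk ha, e]
    exact H.inv_mem_iff
  have e3 := mul_mem_iff_of_relIndex_two h ha hb
  tauto

end CfsgLib.TwoGroups
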