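import Mathlib

/-!
Arithmetic in `ZMod (2 ^ n)`: the element `half = 2^(n-1)`, parity, halving.
-/

set_option autoImplicit false

namespace CfsgLib.TwoGroups

/-- `2^(n-1)` in `ZMod (2^n)`. -/
def half (n : ℕ) : ZMod (2 ^ n) := ((2 ^ (n - 1) : ℕ) : ZMod (2 ^ n))

/-- `2^(n-2)` in `ZMod (2^n)`. -/
def quarter (n : ℕ) : ZMod (2 ^ n) := ((2 ^ (n - 2) : ℕ) : ZMod (2 ^ n))

variable {n : ℕ}

theorem half_add_half (hn : 1 ≤ n) : half n + half n = 0 := by
  rw [half, ← Nat.cast_add, ← two_mul, ← pow_succ', Nat.sub_add_cancel hn, ZMod.natCast_self]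

theorem half_ne_zero (hn : 1 ≤ n) : half n ≠ 0 := by
  rw [half, Ne, ZMod.natCast_eq_zero_iff, Nat.pow_dvd_pow_iff_le_right one_lt_two]
  omega

theorem neg_half (hn : 1 ≤ n) : -half n = half n :=
  neg_eq_of_add_eq_zero_left (half_add_half hn)

theorem quarter_add_quarter (hn : 2 ≤ n) : quarter n + quarter n = half n := by
  rw [quarter, half, ← Nat.cast_add, ← two_mul, ← pow_succ']
  congr 2
  omega

theorem quarter_ne_zero (hn : 2 ≤ n) : quarter n ≠ 0 := fun h =>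
  half_ne_zero (by omega : 1 ≤ n) (by rw [← quarter_add_quarter hn, h, add_zero])

theorem quarter_ne_half (hn : 2 ≤ n) : quarter n ≠ half n := fun h =>
  half_ne_zero (by omega : 1 ≤ n)
    (by rw [← quarter_add_quarter hn, h, half_add_half (by omega)])

theorem neg_quarter (hn : 2 ≤ n) : -quarter n = quarter n + half n := by
  rw [neg_eq_iff_add_eq_zero, ← add_assoc, quarter_add_quarter hn, half_add_half (by omega)]

theorem neg_quarter_ne (hn : 2 ≤ n) : -quarter n ≠ quarter n := by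
  rw [neg_quarter hn]
  exact fun h => half_ne_zero (by omega : 1 ≤ n) (add_eq_left.1 h)

theorem exists_two_mul (a : ZMod (2 ^ n)) : ∃ c : ZMod (2 ^ n), a = 2 * c ∨ a = 2 * c + 1 := by
  haveI : NeZero (2 ^ n) := ⟨pow_ne_zero _ two_ne_zero⟩
  rcases Nat.even_or_odd' a.val with ⟨c, h | h⟩
  · exact ⟨c, Or.inl (by rw [← ZMod.natCast_zmod_val a, h]; push_cast; ring)⟩
  · exact ⟨c, Or.inr (by rw [← ZMod.natCast_zmod_val a, h]; push_cast; ring)⟩

theorem two_mul_eq_zero (hn : 1 ≤ n) {a : ZMod (2 ^ n)} (ha : 2 * a = 0) :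
    a = 0 ∨ a = half n := by
  haveI : NeZero (2 ^ n) := ⟨pow_ne_zero _ two_ne_zero⟩
  have h0 : ((2 * a.val : ℕ) : ZMod (2 ^ n)) = 0 := by
    push_cast; rw [ZMod.natCast_zmod_val, ha]
  rw [ZMod.natCast_eq_zero_iff] at h0
  have hlt : a.val < 2 ^ n := a.val_lt
  have he : 2 ^ n = 2 * 2 ^ (n - 1) := by rw [← pow_succ', Nat.sub_add_cancel hn]
  generalize hv : a.val = v at hlt h0
  rw [he] at hlt h0
  obtain ⟨k, hk⟩ := (Nat.mul_dvd_mul_iff_left two_pos).1 h0
  have hk2 : k < 2 := by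
    by_contra h
    push_neg at h
    nlinarith
  rw [← ZMod.natCast_zmod_val a, hv, hk]
  interval_cases k <;> simp [half]

theorem two_mul_eq_zero_iff (hn : 1 ≤ n) {a : ZMod (2 ^ n)} :
    2 * a = 0 ↔ a = 0 ∨ a = half n := by
  refine ⟨two_mul_eq_zero hn, ?_⟩
  rintro (rfl | rfl)
  · rw [mul_zero]
  · rw [two_mul, half_add_half hn]

theorem two_mul_eq_half (hn : 2 ≤ n) {a : ZMod (2 ^ n)} (ha : 2 * a = half n) :
    a = quarter n ∨ a = -quarter n := by
  have h : 2 * (a - quarter n) = 0 := by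
    rw [mul_sub, ha, two_mul, quarter_add_quarter hn, sub_self]
  rcases two_mul_eq_zero (by omega) h with h | h
  · exact Or.inl (sub_eq_zero.1 h)
  · right; rw [neg_quarter hn, ← h, add_sub_cancel]

theorem half_mul_two (hn : 1 ≤ n) (c : ZMod (2 ^ n)) : half n * (2 * c) = 0 := by
  rw [← mul_assoc, mul_two, half_add_half hn, zero_mul]

theorem half_mul_two_add_one (hn : 1 ≤ n) (c : ZMod (2 ^ n)) : half n * (2 * c + 1) = half n := by
  rw [mul_add, half_mul_two hn, zero_add, mul_one]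

theorem half_mul_eq (hn : 1 ≤ n) (a : ZMod (2 ^ n)) : half n * a = 0 ∨ half n * a = half n := by
  obtain ⟨c, rfl | rfl⟩ := exists_two_mul a
  · exact Or.inl (half_mul_two hn c)
  · exact Or.inr (half_mul_two_add_one hn c)

theorem half_mul_eq_zero_iff (hn : 1 ≤ n) {a : ZMod (2 ^ n)} :
    half n * a = 0 ↔ ∃ c, a = 2 * c := by
  refine ⟨fun h => ?_, ?_⟩
  · obtain ⟨c, rfl | rfl⟩ := exists_two_mul a
    · exact ⟨c, rfl⟩
    · rw [half_mul_two_add_one hn] at h
      exact absurd h (half_ne_zero hn)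
  · rintro ⟨c, rfl⟩
    exact half_mul_two hn c

theorem half_mul_eq_half_iff (hn : 1 ≤ n) {a : ZMod (2 ^ n)} :
    half n * a = half n ↔ ∃ c, a = 2 * c + 1 := by
  refine ⟨fun h => ?_, ?_⟩
  · obtain ⟨c, rfl | rfl⟩ := exists_two_mul a
    · rw [half_mul_two hn] at h
      exact absurd h.symm (half_ne_zero hn)
    · exact ⟨c, rfl⟩
  · rintro ⟨c, rfl⟩
    exact half_mul_two_add_one hn c

theorem two_mul_add_one_ne (hn : 1 ≤ n) (c d : ZMod (2 ^ n)) : 2 * c + 1 ≠ 2 * d := fun h =>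
  half_ne_zero hn (by rw [← half_mul_two_add_one hn c, h, half_mul_two hn])

theorem exists_two_mul_half (hn : 2 ≤ n) : ∃ c, half n = 2 * c :=
  ⟨quarter n, by rw [two_mul, quarter_add_quarter hn]⟩

theorem half_mul_half (hn : 2 ≤ n) : half n * half n = 0 := by
  obtain ⟨c, hc⟩ := exists_two_mul_half hn
  nth_rewrite 2 [hc]
  exact half_mul_two (by omega) c

theorem exists_two_mul_quarter (hn : 3 ≤ n) : ∃ c, quarter n = 2 * c := by
  refine ⟨((2 ^ (n - 3) : ℕ) : ZMod (2 ^ n)), ?_⟩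
  rw [quarter, show n - 2 = n - 3 + 1 by omega, pow_succ']
  push_cast; ring

theorem two_isNilpotent : IsNilpotent (2 : ZMod (2 ^ n)) := by
  refine ⟨n, ?_⟩
  have h := ZMod.natCast_self (2 ^ n)
  push_cast at h
  exact h

theorem isUnit_one_sub_quarter (hn : 3 ≤ n) : IsUnit (1 - quarter n) := by
  obtain ⟨c, hc⟩ := exists_two_mul_quarter hn
  rw [hc]
  exact IsNilpotent.isUnit_one_sub ((Commute.all _ c).isNilpotent_mul_right two_isNilpotent)

theorem isUnit_two_mul_add_one (c : ZMod (2 ^ n)) : IsUnit (2 * c + 1) := by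
  have h : IsNilpotent (2 * -c : ZMod (2 ^ n)) :=
    (Commute.all _ _).isNilpotent_mul_right two_isNilpotent
  have := h.isUnit_one_sub
  rwa [mul_neg, sub_neg_eq_add, add_comm] at this

theorem addOrderOf_one_eq : addOrderOf (1 : ZMod (2 ^ n)) = 2 ^ n := ZMod.addOrderOf_one _

end CfsgLib.TwoGroups
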