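import Mathlib
import Cfsg.Agent.Lib.TwoGroups.ZModTwoPow
import Cfsg.Agent.Lib.TwoGroups.Closed

/-!
Dihedral groups of order `2^(n+1)`: the dihedral subgroups `lev j i` and their normalisers.
-/

set_option autoImplicit false

namespace CfsgLib.TwoGroups.Dihedral

open DihedralGroup

variable {n : ℕ}

/-- The subgroup of order `2^(j+1)` containing `sr i`. -/
def lev (j : ℕ) (i : ZMod (2 ^ n)) : Subgroup (DihedralGroup (2 ^ n)) where
  carrier := {g | match g with | .r t => 2 ^ j * t = 0 | .sr t => 2 ^ j * (t - i) = 0}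
  one_mem' := show 2 ^ j * (0 : ZMod (2 ^ n)) = 0 from mul_zero _
  mul_mem' := by
    rintro (a | a) (b | b) ha hb <;> simp only [Set.mem_ofPred_eq] at ha hb
    · show 2 ^ j * (a + b) = 0; linear_combination ha + hb
    · show 2 ^ j * (b - a - i) = 0; linear_combination hb - ha
    · show 2 ^ j * (a + b - i) = 0; linear_combination ha + hb
    · show 2 ^ j * (b - a) = 0; linear_combination hb - ha
  inv_mem' := by
    rintro (a | a) ha <;> simp only [Set.mem_ofPred_eq] at ha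
    · show 2 ^ j * (-a) = 0; linear_combination -ha
    · exact ha

theorem r_mem_lev {j : ℕ} {i t : ZMod (2 ^ n)} : r t ∈ lev j i ↔ 2 ^ j * t = 0 := Iff.rfl

theorem sr_mem_lev {j : ℕ} {i t : ZMod (2 ^ n)} : sr t ∈ lev j i ↔ 2 ^ j * (t - i) = 0 := Iff.rfl

theorem sr_mem_lev_self (j : ℕ) (i : ZMod (2 ^ n)) : sr i ∈ lev j i := by
  rw [sr_mem_lev, sub_self, mul_zero]

theorem two_mul_half (hn : 1 ≤ n) : 2 * half n = 0 := by rw [two_mul, half_add_half hn]

theorem two_pow_mul_half (hn : 1 ≤ n) {j : ℕ} (hj : 1 ≤ j) : 2 ^ j * half n = 0 := by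
  rw [show j = j - 1 + 1 by omega, pow_succ, mul_assoc, two_mul_half hn, mul_zero]

theorem r_half_mem_lev (hn : 1 ≤ n) {j : ℕ} (hj : 1 ≤ j) (i : ZMod (2 ^ n)) :
    r (half n) ∈ lev j i :=
  r_mem_lev.2 (two_pow_mul_half hn hj)

theorem lev_top (i : ZMod (2 ^ n)) : lev n i = ⊤ := by
  have h : (2 : ZMod (2 ^ n)) ^ n = 0 := by
    have h := ZMod.natCast_self (2 ^ n); push_cast at h; exact h
  refine eq_top_iff.2 ?_
  rintro (a | a) -
  · rw [r_mem_lev, h, zero_mul]
  · rw [sr_mem_lev, h, zero_mul]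

theorem conj_r_r (a b : ZMod (2 ^ n)) : r a * r b * (r a)⁻¹ = r b := by
  rw [inv_r, r_mul_r, r_mul_r]; congr 1; ring

theorem conj_r_sr (a b : ZMod (2 ^ n)) : r a * sr b * (r a)⁻¹ = sr (b - 2 * a) := by
  rw [inv_r, r_mul_sr, sr_mul_r]; congr 1; ring

theorem conj_sr_r (a b : ZMod (2 ^ n)) : sr a * r b * (sr a)⁻¹ = r (-b) := by
  rw [inv_sr, sr_mul_r, sr_mul_sr]; congr 1; ring

theorem conj_sr_sr (a b : ZMod (2 ^ n)) : sr a * sr b * (sr a)⁻¹ = sr (2 * a - b) := by
  rw [inv_sr, sr_mul_sr, r_mul_sr]; congr 1; ring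

theorem normalizer_lev (j : ℕ) (i : ZMod (2 ^ n)) :
    Subgroup.normalizer ((lev j i : Subgroup (DihedralGroup (2 ^ n))) :
      Set (DihedralGroup (2 ^ n))) = lev (j + 1) i := by
  refine le_antisymm (fun g hg => ?_) (Subgroup.le_normalizer_iff.2 fun g hg v hv => ?_)
  · have h1 := (Subgroup.mem_normalizer_iff.1 hg (sr i)).1 (sr_mem_lev_self j i)
    rcases g with a | a
    · rw [conj_r_sr, sr_mem_lev] at h1
      rw [r_mem_lev]; linear_combination -h1
    · rw [conj_sr_sr, sr_mem_lev] at h1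
      rw [sr_mem_lev]; linear_combination h1
  · rcases g with a | a <;> rcases v with b | b
    · rw [conj_r_r]; exact hv
    · rw [conj_r_sr, sr_mem_lev]
      linear_combination sr_mem_lev.1 hv - r_mem_lev.1 hg
    · rw [conj_sr_r, r_mem_lev]
      linear_combination -(r_mem_lev.1 hv)
    · rw [conj_sr_sr, sr_mem_lev]
      linear_combination sr_mem_lev.1 hg - sr_mem_lev.1 hv

theorem natCard_ker {j : ℕ} (hj : j ≤ n) :
    Nat.card {t : ZMod (2 ^ n) // 2 ^ j * t = 0} = 2 ^ j := by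
  haveI : NeZero (2 ^ n) := ⟨pow_ne_zero _ two_ne_zero⟩
  have h := IsAddCyclic.card_nsmulAddMonoidHom_ker (G := ZMod (2 ^ n)) (2 ^ j)
  rw [Nat.card_zmod, Nat.gcd_eq_right (Nat.pow_dvd_pow 2 hj)] at h
  refine (Nat.card_congr (Equiv.subtypeEquivRight fun t => ?_)).trans h
  rw [AddMonoidHom.mem_ker, nsmulAddMonoidHom_apply, nsmul_eq_mul]
  push_cast
  rfl

theorem natCard_lev {j : ℕ} (hj : j ≤ n) (i : ZMod (2 ^ n)) : Nat.card (lev j i) = 2 ^ (j + 1) := by
  let e : lev j i ≃ {t : ZMod (2 ^ n) // 2 ^ j * t = 0} ⊕ {t : ZMod (2 ^ n) // 2 ^ j * t = 0} :=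
    { toFun := fun g => match g with
        | ⟨.r t, h⟩ => Sum.inl ⟨t, h⟩
        | ⟨.sr t, h⟩ => Sum.inr ⟨t - i, h⟩
      invFun := fun s => match s with
        | Sum.inl t => ⟨r t.1, t.2⟩
        | Sum.inr t => ⟨sr (t.1 + i), by rw [sr_mem_lev, add_sub_cancel_right]; exact t.2⟩
      left_inv := by rintro ⟨t | t, h⟩ <;> simp
      right_inv := by rintro (⟨t, h⟩ | ⟨t, h⟩) <;> simp }
  haveI : NeZero (2 ^ n) := ⟨pow_ne_zero _ two_ne_zero⟩
  rw [Nat.card_congr e, Nat.card_sum, natCard_ker hj, pow_succ']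
  ring

theorem sq_eq_one_r (hn : 1 ≤ n) {t : ZMod (2 ^ n)} (h : r t * r t = 1) :
    r t = 1 ∨ t = half n := by
  rw [r_mul_r, one_def] at h
  rcases two_mul_eq_zero hn (a := t) (by rw [two_mul]; exact r.inj h) with h' | h'
  · exact Or.inl (by rw [h']; rfl)
  · exact Or.inr h'

/-- Dihedral subgroups are recognised by their order and two involutions. -/
theorem exists_eq_lev (hn : 1 ≤ n) {j : ℕ} (hj : j ≤ n) {H : Subgroup (DihedralGroup (2 ^ n))}
    (hcard : Nat.card H = 2 ^ (j + 1)) {a b : DihedralGroup (2 ^ n)} (ha : a ∈ H) (hb : b ∈ H)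
    (ha2 : a * a = 1) (hb2 : b * b = 1) (ha1 : a ≠ 1) (hb1 : b ≠ 1) (hab : a ≠ b) :
    ∃ i, H = lev j i := by
  haveI : NeZero (2 ^ n) := ⟨pow_ne_zero _ two_ne_zero⟩
  obtain ⟨i, hi⟩ : ∃ i, sr i ∈ H := by
    rcases a with a | a
    · rcases b with b | b
      · exfalso
        rcases sq_eq_one_r hn ha2 with h | h
        · exact ha1 h
        rcases sq_eq_one_r hn hb2 with h' | h'
        · exact hb1 h'
        exact hab (by rw [h, h'])
      · exact ⟨b, hb⟩
    · exact ⟨a, ha⟩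
  refine ⟨i, ?_⟩
  let R0 : AddSubgroup (ZMod (2 ^ n)) :=
    { carrier := {t | r t ∈ H}
      zero_mem' := H.one_mem
      add_mem' := fun {x y} hx hy => by simpa [r_mul_r] using H.mul_mem hx hy
      neg_mem' := fun {x} hx => by simpa [inv_r] using H.inv_mem hx }
  have hsr : ∀ t, sr t ∈ H → t - i ∈ R0 := fun t ht => by
    have := H.mul_mem hi ht; rwa [sr_mul_sr] at this
  let e : H ≃ R0 ⊕ R0 :=
    { toFun := fun g => match g with
        | ⟨.r t, h⟩ => Sum.inl ⟨t, h⟩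
        | ⟨.sr t, h⟩ => Sum.inr ⟨t - i, hsr t h⟩
      invFun := fun s => match s with
        | Sum.inl t => ⟨r t.1, t.2⟩
        | Sum.inr t => ⟨sr (t.1 + i), by
            have := H.mul_mem hi t.2
            rwa [sr_mul_r, add_comm] at this⟩
      left_inv := by rintro ⟨t | t, h⟩ <;> simp
      right_inv := by rintro (⟨t, h⟩ | ⟨t, h⟩) <;> simp }
  have hR : Nat.card R0 = 2 ^ j := by
    have := hcard
    rw [Nat.card_congr e, Nat.card_sum, pow_succ] at this
    omega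
  have hker : ∀ t, r t ∈ H → 2 ^ j * t = 0 := fun t ht => by
    have h1 : Nat.card R0 • (⟨t, ht⟩ : R0) = 0 := card_nsmul_eq_zero'
    have h2 : Nat.card R0 • t = 0 := congrArg Subtype.val h1
    rw [hR, nsmul_eq_mul] at h2
    push_cast at h2
    exact h2
  refine Subgroup.eq_of_le_of_card_ge ?_ (by rw [natCard_lev hj, hcard])
  rintro (t | t) ht
  · exact hker t ht
  · exact hker _ (hsr t ht)

/-- A four-group is some `lev 1 i`. -/
theorem exists_eq_lev_one (hn : 1 ≤ n) {U : Subgroup (DihedralGroup (2 ^ n))} (hU : IsKleinFour U) :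
    ∃ i, U = lev 1 i := by
  haveI := hU
  have h4 : Nat.card U = 4 := IsKleinFour.card_four
  haveI : Finite U := Nat.finite_of_card_ne_zero (by rw [h4]; norm_num)
  have hsq : ∀ u : U, u * u = 1 := fun u => IsKleinFour.mul_self u
  obtain ⟨u, hu⟩ : ∃ u : U, u ≠ 1 := by
    haveI : Nontrivial U := Finite.one_lt_card_iff_nontrivial.1 (by rw [h4]; norm_num)
    exact exists_ne 1
  obtain ⟨v, hv1, hvu⟩ : ∃ v : U, v ≠ 1 ∧ v ≠ u := by
    by_contra h
    push Not at h
    have hs : (Set.univ : Set U) ⊆ {1, u} := fun x _ => by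
      by_cases hx : x = 1
      · exact Or.inl hx
      · exact Or.inr (h x hx)
    have h1 := Set.ncard_le_ncard hs (Set.toFinite _)
    rw [Set.ncard_univ, h4] at h1
    have h3 : ({1, u} : Set U).ncard ≤ 2 := (Set.ncard_insert_le _ _).trans (by simp)
    omega
  exact exists_eq_lev hn hn (by rw [h4]; norm_num) u.2 v.2 (congrArg Subtype.val (hsq u))
    (congrArg Subtype.val (hsq v)) (fun h => hu (Subtype.ext h)) (fun h => hv1 (Subtype.ext h))
    (fun h => hvu (Subtype.ext h.symm))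

theorem mem_lev_one (hn : 1 ≤ n) {i : ZMod (2 ^ n)} {g : DihedralGroup (2 ^ n)} :
    g ∈ lev 1 i ↔ g = 1 ∨ g = r (half n) ∨ g = sr i ∨ g = sr (i + half n) := by
  rcases g with t | t
  · rw [r_mem_lev, pow_one, two_mul_eq_zero_iff hn, one_def]
    simp only [r.injEq, reduceCtorEq, or_false]
  · rw [sr_mem_lev, pow_one, two_mul_eq_zero_iff hn, sub_eq_zero, sub_eq_iff_eq_add, add_comm _ i]
    simp only [sr.injEq, one_def, reduceCtorEq, false_or]

theorem mul_self_of_mem_lev_one {i : ZMod (2 ^ n)} {g : DihedralGroup (2 ^ n)} (hg : g ∈ lev 1 i) :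
    g * g = 1 := by
  rcases g with t | t
  · rw [r_mem_lev, pow_one, two_mul] at hg
    rw [r_mul_r, hg, one_def]
  · exact sr_mul_self t

theorem lev_eq_lev_iff (j : ℕ) (i i' : ZMod (2 ^ n)) :
    lev j i = lev j i' ↔ 2 ^ j * (i - i') = 0 := by
  refine ⟨fun h => sr_mem_lev.1 (h ▸ sr_mem_lev_self j i), fun h => ?_⟩
  ext (t | t)
  · exact Iff.rfl
  · rw [sr_mem_lev, sr_mem_lev]
    exact ⟨fun h' => by linear_combination h' + h, fun h' => by linear_combination h' - h⟩

theorem map_conj_r_lev (a : ZMod (2 ^ n)) (j : ℕ) (i : ZMod (2 ^ n)) :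
    (lev j i).map (MulAut.conj (r a)).toMonoidHom = lev j (i - 2 * a) := by
  ext g
  rw [mem_map_conj, inv_r]
  rcases g with t | t
  · rw [r_mul_r, r_mul_r, r_mem_lev, r_mem_lev, show -a + t + a = t by ring]
  · rw [r_mul_sr, sr_mul_r, sr_mem_lev, sr_mem_lev,
      show t - -a + a - i = t - (i - 2 * a) by ring]

/-- Every index is congruent to `0` or `1`, up to conjugation by rotations. -/
theorem exists_conj_parity (i : ZMod (2 ^ n)) : ∃ a, i - 2 * a = 0 ∨ i - 2 * a = 1 := by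
  obtain ⟨c, rfl | rfl⟩ := exists_two_mul i
  · exact ⟨c, Or.inl (sub_self _)⟩
  · exact ⟨c, Or.inr (by ring)⟩

/-- Parity, as a homomorphism to `ZMod 2`. -/
def parity (hn : 1 ≤ n) : ZMod (2 ^ n) →+* ZMod 2 :=
  ZMod.castHom (dvd_pow_self 2 (by omega)) (ZMod 2)

theorem parity_two_mul (hn : 1 ≤ n) (c : ZMod (2 ^ n)) : parity hn (2 * c) = 0 := by
  rw [map_mul, map_ofNat, show (2 : ZMod 2) = 0 from rfl, zero_mul]

theorem parity_eq_zero_iff (hn : 1 ≤ n) {t : ZMod (2 ^ n)} :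
    parity hn t = 0 ↔ half n * t = 0 := by
  rw [half_mul_eq_zero_iff hn]
  refine ⟨fun h => ?_, fun ⟨c, hc⟩ => by rw [hc, parity_two_mul]⟩
  obtain ⟨c, rfl | rfl⟩ := exists_two_mul t
  · exact ⟨c, rfl⟩
  · rw [map_add, parity_two_mul, map_one, zero_add] at h
    exact absurd h one_ne_zero

theorem parity_half (hn : 2 ≤ n) : parity (by omega : 1 ≤ n) (half n) = 0 :=
  (parity_eq_zero_iff _).2 (half_mul_half hn)

/-- The two-bit invariant: being a reflection, and the parity. -/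
def chi (hn : 1 ≤ n) : DihedralGroup (2 ^ n) →* Multiplicative (ZMod 2 × ZMod 2) where
  toFun g := match g with
    | .r t => Multiplicative.ofAdd (0, parity hn t)
    | .sr t => Multiplicative.ofAdd (1, parity hn t)
  map_one' := by
    show Multiplicative.ofAdd ((0 : ZMod 2), parity hn 0) = 1
    rw [map_zero]; rfl
  map_mul' := by
    rintro (a | a) (b | b)
    · show Multiplicative.ofAdd ((0 : ZMod 2), parity hn (a + b)) = _
      simp [← ofAdd_add]
    · show Multiplicative.ofAdd ((1 : ZMod 2), parity hn (b - a)) = _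
      simp [← ofAdd_add, CharTwo.sub_eq_add, add_comm]
    · show Multiplicative.ofAdd ((1 : ZMod 2), parity hn (a + b)) = _
      simp [← ofAdd_add]
    · show Multiplicative.ofAdd ((0 : ZMod 2), parity hn (b - a)) = _
      simp [← ofAdd_add, CharTwo.sub_eq_add, add_comm, show (1 : ZMod 2) + 1 = 0 from rfl]

theorem chi_r (hn : 1 ≤ n) (t : ZMod (2 ^ n)) :
    chi hn (r t) = Multiplicative.ofAdd ((0 : ZMod 2), parity hn t) := rfl

theorem chi_sr (hn : 1 ≤ n) (t : ZMod (2 ^ n)) :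
    chi hn (sr t) = Multiplicative.ofAdd ((1 : ZMod 2), parity hn t) := rfl

theorem chi_surjective (hn : 1 ≤ n) : Function.Surjective (chi hn) := by
  intro v
  obtain ⟨⟨e, p⟩, rfl⟩ := Multiplicative.ofAdd.surjective v
  fin_cases e <;> fin_cases p
  · exact ⟨r 0, by rw [chi_r, map_zero]; rfl⟩
  · exact ⟨r 1, by rw [chi_r, map_one]; rfl⟩
  · exact ⟨sr 0, by rw [chi_sr, map_zero]; rfl⟩
  · exact ⟨sr 1, by rw [chi_sr, map_one]; rfl⟩

theorem isCyclic_chi_ker (hn : 1 ≤ n) : IsCyclic (chi hn).ker := by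
  haveI : IsCyclic (Subgroup.zpowers (r 1 : DihedralGroup (2 ^ n))) :=
    Subgroup.isCyclic_zpowers _
  have hle : (chi hn).ker ≤ Subgroup.zpowers (r 1) := by
    rintro (t | t) h
    · refine ⟨(t.cast : ℤ), ?_⟩
      show (r 1 : DihedralGroup (2 ^ n)) ^ (t.cast : ℤ) = r t
      rw [r_one_zpow, ZMod.intCast_zmod_cast]
    · rw [MonoidHom.mem_ker, chi_sr, ← ofAdd_zero, Multiplicative.ofAdd.injective.eq_iff] at h
      exact absurd (congrArg Prod.fst h) one_ne_zero
  exact Subgroup.isCyclic_of_le hle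

theorem r_pow_eq (k : ℕ) (t : ZMod (2 ^ n)) : (r t) ^ k = r ((k : ZMod (2 ^ n)) * t) := by
  induction k with
  | zero => rw [pow_zero, Nat.cast_zero, zero_mul]; rfl
  | succ k ih => rw [pow_succ, ih, r_mul_r]; congr 1; push_cast; ring

/-- The parity of a rotation is read off from a power. -/
theorem r_pow_half (t : ZMod (2 ^ n)) : (r t) ^ 2 ^ (n - 1) = r (half n * t) := by
  rw [r_pow_eq]; rfl

end CfsgLib.TwoGroups.Dihedral
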