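import Mathlib
import Cfsg.Prelude.Def_CaseTheorems
import Cfsg.Agent.Lib.TwoGroups.ZModTwoPow
import Cfsg.Agent.Lib.TwoGroups.Recognition

/-!
A coordinate model of the semidihedral group of order `2 ^ (m + 4)`, and the recognition of
quasi-dihedral groups in the sense of `Cfsg.IsQuasiDihedral`.

`rot b` is the element `x ^ b` and `ref a` is `x ^ a * y`.
-/

set_option autoImplicit false

namespace CfsgLib.TwoGroups

/-- The semidihedral group of order `2 ^ (m + 4)`. -/
@[ext] structure SemiDihedral (m : ℕ) where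
  /-- exponent of the generator of the cyclic maximal subgroup -/
  a : ZMod (2 ^ (m + 3))
  /-- whether the element lies outside the cyclic maximal subgroup -/
  e : Bool

namespace SemiDihedral

variable {m : ℕ}

/-- `2^(n-1)` for `n = m + 3`. -/
abbrev h (m : ℕ) : ZMod (2 ^ (m + 3)) := half (m + 3)

/-- `2^(n-2)` for `n = m + 3`. -/
abbrev q (m : ℕ) : ZMod (2 ^ (m + 3)) := quarter (m + 3)

theorem h_add_h : h m + h m = 0 := half_add_half (by omega)
theorem h_mul_h : h m * h m = 0 := half_mul_half (by omega)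
theorem q_add_q : q m + q m = h m := quarter_add_quarter (by omega)
theorem h_eq : h m = 2 * q m := by rw [two_mul, q_add_q]
theorem two_mul_h : 2 * h m = 0 := by rw [two_mul, h_add_h]
theorem four_mul_h : 4 * h m = 0 := by linear_combination 2 * (two_mul_h (m := m))
theorem h_ne : h m ≠ 0 := half_ne_zero (by omega)

/-- The twist `b ↦ (h - 1) b` by which `ref`s act on exponents. -/
def tw (e : Bool) (b : ZMod (2 ^ (m + 3))) : ZMod (2 ^ (m + 3)) :=
  if e then h m * b - b else b

theorem tw_tw (e : Bool) (b : ZMod (2 ^ (m + 3))) : tw e (tw e b) = b := by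
  cases e
  · rfl
  · simp only [tw, if_true]
    linear_combination b * (h_mul_h (m := m)) - b * (two_mul_h (m := m))

instance instMul : Mul (SemiDihedral m) := ⟨fun u v => ⟨u.a + tw u.e v.a, xor u.e v.e⟩⟩
instance instOne : One (SemiDihedral m) := ⟨⟨0, false⟩⟩
instance instInv : Inv (SemiDihedral m) := ⟨fun u => ⟨-tw u.e u.a, u.e⟩⟩

/-- the rotation `x ^ b` -/
abbrev rot (b : ZMod (2 ^ (m + 3))) : SemiDihedral m := ⟨b, false⟩

/-- the element `x ^ a * y` outside the cyclic maximal subgroup -/
abbrev ref (a : ZMod (2 ^ (m + 3))) : SemiDihedral m := ⟨a, true⟩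

theorem mul_def (u v : SemiDihedral m) : u * v = ⟨u.a + tw u.e v.a, xor u.e v.e⟩ := rfl
theorem one_def : (1 : SemiDihedral m) = rot 0 := rfl
theorem inv_def (u : SemiDihedral m) : u⁻¹ = ⟨-tw u.e u.a, u.e⟩ := rfl

instance instGroup : Group (SemiDihedral m) := Group.ofLeftAxioms
  (fun u v w => by
    obtain ⟨a, e⟩ := u; obtain ⟨b, f⟩ := v; obtain ⟨c, g⟩ := w
    simp only [mul_def]
    cases e <;> cases f <;> ext <;> simp [tw]
    · ring
    · ring
    · ring
    · linear_combination (-c) * (h_mul_h (m := m)) + c * (two_mul_h (m := m)))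
  (fun u => by obtain ⟨a, e⟩ := u; simp [one_def, mul_def, tw])
  (fun u => by
    obtain ⟨a, e⟩ := u
    simp only [inv_def, mul_def, one_def]
    ext
    · simp [tw_tw]
    · simp)

@[simp] theorem rot_mul_rot (a b : ZMod (2 ^ (m + 3))) : rot a * rot b = rot (a + b) := by
  simp [mul_def, tw]

@[simp] theorem rot_mul_ref (a b : ZMod (2 ^ (m + 3))) : rot a * ref b = ref (a + b) := by
  simp [mul_def, tw]

@[simp] theorem ref_mul_rot (a b : ZMod (2 ^ (m + 3))) :
    ref a * rot b = ref (a + (h m * b - b)) := by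
  simp [mul_def, tw]

@[simp] theorem ref_mul_ref (a b : ZMod (2 ^ (m + 3))) :
    ref a * ref b = rot (a + (h m * b - b)) := by
  simp [mul_def, tw]

@[simp] theorem rot_inv (a : ZMod (2 ^ (m + 3))) : (rot a)⁻¹ = rot (-a) := by simp [inv_def, tw]

@[simp] theorem ref_inv (a : ZMod (2 ^ (m + 3))) : (ref a)⁻¹ = ref (a - h m * a) := by
  simp [inv_def, tw]

theorem rot_pow (a : ZMod (2 ^ (m + 3))) (k : ℕ) : rot a ^ k = rot ((k : ZMod (2 ^ (m + 3))) * a) := by
  induction k with
  | zero => simp [one_def]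
  | succ k ih => rw [pow_succ, ih, rot_mul_rot]; congr 1; push_cast; ring

theorem cases' {P : SemiDihedral m → Prop} (hr : ∀ b, P (rot b)) (hs : ∀ a, P (ref a)) (g) : P g := by
  obtain ⟨a, e⟩ := g; cases e
  · exact hr a
  · exact hs a

theorem ref_sq (a : ZMod (2 ^ (m + 3))) : ref a * ref a = rot (h m * a) := by
  rw [ref_mul_ref]; congr 1; ring

theorem rot_conj_rot (a b : ZMod (2 ^ (m + 3))) : rot a * rot b * (rot a)⁻¹ = rot b := by
  simp only [rot_mul_rot, rot_inv]; congr 1; ring

theorem rot_conj_ref (j a : ZMod (2 ^ (m + 3))) :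
    rot j * ref a * (rot j)⁻¹ = ref (a + (2 * j - h m * j)) := by
  simp only [rot_mul_ref, rot_inv, ref_mul_rot]; congr 1; ring

theorem ref_conj_rot (a b : ZMod (2 ^ (m + 3))) :
    ref a * rot b * (ref a)⁻¹ = rot (h m * b - b) := by
  simp only [ref_mul_rot, ref_inv, ref_mul_ref]
  congr 1
  linear_combination (-a) * (h_mul_h (m := m)) + a * (two_mul_h (m := m))

theorem ref_conj_ref (a c : ZMod (2 ^ (m + 3))) :
    ref a * ref c * (ref a)⁻¹ = ref (2 * a - h m * a + (h m * c - c)) := by
  simp only [ref_mul_ref, ref_inv, rot_mul_ref]; congr 1; ring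

theorem natCard : Nat.card (SemiDihedral m) = 2 ^ (m + 4) := by
  let e : SemiDihedral m ≃ ZMod (2 ^ (m + 3)) × Bool :=
    ⟨fun g => (g.a, g.e), fun p => ⟨p.1, p.2⟩, fun _ => rfl, fun _ => rfl⟩
  rw [Nat.card_congr e, Nat.card_prod, Nat.card_zmod, Nat.card_eq_fintype_card, Fintype.card_bool]
  ring

instance instFinite : Finite (SemiDihedral m) :=
  Nat.finite_of_card_ne_zero (by rw [natCard]; positivity)

theorem isPGroup : IsPGroup 2 (SemiDihedral m) := IsPGroup.of_card natCard

theorem orderOf_rot_one : orderOf (rot (1 : ZMod (2 ^ (m + 3)))) = 2 ^ (m + 3) := by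
  refine orderOf_eq_prime_pow (n := m + 2) ?_ ?_
  · rw [rot_pow, one_def, mul_one]
    intro hh
    exact h_ne (congrArg SemiDihedral.a hh)
  · rw [rot_pow, one_def, mul_one, ZMod.natCast_self]

/-- Recognition: a quasi-dihedral group is isomorphic to the model. -/
theorem of_isQuasiDihedral {S : Type*} [Group S] [Finite S] (hS : Cfsg.IsQuasiDihedral S) :
    ∃ m : ℕ, Nat.card S = 2 ^ (m + 4) ∧ Nonempty (S ≃* SemiDihedral m) := by
  obtain ⟨n, hn, hcard, x, y, hx, hy, hyx⟩ := hS
  obtain ⟨m, rfl⟩ : ∃ m, n = m + 3 := ⟨n - 3, by omega⟩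
  refine ⟨m, hcard, ?_⟩
  set N := 2 ^ (m + 3) with hN
  have hxN : x ^ N = 1 := by rw [← hx, pow_orderOf_eq_one]
  have hyy : y * y = 1 := by rw [← pow_two, ← hy, pow_orderOf_eq_one]
  have hcast : ((2 ^ (m + 3 - 1) - 1 : ℕ) : ZMod N) = h m - 1 := by
    rw [Nat.cast_sub Nat.one_le_two_pow, Nat.cast_one]; rfl
  have hconj : ∀ b : ZMod N, y * zexp x b = zexp x (h m * b - b) * y := by
    intro b
    have h1 : y * zexp x b * y⁻¹ = zexp x (h m * b - b) := by
      rw [zexp, ← conj_pow, hyx, ← pow_mul, ← zexp_natCast hxN, Nat.cast_mul, hcast,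
        ZMod.natCast_zmod_val, sub_mul, one_mul]
    rw [← h1]; group
  have hny : y ∉ Subgroup.zpowers x := by
    intro hy'
    have hc : Commute y x := by
      obtain ⟨k, hk⟩ := Subgroup.mem_zpowers_iff.1 hy'
      rw [← hk]; exact (Commute.refl x).zpow_left k
    have h1 : zexp x (h m - 1) = zexp x (1 : ZMod N) := by
      rw [← hcast, zexp_natCast hxN, ← hyx, hc.eq, mul_inv_cancel_right]
      conv_rhs => rw [show (1 : ZMod N) = ((1 : ℕ) : ZMod N) by simp]
      rw [zexp_natCast hxN, pow_one]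
    have h2 : h m = 2 := by linear_combination zexp_injective hx h1
    have h3 : ((2 ^ (m + 2) : ℕ) : ZMod N) = ((2 : ℕ) : ZMod N) := by simpa [half] using h2
    rw [ZMod.natCast_eq_natCast_iff] at h3
    have : 2 < N := by rw [hN]; calc 2 < 2 ^ 3 := by norm_num
          _ ≤ _ := Nat.pow_le_pow_right two_pos (by omega)
    have hlt : 2 ^ (m + 2) < N := Nat.pow_lt_pow_right one_lt_two (by omega)
    have h4 := h3.eq_of_lt_of_lt hlt this
    have : 2 ^ 2 ≤ 2 ^ (m + 2) := Nat.pow_le_pow_right two_pos (by omega)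
    omega
  let f : SemiDihedral m →* S :=
    { toFun := fun g => zexp x g.a * if g.e then y else 1
      map_one' := by simp [one_def, zexp_zero]
      map_mul' := by
        refine cases' (fun b => cases' (fun c => ?_) (fun c => ?_))
          (fun a => cases' (fun c => ?_) (fun c => ?_))
        · simp [zexp_add hxN]
        · simp [zexp_add hxN, mul_assoc]
        · simp [zexp_add hxN, mul_assoc, hconj]
        · simp only [ref_mul_ref, zexp_add hxN, if_true, Bool.false_eq_true, if_false, mul_one]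
          calc zexp x a * zexp x (h m * c - c) = zexp x a * zexp x (h m * c - c) * (y * y) := by
                rw [hyy, mul_one]
            _ = zexp x a * (zexp x (h m * c - c) * y) * y := by group
            _ = zexp x a * y * (zexp x c * y) := by rw [← hconj]; group }
  have hinj : Function.Injective f := by
    have hnot : ∀ a b : ZMod N, zexp x a * y ≠ zexp x b := by
      intro a b hab
      have hmem : ∀ c : ZMod N, zexp x c ∈ Subgroup.zpowers x := fun c =>
        pow_mem (Subgroup.mem_zpowers x) _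
      exact hny (((Subgroup.zpowers x).mul_mem_cancel_left (hmem a)).1 (hab ▸ hmem b))
    rintro ⟨a, e⟩ ⟨b, e'⟩ hab
    cases e <;> cases e' <;>
      simp only [f, MonoidHom.coe_mk, OneHom.coe_mk, if_true, Bool.false_eq_true, if_false,
        mul_one] at hab
    · rw [zexp_injective hx hab]
    · exact absurd hab.symm (hnot b a)
    · exact absurd hab (hnot a b)
    · rw [zexp_injective hx (mul_right_cancel hab)]
  exact ⟨(MulEquiv.ofBijective f ((Nat.bijective_iff_injective_and_card f).2
    ⟨hinj, by rw [natCard, hcard]⟩)).symm⟩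

theorem isQuasiDihedral : Cfsg.IsQuasiDihedral (SemiDihedral m) := by
  refine ⟨m + 3, by omega, natCard, rot 1, ref 0, orderOf_rot_one, ?_, ?_⟩
  · refine orderOf_eq_prime (by rw [pow_two, ref_sq, mul_zero, one_def]) ?_
    exact fun hh => Bool.noConfusion (congrArg SemiDihedral.e hh)
  · rw [ref_conj_rot, rot_pow, Nat.cast_sub Nat.one_le_two_pow, Nat.cast_one, mul_one, mul_one]
    rfl


end SemiDihedral

end CfsgLib.TwoGroups
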