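import Mathlib
import Cfsg.Agent.Lib.TwoGroups.SemiDihedral
import Cfsg.Agent.Lib.PGroups.Basic

/-!
Elements, subgroups and classes of the semidihedral model.
-/

set_option autoImplicit false

namespace CfsgLib.TwoGroups.SemiDihedral

variable {m : ℕ}

theorem rot_ne_ref (a b : ZMod (2 ^ (m + 3))) : rot a ≠ ref b := fun hh =>
  Bool.noConfusion (congrArg SemiDihedral.e hh)

theorem rot_inj {a b : ZMod (2 ^ (m + 3))} : rot a = rot b ↔ a = b :=
  ⟨fun hh => congrArg SemiDihedral.a hh, fun hh => by rw [hh]⟩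

theorem ref_inj {a b : ZMod (2 ^ (m + 3))} : ref a = ref b ↔ a = b :=
  ⟨fun hh => congrArg SemiDihedral.a hh, fun hh => by rw [hh]⟩

theorem h_mul_even {a : ZMod (2 ^ (m + 3))} (ha : ∃ c, a = 2 * c) : h m * a = 0 :=
  (half_mul_eq_zero_iff (by omega)).2 ha

theorem even_h : ∃ c, h m = 2 * c := ⟨q m, h_eq⟩
theorem even_q : ∃ c, q m = 2 * c := exists_two_mul_quarter (by omega)
theorem four_mul_q : 4 * q m = 0 := by linear_combination 2 * (q_add_q (m := m)) + two_mul_h (m := m)
theorem q_ne : q m ≠ 0 := quarter_ne_zero (by omega)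
theorem four_mul_h_mul (b : ZMod (2 ^ (m + 3))) : 4 * (h m * b) = 0 := by
  linear_combination b * (four_mul_h (m := m))

theorem orderOf_eq_two_iff (g : SemiDihedral m) :
    orderOf g = 2 ↔ g = rot (h m) ∨ ∃ c, g = ref (2 * c) := by
  rw [orderOf_eq_prime_iff, pow_two]
  induction g using cases' with
  | hr b =>
    constructor
    · rintro ⟨h1, h2⟩
      rw [rot_mul_rot, one_def, rot_inj, ← two_mul] at h1
      rcases two_mul_eq_zero (by omega) h1 with rfl | rfl
      · exact absurd rfl h2
      · exact Or.inl rfl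
    · rintro (hh | ⟨c, hc⟩)
      · rw [hh, rot_mul_rot, h_add_h]
        exact ⟨rfl, fun h0 => h_ne (rot_inj.1 h0)⟩
      · exact absurd hc (rot_ne_ref _ _)
  | hs a =>
    rw [ref_sq, one_def, rot_inj, half_mul_eq_zero_iff (by omega)]
    constructor
    · rintro ⟨⟨c, rfl⟩, -⟩
      exact Or.inr ⟨c, rfl⟩
    · rintro (hh | ⟨c, hc⟩)
      · exact absurd hh.symm (rot_ne_ref _ _)
      · exact ⟨⟨c, ref_inj.1 hc⟩, fun h0 => rot_ne_ref _ _ h0.symm⟩

theorem orderOf_eq_four_iff (g : SemiDihedral m) :
    orderOf g = 4 ↔ g = rot (q m) ∨ g = rot (-q m) ∨ ∃ c, g = ref (2 * c + 1) := by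
  have key : orderOf g = 4 ↔ g * g ≠ 1 ∧ (g * g) * (g * g) = 1 := by
    constructor
    · intro hg
      refine ⟨fun h1 => ?_, ?_⟩
      · have := orderOf_dvd_of_pow_eq_one (show g ^ 2 = 1 by rwa [pow_two])
        rw [hg] at this
        norm_num at this
      · have := pow_orderOf_eq_one g
        rw [hg] at this
        simpa [pow_succ, mul_assoc] using this
    · rintro ⟨h1, h2⟩
      exact orderOf_eq_prime_pow (p := 2) (n := 1) (by simpa [pow_two] using h1)
        (by simpa [pow_succ, mul_assoc] using h2)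
  rw [key]
  induction g using cases' with
  | hr b =>
    rw [rot_mul_rot, rot_mul_rot, one_def, Ne, rot_inj, rot_inj, ← two_mul, ← two_mul]
    constructor
    · rintro ⟨h1, h2⟩
      rcases two_mul_eq_zero (by omega) h2 with h3 | h3
      · exact absurd h3 h1
      · rcases two_mul_eq_half (by omega) h3 with rfl | rfl
        · exact Or.inl rfl
        · exact Or.inr (Or.inl rfl)
    · rintro (hh | hh | ⟨c, hc⟩)
      · rw [rot_inj.1 hh, ← h_eq, two_mul_h]
        exact ⟨h_ne, rfl⟩
      · rw [rot_inj.1 hh, mul_neg, ← h_eq, mul_neg, two_mul_h, neg_zero, neg_eq_zero]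
        exact ⟨h_ne, rfl⟩
      · exact absurd hc (rot_ne_ref _ _)
  | hs a =>
    rw [ref_sq, rot_mul_rot, one_def, Ne, rot_inj, rot_inj, ← mul_add]
    constructor
    · rintro ⟨h1, -⟩
      obtain ⟨c, hc⟩ := (half_mul_eq_half_iff (by omega)).1 ((half_mul_eq (by omega) a).resolve_left h1)
      exact Or.inr (Or.inr ⟨c, by rw [hc]⟩)
    · rintro (hh | hh | ⟨c, hc⟩)
      · exact absurd hh.symm (rot_ne_ref _ _)
      · exact absurd hh.symm (rot_ne_ref _ _)
      · rw [ref_inj.1 hc, half_mul_two_add_one (by omega), ← two_mul, mul_left_comm,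
          half_mul_two_add_one (by omega), two_mul_h]
        exact ⟨h_ne, rfl⟩

theorem exists_rot_conj (a c : ZMod (2 ^ (m + 3))) :
    ∃ j, rot j * ref a * (rot j)⁻¹ = ref (a + 2 * c) := by
  obtain ⟨u, hu⟩ := isUnit_one_sub_quarter (n := m + 3) (by omega)
  refine ⟨c * (↑u⁻¹ : ZMod (2 ^ (m + 3))), ?_⟩
  rw [rot_conj_ref, ref_inj]
  have h1 : (↑u⁻¹ : ZMod (2 ^ (m + 3))) * ↑u = 1 := u.inv_mul
  linear_combination (2 * c) * h1 - (2 * (c * (↑u⁻¹ : ZMod (2 ^ (m + 3))))) * hu
    - (c * (↑u⁻¹ : ZMod (2 ^ (m + 3)))) * (h_eq (m := m))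

theorem conj_ref_exists (g : SemiDihedral m) (a : ZMod (2 ^ (m + 3))) :
    ∃ c, g * ref a * g⁻¹ = ref (a + 2 * c) := by
  obtain ⟨d, hd⟩ := even_h (m := m)
  induction g using cases' with
  | hr j => exact ⟨j - d * j, by rw [rot_conj_ref]; congr 1; linear_combination (-j) * hd⟩
  | hs b =>
    refine ⟨b - d * b + d * a - a, ?_⟩
    rw [ref_conj_ref]; congr 1; linear_combination (a - b) * hd

theorem conj_rot (g : SemiDihedral m) (b : ZMod (2 ^ (m + 3))) :
    g * rot b * g⁻¹ = rot b ∨ g * rot b * g⁻¹ = rot (h m * b - b) := by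
  induction g using cases' with
  | hr j => exact Or.inl (rot_conj_rot _ _)
  | hs a => exact Or.inr (ref_conj_rot _ _)

theorem natCard_classes_two :
    Nat.card {C : ConjClasses (SemiDihedral m) // ∃ t : SemiDihedral m,
      orderOf t = 2 ∧ ConjClasses.mk t = C} = 2 := by
  refine natCard_conjClasses_orderOf_eq_two ((orderOf_eq_two_iff _).2 (Or.inl rfl))
    ((orderOf_eq_two_iff _).2 (Or.inr ⟨0, rfl⟩)) ?_ ?_
  · rw [isConj_iff]
    rintro ⟨g, hg⟩
    rcases conj_rot g (h m) with h1 | h1 <;> exact rot_ne_ref _ _ (h1.symm.trans hg)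
  · intro t ht
    rcases (orderOf_eq_two_iff t).1 ht with rfl | ⟨c, rfl⟩
    · exact Or.inl (IsConj.refl _)
    · obtain ⟨j, hj⟩ := exists_rot_conj (2 * c) (-c)
      exact Or.inr (isConj_iff.2 ⟨rot j, by rw [hj]; congr 1; ring⟩)

theorem natCard_classes_four :
    Nat.card {C : ConjClasses (SemiDihedral m) // ∃ t : SemiDihedral m,
      orderOf t = 4 ∧ ConjClasses.mk t = C} = 2 := by
  refine natCard_conjClasses_orderOf_eq_two ((orderOf_eq_four_iff _).2 (Or.inl rfl))
    ((orderOf_eq_four_iff _).2 (Or.inr (Or.inr ⟨0, rfl⟩))) ?_ ?_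
  · rw [isConj_iff]
    rintro ⟨g, hg⟩
    rcases conj_rot g (q m) with h1 | h1 <;> exact rot_ne_ref _ _ (h1.symm.trans hg)
  · intro t ht
    rcases (orderOf_eq_four_iff t).1 ht with rfl | rfl | ⟨c, rfl⟩
    · exact Or.inl (IsConj.refl _)
    · refine Or.inl (isConj_iff.2 ⟨ref 0, ?_⟩)
      rw [ref_conj_rot, rot_inj]
      linear_combination -(h_mul_even (m := m) even_q)
    · obtain ⟨j, hj⟩ := exists_rot_conj (2 * c + 1) (-c)
      exact Or.inr (isConj_iff.2 ⟨rot j, by rw [hj]; congr 1; ring⟩)

/-- A level-`k` subgroup: rotations killed by `2^k` and reflections congruent to `ref a` modulo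
them. Level 1 gives four-groups (`a` even), level 2 gives `Q₈` or `D₈`. -/
def lev (k : ℕ) (a : ZMod (2 ^ (m + 3))) (hk : 2 ^ k * (h m * a) = 0) :
    Subgroup (SemiDihedral m) where
  carrier := {g | 2 ^ k * (g.a - if g.e then a else 0) = 0}
  one_mem' := by simp [one_def]
  mul_mem' := by
    intro u v
    induction u using cases' with
    | hr b => induction v using cases' with
      | hr c =>
        intro hu hv
        simp at hu hv ⊢
        linear_combination hu + hv
      | hs c =>
        intro hu hv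
        simp at hu hv ⊢
        linear_combination hu + hv
    | hs b => induction v using cases' with
      | hr c =>
        intro hu hv
        simp at hu hv ⊢
        linear_combination hu + (h m) * hv - hv
      | hs c =>
        intro hu hv
        simp at hu hv ⊢
        linear_combination hu + (h m) * hv - hv + hk
  inv_mem' := by
    intro u
    induction u using cases' with
    | hr b =>
      intro hu
      simp at hu ⊢
      linear_combination hu
    | hs b =>
      intro hu
      simp at hu ⊢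
      linear_combination hu - (h m) * hu - hk

theorem rot_mem_lev {k : ℕ} {a b : ZMod (2 ^ (m + 3))} {hk : 2 ^ k * (h m * a) = 0} :
    rot b ∈ lev k a hk ↔ 2 ^ k * b = 0 := by
  show 2 ^ k * (b - if false then a else 0) = 0 ↔ _
  simp

theorem ref_mem_lev {k : ℕ} {a b : ZMod (2 ^ (m + 3))} {hk : 2 ^ k * (h m * a) = 0} :
    ref b ∈ lev k a hk ↔ 2 ^ k * (b - a) = 0 := Iff.rfl

theorem two_pow_mul_h_mul {k : ℕ} (hk : 1 ≤ k) (a : ZMod (2 ^ (m + 3))) :
    (2 : ZMod (2 ^ (m + 3))) ^ k * (h m * a) = 0 := by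
  obtain ⟨l, rfl⟩ : ∃ l, k = l + 1 := ⟨k - 1, by omega⟩
  linear_combination (2 ^ l * a) * (two_mul_h (m := m))

/-- The four-group `{1, x^h, x^a y, x^(a+h) y}` for `a` even. -/
def four (a : ZMod (2 ^ (m + 3))) : Subgroup (SemiDihedral m) :=
  lev 1 a (two_pow_mul_h_mul le_rfl a)

/-- The level-2 subgroup of order 8. -/
def eight (a : ZMod (2 ^ (m + 3))) : Subgroup (SemiDihedral m) :=
  lev 2 a (two_pow_mul_h_mul (by omega) a)

theorem rot_h_mem_four (a : ZMod (2 ^ (m + 3))) : rot (h m) ∈ four a :=
  rot_mem_lev.2 (by rw [pow_one, two_mul_h])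

theorem ref_mem_four (a : ZMod (2 ^ (m + 3))) : ref a ∈ four a :=
  ref_mem_lev.2 (by simp)

theorem rot_q_mem_eight (a : ZMod (2 ^ (m + 3))) : rot (q m) ∈ eight a :=
  rot_mem_lev.2 (by linear_combination (four_mul_q (m := m)))

theorem ref_mem_eight (a : ZMod (2 ^ (m + 3))) : ref a ∈ eight a :=
  ref_mem_lev.2 (by simp)

theorem natCard_lev_le {k : ℕ} {a : ZMod (2 ^ (m + 3))} {hk : 2 ^ k * (h m * a) = 0} :
    Nat.card (lev k a hk) ≤ 2 * Nat.card {b : ZMod (2 ^ (m + 3)) // 2 ^ k * b = 0} := by
  let f : lev k a hk → Bool × {b : ZMod (2 ^ (m + 3)) // 2 ^ k * b = 0} := fun g =>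
    (g.1.e, ⟨g.1.a - (if g.1.e then a else 0), g.2⟩)
  have hf : Function.Injective f := by
    rintro ⟨⟨b, e⟩, hb⟩ ⟨⟨c, e'⟩, hc⟩ hh
    simp only [f, Prod.mk.injEq, Subtype.mk.injEq] at hh
    obtain ⟨rfl, hh⟩ := hh
    refine Subtype.ext (SemiDihedral.ext ?_ rfl)
    simpa using congrArg Subtype.val hh
  refine (Nat.card_le_card_of_injective f hf).trans ?_
  rw [Nat.card_prod, Nat.card_eq_fintype_card, Fintype.card_bool]

theorem natCard_killed_two : Nat.card {b : ZMod (2 ^ (m + 3)) // 2 ^ 1 * b = 0} ≤ 2 := by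
  let f : {b : ZMod (2 ^ (m + 3)) // 2 ^ 1 * b = 0} → Bool := fun b => decide (b.1 = 0)
  have hf : Function.Injective f := by
    intro ⟨b, hb⟩ ⟨c, hc⟩ hh
    rw [pow_one] at hb hc
    rcases two_mul_eq_zero (by omega) hb with rfl | rfl <;>
      rcases two_mul_eq_zero (by omega) hc with rfl | rfl <;> first
      | rfl
      | exact absurd hh (by simp [f, half_ne_zero (show 1 ≤ m + 3 by omega)])
  refine (Nat.card_le_card_of_injective f hf).trans ?_
  simp

theorem natCard_killed_four : Nat.card {b : ZMod (2 ^ (m + 3)) // 2 ^ 2 * b = 0} ≤ 4 := by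
  have hs : {b : ZMod (2 ^ (m + 3)) | 2 ^ 2 * b = 0} ⊆ {0, h m, q m, -q m} := by
    intro b hb
    have hb2 : (2 : ZMod (2 ^ (m + 3))) ^ 2 * b = 0 := hb
    have hb' : 2 * (2 * b) = 0 := by linear_combination hb2
    rcases two_mul_eq_zero (by omega) hb' with h1 | h1
    · rcases two_mul_eq_zero (by omega) h1 with rfl | rfl <;> simp
    · rcases two_mul_eq_half (by omega) h1 with rfl | rfl <;> simp
  show Nat.card ↥{b : ZMod (2 ^ (m + 3)) | 2 ^ 2 * b = 0} ≤ 4
  rw [Nat.card_coe_set_eq]
  refine (Set.ncard_le_ncard hs).trans ?_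
  classical
  rw [show ({0, h m, q m, -q m} : Set (ZMod (2 ^ (m + 3)))) =
    (({0, h m, q m, -q m} : Finset (ZMod (2 ^ (m + 3)))) : Set _) by simp, Set.ncard_coe_finset]
  exact Finset.card_le_four

theorem natCard_four_le (a : ZMod (2 ^ (m + 3))) : Nat.card (four a) ≤ 4 :=
  natCard_lev_le.trans (by have := natCard_killed_two (m := m); omega)

theorem natCard_eight_le (a : ZMod (2 ^ (m + 3))) : Nat.card (eight a) ≤ 8 :=
  natCard_lev_le.trans (by have := natCard_killed_four (m := m); omega)

/-- The four-groups are the `four a` with `a` even. -/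
theorem eq_four_of_isKleinFour {T : Subgroup (SemiDihedral m)} (hT : IsKleinFour T) :
    ∃ c, T = four (2 * c) := by
  have h4 : Nat.card T = 4 := IsKleinFour.card_four
  have hsq : ∀ g ∈ T, g * g = 1 := fun g hg => by
    have := IsKleinFour.mul_self (⟨g, hg⟩ : T)
    exact congrArg Subtype.val this
  have hrot : ∀ b, rot b ∈ T → 2 * b = 0 := fun b hb => by
    have := hsq _ hb
    rw [rot_mul_rot, one_def, rot_inj] at this
    rw [two_mul, this]
  by_cases hex : ∃ a, ref a ∈ T
  · obtain ⟨a, ha⟩ := hex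
    have h1 := hsq _ ha
    rw [ref_sq, one_def, rot_inj] at h1
    obtain ⟨c, rfl⟩ := (half_mul_eq_zero_iff (by omega)).1 h1
    refine ⟨c, Subgroup.eq_of_le_of_card_ge ?_ (by rw [h4]; exact natCard_four_le _)⟩
    intro g hg
    induction g using cases' with
    | hr b => exact rot_mem_lev.2 (by rw [pow_one]; exact hrot b hg)
    | hs b =>
      have h2 := hsq _ hg
      rw [ref_sq, one_def, rot_inj] at h2
      have h3 := T.mul_mem hg ha
      rw [ref_mul_ref] at h3
      have h4' := hrot _ h3
      rw [h1] at h4'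
      exact ref_mem_lev.2 (by linear_combination h4')
  · exfalso
    push_neg at hex
    have hle : T ≤ Subgroup.closure {rot (h m)} := by
      intro g hg
      induction g using cases' with
      | hr b =>
        rcases two_mul_eq_zero (by omega) (hrot b hg) with rfl | rfl
        · exact one_mem _
        · exact Subgroup.subset_closure rfl
      | hs b => exact absurd hg (hex b)
    have := Subgroup.card_le_of_le hle
    rw [← Subgroup.zpowers_eq_closure, Nat.card_zpowers,
      (orderOf_eq_two_iff _).2 (Or.inl rfl), h4] at this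
    omega

theorem mem_centralizer_four {c : ZMod (2 ^ (m + 3))} :
    Subgroup.centralizer ((four (2 * c) : Subgroup (SemiDihedral m)) : Set (SemiDihedral m)) =
      four (2 * c) := by
  apply le_antisymm
  · intro g hg
    have h1 : g * ref (2 * c) * g⁻¹ = ref (2 * c) := by
      rw [← (Subgroup.mem_centralizer_iff.1 hg _ (ref_mem_four _))]; group
    induction g using cases' with
    | hr b =>
      rw [rot_conj_ref, ref_inj] at h1
      refine rot_mem_lev.2 ?_
      rw [pow_one]
      obtain ⟨u, hu⟩ := isUnit_one_sub_quarter (n := m + 3) (by omega)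
      apply u.isUnit.mul_left_cancel
      rw [mul_zero]
      linear_combination h1 + b * (h_eq (m := m)) + (2 * b) * hu
    | hs b =>
      rw [ref_conj_ref, ref_inj] at h1
      refine ref_mem_lev.2 ?_
      have h2 : 2 * (b - 2 * c) = h m * b := by
        linear_combination h1 - h_mul_even (m := m) ⟨c, rfl⟩
      rcases half_mul_eq (n := m + 3) (by omega) b with h3 | h3
      · rw [pow_one]; exact h2.trans h3
      · exfalso
        rw [h3] at h2
        obtain ⟨d, hd⟩ := (half_mul_eq_half_iff (by omega)).1 h3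
        rcases two_mul_eq_half (n := m + 3) (by omega) h2 with h4 | h4
        · obtain ⟨e, he⟩ := even_q (m := m)
          exact two_mul_add_one_ne (by omega) d (c + e) (by linear_combination h4 + he - hd)
        · obtain ⟨e, he⟩ := even_q (m := m)
          exact two_mul_add_one_ne (by omega) d (c - e) (by linear_combination h4 - he - hd)
  · intro g hg
    refine Subgroup.mem_centralizer_iff.2 fun f hf => ?_
    have key : ∀ b, 2 ^ 1 * b = 0 → h m * b - b = b := by
      intro b hb
      rw [pow_one] at hb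
      rcases two_mul_eq_zero (by omega) hb with rfl | rfl
      · simp
      · linear_combination h_mul_h (m := m) - two_mul_h (m := m)
    induction g using cases' with
    | hr b => induction f using cases' with
      | hr d => simp [add_comm]
      | hs d =>
        rw [SetLike.mem_coe] at hf
        simp only [rot_mul_ref, ref_mul_rot, ref_inj]
        rw [key b (rot_mem_lev.1 hg)]; exact add_comm _ _
    | hs b => induction f using cases' with
      | hr d =>
        rw [SetLike.mem_coe] at hf
        simp only [rot_mul_ref, ref_mul_rot, ref_inj]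
        rw [key d (rot_mem_lev.1 hf)]; exact add_comm _ _
      | hs d =>
        rw [SetLike.mem_coe] at hf
        have e1 := ref_mem_lev.1 hg
        have e2 := ref_mem_lev.1 hf
        rw [pow_one] at e1 e2
        simp only [ref_mul_ref, rot_inj]
        have hb : h m * b = 0 := h_mul_even (by
          rcases two_mul_eq_zero (by omega) e1 with e | e
          · exact ⟨c, sub_eq_zero.1 e⟩
          · exact ⟨c + q m, by linear_combination e + h_eq (m := m)⟩)
        have hd : h m * d = 0 := h_mul_even (by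
          rcases two_mul_eq_zero (by omega) e2 with e | e
          · exact ⟨c, sub_eq_zero.1 e⟩
          · exact ⟨c + q m, by linear_combination e + h_eq (m := m)⟩)
        linear_combination e2 - e1 + hb - hd

theorem conj_four (c d : ZMod (2 ^ (m + 3))) :
    ∃ g : SemiDihedral m, (four (2 * c)).map (MulAut.conj g).toMonoidHom = four (2 * d) := by
  obtain ⟨j, hj⟩ := exists_rot_conj (2 * c) (d - c)
  refine ⟨rot j, ?_⟩
  apply le_antisymm
  · rintro _ ⟨g, hg, rfl⟩
    rw [MulEquiv.coe_toMonoidHom, MulAut.conj_apply]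
    rw [SetLike.mem_coe] at hg
    induction g using cases' with
    | hr b => rw [rot_conj_rot]; exact rot_mem_lev.2 (rot_mem_lev.1 hg)
    | hs b =>
      have e : rot j * ref b * (rot j)⁻¹ = rot (b - 2 * c) * (rot j * ref (2 * c) * (rot j)⁻¹) := by
        rw [rot_conj_ref, rot_conj_ref, rot_mul_ref]; congr 1; ring
      rw [e, hj, rot_mul_ref]
      exact ref_mem_lev.2 (by linear_combination ref_mem_lev.1 hg)
  · intro g hg
    rw [Subgroup.mem_map_equiv, MulAut.conj_symm_apply]
    induction g using cases' with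
    | hr b =>
      have e : (rot j)⁻¹ * rot b * rot j = rot b := by simp
      rw [e]; exact rot_mem_lev.2 (rot_mem_lev.1 hg)
    | hs b =>
      have e : (rot j)⁻¹ * ref b * rot j =
          rot (b - 2 * d) * ((rot j)⁻¹ * (rot j * ref (2 * c) * (rot j)⁻¹) * rot j) := by
        rw [hj, rot_inv, rot_mul_ref, ref_mul_rot, rot_mul_ref, ref_mul_rot, rot_mul_ref]
        congr 1; ring
      rw [e, show (rot j)⁻¹ * (rot j * ref (2 * c) * (rot j)⁻¹) * rot j = ref (2 * c) by group,
        rot_mul_ref]
      exact ref_mem_lev.2 (by linear_combination ref_mem_lev.1 hg)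

end CfsgLib.TwoGroups.SemiDihedral
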