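import Mathlib
import Cfsg.Agent.Lib.TwoGroups.SemiDihedralFacts

/-!
Normalisers, maximal subgroups, derived subgroup and normal subgroups of the semidihedral model.
-/

set_option autoImplicit false

namespace CfsgLib.TwoGroups.SemiDihedral

open scoped commutatorElement

variable {m : ℕ}

theorem conj_lev_mem {k : ℕ} (hk1 : 1 ≤ k) {a : ZMod (2 ^ (m + 3))} {hk : 2 ^ k * (h m * a) = 0}
    {hk' : 2 ^ (k + 1) * (h m * a) = 0} {g f : SemiDihedral m} (hg : g ∈ lev (k + 1) a hk')
    (hf : f ∈ lev k a hk) : g * f * g⁻¹ ∈ lev k a hk := by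
  induction g using cases' with
  | hr b => induction f using cases' with
    | hr d => rw [rot_conj_rot]; exact hf
    | hs d =>
      rw [rot_conj_ref]
      refine ref_mem_lev.2 ?_
      linear_combination ref_mem_lev.1 hf + rot_mem_lev.1 hg - two_pow_mul_h_mul (m := m) hk1 b
  | hs b => induction f using cases' with
    | hr d =>
      rw [ref_conj_rot]
      refine rot_mem_lev.2 ?_
      linear_combination (h m - 1) * rot_mem_lev.1 hf
    | hs d =>
      rw [ref_conj_ref]
      refine ref_mem_lev.2 ?_
      linear_combination ref_mem_lev.1 hg - ref_mem_lev.1 hf - two_pow_mul_h_mul (m := m) hk1 b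
        + two_pow_mul_h_mul (m := m) hk1 d

theorem normalizer_lev {k : ℕ} (hk1 : 1 ≤ k) (a : ZMod (2 ^ (m + 3))) (hk : 2 ^ k * (h m * a) = 0)
    (hk' : 2 ^ (k + 1) * (h m * a) = 0) :
    Subgroup.normalizer ((lev k a hk : Subgroup (SemiDihedral m)) : Set (SemiDihedral m)) =
      lev (k + 1) a hk' := by
  refine le_antisymm (fun g hg => ?_) (Subgroup.le_normalizer_iff.2 fun g hg f hf =>
    conj_lev_mem hk1 hg hf)
  have h1 : g * ref a * g⁻¹ ∈ lev k a hk :=
    (Subgroup.mem_normalizer_iff.1 hg (ref a)).1 (ref_mem_lev.2 (by simp))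
  induction g using cases' with
  | hr b =>
    rw [rot_conj_ref] at h1
    refine rot_mem_lev.2 ?_
    linear_combination ref_mem_lev.1 h1 + two_pow_mul_h_mul (m := m) hk1 b
  | hs b =>
    rw [ref_conj_ref] at h1
    refine ref_mem_lev.2 ?_
    linear_combination ref_mem_lev.1 h1 + two_pow_mul_h_mul (m := m) hk1 b
      - two_pow_mul_h_mul (m := m) hk1 a

theorem relIndex_normalizer_lev {k : ℕ} (hk1 : 1 ≤ k) (a : ZMod (2 ^ (m + 3)))
    (hk : 2 ^ k * (h m * a) = 0) (r : ZMod (2 ^ (m + 3))) (hr : 2 ^ k * r = h m) :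
    (lev k a hk).relIndex (Subgroup.normalizer ((lev k a hk : Subgroup (SemiDihedral m)) :
      Set (SemiDihedral m))) = 2 := by
  have hk' : 2 ^ (k + 1) * (h m * a) = 0 := two_pow_mul_h_mul (by omega) a
  rw [normalizer_lev hk1 a hk hk', Subgroup.relIndex, Subgroup.index_eq_two_iff]
  refine ⟨⟨rot r, rot_mem_lev.2 (by linear_combination 2 * hr + two_mul_h (m := m))⟩, ?_⟩
  rintro ⟨g, hg⟩
  simp only [Subgroup.mem_subgroupOf, Subgroup.coe_mul]
  induction g using cases' with
  | hr b =>
    simp only [rot_mul_rot, rot_mem_lev]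
    have hb : 2 * (2 ^ k * b) = 0 := by linear_combination rot_mem_lev.1 hg
    rw [mul_add, hr]
    rcases two_mul_eq_zero (by omega) hb with e | e <;> rw [e]
    · exact Or.inr ⟨rfl, by rw [zero_add]; exact h_ne⟩
    · exact Or.inl ⟨h_add_h, h_ne⟩
  | hs b =>
    simp only [ref_mul_rot, ref_mem_lev]
    have hb : 2 * (2 ^ k * (b - a)) = 0 := by linear_combination ref_mem_lev.1 hg
    have e' : 2 ^ k * (b + (h m * r - r) - a) = 2 ^ k * (b - a) + h m := by
      linear_combination two_pow_mul_h_mul (m := m) hk1 r - hr - two_mul_h (m := m)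
    rw [e']
    rcases two_mul_eq_zero (by omega) hb with e | e <;> rw [e]
    · exact Or.inr ⟨rfl, by rw [zero_add]; exact h_ne⟩
    · exact Or.inl ⟨h_add_h, h_ne⟩

theorem relIndex_normalizer_four (a : ZMod (2 ^ (m + 3))) :
    (four a).relIndex (Subgroup.normalizer ((four a : Subgroup (SemiDihedral m)) :
      Set (SemiDihedral m))) = 2 :=
  relIndex_normalizer_lev le_rfl a _ (q m) (by rw [pow_one]; exact h_eq.symm)

theorem relIndex_normalizer_eight (a : ZMod (2 ^ (m + 3))) :
    (eight a).relIndex (Subgroup.normalizer ((eight a : Subgroup (SemiDihedral m)) :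
      Set (SemiDihedral m))) = 2 :=
  relIndex_normalizer_lev (by omega) a _ ((2 ^ m : ℕ) : ZMod (2 ^ (m + 3))) (by
    show _ = half (m + 3)
    rw [half, show m + 3 - 1 = m + 2 by omega]
    push_cast
    ring)

theorem eq_eight_of_quaternion {Q : Subgroup (SemiDihedral m)}
    (e : Q ≃* QuaternionGroup 2) : ∃ c, Q = eight (2 * c + 1) := by
  have h8 : Nat.card Q = 8 := by
    rw [Nat.card_congr e.toEquiv, Nat.card_eq_fintype_card, QuaternionGroup.card]
  have pow4 : ∀ g ∈ Q, g * g * (g * g) = 1 := by
    intro g hg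
    have key : ∀ u : QuaternionGroup 2, u * u * (u * u) = 1 := by decide
    exact congrArg Subtype.val (e.injective (a₁ := (⟨g, hg⟩ : Q) * ⟨g, hg⟩ * (⟨g, hg⟩ * ⟨g, hg⟩))
      (a₂ := 1) (by simp only [map_mul, map_one]; exact key _))
  have uniq : ∀ g ∈ Q, ∀ f ∈ Q, g * g = 1 → f * f = 1 → g ≠ 1 → f ≠ 1 → g = f := by
    intro g hg f hf h1 h2 h3 h4
    have key : ∀ u v : QuaternionGroup 2, u * u = 1 → v * v = 1 → u ≠ 1 → v ≠ 1 → u = v := by decide
    exact congrArg Subtype.val (e.injective (key (e ⟨g, hg⟩) (e ⟨f, hf⟩)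
      (by rw [← map_mul, ← map_one e]; exact congrArg e (Subtype.ext h1))
      (by rw [← map_mul, ← map_one e]; exact congrArg e (Subtype.ext h2))
      (fun hh => h3 (congrArg Subtype.val (e.injective (hh.trans (map_one e).symm))))
      (fun hh => h4 (congrArg Subtype.val (e.injective (hh.trans (map_one e).symm))))))
  have hrot : ∀ b, rot b ∈ Q → 2 ^ 2 * b = 0 := fun b hb => by
    have := pow4 _ hb
    simp only [rot_mul_rot, one_def, rot_inj] at this
    linear_combination this
  by_cases hex : ∃ a, ref a ∈ Q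
  · obtain ⟨a, ha⟩ := hex
    have hle : Q ≤ eight a := by
      intro g hg
      induction g using cases' with
      | hr b => exact rot_mem_lev.2 (hrot b hg)
      | hs b =>
        have h3 := Q.mul_mem hg ha
        rw [ref_mul_ref] at h3
        have h4 := hrot _ h3
        exact ref_mem_lev.2 (by linear_combination h4 - two_pow_mul_h_mul (m := m) (k := 2) (by omega) a)
    have heq : Q = eight a :=
      Subgroup.eq_of_le_of_card_ge hle (by rw [h8]; exact natCard_eight_le a)
    subst heq
    obtain ⟨c, rfl | rfl⟩ := exists_two_mul a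
    · exfalso
      have h1 := (orderOf_eq_two_iff (rot (h m))).2 (Or.inl rfl)
      have h2 := (orderOf_eq_two_iff (ref (2 * c))).2 (Or.inr ⟨c, rfl⟩)
      rw [orderOf_eq_prime_iff, pow_two] at h1 h2
      exact rot_ne_ref _ _ (uniq _ (rot_mem_lev.2 (by linear_combination four_mul_h (m := m))) _ (ref_mem_eight _) h1.1 h2.1 h1.2 h2.2)
    · exact ⟨c, rfl⟩
  · exfalso
    push_neg at hex
    have key : ∃ u v : QuaternionGroup 2, u * v ≠ v * u := by decide
    obtain ⟨u, v, huv⟩ := key
    apply huv
    apply e.symm.injective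
    rw [map_mul, map_mul]
    apply Subtype.ext
    obtain ⟨⟨a, ea⟩, hu⟩ := e.symm u
    obtain ⟨⟨b, eb⟩, hv⟩ := e.symm v
    cases ea
    · cases eb
      · show rot a * rot b = rot b * rot a
        rw [rot_mul_rot, rot_mul_rot]; congr 1; exact add_comm _ _
      · exact absurd hv (hex b)
    · exact absurd hu (hex a)

theorem conj_lev_eq {k : ℕ} (a d : ZMod (2 ^ (m + 3))) {hk : 2 ^ k * (h m * a) = 0}
    {hk' : 2 ^ k * (h m * d) = 0} (g : SemiDihedral m) (hrotg : ∀ b, g * rot b * g⁻¹ = rot b)
    (hg : g * ref a * g⁻¹ = ref d) :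
    (lev k a hk).map (MulAut.conj g).toMonoidHom = lev k d hk' := by
  apply le_antisymm
  · rintro _ ⟨f, hf, rfl⟩
    rw [MulEquiv.coe_toMonoidHom, MulAut.conj_apply]
    rw [SetLike.mem_coe] at hf
    induction f using cases' with
    | hr b => rw [hrotg]; exact rot_mem_lev.2 (rot_mem_lev.1 hf)
    | hs b =>
      have e : g * ref b * g⁻¹ = g * rot (b - a) * g⁻¹ * (g * ref a * g⁻¹) := by
        rw [show g * ref b * g⁻¹ = g * (rot (b - a) * ref a) * g⁻¹ by
          rw [rot_mul_ref, sub_add_cancel]]
        group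
      rw [e, hrotg, hg, rot_mul_ref]
      exact ref_mem_lev.2 (by linear_combination ref_mem_lev.1 hf)
  · intro f hf
    rw [Subgroup.mem_map_equiv, MulAut.conj_symm_apply]
    induction f using cases' with
    | hr b =>
      have e : g⁻¹ * rot b * g = rot b := by
        nth_rewrite 1 [← hrotg b]; group
      rw [e]; exact rot_mem_lev.2 (rot_mem_lev.1 hf)
    | hs b =>
      have e : g⁻¹ * ref b * g = rot (b - d) * ref a := by
        have e1 : g * (rot (b - d) * ref a) * g⁻¹ = ref b := by
          rw [show g * (rot (b - d) * ref a) * g⁻¹ = g * rot (b - d) * g⁻¹ * (g * ref a * g⁻¹) by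
            group, hrotg, hg, rot_mul_ref, sub_add_cancel]
        rw [← e1]; group
      rw [e, rot_mul_ref]
      exact ref_mem_lev.2 (by linear_combination ref_mem_lev.1 hf)

theorem conj_eight (c d : ZMod (2 ^ (m + 3))) :
    ∃ g : SemiDihedral m,
      (eight (2 * c + 1)).map (MulAut.conj g).toMonoidHom = eight (2 * d + 1) := by
  obtain ⟨j, hj⟩ := exists_rot_conj (2 * c + 1) (d - c)
  refine ⟨rot j, conj_lev_eq _ _ _ (fun b => rot_conj_rot j b) ?_⟩
  rw [hj]; congr 1; ring

theorem centralizer_eight (c : ZMod (2 ^ (m + 3))) :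
    Subgroup.centralizer ((eight (2 * c + 1) : Subgroup (SemiDihedral m)) : Set (SemiDihedral m)) ≤
      eight (2 * c + 1) := by
  intro g hg
  induction g using cases' with
  | hr b =>
    have h1 := Subgroup.mem_centralizer_iff.1 hg _ (ref_mem_eight (2 * c + 1))
    simp only [rot_mul_ref, ref_mul_rot, ref_inj] at h1
    refine rot_mem_lev.2 ?_
    linear_combination (-2) * h1 + two_pow_mul_h_mul (m := m) (k := 1) le_rfl b
  | hs b =>
    exfalso
    have h1 := Subgroup.mem_centralizer_iff.1 hg _ (rot_q_mem_eight (2 * c + 1))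
    simp only [rot_mul_ref, ref_mul_rot, ref_inj] at h1
    refine h_ne (m := m) ?_
    linear_combination h1 + h_mul_even (m := m) even_q - (q_add_q (m := m))

/-- `⟨x⟩` -/
def cyc (m : ℕ) : Subgroup (SemiDihedral m) where
  carrier := {g | g.e = false}
  one_mem' := rfl
  mul_mem' := by
    intro u v hu hv
    rw [Set.mem_setOf_eq] at hu hv ⊢
    rw [mul_def]; simp [hu, hv]
  inv_mem' := by intro u hu; exact hu

/-- `⟨x², y⟩` -/
def evn (m : ℕ) : Subgroup (SemiDihedral m) where
  carrier := {g | h m * g.a = 0}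
  one_mem' := by simp [one_def]
  mul_mem' := by
    intro u v
    induction u using cases' <;> induction v using cases' <;>
      (intro hu hv; simp at hu hv ⊢)
    all_goals first
      | linear_combination hu + hv
      | linear_combination hu + h m * hv - hv
  inv_mem' := by
    intro u
    induction u using cases' <;> (intro hu; simp at hu ⊢)
    all_goals first
      | linear_combination hu
      | linear_combination hu - h m * hu

/-- `⟨x², xy⟩` -/
def mix (m : ℕ) : Subgroup (SemiDihedral m) where
  carrier := {g | h m * g.a = if g.e then h m else 0}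
  one_mem' := by simp [one_def]
  mul_mem' := by
    intro u v
    induction u using cases' <;> induction v using cases' <;>
      (intro hu hv; simp at hu hv ⊢)
    all_goals first
      | linear_combination hu + hv
      | linear_combination hu + h m * hv - hv + two_mul_h (m := m)
      | linear_combination hu + h m * hv - hv + h_mul_h (m := m)
      | linear_combination hu + h m * hv - hv
  inv_mem' := by
    intro u
    induction u using cases' <;> (intro hu; simp at hu ⊢)
    all_goals first
      | linear_combination hu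
      | linear_combination hu - h m * hu - h_mul_h (m := m)

theorem rot_mem_cyc (b : ZMod (2 ^ (m + 3))) : rot b ∈ cyc m := rfl
theorem ref_not_mem_cyc (a : ZMod (2 ^ (m + 3))) : ref a ∉ cyc m := fun hh => Bool.noConfusion hh
theorem rot_mem_evn {b : ZMod (2 ^ (m + 3))} : rot b ∈ evn m ↔ h m * b = 0 := Iff.rfl
theorem ref_mem_evn {b : ZMod (2 ^ (m + 3))} : ref b ∈ evn m ↔ h m * b = 0 := Iff.rfl
theorem rot_mem_mix {b : ZMod (2 ^ (m + 3))} : rot b ∈ mix m ↔ h m * b = 0 := Iff.rfl
theorem ref_mem_mix {b : ZMod (2 ^ (m + 3))} : ref b ∈ mix m ↔ h m * b = h m := Iff.rfl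

theorem h_mul_add_one (b : ZMod (2 ^ (m + 3))) :
    Xor (h m * (b + 1) = 0) (h m * b = 0) := by
  rcases half_mul_eq (n := m + 3) (by omega) b with e | e
  · exact Or.inr ⟨e, by rw [mul_add, e, mul_one, zero_add]; exact h_ne⟩
  · exact Or.inl ⟨by rw [mul_add, e, mul_one]; exact h_add_h, by rw [e]; exact h_ne⟩

theorem index_cyc : (cyc m).index = 2 := by
  rw [Subgroup.index_eq_two_iff]
  refine ⟨ref 0, fun g => ?_⟩
  induction g using cases' with
  | hr b =>
    rw [rot_mul_ref]
    exact Or.inr ⟨rot_mem_cyc _, ref_not_mem_cyc _⟩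
  | hs b =>
    rw [ref_mul_ref]
    exact Or.inl ⟨rot_mem_cyc _, ref_not_mem_cyc _⟩

theorem h_mul_twist (b : ZMod (2 ^ (m + 3))) :
    h m * (b + (h m * 1 - 1)) = h m * (b + 1) := by
  linear_combination h_mul_h (m := m) - two_mul_h (m := m)

theorem index_evn : (evn m).index = 2 := by
  rw [Subgroup.index_eq_two_iff]
  refine ⟨rot 1, fun g => ?_⟩
  induction g using cases' with
  | hr b =>
    rw [rot_mul_rot, rot_mem_evn, rot_mem_evn]; exact h_mul_add_one b
  | hs b =>
    rw [ref_mul_rot, ref_mem_evn, ref_mem_evn, h_mul_twist]; exact h_mul_add_one b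

theorem index_mix : (mix m).index = 2 := by
  rw [Subgroup.index_eq_two_iff]
  refine ⟨rot 1, fun g => ?_⟩
  induction g using cases' with
  | hr b => rw [rot_mul_rot, rot_mem_mix, rot_mem_mix]; exact h_mul_add_one b
  | hs b =>
    rw [ref_mul_rot, ref_mem_mix, ref_mem_mix, h_mul_twist]
    rcases half_mul_eq (n := m + 3) (by omega) b with e | e
    · exact Or.inl ⟨by rw [mul_add, e, mul_one, zero_add], by rw [e]; exact fun hh => h_ne hh.symm⟩
    · exact Or.inr ⟨e, by rw [mul_add, e, mul_one, h_add_h]; exact fun hh => h_ne hh.symm⟩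

theorem isCoatom_of_index_two {G : Type*} [Group G] {M : Subgroup G} (hM : M.index = 2) :
    IsCoatom M := by
  refine ⟨fun hh => by rw [hh, Subgroup.index_top] at hM; omega, fun K hK => ?_⟩
  have h1 := Subgroup.relIndex_mul_index hK.le
  rw [hM] at h1
  have h2 : K.index ∣ 2 := ⟨M.relIndex K, by rw [mul_comm]; exact h1.symm⟩
  rcases (Nat.dvd_prime Nat.prime_two).1 h2 with e | e
  · exact Subgroup.index_eq_one.1 e
  · exfalso
    rw [e] at h1
    exact hK.not_ge (Subgroup.relIndex_eq_one.1 (by omega))

theorem commutator_le_of_index_two {G : Type*} [Group G] {M : Subgroup G} (hM : M.index = 2) :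
    commutator G ≤ M := by
  haveI := Subgroup.normal_of_index_eq_two hM
  haveI : IsCyclic (G ⧸ M) := isCyclic_of_prime_card (p := 2) (by rw [← Subgroup.index_eq_card, hM])
  exact Subgroup.Normal.quotient_commutative_iff_commutator_le.1 inferInstance

theorem cyc_eq_zpowers : cyc m = Subgroup.zpowers (rot (1 : ZMod (2 ^ (m + 3)))) := by
  apply le_antisymm
  · intro g hg
    induction g using cases' with
    | hr b =>
      haveI : NeZero (2 ^ (m + 3)) := ⟨by positivity⟩
      have e : rot (1 : ZMod (2 ^ (m + 3))) ^ b.val = rot b := by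
        rw [rot_pow, mul_one, ZMod.natCast_zmod_val]
      rw [← e]; exact pow_mem (Subgroup.mem_zpowers _) _
    | hs b => exact absurd hg (ref_not_mem_cyc b)
  · rw [Subgroup.zpowers_le]; exact rot_mem_cyc _

theorem isCyclic_cyc : IsCyclic (cyc m) := by rw [cyc_eq_zpowers]; infer_instance

/-- the even rotations `⟨x²⟩` -/
theorem cyc_inf_evn_eq : cyc m ⊓ evn m = Subgroup.zpowers (rot (2 : ZMod (2 ^ (m + 3)))) := by
  apply le_antisymm
  · rintro g ⟨h1, h2⟩
    induction g using cases' with
    | hr b =>
      haveI : NeZero (2 ^ (m + 3)) := ⟨by positivity⟩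
      obtain ⟨c, rfl⟩ := (half_mul_eq_zero_iff (by omega)).1 (rot_mem_evn.1 h2)
      have e : rot (2 : ZMod (2 ^ (m + 3))) ^ c.val = rot (2 * c) := by
        rw [rot_pow, ZMod.natCast_zmod_val, mul_comm]
      rw [← e]; exact pow_mem (Subgroup.mem_zpowers _) _
    | hs b => exact absurd h1 (ref_not_mem_cyc b)
  · rw [Subgroup.zpowers_le]
    exact ⟨rot_mem_cyc _, rot_mem_evn.2 (h_mul_even ⟨1, (mul_one _).symm⟩)⟩

theorem orderOf_rot_two : orderOf (rot (2 : ZMod (2 ^ (m + 3)))) = 2 ^ (m + 2) := by
  have e : rot (2 : ZMod (2 ^ (m + 3))) = rot 1 ^ 2 := by rw [rot_pow]; congr 1; norm_num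
  rw [e, orderOf_pow' _ two_ne_zero, orderOf_rot_one,
    Nat.gcd_eq_right (dvd_pow_self 2 (by omega)), pow_succ (n := m + 2), Nat.mul_div_cancel _ two_pos]

theorem commutator_eq : commutator (SemiDihedral m) = cyc m ⊓ evn m := by
  haveI h1 := Subgroup.normal_of_index_eq_two (index_cyc (m := m))
  haveI h2 := Subgroup.normal_of_index_eq_two (index_evn (m := m))
  apply le_antisymm
  · refine le_inf ?_ ?_
    · exact commutator_le_of_index_two index_cyc
    · exact commutator_le_of_index_two index_evn
  · rw [cyc_inf_evn_eq, Subgroup.zpowers_le]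
    obtain ⟨j, hj⟩ := exists_rot_conj (m := m) 0 1
    have hm : ⁅rot j, ref (0 : ZMod (2 ^ (m + 3)))⁆ ∈ commutator (SemiDihedral m) :=
      Subgroup.commutator_mem_commutator (Subgroup.mem_top _) (Subgroup.mem_top _)
    rw [commutatorElement_def, hj, ref_inv, ref_mul_ref] at hm
    have e : (0 : ZMod (2 ^ (m + 3))) + 2 * 1 + (h m * (0 - h m * 0) - (0 - h m * 0)) = 2 := by ring
    rwa [e] at hm

theorem normal_cases {N : Subgroup (SemiDihedral m)} [hN : N.Normal] (hne : N ≠ ⊤) :
    N = cyc m ∨ N = evn m ∨ N = mix m ∨ N ≤ cyc m ⊓ evn m := by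
  by_cases hex : ∃ a, ref a ∈ N
  · obtain ⟨a, ha⟩ := hex
    have hall : ∀ c, ref (a + 2 * c) ∈ N := fun c => by
      obtain ⟨j, hj⟩ := exists_rot_conj a c
      rw [← hj]; exact hN.conj_mem _ ha _
    have hrot : ∀ c, rot (2 * c) ∈ N := fun c => by
      have := N.mul_mem (hall c) (N.inv_mem ha)
      rw [ref_inv, ref_mul_ref] at this
      have e : a + 2 * c + (h m * (a - h m * a) - (a - h m * a)) = 2 * c := by
        linear_combination a * two_mul_h (m := m) - a * h_mul_h (m := m)
      rwa [e] at this
    obtain ⟨d, rfl | rfl⟩ := exists_two_mul a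
    · refine Or.inr (Or.inl ((isCoatom_of_index_two index_evn).le_iff.1 ?_ |>.resolve_left hne))
      intro g hg
      induction g using cases' with
      | hr b =>
        obtain ⟨c, rfl⟩ := (half_mul_eq_zero_iff (by omega)).1 (rot_mem_evn.1 hg)
        exact hrot c
      | hs b =>
        obtain ⟨c, rfl⟩ := (half_mul_eq_zero_iff (by omega)).1 (ref_mem_evn.1 hg)
        have := hall (c - d)
        rwa [show 2 * d + 2 * (c - d) = 2 * c by ring] at this
    · refine Or.inr (Or.inr (Or.inl ((isCoatom_of_index_two index_mix).le_iff.1 ?_ |>.resolve_left hne)))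
      intro g hg
      induction g using cases' with
      | hr b =>
        obtain ⟨c, rfl⟩ := (half_mul_eq_zero_iff (by omega)).1 (rot_mem_mix.1 hg)
        exact hrot c
      | hs b =>
        obtain ⟨c, rfl⟩ := (half_mul_eq_half_iff (by omega)).1 (ref_mem_mix.1 hg)
        have := hall (c - d)
        rwa [show 2 * d + 1 + 2 * (c - d) = 2 * c + 1 by ring] at this
  · push_neg at hex
    have hle : N ≤ cyc m := by
      intro g hg
      induction g using cases' with
      | hr b => exact rot_mem_cyc b
      | hs b => exact absurd hg (hex b)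
    by_cases hodd : ∃ b, rot b ∈ N ∧ h m * b ≠ 0
    · obtain ⟨b, hb, hb'⟩ := hodd
      refine Or.inl (le_antisymm hle ?_)
      rw [cyc_eq_zpowers, Subgroup.zpowers_le]
      obtain ⟨c, rfl⟩ := (half_mul_eq_half_iff (by omega)).1
        ((half_mul_eq (by omega) b).resolve_left hb')
      obtain ⟨u, hu⟩ := isUnit_two_mul_add_one c
      haveI : NeZero (2 ^ (m + 3)) := ⟨by positivity⟩
      have := N.pow_mem hb (↑u⁻¹ : ZMod (2 ^ (m + 3))).val
      rwa [rot_pow, ZMod.natCast_zmod_val, ← hu, u.inv_mul] at this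
    · push_neg at hodd
      refine Or.inr (Or.inr (Or.inr fun g hg => ⟨hle hg, ?_⟩))
      induction g using cases' with
      | hr b => exact rot_mem_evn.2 (hodd b hg)
      | hs b => exact absurd hg (hex b)

theorem center_eq : Subgroup.center (SemiDihedral m) = Subgroup.zpowers (rot (h m)) := by
  apply le_antisymm
  · intro g hg
    rw [Subgroup.mem_center_iff] at hg
    induction g using cases' with
    | hr b =>
      have h1 := hg (ref 0)
      simp only [ref_mul_rot, rot_mul_ref, ref_inj, zero_add, add_zero] at h1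
      have h2 : 2 * b = h m * b := by linear_combination -h1
      rcases half_mul_eq (n := m + 3) (by omega) b with e | e
      · rw [e] at h2
        rcases two_mul_eq_zero (by omega) h2 with rfl | rfl
        · exact one_mem _
        · exact Subgroup.mem_zpowers _
      · exfalso
        rw [e] at h2
        rcases two_mul_eq_half (n := m + 3) (by omega) h2 with rfl | rfl
        · exact h_ne (e.symm.trans (h_mul_even even_q))
        · exact h_ne (e.symm.trans (h_mul_even (by
            obtain ⟨d, hd⟩ := even_q (m := m)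
            exact ⟨-d, by linear_combination -hd⟩)))
    | hs b =>
      exfalso
      have h1 := hg (rot 1)
      simp only [ref_mul_rot, rot_mul_ref, ref_inj, mul_one] at h1
      have h2 : h m = 2 := by linear_combination -h1
      have h3 : 2 * (q m - 1) = 0 := by linear_combination h2 - h_eq (m := m)
      have h4 : h m * (q m - 1) = 0 := by
        rcases two_mul_eq_zero (n := m + 3) (by omega) h3 with e | e <;> rw [e]
        · exact mul_zero _
        · exact h_mul_h
      exact h_ne (by linear_combination h_mul_even (m := m) even_q - h4)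
  · rw [Subgroup.zpowers_le, Subgroup.mem_center_iff]
    intro g
    induction g using cases' with
    | hr b => simp [add_comm]
    | hs b =>
      simp only [ref_mul_rot, rot_mul_ref, ref_inj]
      linear_combination h_mul_h (m := m) - two_mul_h (m := m)

end CfsgLib.TwoGroups.SemiDihedral
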