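import Mathlib
import Cfsg.Agent.Lib.TwoGroups.SemiDihedralSubgroups
import Cfsg.Agent.Lib.TwoGroups.DihedralModel

/-!
The two-bit invariant of the semidihedral model, and the shapes of some of its subgroups.
-/

set_option autoImplicit false

namespace CfsgLib.TwoGroups.SemiDihedral

variable {m : ℕ}

/-- Parity of exponents. -/
abbrev par (m : ℕ) : ZMod (2 ^ (m + 3)) →+* ZMod 2 := Dihedral.parity (show 1 ≤ m + 3 by omega)

theorem par_eq_zero_iff {t : ZMod (2 ^ (m + 3))} : par m t = 0 ↔ h m * t = 0 :=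
  Dihedral.parity_eq_zero_iff _

theorem par_h : par m (h m) = 0 := Dihedral.parity_half (by omega)

theorem par_two_mul (c : ZMod (2 ^ (m + 3))) : par m (2 * c) = 0 := Dihedral.parity_two_mul _ c

theorem par_two_mul_add_one (c : ZMod (2 ^ (m + 3))) : par m (2 * c + 1) = 1 := by
  rw [map_add, par_two_mul, map_one, zero_add]

theorem par_tw (e : Bool) (b : ZMod (2 ^ (m + 3))) : par m (tw e b) = par m b := by
  cases e
  · rfl
  · simp only [tw, if_true, map_sub, map_mul, par_h, zero_mul, zero_sub]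
    generalize par m b = p
    revert p; decide

/-- The two-bit invariant. -/
def chi (m : ℕ) : SemiDihedral m →* Multiplicative (ZMod 2 × ZMod 2) where
  toFun g := Multiplicative.ofAdd (if g.e then 1 else 0, par m g.a)
  map_one' := by
    show Multiplicative.ofAdd ((0 : ZMod 2), par m 0) = 1
    rw [map_zero]; rfl
  map_mul' := by
    rintro ⟨a, e⟩ ⟨b, e'⟩
    simp only [mul_def, map_add, par_tw, ← ofAdd_add, Prod.mk_add_mk]
    cases e <;> cases e' <;> simp <;> rfl

theorem chi_rot (b : ZMod (2 ^ (m + 3))) :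
    chi m (rot b) = Multiplicative.ofAdd ((0 : ZMod 2), par m b) := rfl

theorem chi_ref (b : ZMod (2 ^ (m + 3))) :
    chi m (ref b) = Multiplicative.ofAdd ((1 : ZMod 2), par m b) := rfl

theorem chi_surjective : Function.Surjective (chi m) := by
  intro v
  obtain ⟨⟨e, p⟩, rfl⟩ := Multiplicative.ofAdd.surjective v
  fin_cases e <;> fin_cases p
  · exact ⟨rot 0, by rw [chi_rot, map_zero]; rfl⟩
  · exact ⟨rot 1, by rw [chi_rot, map_one]; rfl⟩
  · exact ⟨ref 0, by rw [chi_ref, map_zero]; rfl⟩
  · exact ⟨ref 1, by rw [chi_ref, map_one]; rfl⟩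

/-- A linear function of the invariant. -/
noncomputable def lin (u v : ZMod 2) : Multiplicative (ZMod 2 × ZMod 2) →* Multiplicative (ZMod 2) :=
  AddMonoidHom.toMultiplicative
    ((AddMonoidHom.mulLeft u).comp (AddMonoidHom.fst _ _) +
      (AddMonoidHom.mulLeft v).comp (AddMonoidHom.snd _ _))

theorem lin_ofAdd (u v e p : ZMod 2) :
    lin u v (Multiplicative.ofAdd (e, p)) = Multiplicative.ofAdd (u * e + v * p) := rfl

/-- Elements of maximal order are recognised by a power. -/
theorem pow_big_eq_one_iff (g : SemiDihedral m) :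
    g ^ 2 ^ (m + 2) = 1 ↔ chi m g ≠ Multiplicative.ofAdd ((0 : ZMod 2), (1 : ZMod 2)) := by
  induction g using cases' with
  | hr b =>
    have e : (((2 ^ (m + 2) : ℕ)) : ZMod (2 ^ (m + 3))) = h m := rfl
    rw [rot_pow, e, one_def, rot_inj, ← par_eq_zero_iff, chi_rot, Ne,
      Multiplicative.ofAdd.injective.eq_iff]
    generalize par m b = p
    revert p; decide
  | hs b =>
    refine iff_of_true ?_ (fun e => ?_)
    · rw [show 2 ^ (m + 2) = 2 * (2 * 2 ^ m) by ring, pow_mul, pow_two, ref_sq, pow_mul, pow_two,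
        rot_mul_rot, ← two_mul, ← mul_assoc, two_mul_h, zero_mul, ← one_def, one_pow]
    · rw [chi_ref, Multiplicative.ofAdd.injective.eq_iff] at e
      exact one_ne_zero (congrArg Prod.fst e)

theorem mem_mix_iff (g : SemiDihedral m) :
    g ∈ mix m ↔ lin 1 1 (chi m g) = 1 := by
  induction g using cases' with
  | hr b =>
    rw [rot_mem_mix, chi_rot, lin_ofAdd, ← par_eq_zero_iff, ← ofAdd_zero,
      Multiplicative.ofAdd.injective.eq_iff]
    generalize par m b = p
    revert p; decide
  | hs b =>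
    rw [ref_mem_mix, chi_ref, lin_ofAdd, ← ofAdd_zero, Multiplicative.ofAdd.injective.eq_iff]
    constructor
    · intro hh
      have h1 : par m b ≠ 0 := fun e => h_ne (hh.symm.trans (par_eq_zero_iff.1 e))
      revert h1
      generalize par m b = p
      revert p; decide
    · intro hh
      refine (half_mul_eq (by omega) b).resolve_left fun e => ?_
      rw [par_eq_zero_iff.2 e] at hh
      exact absurd hh (by decide)

theorem mem_evn_iff (g : SemiDihedral m) :
    g ∈ evn m ↔ lin 0 1 (chi m g) = 1 := by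
  induction g using cases' with
  | hr b =>
    rw [rot_mem_evn, chi_rot, lin_ofAdd, ← par_eq_zero_iff, ← ofAdd_zero,
      Multiplicative.ofAdd.injective.eq_iff]
    generalize par m b = p
    revert p; decide
  | hs b =>
    rw [ref_mem_evn, chi_ref, lin_ofAdd, ← par_eq_zero_iff, ← ofAdd_zero,
      Multiplicative.ofAdd.injective.eq_iff]
    generalize par m b = p
    revert p; decide

theorem natCard_of_index_two {M : Subgroup (SemiDihedral m)} (hM : M.index = 2) :
    Nat.card M = 2 ^ (m + 3) := by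
  have h1 := M.card_mul_index
  rw [hM, natCard, pow_succ] at h1
  omega

theorem mix_equiv : Nonempty (mix m ≃* QuaternionGroup (2 ^ (m + 1))) := by
  refine nonempty_mulEquiv_quaternionGroup (a := ⟨rot 2, rot_mem_mix.2 (h_mul_even ⟨1, by ring⟩)⟩)
    (b := ⟨ref 1, ref_mem_mix.2 (mul_one _)⟩) ?_ ?_ ?_ ?_ ?_
  · rw [← Subgroup.orderOf_coe, orderOf_rot_two]; ring
  · refine Subtype.ext ?_
    push_cast
    rw [ref_sq, rot_pow, mul_one]
    congr 1
    show half (m + 3) = _
    rw [half, show m + 3 - 1 = m + 2 by omega]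
    push_cast; ring
  · intro hmem
    obtain ⟨k, hk⟩ := Subgroup.mem_zpowers_iff.1 hmem
    have h1 : (rot (2 : ZMod (2 ^ (m + 3)))) ^ k ∈ cyc m := zpow_mem (rot_mem_cyc _) k
    have h2 := congrArg Subtype.val hk
    push_cast at h2
    rw [h2] at h1
    exact ref_not_mem_cyc _ h1
  · refine Subtype.ext ?_
    push_cast
    rw [ref_conj_rot, rot_inv, h_mul_even ⟨1, (mul_one _).symm⟩, zero_sub]
  · rw [natCard_of_index_two index_mix]; ring

theorem evn_equiv : Nonempty (evn m ≃* DihedralGroup (2 ^ (m + 2))) := by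
  refine nonempty_mulEquiv_dihedralGroup (a := ⟨rot 2, rot_mem_evn.2 (h_mul_even ⟨1, by ring⟩)⟩)
    (b := ⟨ref 0, ref_mem_evn.2 (mul_zero _)⟩) ?_ ?_ ?_ ?_ ?_
  · rw [← Subgroup.orderOf_coe, orderOf_rot_two]
  · refine Subtype.ext ?_
    push_cast
    rw [ref_sq, mul_zero, one_def]
  · intro hmem
    obtain ⟨k, hk⟩ := Subgroup.mem_zpowers_iff.1 hmem
    have h1 : (rot (2 : ZMod (2 ^ (m + 3)))) ^ k ∈ cyc m := zpow_mem (rot_mem_cyc _) k
    have h2 := congrArg Subtype.val hk
    push_cast at h2
    rw [h2] at h1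
    exact ref_not_mem_cyc _ h1
  · refine Subtype.ext ?_
    push_cast
    rw [ref_conj_rot, rot_inv, h_mul_even ⟨1, (mul_one _).symm⟩, zero_sub]
  · rw [natCard_of_index_two index_evn]; ring

theorem isCyclic_chi_ker : IsCyclic (chi m).ker := by
  haveI := isCyclic_cyc (m := m)
  refine Subgroup.isCyclic_of_le (H := (chi m).ker) (H' := cyc m) fun g hg => ?_
  induction g using cases' with
  | hr b => exact rot_mem_cyc b
  | hs b =>
    rw [MonoidHom.mem_ker, chi_ref, ← ofAdd_zero, Multiplicative.ofAdd.injective.eq_iff] at hg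
    exact absurd (congrArg Prod.fst hg) one_ne_zero

theorem isPGroup_subgroup (H : Subgroup (SemiDihedral m)) : IsPGroup 2 H := isPGroup.to_subgroup H

theorem isKleinFour_four (c : ZMod (2 ^ (m + 3))) : IsKleinFour (four (2 * c) : Subgroup (SemiDihedral m)) := by
  have hsq : ∀ g ∈ (four (2 * c) : Subgroup (SemiDihedral m)), g * g = 1 := by
    intro g hg
    induction g using cases' with
    | hr b =>
      rw [rot_mul_rot, one_def, rot_inj, ← two_mul]
      have := rot_mem_lev.1 hg
      rwa [pow_one] at this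
    | hs b =>
      rw [ref_sq, one_def, rot_inj]
      have := ref_mem_lev.1 hg
      rw [pow_one] at this
      rcases two_mul_eq_zero (by omega) this with e | e
      · exact h_mul_even ⟨c, sub_eq_zero.1 e⟩
      · exact h_mul_even ⟨c + q m, by linear_combination e + h_eq (m := m)⟩
  have hord : orderOf (ref (2 * c)) = 2 := (orderOf_eq_two_iff _).2 (Or.inr ⟨c, rfl⟩)
  refine ⟨le_antisymm (natCard_four_le _) ?_, ?_⟩
  · obtain ⟨k, hk⟩ := IsPGroup.iff_card.1 (isPGroup_subgroup (four (2 * c) : Subgroup (SemiDihedral m)))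
    rw [hk]
    rcases k with _ | _ | k
    · exfalso
      have h1 := Subgroup.eq_bot_of_card_eq (H := (four (2 * c) : Subgroup (SemiDihedral m))) hk
      have h2 := ref_mem_four (2 * c)
      rw [h1, Subgroup.mem_bot] at h2
      rw [h2, orderOf_one] at hord
      omega
    · exfalso
      have heq : Subgroup.zpowers (ref (2 * c)) = four (2 * c) :=
        Subgroup.eq_of_le_of_card_ge (Subgroup.zpowers_le.2 (ref_mem_four _))
          (by rw [hk, Nat.card_zpowers, hord]; rfl)
      have h3 := rot_h_mem_four (2 * c)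
      rw [← heq] at h3
      obtain ⟨j, hj⟩ := Subgroup.mem_zpowers_iff.1 h3
      rw [← zpow_mod_orderOf, hord] at hj
      rcases Int.emod_two_eq j with e | e <;> simp only [Nat.cast_ofNat, e, zpow_zero, zpow_one] at hj
      · exact h_ne (rot_inj.1 (hj.symm.trans one_def))
      · exact rot_ne_ref _ _ hj.symm
    · calc 4 = 2 ^ 2 := rfl
        _ ≤ _ := Nat.pow_le_pow_right two_pos (by omega)
  · refine Nat.dvd_antisymm (Monoid.exponent_dvd_of_forall_pow_eq_one fun g => ?_) ?_
    · exact Subtype.ext (by rw [Subgroup.coe_pow, pow_two]; exact hsq _ g.2)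
    · exact (show orderOf (⟨ref (2 * c), ref_mem_four _⟩ : (four (2 * c) : Subgroup (SemiDihedral m))) = 2 by
        rw [Subgroup.orderOf_mk, hord]).symm.dvd.trans (Monoid.order_dvd_exponent _)

theorem orderOf_rot_q : orderOf (rot (q m)) = 4 := (orderOf_eq_four_iff _).2 (Or.inl rfl)

theorem orderOf_ref_odd (c : ZMod (2 ^ (m + 3))) : orderOf (ref (2 * c + 1)) = 4 :=
  (orderOf_eq_four_iff _).2 (Or.inr (Or.inr ⟨c, rfl⟩))

theorem ref_not_mem_zpowers_rot (a b : ZMod (2 ^ (m + 3))) :
    ref a ∉ Subgroup.zpowers (rot b) := fun hmem =>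
  ref_not_mem_cyc a ((Subgroup.zpowers_le.2 (rot_mem_cyc b)) hmem)

theorem eight_equiv (c : ZMod (2 ^ (m + 3))) :
    Nonempty ((eight (2 * c + 1) : Subgroup (SemiDihedral m)) ≃* QuaternionGroup 2) := by
  have hcard : Nat.card (eight (2 * c + 1) : Subgroup (SemiDihedral m)) = 8 := by
    refine le_antisymm (natCard_eight_le _) ?_
    obtain ⟨k, hk⟩ := IsPGroup.iff_card.1 (isPGroup_subgroup (eight (2 * c + 1) : Subgroup (SemiDihedral m)))
    have hle : Subgroup.zpowers (rot (q m)) ≤ eight (2 * c + 1) :=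
      Subgroup.zpowers_le.2 (rot_q_mem_eight _)
    have h4 : 4 < 2 ^ k := by
      rw [← hk]
      by_contra hh
      push Not at hh
      have := Subgroup.eq_of_le_of_card_ge hle (by rw [Nat.card_zpowers, orderOf_rot_q]; exact hh)
      exact ref_not_mem_zpowers_rot (2 * c + 1) (q m) (by rw [this]; exact ref_mem_eight _)
    rw [hk]
    have : 3 ≤ k := by
      by_contra hh
      push Not at hh
      have := Nat.pow_le_pow_right (two_pos) (show k ≤ 2 by omega)
      omega
    calc 8 = 2 ^ 3 := rfl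
      _ ≤ _ := Nat.pow_le_pow_right two_pos this
  refine nonempty_mulEquiv_quaternionGroup (n := 2) (a := ⟨rot (q m), rot_q_mem_eight _⟩)
    (b := ⟨ref (2 * c + 1), ref_mem_eight _⟩) ?_ ?_ ?_ ?_ hcard
  · rw [← Subgroup.orderOf_coe, orderOf_rot_q]
  · refine Subtype.ext ?_
    push_cast
    rw [ref_sq, pow_two, rot_mul_rot, q_add_q, half_mul_two_add_one (by omega)]
  · intro hmem
    obtain ⟨k, hk⟩ := Subgroup.mem_zpowers_iff.1 hmem
    exact ref_not_mem_zpowers_rot (2 * c + 1) (q m)
      ⟨k, by simpa using congrArg Subtype.val hk⟩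
  · refine Subtype.ext ?_
    push_cast
    rw [ref_conj_rot, rot_inv, h_mul_even even_q, zero_sub]

/-- `2^m`, a square root of the square root of `rot (h m)`. -/
abbrev r (m : ℕ) : ZMod (2 ^ (m + 3)) := ((2 ^ m : ℕ) : ZMod (2 ^ (m + 3)))

theorem two_mul_r : 2 * r m = q m := by
  show (2 : ZMod (2 ^ (m + 3))) * _ = quarter (m + 3)
  rw [quarter, show m + 3 - 2 = m + 1 by omega]
  push_cast; ring

theorem rot_q_mem_normalizer_four (c : ZMod (2 ^ (m + 3))) :
    rot (q m) ∈ Subgroup.normalizer
      ((four (2 * c) : Subgroup (SemiDihedral m)) : Set (SemiDihedral m)) := by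
  rw [four, normalizer_lev le_rfl (2 * c) _ (two_pow_mul_h_mul (by omega) _), rot_mem_lev]
  linear_combination four_mul_q (m := m)

theorem rot_r_mem_normalizer_eight (e : ZMod (2 ^ (m + 3))) :
    rot (r m) ∈ Subgroup.normalizer
      ((eight e : Subgroup (SemiDihedral m)) : Set (SemiDihedral m)) := by
  rw [eight, normalizer_lev (by omega) e _ (two_pow_mul_h_mul (by omega) _), rot_mem_lev]
  linear_combination 4 * two_mul_r (m := m) + four_mul_q (m := m)

/-- `rot r` moves every cyclic subgroup of order 4 outside the rotations. -/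
theorem rot_r_moves (e : ZMod (2 ^ (m + 3))) :
    rot (r m) * ref e * (rot (r m))⁻¹ ≠ ref e ∧ rot (r m) * ref e * (rot (r m))⁻¹ ≠ (ref e)⁻¹ := by
  rw [rot_conj_ref, ref_inv]
  have key : 2 * (2 * r m - h m * r m) = h m := by
    linear_combination 2 * two_mul_r (m := m) - r m * two_mul_h (m := m) + q_add_q (m := m)
  constructor
  · intro hh
    refine h_ne (m := m) ?_
    rw [← key]
    linear_combination 2 * ref_inj.1 hh
  · intro hh
    refine h_ne (m := m) ?_
    rw [← key]
    linear_combination 2 * ref_inj.1 hh - e * two_mul_h (m := m)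

theorem rot_q_moves (b : ZMod (2 ^ (m + 3))) :
    rot (q m) * ref b * (rot (q m))⁻¹ ≠ ref b := by
  rw [rot_conj_ref]
  intro hh
  refine h_ne (m := m) ?_
  linear_combination ref_inj.1 hh + h_mul_even (m := m) even_q + h_eq (m := m)

theorem exists_rot_eq_pow (t : ZMod (2 ^ (m + 3))) :
    ∃ k : ℕ, (rot (h m - 1)) ^ k = rot t := by
  refine ⟨(t * (h m - 1)).val, ?_⟩
  rw [rot_pow, ZMod.natCast_zmod_val, rot_inj]
  linear_combination t * h_mul_h (m := m) - t * two_mul_h (m := m)

end CfsgLib.TwoGroups.SemiDihedral
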