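import Mathlib
import Cfsg.Prelude.Def_TwoFusion
import Cfsg.Agent.Lib.TwoGroups.SemiDihedralShapes
import Cfsg.Agent.Lib.TwoGroups.ModelTools
import Cfsg.Agent.Lib.TwoGroups.Automizer

/-!
Fusion in a finite group with a quasi-dihedral Sylow 2-subgroup.
-/

set_option autoImplicit false

namespace CfsgLib.TwoGroups.SemiDihedral

variable {G : Type*} [Group G] {m : ℕ} {f : SemiDihedral m →* G}

/-- The central involution is fused to a non-central one. -/
abbrev InvFused (f : SemiDihedral m →* G) : Prop := IsConj (f (ref 0)) (f (rot (h m)))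

/-- The rotations of order 4 are fused to the other elements of order 4. -/
abbrev FourFused (f : SemiDihedral m →* G) : Prop := IsConj (f (ref 1)) (f (rot (q m)))

theorem isConj_ref_of_par (f : SemiDihedral m →* G) {a b : ZMod (2 ^ (m + 3))}
    (hp : par m a = par m b) : IsConj (f (ref a)) (f (ref b)) := by
  obtain ⟨c, hc⟩ := (half_mul_eq_zero_iff (show 1 ≤ m + 3 by omega)).1
    ((par_eq_zero_iff (t := b - a)).1 (by rw [map_sub, hp, sub_self]))
  obtain ⟨j, hj⟩ := exists_rot_conj a c
  refine isConj_iff.2 ⟨f (rot j), ?_⟩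
  rw [← map_inv, ← map_mul, ← map_mul, hj]
  congr 2
  linear_combination -hc

theorem isConj_ref_even (f : SemiDihedral m →* G) (c : ZMod (2 ^ (m + 3))) :
    IsConj (f (ref (2 * c))) (f (ref 0)) :=
  isConj_ref_of_par f (by rw [par_two_mul, map_zero])

theorem isConj_ref_odd (f : SemiDihedral m →* G) (c : ZMod (2 ^ (m + 3))) :
    IsConj (f (ref (2 * c + 1))) (f (ref 1)) :=
  isConj_ref_of_par f (by rw [par_two_mul_add_one, map_one])

theorem isConj_rot_neg_q (f : SemiDihedral m →* G) : IsConj (f (rot (-q m))) (f (rot (q m))) :=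
  isConj_iff.2 ⟨f (ref 0), by
    rw [← map_inv, ← map_mul, ← map_mul, ref_conj_rot, mul_neg, h_mul_even even_q]; congr 2; ring⟩

theorem ref_odd_inv (c : ZMod (2 ^ (m + 3))) :
    ∃ d, (ref (2 * c + 1))⁻¹ = ref (2 * d + 1) := by
  rw [ref_inv]
  exact ⟨c - q m, by
    rw [half_mul_two_add_one (by omega)]; congr 1; linear_combination -(h_eq (m := m))⟩

theorem exists_model [Finite G] {S : Sylow 2 G} (hS : Cfsg.IsQuasiDihedral (S : Subgroup G)) :
    ∃ (m : ℕ) (f : SemiDihedral m →* G), Function.Injective f ∧ f.range = (S : Subgroup G) := by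
  obtain ⟨m, -, ⟨e⟩⟩ := of_isQuasiDihedral hS
  exact ⟨m, (S : Subgroup G).subtype.comp e.symm.toMonoidHom,
    (S : Subgroup G).subtype_injective.comp e.symm.injective, by
    rw [MonoidHom.range_comp, MonoidHom.range_eq_top.2 e.symm.surjective, ← MonoidHom.range_eq_map,
      Subgroup.range_subtype]⟩

section Sylow

variable [Finite G] {S : Sylow 2 G} (hf : Function.Injective f) (hS : f.range = (S : Subgroup G))

include hf hS in
theorem exists_eq_four {T : Subgroup G} (hT : IsKleinFour T) (hTS : T ≤ (S : Subgroup G)) :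
    ∃ c, T = (four (2 * c)).map f := by
  obtain ⟨B, hB, ⟨e⟩⟩ := exists_map_eq_of_le_range hf (hS.symm ▸ hTS : T ≤ f.range)
  obtain ⟨c, rfl⟩ := eq_four_of_isKleinFour (isKleinFour_of_mulEquiv e hT)
  exact ⟨c, hB.symm⟩

include hf hS in
theorem exists_eq_eight {Q : Subgroup G} (eQ : Q ≃* QuaternionGroup 2) (hQS : Q ≤ (S : Subgroup G)) :
    ∃ c, Q = (eight (2 * c + 1)).map f := by
  obtain ⟨B, hB, ⟨e⟩⟩ := exists_map_eq_of_le_range hf (hS.symm ▸ hQS : Q ≤ f.range)
  obtain ⟨c, rfl⟩ := eq_eight_of_quaternion (e.trans eQ)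
  exact ⟨c, hB.symm⟩

include hf hS in
theorem involution_cases {z : G} (hz : orderOf z = 2) :
    IsConj z (f (rot (h m))) ∨ IsConj z (f (ref 0)) := by
  obtain ⟨x, hx⟩ := exists_conj_le_sylow S (P := Subgroup.zpowers z)
    (IsPGroup.of_card (n := 1) (by rw [Nat.card_zpowers, hz, pow_one]))
  obtain ⟨u, hu⟩ := (hS ▸ hx) (conj_mem_map_conj (Subgroup.mem_zpowers z))
  have ho : orderOf u = 2 := by
    rw [← orderOf_injective f hf u, hu, show x * z * x⁻¹ = MulAut.conj x z from rfl,
      MulEquiv.orderOf_eq, hz]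
  have hc : IsConj z (f u) := isConj_iff.2 ⟨x, hu.symm⟩
  rcases (orderOf_eq_two_iff u).1 ho with rfl | ⟨c, rfl⟩
  · exact Or.inl hc
  · exact Or.inr (hc.trans (isConj_ref_even f c))

include hf hS in
theorem order_four_cases {z : G} (hz : orderOf z = 4) :
    IsConj z (f (rot (q m))) ∨ IsConj z (f (ref 1)) := by
  obtain ⟨x, hx⟩ := exists_conj_le_sylow S (P := Subgroup.zpowers z)
    (IsPGroup.of_card (n := 2) (by rw [Nat.card_zpowers, hz]; rfl))
  obtain ⟨u, hu⟩ := (hS ▸ hx) (conj_mem_map_conj (Subgroup.mem_zpowers z))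
  have ho : orderOf u = 4 := by
    rw [← orderOf_injective f hf u, hu, show x * z * x⁻¹ = MulAut.conj x z from rfl,
      MulEquiv.orderOf_eq, hz]
  have hc : IsConj z (f u) := isConj_iff.2 ⟨x, hu.symm⟩
  rcases (orderOf_eq_four_iff u).1 ho with rfl | rfl | ⟨c, rfl⟩
  · exact Or.inl hc
  · exact Or.inl (hc.trans (isConj_rot_neg_q f))
  · exact Or.inr (hc.trans (isConj_ref_odd f c))

include hS in
theorem sylow_le_centralizer_h :
    (S : Subgroup G) ≤ Subgroup.centralizer {f (rot (h m))} := by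
  rw [← hS]
  rintro _ ⟨u, rfl⟩
  rw [Subgroup.mem_centralizer_singleton_iff, ← map_mul, ← map_mul]
  congr 1
  have : u * rot (h m) * u⁻¹ = rot (h m) := by
    rcases conj_rot u (h m) with e | e
    · exact e
    · rw [e, rot_inj]
      linear_combination h_mul_h (m := m) - two_mul_h (m := m)
  nth_rewrite 2 [← this]
  group

include hf in
omit [Finite G] S hS in
theorem four_le_centralizer (c : ZMod (2 ^ (m + 3))) :
    (four (2 * c)).map f ≤ Subgroup.centralizer {f (ref (2 * c))} := by
  have _ := hf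
  rintro _ ⟨a, ha, rfl⟩
  rw [Subgroup.mem_centralizer_singleton_iff, ← map_mul, ← map_mul]
  congr 1
  have h1 := (mem_centralizer_four (c := c)).ge ha
  exact (Subgroup.mem_centralizer_iff.1 h1 _ (ref_mem_four _)).symm

include hf hS in
theorem klein_six (hfus : InvFused f) (c : ZMod (2 ^ (m + 3))) :
    (Subgroup.centralizer (((four (2 * c)).map f : Subgroup G) : Set G)).relIndex
      (Subgroup.normalizer (((four (2 * c)).map f : Subgroup G) : Set G)) = 6 := by
  obtain ⟨g, hg⟩ := isConj_iff.1 ((isConj_ref_even f c).trans hfus)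
  obtain ⟨x, hx, hxS⟩ := exists_conj_le_sylow_of_isConj S (sylow_le_centralizer_h hS) hg
    ((isPGroup_subgroup _).map f) (four_le_centralizer hf c)
  have hK : IsKleinFour ((four (2 * c)).map f) :=
    isKleinFour_of_mulEquiv ((four (2 * c)).equivMapOfInjective f hf).symm (isKleinFour_four c)
  obtain ⟨k, hk⟩ := exists_eq_four hf hS
    (isKleinFour_of_mulEquiv (((four (2 * c)).map f).equivMapOfInjective _ (MulAut.conj x).injective).symm hK)
    hxS
  obtain ⟨b, hbmem, hb⟩ := hk.le (conj_mem_map_conj (g := x)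
    (Subgroup.mem_map_of_mem f (rot_h_mem_four (2 * c))))
  obtain ⟨d, rfl⟩ : ∃ d, b = ref d := by
    have ho : orderOf b = 2 := by
      rw [← orderOf_injective f hf b, hb,
        show x * f (rot (h m)) * x⁻¹ = MulAut.conj x (f (rot (h m))) from rfl, MulEquiv.orderOf_eq,
        orderOf_injective f hf]
      exact (orderOf_eq_two_iff _).2 (Or.inl rfl)
    rcases (orderOf_eq_two_iff b).1 ho with rfl | ⟨d, rfl⟩
    · exact absurd (hf (mul_left_cancel (mul_right_cancel (hx.trans hb)))) (rot_ne_ref _ _).symm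
    · exact ⟨_, rfl⟩
  have hn : ∀ c, f (rot (q m)) ∈ Subgroup.normalizer (((four (2 * c)).map f : Subgroup G) : Set G) :=
    fun c => (mem_normalizer_map_iff hf).2 (rot_q_mem_normalizer_four c)
  refine klein_relIndex_eq_six hK (n₁ := f (rot (q m))) (n₂ := x⁻¹ * f (rot (q m)) * x)
    (t := f (ref (2 * c))) (t' := f (rot (h m))) (hn c) ?_
    (Subgroup.mem_map_of_mem f (ref_mem_four _)) (Subgroup.mem_map_of_mem f (rot_h_mem_four _))
    ?_ ?_ ?_
  · rw [← map_conj_eq_iff_mem_normalizer, map_conj_mul, map_conj_mul, hk,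
      map_conj_eq_iff_mem_normalizer.2 (hn k), ← hk, ← map_conj_mul, inv_mul_cancel, map_conj_one]
  · rw [← map_inv, ← map_mul, ← map_mul]
    exact fun e => rot_q_moves _ (hf e)
  · calc x⁻¹ * f (rot (q m)) * x * f (ref (2 * c)) * (x⁻¹ * f (rot (q m)) * x)⁻¹
        = x⁻¹ * (f (rot (q m)) * (x * f (ref (2 * c)) * x⁻¹) * (f (rot (q m)))⁻¹) * x := by group
      _ = x⁻¹ * (x * f (ref (2 * c)) * x⁻¹) * x := by
        rw [hx, ← map_inv, ← map_mul, ← map_mul, rot_conj_rot]
      _ = f (ref (2 * c)) := by group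
  · intro e
    have : f (rot (q m)) * (x * f (rot (h m)) * x⁻¹) * (f (rot (q m)))⁻¹ =
        x * f (rot (h m)) * x⁻¹ := by
      nth_rewrite 2 [← e]; group
    rw [← hb, ← map_inv, ← map_mul, ← map_mul] at this
    exact rot_q_moves _ (hf this)

include hf hS in
theorem invFused_of_three_dvd {T : Subgroup G} (hT : IsKleinFour T) (hTS : T ≤ (S : Subgroup G))
    (h3 : 3 ∣ (Subgroup.centralizer (T : Set G)).relIndex (Subgroup.normalizer (T : Set G))) :
    InvFused f := by
  obtain ⟨c, rfl⟩ := exists_eq_four hf hS hT hTS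
  obtain ⟨g, -, -, -, htr⟩ := klein_exists_odd hT h3
  obtain ⟨k, hk⟩ := htr (f (ref (2 * c))) (Subgroup.mem_map_of_mem f (ref_mem_four _))
    (f (rot (h m))) (Subgroup.mem_map_of_mem f (rot_h_mem_four _))
    (fun e => by rw [← map_one f, one_def] at e; exact (rot_ne_ref _ _).symm (hf e))
    (fun e => by rw [← map_one f, one_def] at e; exact h_ne (rot_inj.1 (hf e)))
  exact (isConj_ref_even f c).symm.trans (isConj_iff.2 ⟨g ^ k, hk⟩)

include hf hS in
theorem klein_two_or_six {T : Subgroup G} (hT : IsKleinFour T) (hTS : T ≤ (S : Subgroup G)) :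
    ((Subgroup.centralizer (T : Set G)).relIndex (Subgroup.normalizer (T : Set G)) = 2 ∧ ¬ InvFused f) ∨
    ((Subgroup.centralizer (T : Set G)).relIndex (Subgroup.normalizer (T : Set G)) = 6 ∧ InvFused f) := by
  obtain ⟨c, rfl⟩ := exists_eq_four hf hS hT hTS
  by_cases hfus : InvFused f
  · exact Or.inr ⟨klein_six hf hS hfus c, hfus⟩
  refine Or.inl ⟨?_, hfus⟩
  set d := (Subgroup.centralizer (((four (2 * c)).map f : Subgroup G) : Set G)).relIndex
      (Subgroup.normalizer (((four (2 * c)).map f : Subgroup G) : Set G)) with hd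
  have h1 : d ≠ 1 := by
    intro h1
    have hmem := (Subgroup.relIndex_eq_one.1 (hd ▸ h1))
      ((mem_normalizer_map_iff hf).2 (rot_q_mem_normalizer_four c))
    have hc := Subgroup.mem_centralizer_iff.1 hmem (f (ref (2 * c)))
      (Subgroup.mem_map_of_mem f (ref_mem_four _))
    refine rot_q_moves (2 * c) (hf ?_)
    rw [map_mul, map_mul, map_inv, ← hc, mul_inv_cancel_right]
  have h3 : ¬ 3 ∣ d := fun h3 => hfus (invFused_of_three_dvd hf hS hT hTS h3)
  have h6 : d ∣ 6 := klein_relIndex_dvd_six hT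
  have hle := Nat.le_of_dvd (by norm_num) h6
  interval_cases d <;> omega

include hS in
omit [Finite G] in
theorem sylow_le_normalizer_q :
    (S : Subgroup G) ≤ Subgroup.normalizer ((Subgroup.zpowers (f (rot (q m))) : Subgroup G) : Set G) := by
  rw [← hS]
  refine Subgroup.le_normalizer_iff.2 ?_
  rintro _ ⟨u, rfl⟩ v hv
  obtain ⟨k, rfl⟩ := Subgroup.mem_zpowers_iff.1 hv
  rw [← conj_zpow]
  refine zpow_mem ?_ k
  rw [← map_inv, ← map_mul, ← map_mul]
  rcases conj_rot u (q m) with e | e <;> rw [e]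
  · exact Subgroup.mem_zpowers _
  · rw [h_mul_even even_q, zero_sub, ← rot_inv, map_inv]
    exact inv_mem (Subgroup.mem_zpowers _)

include hf hS in
theorem quat_six (hfus : FourFused f) (c : ZMod (2 ^ (m + 3))) :
    ((eight (2 * c + 1)).map f ⊔
      Subgroup.centralizer (((eight (2 * c + 1)).map f : Subgroup G) : Set G)).relIndex
      (Subgroup.normalizer (((eight (2 * c + 1)).map f : Subgroup G) : Set G)) = 6 := by
  obtain ⟨e₀⟩ := eight_equiv (m := m) c
  set Q := (eight (2 * c + 1)).map f with hQ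
  have eQ : Q ≃* QuaternionGroup 2 := ((eight (2 * c + 1)).equivMapOfInjective f hf).symm.trans e₀
  obtain ⟨g, hg⟩ := isConj_iff.1 ((isConj_ref_odd f c).trans hfus)
  set b := f (ref (2 * c + 1)) with hb
  have hb4 : orderOf b = 4 := by rw [hb, orderOf_injective f hf, orderOf_ref_odd]
  have ha4 : orderOf (f (rot (q m))) = 4 := by rw [orderOf_injective f hf, orderOf_rot_q]
  have hbQ : b ∈ Q := Subgroup.mem_map_of_mem f (ref_mem_eight _)
  have haQ : f (rot (q m)) ∈ Q := Subgroup.mem_map_of_mem f (rot_q_mem_eight _)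
  have hgB : (Subgroup.zpowers b).map (MulAut.conj g).toMonoidHom =
      Subgroup.zpowers (f (rot (q m))) := by
    rw [MonoidHom.map_zpowers]
    exact congrArg Subgroup.zpowers hg
  have hQB : Q ≤ Subgroup.normalizer ((Subgroup.zpowers b : Subgroup G) : Set G) := by
    haveI : ((Subgroup.zpowers b).subgroupOf Q).Normal := by
      refine Subgroup.normal_of_index_eq_two ?_
      have h1 := ((Subgroup.zpowers b).subgroupOf Q).card_mul_index
      rw [Nat.card_congr (Subgroup.subgroupOfEquivOfLe (Subgroup.zpowers_le.2 hbQ)).toEquiv,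
        Nat.card_zpowers, hb4, Nat.card_congr eQ.toEquiv, Nat.card_eq_fintype_card,
        QuaternionGroup.card] at h1
      omega
    exact Subgroup.le_normalizer_of_normal_subgroupOf (Subgroup.zpowers_le.2 hbQ)
  obtain ⟨x, hx, hxS⟩ := exists_conj_le_sylow_of_map_conj S (sylow_le_normalizer_q hS) hgB
    ((isPGroup_subgroup _).map f) hQB
  obtain ⟨k, hk⟩ := exists_eq_eight hf hS
    ((Q.equivMapOfInjective _ (MulAut.conj x).injective).symm.trans eQ) hxS
  have hnotb : f (rot (q m)) ∉ Subgroup.zpowers b := by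
    intro hmem
    rcases zpowers_order_four hb4 hmem ha4 with e | e
    · exact rot_ne_ref _ _ (hf e)
    · obtain ⟨d, hd⟩ := ref_odd_inv c
      rw [hb, ← map_inv, hd] at e
      exact rot_ne_ref _ _ (hf e)
  obtain ⟨v, hvmem, hv⟩ := hk.le (conj_mem_map_conj (g := x) haQ)
  obtain ⟨d, rfl⟩ : ∃ d, v = ref d := by
    have ho : orderOf v = 4 := by
      rw [← orderOf_injective f hf v, hv,
        show x * f (rot (q m)) * x⁻¹ = MulAut.conj x (f (rot (q m))) from rfl, MulEquiv.orderOf_eq,
        ha4]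
    have hout : f v ∉ Subgroup.zpowers (f (rot (q m))) := by
      intro hmem
      rw [← hx, hv] at hmem
      obtain ⟨w, hw, hwe⟩ := hmem
      exact hnotb (by rwa [← mul_left_cancel (mul_right_cancel hwe)])
    rcases (orderOf_eq_four_iff v).1 ho with rfl | rfl | ⟨d, rfl⟩
    · exact absurd (Subgroup.mem_zpowers _) hout
    · exact absurd (by rw [← rot_inv, map_inv]; exact inv_mem (Subgroup.mem_zpowers _)) hout
    · exact ⟨_, rfl⟩
  have hn : ∀ e, f (rot (r m)) ∈ Subgroup.normalizer (((eight e).map f : Subgroup G) : Set G) :=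
    fun e => (mem_normalizer_map_iff hf).2 (rot_r_mem_normalizer_eight e)
  have hmove : ∀ e, orderOf (f (ref e)) = 4 →
      f (rot (r m)) * f (ref e) * (f (rot (r m)))⁻¹ ∉ Subgroup.zpowers (f (ref e)) := by
    intro e he hmem
    rw [← map_inv, ← map_mul, ← map_mul] at hmem
    rcases zpowers_order_four he hmem (by
      rw [map_mul, map_mul, map_inv,
        show f (rot (r m)) * f (ref e) * (f (rot (r m)))⁻¹ = MulAut.conj (f (rot (r m))) (f (ref e)) from rfl,
        MulEquiv.orderOf_eq, he]) with e1 | e1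
    · exact (rot_r_moves e).1 (hf e1)
    · rw [← map_inv] at e1
      exact (rot_r_moves e).2 (hf e1)
  refine quat_relIndex_eq_six eQ (n₁ := f (rot (r m))) (n₂ := x⁻¹ * f (rot (r m)) * x) (hn _) ?_
    hbQ haQ hb4 ha4 (hmove _ hb4) ?_ ?_
  · rw [← map_conj_eq_iff_mem_normalizer, map_conj_mul, map_conj_mul, hk,
      map_conj_eq_iff_mem_normalizer.2 (hn _), ← hk, ← map_conj_mul, inv_mul_cancel, map_conj_one]
  · have hn' : f (rot (r m)) ∈
        Subgroup.normalizer ((Subgroup.zpowers (f (rot (q m))) : Subgroup G) : Set G) :=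
      sylow_le_normalizer_q hS (hS ▸ ⟨_, rfl⟩)
    have key : (x⁻¹ * f (rot (r m)) * x) ∈
        Subgroup.normalizer ((Subgroup.zpowers b : Subgroup G) : Set G) := by
      rw [← map_conj_eq_iff_mem_normalizer, map_conj_mul, map_conj_mul, hx,
        map_conj_eq_iff_mem_normalizer.2 hn', ← hx, ← map_conj_mul, inv_mul_cancel, map_conj_one]
    exact (Subgroup.mem_normalizer_iff.1 key b).1 (Subgroup.mem_zpowers b)
  · intro hmem
    refine hmove d (by rw [hv, show x * f (rot (q m)) * x⁻¹ = MulAut.conj x (f (rot (q m))) from rfl,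
      MulEquiv.orderOf_eq, ha4]) ?_
    have h' := conj_mem_map_conj (g := x) hmem
    rw [MonoidHom.map_zpowers] at h'
    rw [hv]
    have e : x * (x⁻¹ * f (rot (r m)) * x * f (rot (q m)) * (x⁻¹ * f (rot (r m)) * x)⁻¹) * x⁻¹ =
        f (rot (r m)) * (x * f (rot (q m)) * x⁻¹) * (f (rot (r m)))⁻¹ := by group
    rw [e] at h'
    exact h'

include hf hS in
theorem fourFused_of_three_dvd {Q : Subgroup G} (eQ : Q ≃* QuaternionGroup 2)
    (hQS : Q ≤ (S : Subgroup G))
    (h3 : 3 ∣ (Q ⊔ Subgroup.centralizer (Q : Set G)).relIndex (Subgroup.normalizer (Q : Set G))) :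
    FourFused f := by
  obtain ⟨c, rfl⟩ := exists_eq_eight hf hS eQ hQS
  obtain ⟨g, -, -, -, htr⟩ := quat_exists_odd eQ h3
  obtain ⟨k, hk | hk⟩ := htr (f (ref (2 * c + 1))) (Subgroup.mem_map_of_mem f (ref_mem_eight _))
    (f (rot (q m))) (Subgroup.mem_map_of_mem f (rot_q_mem_eight _))
    (by rw [orderOf_injective f hf, orderOf_ref_odd])
    (by rw [orderOf_injective f hf, orderOf_rot_q])
  · exact (isConj_ref_odd f c).symm.trans (isConj_iff.2 ⟨g ^ k, hk⟩)
  · refine (isConj_ref_odd f c).symm.trans ((isConj_iff.2 ⟨g ^ k, hk⟩).trans ?_)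
    rw [← map_inv, rot_inv]
    exact isConj_rot_neg_q f

include hf hS in
theorem quat_two_or_six {Q : Subgroup G} (eQ : Q ≃* QuaternionGroup 2)
    (hQS : Q ≤ (S : Subgroup G)) :
    ((Q ⊔ Subgroup.centralizer (Q : Set G)).relIndex (Subgroup.normalizer (Q : Set G)) = 2 ∧
        ¬ FourFused f) ∨
    ((Q ⊔ Subgroup.centralizer (Q : Set G)).relIndex (Subgroup.normalizer (Q : Set G)) = 6 ∧
        FourFused f) := by
  obtain ⟨c, rfl⟩ := exists_eq_eight hf hS eQ hQS
  by_cases hfus : FourFused f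
  · exact Or.inr ⟨quat_six hf hS hfus c, hfus⟩
  refine Or.inl ⟨?_, hfus⟩
  set Q := (eight (2 * c + 1)).map f with hQ
  set d := (Q ⊔ Subgroup.centralizer (Q : Set G)).relIndex (Subgroup.normalizer (Q : Set G)) with hd
  have h1 : d ≠ 1 := by
    intro h1
    have hn : f (rot (r m)) ∈ Subgroup.normalizer (Q : Set G) :=
      (mem_normalizer_map_iff hf).2 (rot_r_mem_normalizer_eight _)
    have hmem := Subgroup.relIndex_eq_one.1 (hd ▸ h1) hn
    have hker := (threeKer_quat eQ).ge (x := ⟨_, hn⟩) hmem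
    rw [mem_threeKer] at hker
    have hb4 : orderOf (f (ref (2 * c + 1))) = 4 := by
      rw [orderOf_injective f hf, orderOf_ref_odd]
    have hbQ : f (ref (2 * c + 1)) ∈ Q := Subgroup.mem_map_of_mem f (ref_mem_eight _)
    have hfix := congrArg Subtype.val
      (hker ⟨_, Subgroup.zpowers_le.2 hbQ, by rw [Nat.card_zpowers, hb4]⟩)
    have h' := hfix.le (conj_mem_map_conj (g := f (rot (r m))) (Subgroup.mem_zpowers _))
    rw [← map_inv, ← map_mul, ← map_mul] at h'
    rcases zpowers_order_four hb4 h' (by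
      rw [orderOf_injective f hf, show rot (r m) * ref (2 * c + 1) * (rot (r m))⁻¹ =
        MulAut.conj (rot (r m)) (ref (2 * c + 1)) from rfl, MulEquiv.orderOf_eq, orderOf_ref_odd])
      with e | e
    · exact (rot_r_moves _).1 (hf e)
    · rw [← map_inv] at e
      exact (rot_r_moves _).2 (hf e)
  have h3 : ¬ 3 ∣ d := fun h3 => hfus (fourFused_of_three_dvd hf hS eQ hQS h3)
  have h6 : d ∣ 6 := quat_relIndex_dvd_six eQ
  have hle := Nat.le_of_dvd (by norm_num) h6
  interval_cases d <;> omega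

include hf in
omit [Finite G] S hS in
theorem lin_invariant (u v : ZMod 2) (hI : InvFused f → u = 0) (hF : FourFused f → u + v = 0)
    {x y : SemiDihedral m} (hxy : IsConj (f x) (f y)) : lin u v (chi m x) = lin u v (chi m y) := by
  have e : chi m x = Multiplicative.ofAdd ((0 : ZMod 2), (1 : ZMod 2)) ↔
      chi m y = Multiplicative.ofAdd ((0 : ZMod 2), (1 : ZMod 2)) := by
    obtain ⟨g, hg⟩ := isConj_iff.1 hxy
    have h1 : f x ^ 2 ^ (m + 2) = 1 ↔ f y ^ 2 ^ (m + 2) = 1 := by
      rw [← hg, conj_pow, conj_eq_one_iff]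
    rw [← map_pow, ← map_pow, ← map_one f, hf.eq_iff, hf.eq_iff, pow_big_eq_one_iff,
      pow_big_eq_one_iff] at h1
    exact not_iff_not.1 h1
  have hord : orderOf x = orderOf y := by
    obtain ⟨g, hg⟩ := isConj_iff.1 hxy
    rw [← orderOf_injective f hf x, ← orderOf_injective f hf y, ← hg,
      show g * f x * g⁻¹ = MulAut.conj g (f x) from rfl, MulEquiv.orderOf_eq]
  -- a reflection fused to a rotation
  have key : ∀ a b, IsConj (f (ref a)) (f (rot b)) → orderOf (ref a) = orderOf (rot b) →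
      par m b = 0 → u + v * par m a = 0 := by
    intro a b hab ho hb
    obtain ⟨c, rfl | rfl⟩ := exists_two_mul a
    · rw [(orderOf_eq_two_iff _).2 (Or.inr ⟨c, rfl⟩), eq_comm] at ho
      rcases (orderOf_eq_two_iff _).1 ho with e1 | ⟨d, e1⟩
      · rw [e1] at hab
        rw [par_two_mul, mul_zero, add_zero, hI ((isConj_ref_even f c).symm.trans hab)]
      · exact absurd e1 (rot_ne_ref _ _)
    · rw [orderOf_ref_odd, eq_comm] at ho
      have hF' : FourFused f := by
        rcases (orderOf_eq_four_iff _).1 ho with e1 | e1 | ⟨d, e1⟩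
        · rw [e1] at hab; exact (isConj_ref_odd f c).symm.trans hab
        · rw [e1] at hab
          exact ((isConj_ref_odd f c).symm.trans hab).trans (isConj_rot_neg_q f)
        · exact absurd e1 (rot_ne_ref _ _)
      rw [par_two_mul_add_one, mul_one, hF hF']
  induction x using cases' with
  | hr a => induction y using cases' with
    | hr b =>
      rw [chi_rot, chi_rot, lin_ofAdd, lin_ofAdd] at *
      have hp : par m a = par m b := by
        simp only [Multiplicative.ofAdd.injective.eq_iff, Prod.mk.injEq, true_and] at e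
        revert e
        generalize par m a = p
        generalize par m b = p'
        revert p p'; decide
      rw [hp]
    | hs b =>
      have hb : par m a = 0 := by
        rw [chi_rot, chi_ref] at e
        simp only [Multiplicative.ofAdd.injective.eq_iff, Prod.mk.injEq, true_and, one_ne_zero,
          false_and, iff_false] at e
        revert e
        generalize par m a = p
        revert p; decide
      rw [chi_rot, chi_ref, lin_ofAdd, lin_ofAdd, hb, mul_zero, mul_zero, zero_add, mul_one,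
        key b a hxy.symm hord.symm hb]
  | hs a => induction y using cases' with
    | hr b =>
      have hb : par m b = 0 := by
        rw [chi_rot, chi_ref] at e
        simp only [Multiplicative.ofAdd.injective.eq_iff, Prod.mk.injEq, true_and, one_ne_zero,
          false_and, false_iff] at e
        revert e
        generalize par m b = p
        revert p; decide
      rw [chi_rot, chi_ref, lin_ofAdd, lin_ofAdd, hb, mul_zero, mul_zero, zero_add, mul_one,
        key a b hxy hord hb]
    | hs b =>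
      have hp : par m a = par m b := by
        obtain ⟨c, rfl | rfl⟩ := exists_two_mul a <;> obtain ⟨d, rfl | rfl⟩ := exists_two_mul b
        · rw [par_two_mul, par_two_mul]
        · rw [(orderOf_eq_two_iff _).2 (Or.inr ⟨c, rfl⟩), orderOf_ref_odd] at hord; omega
        · rw [(orderOf_eq_two_iff _).2 (Or.inr ⟨d, rfl⟩), orderOf_ref_odd] at hord; omega
        · rw [par_two_mul_add_one, par_two_mul_add_one]
      rw [chi_ref, chi_ref, hp]

include hf hS in
theorem exists_normal_of_lin (u v : ZMod 2) (hI : InvFused f → u = 0) (hF : FourFused f → u + v = 0)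
    (hne : u ≠ 0 ∨ v ≠ 0) :
    ∃ K : Subgroup G, K.Normal ∧ K.index = 2 ∧ (∀ x, f x ∈ K ↔ lin u v (chi m x) = 1) ∧
      (∀ R : Sylow 2 K, Nonempty ((R : Subgroup K) ≃* ((lin u v).comp (chi m)).ker)) ∧
      ∀ g : G, Odd (orderOf g) → g ∈ K := by
  have hsurj : Function.Surjective ((lin u v).comp (chi m)) := by
    refine Function.Surjective.comp (g := lin u v) ?_ chi_surjective
    intro w
    obtain ⟨w, rfl⟩ := Multiplicative.ofAdd.surjective w
    have key : ∀ u v w : ZMod 2, (u ≠ 0 ∨ v ≠ 0) → ∃ e p : ZMod 2, u * e + v * p = w := by decide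
    obtain ⟨e, p, hep⟩ := key u v w hne
    exact ⟨Multiplicative.ofAdd (e, p), by rw [lin_ofAdd, hep]⟩
  obtain ⟨K, h1, h2, h3, h4, h5⟩ := exists_normal_of_model hf hS
    (A := Multiplicative (ZMod 2)) (IsPGroup.of_card (n := 1) (by simp))
    ((lin u v).comp (chi m)) hsurj (fun x y hxy => lin_invariant hf u v hI hF hxy)
  exact ⟨K, h1, by rw [h2]; simp, h3, h4, h5⟩

include hf hS in
theorem complement_of_unfused (hI : ¬ InvFused f) (hF : ¬ FourFused f) :
    Cfsg.HasNormalPComplement 2 G := by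
  refine complement_of_model hf hS (A := Multiplicative (ZMod 2 × ZMod 2))
    (IsPGroup.of_card (n := 2) (by simp [Nat.card_prod])) (chi m) chi_surjective isCyclic_chi_ker ?_
  intro x y hxy
  have h1 := lin_invariant hf 1 0 (fun h => absurd h hI) (fun h => absurd h hF) hxy
  have h2 := lin_invariant hf 0 1 (fun _ => rfl) (fun h => absurd h hF) hxy
  apply Multiplicative.toAdd.injective
  revert h1 h2
  generalize chi m x = p
  generalize chi m y = p'
  intro h1 h2
  simp only [lin, AddMonoidHom.toMultiplicative_apply_apply, Multiplicative.ofAdd.injective.eq_iff,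
    AddMonoidHom.add_apply, AddMonoidHom.coe_comp, Function.comp_apply, AddMonoidHom.coe_fst,
    AddMonoidHom.coe_snd, AddMonoidHom.coe_mulLeft, one_mul, zero_mul, zero_add, add_zero] at h1 h2
  exact Prod.ext h1 h2

include hf hS in
/-- Reflections of odd index lie in every subgroup of index two of a big normal subgroup. -/
theorem ref_odd_mem {K H : Subgroup G} (hodd : ∀ g : G, Odd (orderOf g) → g ∈ K)
    (hH : H.relIndex K = 2) (hF : FourFused f) (c : ZMod (2 ^ (m + 3)))
    (ha : f (rot (q m)) ∈ K) (hb : f (ref (2 * c + 1)) ∈ K) : f (ref (2 * c + 1)) ∈ H := by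
  obtain ⟨e₀⟩ := eight_equiv (m := m) c
  have eQ := ((eight (2 * c + 1)).equivMapOfInjective f hf).symm.trans e₀
  obtain ⟨g, -, hg, -, htr⟩ := quat_exists_odd eQ (by rw [quat_six hf hS hF c]; norm_num)
  have hgK : ∀ k : ℕ, g ^ k ∈ K := fun k => K.pow_mem (hodd g hg) k
  have haQ : f (rot (q m)) ∈ (eight (2 * c + 1)).map f :=
    Subgroup.mem_map_of_mem f (rot_q_mem_eight _)
  have hbQ : f (ref (2 * c + 1)) ∈ (eight (2 * c + 1)).map f :=
    Subgroup.mem_map_of_mem f (ref_mem_eight _)
  have hoa : orderOf (f (rot (q m))) = 4 := by rw [orderOf_injective f hf, orderOf_rot_q]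
  have hob : orderOf (f (ref (2 * c + 1))) = 4 := by rw [orderOf_injective f hf, orderOf_ref_odd]
  have hoab : orderOf (f (rot (q m)) * f (ref (2 * c + 1))) = 4 := by
    obtain ⟨d, hd⟩ := even_q (m := m)
    rw [← map_mul, rot_mul_ref, orderOf_injective f hf,
      show q m + (2 * c + 1) = 2 * (d + c) + 1 by rw [hd]; ring, orderOf_ref_odd]
  obtain ⟨k, hk⟩ := htr _ haQ _ hbQ hoa hob
  obtain ⟨l, hl⟩ := htr _ haQ _ (mul_mem haQ hbQ) hoa hoab
  exact (pair_mem_of_relIndex_two hH ha hb ⟨_, hgK k, hk⟩ ⟨_, hgK l, hl⟩).2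

include hf hS in
theorem ref_even_mem {K H : Subgroup G} (hodd : ∀ g : G, Odd (orderOf g) → g ∈ K)
    (hH : H.relIndex K = 2) (hI : InvFused f) (c : ZMod (2 ^ (m + 3)))
    (ha : f (rot (h m)) ∈ K) (hb : f (ref (2 * c)) ∈ K) : f (ref (2 * c)) ∈ H := by
  have hK : IsKleinFour ((four (2 * c)).map f) :=
    isKleinFour_of_mulEquiv ((four (2 * c)).equivMapOfInjective f hf).symm (isKleinFour_four c)
  obtain ⟨g, -, hg, -, htr⟩ := klein_exists_odd hK (by rw [klein_six hf hS hI c]; norm_num)
  have hgK : ∀ k : ℕ, g ^ k ∈ K := fun k => K.pow_mem (hodd g hg) k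
  have haT : f (rot (h m)) ∈ (four (2 * c)).map f := Subgroup.mem_map_of_mem f (rot_h_mem_four _)
  have hbT : f (ref (2 * c)) ∈ (four (2 * c)).map f := Subgroup.mem_map_of_mem f (ref_mem_four _)
  have h1 : f (rot (h m)) ≠ 1 := fun e => by
    rw [← map_one f, one_def] at e; exact h_ne (rot_inj.1 (hf e))
  have h2 : f (ref (2 * c)) ≠ 1 := fun e => by
    rw [← map_one f, one_def] at e; exact (rot_ne_ref _ _).symm (hf e)
  have h3 : f (rot (h m)) * f (ref (2 * c)) ≠ 1 := fun e => by
    rw [← map_mul, rot_mul_ref, ← map_one f, one_def] at e; exact (rot_ne_ref _ _).symm (hf e)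
  obtain ⟨k, hk⟩ := htr _ haT _ hbT h1 h2
  obtain ⟨l, hl⟩ := htr _ haT _ (mul_mem haT hbT) h1 h3
  exact (pair_mem_of_relIndex_two hH ha hb ⟨_, hgK k, Or.inl hk⟩ ⟨_, hgK l, Or.inl hl⟩).2

include hf hS in
theorem index_ne_two_of_fused (hI : InvFused f) (hF : FourFused f) (H : Subgroup G) :
    H.index ≠ 2 := by
  rw [← Subgroup.relIndex_top_right]
  refine fun hH => relIndex_ne_two_of_model hf hS (K := ⊤) (H := H) (fun u _ => ?_) hH
  have hev : ∀ c, f (ref (2 * c)) ∈ H := fun c =>
    ref_even_mem hf hS (K := ⊤) (fun _ _ => trivial) hH hI c trivial trivial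
  have hod : ∀ c, f (ref (2 * c + 1)) ∈ H := fun c =>
    ref_odd_mem hf hS (K := ⊤) (fun _ _ => trivial) hH hF c trivial trivial
  have href : ∀ a, f (ref a) ∈ H := fun a => by
    obtain ⟨c, rfl | rfl⟩ := exists_two_mul a
    exacts [hev c, hod c]
  induction u using cases' with
  | hs a => exact href a
  | hr a =>
    have := H.mul_mem (href a) (href 0)
    rwa [← map_mul, ref_mul_ref, mul_zero, sub_zero, add_zero] at this

include hf hS in
theorem exists_quaternion_normal (hI : ¬ InvFused f) (hF : FourFused f) :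
    ∃ K : Subgroup G, K.Normal ∧ K.index = 2 ∧
      (∀ P : Sylow 2 K, ∃ k : ℕ, 1 ≤ k ∧ Nonempty ((P : Subgroup K) ≃* QuaternionGroup (2 ^ k))) ∧
      ∀ H : Subgroup K, H.index ≠ 2 := by
  obtain ⟨K, hKn, hKi, hKm, hKS, hKodd⟩ := exists_normal_of_lin hf hS 1 1
    (fun h => absurd h hI) (fun _ => rfl) (Or.inl one_ne_zero)
  refine ⟨K, hKn, hKi, fun P => ⟨m + 1, by omega, ?_⟩, fun H hH => ?_⟩
  · obtain ⟨e⟩ := hKS P
    obtain ⟨e'⟩ := mix_equiv (m := m)
    have hker : ((lin 1 1).comp (chi m)).ker = mix m := SetLike.ext fun g => (mem_mix_iff g).symm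
    exact ⟨(e.trans (MulEquiv.subgroupCongr hker)).trans e'⟩
  · have hrel : (H.map K.subtype).relIndex K = 2 := by
      rw [Subgroup.relIndex, Subgroup.subgroupOf,
        Subgroup.comap_map_eq_self_of_injective K.subtype_injective, hH]
    refine relIndex_ne_two_of_model hf hS (fun u hu => ?_) hrel
    have hin : ∀ g, g ∈ mix m → f g ∈ K := fun g hg => (hKm g).2 ((mem_mix_iff g).1 hg)
    have hod : ∀ c, f (ref (2 * c + 1)) ∈ H.map K.subtype := fun c =>
      ref_odd_mem hf hS hKodd hrel hF c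
        (hin _ (rot_mem_mix.2 (h_mul_even even_q)))
        (hin _ (ref_mem_mix.2 (half_mul_two_add_one (by omega) c)))
    have hu' : u ∈ mix m := (mem_mix_iff u).2 ((hKm u).1 hu)
    induction u using cases' with
    | hs a =>
      obtain ⟨c, rfl⟩ := (half_mul_eq_half_iff (by omega)).1 (ref_mem_mix.1 hu')
      exact hod c
    | hr a =>
      obtain ⟨d, rfl⟩ := (half_mul_eq_zero_iff (by omega)).1 (rot_mem_mix.1 hu')
      have h1 := mul_mem (hod 0) (hod (q m - d))
      rw [← map_mul, ref_mul_ref] at h1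
      have e : (2 * 0 + 1 : ZMod (2 ^ (m + 3))) + (h m * (2 * (q m - d) + 1) - (2 * (q m - d) + 1)) =
          2 * d := by
        linear_combination half_mul_two_add_one (n := m + 3) (by omega) (q m - d) + h_eq (m := m)
      rwa [e] at h1

include hf hS in
theorem exists_dihedral_normal (hI : InvFused f) (hF : ¬ FourFused f) :
    ∃ K : Subgroup G, K.Normal ∧ K.index = 2 ∧
      (∀ P : Sylow 2 K, ∃ k : ℕ, Nonempty ((P : Subgroup K) ≃* DihedralGroup k)) ∧
      ∀ H : Subgroup K, H.index ≠ 2 := by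
  obtain ⟨K, hKn, hKi, hKm, hKS, hKodd⟩ := exists_normal_of_lin hf hS 0 1
    (fun _ => rfl) (fun h => absurd h hF) (Or.inr one_ne_zero)
  refine ⟨K, hKn, hKi, fun P => ⟨2 ^ (m + 2), ?_⟩, fun H hH => ?_⟩
  · obtain ⟨e⟩ := hKS P
    obtain ⟨e'⟩ := evn_equiv (m := m)
    have hker : ((lin 0 1).comp (chi m)).ker = evn m := SetLike.ext fun g => (mem_evn_iff g).symm
    exact ⟨(e.trans (MulEquiv.subgroupCongr hker)).trans e'⟩
  · have hrel : (H.map K.subtype).relIndex K = 2 := by
      rw [Subgroup.relIndex, Subgroup.subgroupOf,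
        Subgroup.comap_map_eq_self_of_injective K.subtype_injective, hH]
    refine relIndex_ne_two_of_model hf hS (fun u hu => ?_) hrel
    have hin : ∀ g, g ∈ evn m → f g ∈ K := fun g hg => (hKm g).2 ((mem_evn_iff g).1 hg)
    have hev : ∀ c, f (ref (2 * c)) ∈ H.map K.subtype := fun c =>
      ref_even_mem hf hS hKodd hrel hI c
        (hin _ (rot_mem_evn.2 h_mul_h))
        (hin _ (ref_mem_evn.2 (h_mul_even ⟨c, rfl⟩)))
    have hu' : u ∈ evn m := (mem_evn_iff u).2 ((hKm u).1 hu)
    induction u using cases' with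
    | hs a =>
      obtain ⟨c, rfl⟩ := (half_mul_eq_zero_iff (by omega)).1 (ref_mem_evn.1 hu')
      exact hev c
    | hr a =>
      obtain ⟨d, rfl⟩ := (half_mul_eq_zero_iff (by omega)).1 (rot_mem_evn.1 hu')
      have h1 := mul_mem (hev d) (hev 0)
      rwa [← map_mul, ref_mul_ref, mul_zero, mul_zero, sub_zero, add_zero] at h1

include hf hS in
theorem invFused_of_no_index_two (hG : ∀ H : Subgroup G, H.index ≠ 2) : InvFused f := by
  by_contra hI
  obtain ⟨K, -, hK, -⟩ := exists_normal_of_lin hf hS 1 1 (fun h => absurd h hI) (fun _ => rfl)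
    (Or.inl one_ne_zero)
  exact hG K hK

include hf hS in
theorem fourFused_of_no_index_two (hG : ∀ H : Subgroup G, H.index ≠ 2) : FourFused f := by
  by_contra hF
  obtain ⟨K, -, hK, -⟩ := exists_normal_of_lin hf hS 0 1 (fun _ => rfl) (fun h => absurd h hF)
    (Or.inr one_ne_zero)
  exact hG K hK

include hf hS in
theorem classes_two_one (hI : InvFused f) :
    Nat.card {C : ConjClasses G // ∃ t : G, orderOf t = 2 ∧ ConjClasses.mk t = C} = 1 :=
  natCard_conjClasses_orderOf_eq_one
    (t₁ := f (rot (h m))) (by rw [orderOf_injective f hf]; exact (orderOf_eq_two_iff _).2 (Or.inl rfl))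
    fun _ ht => (involution_cases hf hS ht).elim id fun e => e.trans hI

include hf hS in
theorem classes_two_two (hI : ¬ InvFused f) :
    Nat.card {C : ConjClasses G // ∃ t : G, orderOf t = 2 ∧ ConjClasses.mk t = C} = 2 :=
  natCard_conjClasses_orderOf_eq_two
    (t₁ := f (rot (h m))) (t₂ := f (ref 0))
    (by rw [orderOf_injective f hf]; exact (orderOf_eq_two_iff _).2 (Or.inl rfl))
    (by rw [orderOf_injective f hf]; exact (orderOf_eq_two_iff _).2 (Or.inr ⟨0, by rw [mul_zero]⟩))
    (fun e => hI e.symm) fun _ ht => involution_cases hf hS ht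

include hf hS in
theorem classes_four_one (hF : FourFused f) :
    Nat.card {C : ConjClasses G // ∃ t : G, orderOf t = 4 ∧ ConjClasses.mk t = C} = 1 :=
  natCard_conjClasses_orderOf_eq_one
    (t₁ := f (rot (q m))) (by rw [orderOf_injective f hf, orderOf_rot_q])
    fun _ ht => (order_four_cases hf hS ht).elim id fun e => e.trans hF

include hf hS in
theorem classes_four_two (hF : ¬ FourFused f) :
    Nat.card {C : ConjClasses G // ∃ t : G, orderOf t = 4 ∧ ConjClasses.mk t = C} = 2 :=
  natCard_conjClasses_orderOf_eq_two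
    (t₁ := f (rot (q m))) (t₂ := f (ref 1))
    (by rw [orderOf_injective f hf, orderOf_rot_q])
    (by
      have := orderOf_ref_odd (m := m) 0
      rw [mul_zero, zero_add] at this
      rw [orderOf_injective f hf, this])
    (fun e => hF e.symm) fun _ ht => order_four_cases hf hS ht

include hf hS in
/-- The centre of the Sylow subgroup is weakly closed when its involution is not fused. -/
theorem weaklyClosed_of_not_invFused (hI : ¬ InvFused f) {Z : Subgroup G}
    (hZ : Z ≤ (Subgroup.center (S : Subgroup G)).map (S : Subgroup G).subtype) :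
    Cfsg.IsWeaklyClosed Z (S : Subgroup G) := by
  have hZc : ∀ z ∈ Z, z = 1 ∨ z = f (rot (h m)) := by
    intro z hz
    obtain ⟨w, hw, rfl⟩ := hZ hz
    obtain ⟨u, hu⟩ := hS.ge w.2
    have huc : u ∈ Subgroup.center (SemiDihedral m) := by
      refine Subgroup.mem_center_iff.2 fun v => hf ?_
      rw [map_mul, map_mul, hu]
      have hv : f v ∈ (S : Subgroup G) := hS ▸ ⟨v, rfl⟩
      exact congrArg Subtype.val (Subgroup.mem_center_iff.1 hw ⟨f v, hv⟩)
    rw [center_eq] at huc
    obtain ⟨j, hj⟩ := Subgroup.mem_zpowers_iff.1 huc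
    have ho : orderOf (rot (h m)) = 2 := (orderOf_eq_two_iff _).2 (Or.inl rfl)
    rw [← zpow_mod_orderOf, ho] at hj
    show (w : G) = 1 ∨ (w : G) = _
    rcases Int.emod_two_eq j with e | e <;> simp only [Nat.cast_ofNat, e, zpow_zero, zpow_one] at hj
    · exact Or.inl (by rw [← hu, ← hj, map_one])
    · exact Or.inr (by rw [← hu, ← hj])
  refine ⟨hZ.trans (Subgroup.map_subtype_le _), fun g hg => ?_⟩
  refine Subgroup.eq_of_le_of_card_ge ?_ (natCard_map_conj g Z).ge
  rintro _ ⟨z, hz, rfl⟩
  show g * z * g⁻¹ ∈ Z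
  rcases hZc z hz with rfl | rfl
  · simp
  · obtain ⟨u, hu⟩ := hS.ge (hg (conj_mem_map_conj hz))
    have ho : orderOf u = 2 := by
      rw [← orderOf_injective f hf u, hu,
        show g * f (rot (h m)) * g⁻¹ = MulAut.conj g (f (rot (h m))) from rfl, MulEquiv.orderOf_eq,
        orderOf_injective f hf]
      exact (orderOf_eq_two_iff _).2 (Or.inl rfl)
    rcases (orderOf_eq_two_iff u).1 ho with rfl | ⟨c, rfl⟩
    · rwa [← hu]
    · exact absurd ((isConj_ref_even f c).symm.trans (isConj_iff.2 ⟨g, hu.symm⟩).symm) hI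

end Sylow

end CfsgLib.TwoGroups.SemiDihedral
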