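import Mathlib
import Cfsg.Agent.Lib.TwoGroups.ThreePoint
import Cfsg.Agent.Lib.TwoGroups.ModelTools

/-!
A normaliser acting on involutions or on four-groups of a subgroup, and elements of odd order.
-/

set_option autoImplicit false

namespace CfsgLib.TwoGroups

variable {G : Type*} [Group G]

theorem mem_of_two_parts {H : Subgroup G} {g : G} {a b : ℕ} (hab : Nat.Coprime a b)
    (ha : g ^ a ∈ H) (hb : g ^ b ∈ H) : g ∈ H := by
  have e : ((Nat.gcd a b : ℕ) : ℤ) = a * Nat.gcdA a b + b * Nat.gcdB a b := Nat.gcd_eq_gcd_ab a b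
  rw [hab.gcd_eq_one] at e
  rw [← zpow_one g, show (1 : ℤ) = ((1 : ℕ) : ℤ) from rfl, e, zpow_add, zpow_mul, zpow_mul,
    zpow_natCast, zpow_natCast]
  exact mul_mem (zpow_mem ha _) (zpow_mem hb _)

theorem eq_one_of_sq_of_odd {x : G} {q : ℕ} (hq : Odd q) (h2 : x * x = 1) (h : x ^ q = 1) : x = 1 := by
  obtain ⟨k, rfl⟩ := hq
  rwa [pow_succ, pow_mul, pow_two, h2, one_pow, one_mul] at h

/-- An element of odd order normalising an abelian `2`-group and fixing its involutions
centralises it. -/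
theorem conj_eq_of_fixes_involutions {A : Subgroup G} (hA : IsPGroup 2 A)
    (hcomm : ∀ a ∈ A, ∀ b ∈ A, a * b = b * a) {g : G} (hg : g ∈ Subgroup.normalizer (A : Set G))
    (hodd : Odd (orderOf g)) (hfix : ∀ a ∈ A, a * a = 1 → g * a * g⁻¹ = a) :
    ∀ a ∈ A, g * a * g⁻¹ = a := by
  have key : ∀ k : ℕ, ∀ a ∈ A, a ^ 2 ^ k = 1 → g * a * g⁻¹ = a := by
    intro k
    induction k with
    | zero => intro a _ h; rw [pow_zero, pow_one] at h; subst h; simp
    | succ k ih =>
      intro a ha h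
      have ha2 : g * (a * a) * g⁻¹ = a * a :=
        ih _ (mul_mem ha ha) (by rwa [← pow_two, ← pow_mul, ← pow_succ'])
      have hga : g * a * g⁻¹ ∈ A := (Subgroup.mem_normalizer_iff.1 hg a).1 ha
      set ε := g * a * g⁻¹ * a⁻¹ with hε
      have hεA : ε ∈ A := mul_mem hga (inv_mem ha)
      have hεε : ε * ε = 1 := by
        calc ε * ε = g * a * g⁻¹ * (a⁻¹ * (g * a * g⁻¹)) * a⁻¹ := by rw [hε]; group
          _ = g * a * g⁻¹ * (g * a * g⁻¹ * a⁻¹) * a⁻¹ := by rw [hcomm _ (inv_mem ha) _ hga]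
          _ = g * (a * a) * g⁻¹ * (a * a)⁻¹ := by group
          _ = 1 := by rw [ha2, mul_inv_cancel]
      have hεa : g * a * g⁻¹ = ε * a := (inv_mul_cancel_right _ _).symm
      have hpow : ∀ j : ℕ, g ^ j * a * (g ^ j)⁻¹ = ε ^ j * a := by
        intro j
        induction j with
        | zero => simp
        | succ j ihj =>
          calc g ^ (j + 1) * a * (g ^ (j + 1))⁻¹ = g * (g ^ j * a * (g ^ j)⁻¹) * g⁻¹ := by group
            _ = (g * ε * g⁻¹) ^ j * (g * a * g⁻¹) := by rw [ihj, conj_pow]; group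
            _ = ε ^ j * (ε * a) := by rw [hfix _ hεA hεε, hεa]
            _ = ε ^ (j + 1) * a := by rw [pow_succ]; exact (mul_assoc _ _ _).symm
      have h1 := hpow (orderOf g)
      rw [pow_orderOf_eq_one, one_mul, inv_one, mul_one, eq_comm, mul_eq_right] at h1
      exact mul_inv_eq_one.1 (eq_one_of_sq_of_odd hodd hεε h1)
  intro a ha
  obtain ⟨k, hk⟩ := hA ⟨a, ha⟩
  exact key k a ha (congrArg Subtype.val hk)

/-- The involutions of a subgroup. -/
def InvPts (A : Subgroup G) : Type _ := {t : G // t ∈ A ∧ t ≠ 1 ∧ t * t = 1}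

instance instInvPtsAction (A : Subgroup G) :
    MulAction (Subgroup.normalizer (A : Set G)) (InvPts A) where
  smul n t := ⟨(n : G) * t.1 * (n : G)⁻¹, (Subgroup.mem_normalizer_iff.1 n.2 t.1).1 t.2.1,
    fun h => t.2.2.1 (conj_eq_one_iff.1 h), by
      rw [show (n : G) * t.1 * (n : G)⁻¹ * ((n : G) * t.1 * (n : G)⁻¹) =
        (n : G) * (t.1 * t.1) * (n : G)⁻¹ by group, t.2.2.2, mul_one, mul_inv_cancel]⟩
  one_smul t := Subtype.ext (show ((1 : G) * t.1 * (1 : G)⁻¹ = t.1) by simp)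
  mul_smul n k t := Subtype.ext
    (show ((n : G) * k * t.1 * ((n : G) * k)⁻¹ = (n : G) * ((k : G) * t.1 * (k : G)⁻¹) * (n : G)⁻¹) by
      group)

theorem invPts_smul_val {A : Subgroup G} (n : Subgroup.normalizer (A : Set G)) (t : InvPts A) :
    (n • t).1 = (n : G) * t.1 * (n : G)⁻¹ := rfl

/-- The four-groups of a subgroup. -/
def FourPts (V : Subgroup G) : Type _ := {T : Subgroup G // T ≤ V ∧ IsKleinFour T}

instance instFourPtsAction (V : Subgroup G) :
    MulAction (Subgroup.normalizer (V : Set G)) (FourPts V) where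
  smul n T := ⟨T.1.map (MulAut.conj (n : G)).toMonoidHom,
    fun x hx => by
      obtain ⟨y, hy, rfl⟩ := hx
      exact (Subgroup.mem_normalizer_iff.1 n.2 y).1 (T.2.1 hy),
    isKleinFour_of_mulEquiv (T.1.equivMapOfInjective _ (MulAut.conj (n : G)).injective).symm T.2.2⟩
  one_smul T := Subtype.ext (map_conj_one T.1)
  mul_smul n k T := Subtype.ext (map_conj_mul (n : G) (k : G) T.1)

theorem fourPts_smul_val {V : Subgroup G} (n : Subgroup.normalizer (V : Set G)) (T : FourPts V) :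
    (n • T).1 = T.1.map (MulAut.conj (n : G)).toMonoidHom := rfl

end CfsgLib.TwoGroups
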