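import Mathlib
import Cfsg.Prelude.Def_CaseTheorems
import Cfsg.Agent.Lib.TwoGroups.ZModTwoPow
import Cfsg.Agent.Lib.TwoGroups.Recognition

/-!
A coordinate model of the wreath product `Z_{2^n} ≀ Z_2`, `n = m + 2`, and the recognition of
wreathed groups in the sense of `Cfsg.IsWreathed`.

`u a b` is the element `x ^ a * y ^ b` and `w a b` is `x ^ a * y ^ b * z`.
-/

set_option autoImplicit false

namespace CfsgLib.TwoGroups

/-- `Z_{2^(m+2)} ≀ Z_2`. -/
@[ext] structure WreathTwo (m : ℕ) where
  /-- first exponent -/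
  a : ZMod (2 ^ (m + 2))
  /-- second exponent -/
  b : ZMod (2 ^ (m + 2))
  /-- whether the element lies outside the abelian base -/
  e : Bool

namespace WreathTwo

variable {m : ℕ}

/-- `2^(n-1)` for `n = m + 2`. -/
abbrev h (m : ℕ) : ZMod (2 ^ (m + 2)) := half (m + 2)

/-- `2^(n-2)` for `n = m + 2`. -/
abbrev q (m : ℕ) : ZMod (2 ^ (m + 2)) := quarter (m + 2)

theorem h_add_h : h m + h m = 0 := half_add_half (by omega)
theorem q_add_q : q m + q m = h m := quarter_add_quarter (by omega)
theorem h_eq : h m = 2 * q m := by rw [two_mul, q_add_q]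
theorem two_mul_h : 2 * h m = 0 := by rw [two_mul, h_add_h]
theorem h_ne : h m ≠ 0 := half_ne_zero (by omega)
theorem neg_h : -h m = h m := neg_half (by omega)
theorem four_mul_q : 4 * q m = 0 := by linear_combination 2 * (q_add_q (m := m)) + two_mul_h (m := m)

instance instMul : Mul (WreathTwo m) :=
  ⟨fun g k => ⟨g.a + (if g.e then k.b else k.a), g.b + (if g.e then k.a else k.b), xor g.e k.e⟩⟩
instance instOne : One (WreathTwo m) := ⟨⟨0, 0, false⟩⟩
instance instInv : Inv (WreathTwo m) :=
  ⟨fun g => ⟨if g.e then -g.b else -g.a, if g.e then -g.a else -g.b, g.e⟩⟩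

/-- an element of the abelian base -/
abbrev u (a b : ZMod (2 ^ (m + 2))) : WreathTwo m := ⟨a, b, false⟩

/-- an element outside the abelian base -/
abbrev w (a b : ZMod (2 ^ (m + 2))) : WreathTwo m := ⟨a, b, true⟩

theorem mul_def (g k : WreathTwo m) : g * k =
    ⟨g.a + (if g.e then k.b else k.a), g.b + (if g.e then k.a else k.b), xor g.e k.e⟩ := rfl
theorem one_def : (1 : WreathTwo m) = u 0 0 := rfl
theorem inv_def (g : WreathTwo m) :
    g⁻¹ = ⟨if g.e then -g.b else -g.a, if g.e then -g.a else -g.b, g.e⟩ := rfl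

instance instGroup : Group (WreathTwo m) := Group.ofLeftAxioms
  (fun g k l => by
    obtain ⟨a, b, e⟩ := g; obtain ⟨c, d, f⟩ := k; obtain ⟨i, j, o⟩ := l
    simp only [mul_def]
    cases e <;> cases f <;> ext <;> simp [add_assoc])
  (fun g => by obtain ⟨a, b, e⟩ := g; simp [one_def, mul_def])
  (fun g => by
    obtain ⟨a, b, e⟩ := g
    simp only [inv_def, mul_def, one_def]
    cases e <;> ext <;> simp)

@[simp] theorem u_mul_u (a b c d : ZMod (2 ^ (m + 2))) : u a b * u c d = u (a + c) (b + d) := by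
  simp [mul_def]
@[simp] theorem u_mul_w (a b c d : ZMod (2 ^ (m + 2))) : u a b * w c d = w (a + c) (b + d) := by
  simp [mul_def]
@[simp] theorem w_mul_u (a b c d : ZMod (2 ^ (m + 2))) : w a b * u c d = w (a + d) (b + c) := by
  simp [mul_def]
@[simp] theorem w_mul_w (a b c d : ZMod (2 ^ (m + 2))) : w a b * w c d = u (a + d) (b + c) := by
  simp [mul_def]
@[simp] theorem u_inv (a b : ZMod (2 ^ (m + 2))) : (u a b)⁻¹ = u (-a) (-b) := by simp [inv_def]
@[simp] theorem w_inv (a b : ZMod (2 ^ (m + 2))) : (w a b)⁻¹ = w (-b) (-a) := by simp [inv_def]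

theorem cases' {P : WreathTwo m → Prop} (hu : ∀ a b, P (u a b)) (hw : ∀ a b, P (w a b)) (g) :
    P g := by
  obtain ⟨a, b, e⟩ := g; cases e
  · exact hu a b
  · exact hw a b

theorem u_pow (a b : ZMod (2 ^ (m + 2))) (k : ℕ) :
    u a b ^ k = u ((k : ZMod (2 ^ (m + 2))) * a) ((k : ZMod (2 ^ (m + 2))) * b) := by
  induction k with
  | zero => simp [one_def]
  | succ k ih => rw [pow_succ, ih, u_mul_u]; congr 1 <;> push_cast <;> ring

theorem u_conj_u (a b c d : ZMod (2 ^ (m + 2))) : u a b * u c d * (u a b)⁻¹ = u c d := by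
  simp only [u_mul_u, u_inv]; congr 1 <;> ring
theorem w_conj_u (a b c d : ZMod (2 ^ (m + 2))) : w a b * u c d * (w a b)⁻¹ = u d c := by
  simp only [w_mul_u, w_inv, w_mul_w]; congr 1 <;> ring
theorem u_conj_w (a b c d : ZMod (2 ^ (m + 2))) :
    u a b * w c d * (u a b)⁻¹ = w (c + (a - b)) (d - (a - b)) := by
  simp only [u_mul_w, u_inv, w_mul_u]; congr 1 <;> ring
theorem w_conj_w (a b c d : ZMod (2 ^ (m + 2))) :
    w a b * w c d * (w a b)⁻¹ = w (d + (a - b)) (c - (a - b)) := by
  simp only [w_mul_w, w_inv, u_mul_w]; congr 1 <;> ring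

theorem u_ne_w (a b c d : ZMod (2 ^ (m + 2))) : u a b ≠ w c d := fun hh =>
  Bool.noConfusion (congrArg WreathTwo.e hh)

theorem u_inj {a b c d : ZMod (2 ^ (m + 2))} : u a b = u c d ↔ a = c ∧ b = d :=
  ⟨fun hh => ⟨congrArg WreathTwo.a hh, congrArg WreathTwo.b hh⟩, fun hh => by rw [hh.1, hh.2]⟩

theorem w_inj {a b c d : ZMod (2 ^ (m + 2))} : w a b = w c d ↔ a = c ∧ b = d :=
  ⟨fun hh => ⟨congrArg WreathTwo.a hh, congrArg WreathTwo.b hh⟩, fun hh => by rw [hh.1, hh.2]⟩

theorem natCard : Nat.card (WreathTwo m) = 2 ^ (2 * (m + 2) + 1) := by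
  let e : WreathTwo m ≃ ZMod (2 ^ (m + 2)) × ZMod (2 ^ (m + 2)) × Bool :=
    ⟨fun g => (g.a, g.b, g.e), fun p => ⟨p.1, p.2.1, p.2.2⟩, fun _ => rfl, fun _ => rfl⟩
  rw [Nat.card_congr e, Nat.card_prod, Nat.card_prod, Nat.card_zmod,
    Nat.card_eq_fintype_card (α := Bool), Fintype.card_bool]
  ring

instance instFinite : Finite (WreathTwo m) :=
  Nat.finite_of_card_ne_zero (by rw [natCard]; positivity)

theorem isPGroup : IsPGroup 2 (WreathTwo m) := IsPGroup.of_card natCard

/-- Recognition: a wreathed group is isomorphic to the model. -/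
theorem of_isWreathed {S : Type*} [Group S] [Finite S] (hS : Cfsg.IsWreathed S) :
    ∃ m : ℕ, Nat.card S = 2 ^ (2 * (m + 2) + 1) ∧ Nonempty (S ≃* WreathTwo m) := by
  obtain ⟨n, hn, hcard, x, y, z, hx, hxy, hdisj, hz, hzx⟩ := hS
  obtain ⟨m, rfl⟩ : ∃ m, n = m + 2 := ⟨n - 2, by omega⟩
  refine ⟨m, hcard, ?_⟩
  set N := 2 ^ (m + 2) with hN
  have hy : orderOf y = N := by
    rw [← hzx, show z * x * z⁻¹ = MulAut.conj z x from rfl, MulEquiv.orderOf_eq, hx]
  have hxN : x ^ N = 1 := by rw [← hx, pow_orderOf_eq_one]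
  have hyN : y ^ N = 1 := by rw [← hy, pow_orderOf_eq_one]
  have hzz : z * z = 1 := by rw [← pow_two, ← hz, pow_orderOf_eq_one]
  have hzy : z * y * z⁻¹ = x := by
    rw [← hzx]
    have : z⁻¹ = z := inv_eq_of_mul_eq_one_right hzz
    calc z * (z * x * z⁻¹) * z⁻¹ = (z * z) * x * (z⁻¹ * z⁻¹) := by group
      _ = x := by rw [this, hzz, one_mul, mul_one]
  have hc : ∀ i j : ZMod N, zexp x i * zexp y j = zexp y j * zexp x i := fun i j =>
    ((show Commute x y from hxy).pow_pow _ _).eq
  have hconj : ∀ i j : ZMod N, z * (zexp x i * zexp y j) = zexp x j * zexp y i * z := by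
    intro i j
    have h1 : z * (zexp x i * zexp y j) * z⁻¹ = zexp y i * zexp x j := by
      calc z * (zexp x i * zexp y j) * z⁻¹ = (z * zexp x i * z⁻¹) * (z * zexp y j * z⁻¹) := by group
        _ = zexp y i * zexp x j := by rw [zexp, zexp, ← conj_pow, ← conj_pow, hzx, hzy]; rfl
    calc z * (zexp x i * zexp y j) = z * (zexp x i * zexp y j) * z⁻¹ * z := by group
      _ = zexp x j * zexp y i * z := by rw [h1, hc j i]
  have hdisj' : ∀ i j : ZMod N, zexp x i = zexp y j → i = 0 ∧ j = 0 := by
    intro i j hij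
    have h1 : zexp x i ∈ Subgroup.zpowers x ⊓ Subgroup.zpowers y :=
      ⟨pow_mem (Subgroup.mem_zpowers x) _, hij.symm ▸ pow_mem (Subgroup.mem_zpowers y) _⟩
    rw [hdisj, Subgroup.mem_bot] at h1
    exact ⟨zexp_injective hx (h1.trans (zexp_zero x).symm),
      zexp_injective hy ((hij.symm.trans h1).trans (zexp_zero y).symm)⟩
  have hnz : ∀ i j : ZMod N, z ≠ zexp x i * zexp y j := by
    intro i j hij
    have hcom : Commute z x := by
      rw [hij, zexp, zexp]
      exact ((Commute.refl x).pow_left _).mul_left ((show Commute x y from hxy).symm.pow_left _)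
    have hxy' : x = y := by rw [← hzx, hcom.eq, mul_inv_cancel_right]
    have hx1 : x ∈ Subgroup.zpowers x ⊓ Subgroup.zpowers y :=
      ⟨Subgroup.mem_zpowers x, hxy' ▸ Subgroup.mem_zpowers x⟩
    rw [hdisj, Subgroup.mem_bot] at hx1
    rw [hx1, orderOf_one] at hx
    exact absurd hx (Nat.one_lt_two_pow (by omega)).ne
  let f : WreathTwo m →* S :=
    { toFun := fun g => zexp x g.a * zexp y g.b * if g.e then z else 1
      map_one' := by simp [one_def, zexp_zero]
      map_mul' := by
        have key : ∀ a b c d : ZMod N, zexp x (a + c) * zexp y (b + d) =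
            zexp x a * zexp y b * (zexp x c * zexp y d) := by
          intro a b c d
          rw [zexp_add hxN, zexp_add hyN]
          calc zexp x a * zexp x c * (zexp y b * zexp y d)
              = zexp x a * (zexp x c * zexp y b) * zexp y d := by group
            _ = _ := by rw [hc c b]; group
        refine cases' (fun a b => cases' (fun c d => ?_) (fun c d => ?_))
          (fun a b => cases' (fun c d => ?_) (fun c d => ?_))
        · simp only [u_mul_u, Bool.false_eq_true, if_false, mul_one]; exact key a b c d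
        · simp only [u_mul_w, Bool.false_eq_true, if_false, if_true, mul_one]; rw [key]; group
        · simp only [w_mul_u, Bool.false_eq_true, if_false, if_true, mul_one]
          rw [key, mul_assoc _ _ z, ← hconj]; group
        · simp only [w_mul_w, Bool.false_eq_true, if_false, if_true, mul_one]
          calc zexp x (a + d) * zexp y (b + c)
              = zexp x a * zexp y b * (zexp x d * zexp y c) * (z * z) := by rw [hzz, mul_one, key]
            _ = zexp x a * zexp y b * (zexp x d * zexp y c * z) * z := by group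
            _ = zexp x a * zexp y b * z * (zexp x c * zexp y d * z) := by rw [← hconj]; group }
  have hinj : Function.Injective f := by
    have hU : ∀ a b c d : ZMod N, zexp x a * zexp y b = zexp x c * zexp y d → a = c ∧ b = d := by
      intro a b c d hh
      have h2 : zexp x (a - c) = zexp y (d - b) := by
        rw [zexp_sub hxN, zexp_sub hyN]
        calc (zexp x c)⁻¹ * zexp x a
            = (zexp x c)⁻¹ * (zexp x a * zexp y b) * (zexp y b)⁻¹ := by group
          _ = zexp y d * (zexp y b)⁻¹ := by rw [hh]; group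
          _ = (zexp y b)⁻¹ * zexp y d :=
            (((Commute.refl y).pow_pow _ _).inv_right).eq
      obtain ⟨h3, h4⟩ := hdisj' _ _ h2
      exact ⟨sub_eq_zero.1 h3, (sub_eq_zero.1 h4).symm⟩
    have hnot : ∀ a b c d : ZMod N, zexp x a * zexp y b * z ≠ zexp x c * zexp y d := by
      intro a b c d hh
      refine hnz (-a + c) (-b + d) ?_
      rw [zexp_add hxN, zexp_add hyN, zexp_neg hxN, zexp_neg hyN]
      calc z = (zexp y b)⁻¹ * (zexp x a)⁻¹ * (zexp x a * zexp y b * z) := by group
        _ = (zexp y b)⁻¹ * (zexp x a)⁻¹ * (zexp x c * zexp y d) := by rw [hh]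
        _ = (zexp x a * zexp y b)⁻¹ * zexp x c * zexp y d := by group
        _ = (zexp x a)⁻¹ * ((zexp y b)⁻¹ * zexp x c) * zexp y d := by rw [hc a b]; group
        _ = _ := by
          rw [show (zexp y b)⁻¹ * zexp x c = zexp x c * (zexp y b)⁻¹ from
            ((Commute.inv_right (hc c b : Commute (zexp x c) (zexp y b))).symm).eq]
          group
    rintro ⟨a, b, e⟩ ⟨c, d, e'⟩ hab
    cases e <;> cases e' <;>
      simp only [f, MonoidHom.coe_mk, OneHom.coe_mk, if_true, Bool.false_eq_true, if_false,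
        mul_one] at hab
    · obtain ⟨rfl, rfl⟩ := hU _ _ _ _ hab; rfl
    · exact absurd hab.symm (hnot _ _ _ _)
    · exact absurd hab (hnot _ _ _ _)
    · obtain ⟨rfl, rfl⟩ := hU _ _ _ _ (mul_right_cancel hab); rfl
  exact ⟨(MulEquiv.ofBijective f ((Nat.bijective_iff_injective_and_card f).2
    ⟨hinj, by rw [natCard, hcard]⟩)).symm⟩

end WreathTwo

end CfsgLib.TwoGroups
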