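import Mathlib
import Cfsg.Agent.Lib.TwoGroups.Wreathed

/-!
Classes and distinguished subgroups of the wreathed model.
-/

set_option autoImplicit false

open scoped commutatorElement

namespace CfsgLib.TwoGroups.WreathTwo

variable {m : ℕ}

theorem w_sq (a b : ZMod (2 ^ (m + 2))) : w a b * w a b = u (a + b) (a + b) := by
  rw [w_mul_w]; congr 1; exact add_comm _ _

theorem orderOf_eq_two_iff (g : WreathTwo m) : orderOf g = 2 ↔
    g = u (h m) (h m) ∨ g = u (h m) 0 ∨ g = u 0 (h m) ∨ ∃ a, g = w a (-a) := by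
  rw [orderOf_eq_prime_iff, pow_two]
  induction g using cases' with
  | hu a b =>
    constructor
    · rintro ⟨h1, h2⟩
      rw [u_mul_u, one_def, u_inj, ← two_mul, ← two_mul] at h1
      rcases two_mul_eq_zero (by omega) h1.1 with rfl | rfl <;>
        rcases two_mul_eq_zero (by omega) h1.2 with rfl | rfl
      · exact absurd rfl h2
      · exact Or.inr (Or.inr (Or.inl rfl))
      · exact Or.inr (Or.inl rfl)
      · exact Or.inl rfl
    · rintro (hh | hh | hh | ⟨c, hc⟩)
      · rw [hh, u_mul_u, h_add_h]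
        exact ⟨rfl, fun h0 => h_ne (u_inj.1 h0).1⟩
      · rw [hh, u_mul_u, h_add_h, add_zero]
        exact ⟨rfl, fun h0 => h_ne (u_inj.1 h0).1⟩
      · rw [hh, u_mul_u, h_add_h, add_zero]
        exact ⟨rfl, fun h0 => h_ne (u_inj.1 h0).2⟩
      · exact absurd hc (u_ne_w _ _ _ _)
  | hw a b =>
    rw [w_sq, one_def, u_inj, and_self]
    constructor
    · rintro ⟨h1, -⟩
      exact Or.inr (Or.inr (Or.inr ⟨a, by rw [eq_neg_of_add_eq_zero_right h1]⟩))
    · rintro (hh | hh | hh | ⟨c, hc⟩)
      · exact absurd hh.symm (u_ne_w _ _ _ _)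
      · exact absurd hh.symm (u_ne_w _ _ _ _)
      · exact absurd hh.symm (u_ne_w _ _ _ _)
      · obtain ⟨rfl, rfl⟩ := w_inj.1 hc
        exact ⟨add_neg_cancel a, fun h0 => u_ne_w _ _ _ _ h0.symm⟩

theorem diag_conj (g : WreathTwo m) (c : ZMod (2 ^ (m + 2))) : g * u c c * g⁻¹ = u c c := by
  induction g using cases' with
  | hu a b => exact u_conj_u a b c c
  | hw a b => exact w_conj_u a b c c

theorem natCard_classes_two :
    Nat.card {C : ConjClasses (WreathTwo m) // ∃ t : WreathTwo m,
      orderOf t = 2 ∧ ConjClasses.mk t = C} = 3 := by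
  refine natCard_conjClasses_orderOf_eq_three ((orderOf_eq_two_iff _).2 (Or.inl rfl))
    ((orderOf_eq_two_iff _).2 (Or.inr (Or.inl rfl)))
    ((orderOf_eq_two_iff _).2 (Or.inr (Or.inr (Or.inr ⟨0, rfl⟩)))) ?_ ?_ ?_ ?_
  · rw [isConj_iff]
    rintro ⟨g, hg⟩
    rw [diag_conj, u_inj] at hg
    exact h_ne hg.2
  · rw [isConj_iff]
    rintro ⟨g, hg⟩
    rw [diag_conj] at hg
    exact u_ne_w _ _ _ _ hg
  · rw [isConj_iff]
    rintro ⟨g, hg⟩
    induction g using cases' with
    | hu a b => rw [u_conj_u] at hg; exact u_ne_w _ _ _ _ hg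
    | hw a b => rw [w_conj_u] at hg; exact u_ne_w _ _ _ _ hg
  · intro t ht
    rcases (orderOf_eq_two_iff t).1 ht with rfl | rfl | rfl | ⟨c, rfl⟩
    · exact Or.inl (IsConj.refl _)
    · exact Or.inr (Or.inl (IsConj.refl _))
    · exact Or.inr (Or.inl (isConj_iff.2 ⟨w 0 0, by rw [w_conj_u]⟩))
    · refine Or.inr (Or.inr (isConj_iff.2 ⟨u (-c) 0, ?_⟩))
      rw [u_conj_w]; congr 1 <;> ring

/-- The homocyclic base. -/
def base (m : ℕ) : Subgroup (WreathTwo m) where
  carrier := {g | g.e = false}
  one_mem' := rfl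
  mul_mem' := by
    intro g k hg hk
    rw [Set.mem_setOf_eq] at hg hk ⊢
    rw [mul_def]; simp [hg, hk]
  inv_mem' := by intro g hg; exact hg

theorem u_mem_base (a b : ZMod (2 ^ (m + 2))) : u a b ∈ base m := rfl
theorem w_not_mem_base (a b : ZMod (2 ^ (m + 2))) : w a b ∉ base m := fun hh => Bool.noConfusion hh

theorem index_base : (base m).index = 2 := by
  rw [Subgroup.index_eq_two_iff]
  refine ⟨w 0 0, fun g => ?_⟩
  induction g using cases' with
  | hu a b =>
    rw [u_mul_w]
    exact Or.inr ⟨u_mem_base _ _, w_not_mem_base _ _⟩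
  | hw a b =>
    rw [w_mul_w]
    exact Or.inl ⟨u_mem_base _ _, w_not_mem_base _ _⟩

/-- The base as a direct product of two cyclic groups. -/
def baseEquiv (m : ℕ) :
    base m ≃* Multiplicative (ZMod (2 ^ (m + 2)) × ZMod (2 ^ (m + 2))) where
  toFun g := Multiplicative.ofAdd (g.1.a, g.1.b)
  invFun p := ⟨u p.toAdd.1 p.toAdd.2, rfl⟩
  left_inv := by
    rintro ⟨⟨a, b, e⟩, hg⟩
    change e = false at hg
    subst hg; rfl
  right_inv p := rfl
  map_mul' := by
    rintro ⟨⟨a, b, e⟩, hg⟩ ⟨⟨c, d, f⟩, hf⟩
    change e = false at hg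
    subst hg
    rfl

theorem natCard_base : Nat.card (base m) = 2 ^ (2 * (m + 2)) := by
  rw [Nat.card_congr (baseEquiv m).toEquiv,
    Nat.card_congr (Multiplicative.toAdd (α := ZMod (2 ^ (m + 2)) × ZMod (2 ^ (m + 2)))),
    Nat.card_prod, Nat.card_zmod, ← pow_add]
  ring

theorem isMulCommutative_base : IsMulCommutative (base m) :=
  ⟨⟨fun g k => (baseEquiv m).injective (by rw [map_mul, map_mul, mul_comm])⟩⟩

theorem commute_u_w_iff (c d a b : ZMod (2 ^ (m + 2))) :
    u c d * w a b = w a b * u c d ↔ c = d := by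
  rw [u_mul_w, w_mul_u, w_inj]
  constructor
  · intro hh; linear_combination hh.1
  · rintro rfl; exact ⟨add_comm _ _, add_comm _ _⟩

theorem eq_base_of_abelian {U : Subgroup (WreathTwo m)} (hU : IsMulCommutative U)
    (hcard : Nat.card U = 2 ^ (2 * (m + 2))) : U = base m := by
  have hcomm : ∀ g ∈ U, ∀ k ∈ U, g * k = k * g := fun g hg k hk =>
    congrArg Subtype.val (hU.1.1 ⟨g, hg⟩ ⟨k, hk⟩)
  by_cases hex : ∃ a b, w a b ∈ U
  · exfalso
    obtain ⟨a, b, hab⟩ := hex
    let f : U → Bool × ZMod (2 ^ (m + 2)) := fun g => (g.1.e, g.1.a)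
    have hf : Function.Injective f := by
      have key : ∀ g ∈ U, g.b = g.a + if g.e then b - a else 0 := by
        intro g hg
        induction g using cases' with
        | hu c d => simpa using ((commute_u_w_iff c d a b).1 (hcomm _ hg _ hab)).symm
        | hw c d =>
          have h1 := U.mul_mem hg (U.inv_mem hab)
          rw [w_inv, w_mul_w] at h1
          have h2 := (commute_u_w_iff _ _ a b).1 (hcomm _ h1 _ hab)
          show d = c + (b - a)
          linear_combination -h2
      rintro ⟨g, hg⟩ ⟨k, hk⟩ hh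
      simp only [f, Prod.mk.injEq] at hh
      refine Subtype.ext (WreathTwo.ext hh.2 ?_ hh.1)
      rw [key g hg, key k hk, hh.1, hh.2]
    have := Nat.card_le_card_of_injective f hf
    rw [hcard, Nat.card_prod, Nat.card_eq_fintype_card (α := Bool), Fintype.card_bool,
      Nat.card_zmod, two_mul (m + 2), pow_add] at this
    have h4 : 2 ^ 2 ≤ 2 ^ (m + 2) := Nat.pow_le_pow_right two_pos (by omega)
    nlinarith
  · push_neg at hex
    refine Subgroup.eq_of_le_of_card_ge (fun g hg => ?_) (by rw [hcard, natCard_base])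
    induction g using cases' with
    | hu a b => exact u_mem_base a b
    | hw a b => exact absurd hg (hex a b)

theorem addOrderOf_one' : addOrderOf (1 : ZMod (2 ^ (m + 2))) = 2 ^ (m + 2) := ZMod.addOrderOf_one _

theorem zpowers_u_one (t : ZMod (2 ^ (m + 2))) (c : ZMod (2 ^ (m + 2))) :
    u c (c * t) ∈ Subgroup.zpowers (u 1 t) := by
  haveI : NeZero (2 ^ (m + 2)) := ⟨by positivity⟩
  have e : u c (c * t) = u 1 t ^ c.val := by rw [u_pow, ZMod.natCast_zmod_val, mul_one]
  rw [e]; exact pow_mem (Subgroup.mem_zpowers _) _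

theorem orderOf_u_one (t : ZMod (2 ^ (m + 2))) : orderOf (u 1 t) = 2 ^ (m + 2) := by
  refine orderOf_eq_prime_pow (n := m + 1) ?_ ?_
  · rw [u_pow, one_def, mul_one, u_inj]
    intro hh
    exact h_ne hh.1
  · rw [u_pow, one_def, ZMod.natCast_self, zero_mul, zero_mul]

theorem center_eq : Subgroup.center (WreathTwo m) = Subgroup.zpowers (u 1 1) := by
  apply le_antisymm
  · intro g hg
    rw [Subgroup.mem_center_iff] at hg
    induction g using cases' with
    | hu a b =>
      obtain rfl := (commute_u_w_iff a b 0 0).1 (hg (w 0 0)).symm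
      have := zpowers_u_one (m := m) 1 a
      rwa [mul_one] at this
    | hw a b =>
      exact absurd ((commute_u_w_iff 1 0 a b).1 (hg (u 1 0))).symm
        (fun h0 => h_ne (by rw [← mul_one (h m), ← h0, mul_zero]))
  · rw [Subgroup.zpowers_le, Subgroup.mem_center_iff]
    intro g
    calc g * u 1 1 = g * u 1 1 * g⁻¹ * g := by group
      _ = u 1 1 * g := by rw [diag_conj]

theorem commutator_eq : commutator (WreathTwo m) = Subgroup.zpowers (u 1 (-1)) := by
  apply le_antisymm
  · rw [commutator_def, Subgroup.commutator_le]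
    intro g _ k _
    have hanti : ∀ c d : ZMod (2 ^ (m + 2)), c + d = 0 → u c d ∈ Subgroup.zpowers (u 1 (-1)) := by
      intro c d hcd
      rw [eq_neg_of_add_eq_zero_right hcd]
      simpa using zpowers_u_one (m := m) (-1) c
    induction g using cases' <;> induction k using cases' <;>
      simp only [commutatorElement_def, u_mul_u, u_mul_w, w_mul_u, w_mul_w, u_inv, w_inv] <;>
      exact hanti _ _ (by ring)
  · rw [Subgroup.zpowers_le]
    have hm : ⁅u (1 : ZMod (2 ^ (m + 2))) 0, w (0 : ZMod (2 ^ (m + 2))) 0⁆ ∈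
        commutator (WreathTwo m) :=
      Subgroup.commutator_mem_commutator (Subgroup.mem_top _) (Subgroup.mem_top _)
    simpa [commutatorElement_def] using hm

/-- The projection onto the dihedral group of order `2^(n+1)`. -/
def toDihedral (m : ℕ) : WreathTwo m →* DihedralGroup (2 ^ (m + 2)) where
  toFun g := if g.e then DihedralGroup.sr (g.b - g.a) else DihedralGroup.r (g.a - g.b)
  map_one' := by simp [one_def]
  map_mul' := by
    intro g k
    induction g using cases' <;> induction k using cases' <;> simp <;> ring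

theorem toDihedral_surjective : Function.Surjective (toDihedral m) := by
  rintro (i | i)
  · exact ⟨u i 0, by simp [toDihedral]⟩
  · exact ⟨w 0 i, by simp [toDihedral]⟩

theorem toDihedral_ker : (toDihedral m).ker = Subgroup.center (WreathTwo m) := by
  rw [center_eq]
  ext g
  rw [MonoidHom.mem_ker]
  constructor
  · intro hg
    induction g using cases' with
    | hu a b =>
      simp [toDihedral, DihedralGroup.one_def, -DihedralGroup.r_zero, sub_eq_zero] at hg
      subst hg
      have := zpowers_u_one (m := m) 1 a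
      rwa [mul_one] at this
    | hw a b => simp [toDihedral, DihedralGroup.one_def, -DihedralGroup.r_zero] at hg
  · intro hg
    obtain ⟨k, rfl⟩ := Subgroup.mem_zpowers_iff.1 hg
    rw [map_zpow]
    simp [toDihedral]

/-- The four-subgroup of the base. -/
def four0 (m : ℕ) : Subgroup (WreathTwo m) where
  carrier := {g | g.e = false ∧ 2 * g.a = 0 ∧ 2 * g.b = 0}
  one_mem' := by simp [one_def]
  mul_mem' := by
    rintro ⟨a, b, e⟩ ⟨c, d, f⟩ ⟨h1, h2, h3⟩ ⟨h4, h5, h6⟩
    cases h1; cases h4
    rw [u_mul_u]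
    simp at h2 h3 h5 h6 ⊢
    exact ⟨by linear_combination h2 + h5, by linear_combination h3 + h6⟩
  inv_mem' := by
    rintro ⟨a, b, e⟩ ⟨h1, h2, h3⟩
    cases h1
    rw [u_inv]
    simp at h2 h3 ⊢
    exact ⟨h2, h3⟩

/-- The other four-subgroups. -/
def fourW (a₀ : ZMod (2 ^ (m + 2))) : Subgroup (WreathTwo m) where
  carrier := {g | 2 * (g.a - if g.e then a₀ else 0) = 0 ∧ g.b = if g.e then -g.a else g.a}
  one_mem' := by simp [one_def]
  mul_mem' := by
    intro g k
    induction g using cases' <;> induction k using cases' <;>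
      (intro hg hk; simp at hg hk ⊢; obtain ⟨h1, rfl⟩ := hg; obtain ⟨h2, rfl⟩ := hk)
    all_goals constructor
    all_goals first
      | linear_combination h1 + h2
      | linear_combination (0 : ZMod (2 ^ (m + 2))) * h1
      | linear_combination h1 - h2
      | linear_combination h2
      | linear_combination -h2
      | linear_combination h1
      | linear_combination -h1
      | linear_combination h1 - h2 + (0 : ZMod (2 ^ (m + 2)))
      | linear_combination h2 - h1
  inv_mem' := by
    intro g
    induction g using cases' <;> (intro hg; simp at hg ⊢; obtain ⟨h1, rfl⟩ := hg)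
    all_goals first
      | exact h1
      | (constructor <;> first
          | linear_combination h1
          | linear_combination -h1
          | ring
          | rfl)
      | simpa using h1

theorem natCard_fourW_le (a₀ : ZMod (2 ^ (m + 2))) : Nat.card (fourW a₀) ≤ 4 := by
  let f : fourW a₀ → Bool × Bool := fun g =>
    (g.1.e, decide (g.1.a - (if g.1.e then a₀ else 0) = 0))
  have hf : Function.Injective f := by
    rintro ⟨⟨a, b, e⟩, h1, h2⟩ ⟨⟨c, d, e'⟩, h3, h4⟩ hh
    simp only [f, Prod.mk.injEq, decide_eq_decide] at hh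
    obtain ⟨rfl, hh⟩ := hh
    simp only at h1 h2 h3 h4
    have hac : a = c := by
      rcases two_mul_eq_zero (by omega) h1 with k1 | k1 <;>
        rcases two_mul_eq_zero (by omega) h3 with k2 | k2
      · linear_combination k1 - k2
      · have := hh.1 k1; linear_combination k1 - this
      · have := hh.2 k2; linear_combination this - k2
      · linear_combination k1 - k2
    subst hac
    rw [← h4] at h2
    subst h2
    rfl
  refine (Nat.card_le_card_of_injective f hf).trans ?_
  simp

theorem natCard_four0_le : Nat.card (four0 m) ≤ 4 := by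
  let f : four0 m → Bool × Bool := fun g => (decide (g.1.a = 0), decide (g.1.b = 0))
  have hf : Function.Injective f := by
    rintro ⟨⟨a, b, e⟩, h1, h2, h3⟩ ⟨⟨c, d, e'⟩, h4, h5, h6⟩ hh
    simp only [f, Prod.mk.injEq, decide_eq_decide] at hh
    simp only at h1 h2 h3 h4 h5 h6
    subst h1 h4
    have key : ∀ p r : ZMod (2 ^ (m + 2)), 2 * p = 0 → 2 * r = 0 → (p = 0 ↔ r = 0) → p = r := by
      intro p r hp hr hpr
      rcases two_mul_eq_zero (by omega) hp with k1 | k1 <;>
        rcases two_mul_eq_zero (by omega) hr with k2 | k2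
      · rw [k1, k2]
      · rw [k1, hpr.1 k1]
      · rw [hpr.2 k2, k2]
      · rw [k1, k2]
    obtain rfl := key a c h2 h5 hh.1
    obtain rfl := key b d h3 h6 hh.2
    rfl
  refine (Nat.card_le_card_of_injective f hf).trans ?_
  simp

theorem four_cases {T : Subgroup (WreathTwo m)} (hT : IsKleinFour T) :
    T = four0 m ∨ ∃ a₀, T = fourW a₀ := by
  have h4 : Nat.card T = 4 := IsKleinFour.card_four
  have hsq : ∀ g ∈ T, g * g = 1 := fun g hg =>
    congrArg Subtype.val (IsKleinFour.mul_self (⟨g, hg⟩ : T))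
  have hbase : ∀ a b, u a b ∈ T → 2 * a = 0 ∧ 2 * b = 0 := fun a b hg => by
    have := hsq _ hg
    rw [u_mul_u, one_def, u_inj] at this
    rw [two_mul, two_mul]; exact this
  by_cases hex : ∃ a b, w a b ∈ T
  · obtain ⟨a, b, hab⟩ := hex
    right
    refine ⟨a, Subgroup.eq_of_le_of_card_ge (fun g hg => ?_) (by rw [h4]; exact natCard_fourW_le a)⟩
    have hsum : ∀ c d, w c d ∈ T → d = -c := fun c d hcd => by
      have := hsq _ hcd
      rw [w_sq, one_def, u_inj] at this
      exact eq_neg_of_add_eq_zero_right this.1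
    obtain rfl := hsum a b hab
    induction g using cases' with
    | hu c d =>
      obtain ⟨h1, -⟩ := hbase c d hg
      have hdc : c = d := by
        have h2 := hsum _ _ (by simpa using T.mul_mem hg hab : w (c + a) (d + -a) ∈ T)
        have h3 : d = -c := by linear_combination h2
        linear_combination h1 - h3
      exact ⟨by simpa using h1, by simpa using hdc.symm⟩
    | hw c d =>
      obtain rfl := hsum c d hg
      have h3 := T.mul_mem hg hab
      rw [w_mul_w] at h3
      refine ⟨?_, by simp⟩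
      show 2 * (c - a) = 0
      linear_combination (hbase _ _ h3).1
  · left
    push_neg at hex
    refine Subgroup.eq_of_le_of_card_ge (fun g hg => ?_) (by rw [h4]; exact natCard_four0_le)
    induction g using cases' with
    | hu a b => exact ⟨rfl, hbase a b hg⟩
    | hw a b => exact absurd hg (hex a b)

theorem four0_normal : (four0 m).Normal := by
  refine ⟨fun g hg k => ?_⟩
  induction g using cases' with
  | hu a b =>
    obtain ⟨-, h2, h3⟩ := hg
    induction k using cases' with
    | hu c d => rw [u_conj_u]; exact ⟨rfl, h2, h3⟩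
    | hw c d => rw [w_conj_u]; exact ⟨rfl, h3, h2⟩
  | hw a b => exact Bool.noConfusion hg.1

theorem isKleinFour_of_le {G : Type*} [Group G] [Finite G] {T : Subgroup G} (hle : Nat.card T ≤ 4)
    (hsq : ∀ g ∈ T, g * g = 1) {g k : G} (hg : g ∈ T) (hk : k ∈ T) (hg1 : g ≠ 1) (hk1 : k ≠ 1)
    (hgk : g ≠ k) : IsKleinFour T := by
  have hexp : ∀ x : T, x * x = 1 := fun x => Subtype.ext (hsq _ x.2)
  have h4 : Nat.card T = 4 := by
    have hp : IsPGroup 2 T := fun x => ⟨1, by rw [pow_one, pow_two]; exact hexp x⟩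
    obtain ⟨n, hn⟩ := IsPGroup.iff_card.1 hp
    have h3 : 3 ≤ Nat.card T := by
      classical
      let s : Finset T := {1, ⟨g, hg⟩, ⟨k, hk⟩}
      have hs : s.card = 3 := Finset.card_eq_three.2 ⟨1, ⟨g, hg⟩, ⟨k, hk⟩,
        fun h0 => hg1 (congrArg Subtype.val h0).symm, fun h0 => hk1 (congrArg Subtype.val h0).symm,
        fun h0 => hgk (congrArg Subtype.val h0), rfl⟩
      have := Fintype.ofFinite T
      rw [Nat.card_eq_fintype_card, ← hs]; exact Finset.card_le_univ s
    rcases n with _ | _ | n
    · rw [hn] at h3; norm_num at h3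
    · rw [hn] at h3; norm_num at h3
    · have : 2 ^ (n + 1 + 1) = 4 * 2 ^ n := by ring
      have := Nat.one_le_two_pow (n := n)
      nlinarith
  refine ⟨h4, ?_⟩
  refine Nat.dvd_antisymm (Monoid.exponent_dvd_of_forall_pow_eq_one fun x => by
    rw [pow_two]; exact hexp x) ?_
  have hp2 : orderOf (⟨g, hg⟩ : T) = 2 := orderOf_eq_prime (by rw [pow_two]; exact hexp _)
    (fun h0 => hg1 (congrArg Subtype.val h0))
  rw [← hp2]; exact Monoid.order_dvd_exponent _

theorem isKleinFour_four0 : IsKleinFour (four0 m) :=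
  isKleinFour_of_le natCard_four0_le
    (fun g hg => by
      induction g using cases' with
      | hu a b =>
        rw [u_mul_u, one_def, ← two_mul, ← two_mul]
        obtain ⟨-, h2, h3⟩ := hg
        rw [show 2 * a = 0 from h2, show 2 * b = 0 from h3]
      | hw a b => exact Bool.noConfusion hg.1)
    (g := u (h m) 0) (k := u 0 (h m)) ⟨rfl, two_mul_h, mul_zero _⟩ ⟨rfl, mul_zero _, two_mul_h⟩
    (fun h0 => h_ne (u_inj.1 h0).1) (fun h0 => h_ne (u_inj.1 h0).2)
    (fun h0 => h_ne (u_inj.1 h0).1)

theorem isKleinFour_fourW (a : ZMod (2 ^ (m + 2))) : IsKleinFour (fourW a) :=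
  isKleinFour_of_le (natCard_fourW_le a)
    (fun g hg => by
      obtain ⟨h1, h2⟩ := hg
      induction g using cases' with
      | hu c d =>
        simp only [Bool.false_eq_true, if_false, sub_zero] at h1 h2
        rw [u_mul_u, one_def, h2, ← two_mul, h1]
      | hw c d =>
        simp only [if_true] at h1 h2
        rw [w_sq, one_def, h2, add_neg_cancel])
    (g := w a (-a)) (k := u (h m) (h m)) ⟨by simp, by simp⟩
    ⟨by simpa using two_mul_h, by simp⟩
    (fun h0 => u_ne_w _ _ _ _ h0.symm) (fun h0 => h_ne (u_inj.1 h0).1)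
    (fun h0 => u_ne_w _ _ _ _ h0.symm)

theorem four0_ne_fourW (a : ZMod (2 ^ (m + 2))) : fourW a ≠ four0 m := fun hh =>
  Bool.noConfusion (show w a (-a) ∈ four0 m from hh ▸ ⟨by simp, by simp⟩).1

theorem conj_fourW (a c : ZMod (2 ^ (m + 2))) :
    (fourW a).map (MulAut.conj (u (c - a) 0)).toMonoidHom = fourW c := by
  refine Subgroup.eq_of_le_of_card_ge ?_ ?_
  · rintro _ ⟨g, hg, rfl⟩
    rw [MulEquiv.coe_toMonoidHom, MulAut.conj_apply]
    obtain ⟨h1, h2⟩ := hg
    induction g using cases' with
    | hu i j => rw [u_conj_u]; exact ⟨h1, h2⟩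
    | hw i j =>
      rw [u_conj_w]
      simp only [if_true] at h1 h2
      refine ⟨?_, ?_⟩ <;> simp only [if_true]
      · linear_combination h1
      · linear_combination h2
  · rw [Subgroup.card_map_of_injective (f := (MulAut.conj (u (c - a) 0)).toMonoidHom)
      (MulAut.conj (u (c - a) 0)).injective]
    exact (natCard_fourW_le c).trans (le_of_eq (isKleinFour_fourW a).card_four.symm)

end CfsgLib.TwoGroups.WreathTwo
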