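import Mathlib
import Cfsg.Agent.Lib.TwoGroups.WreathedFacts

/-!
The quaternion subgroup, `Ω₁`, and the intermediate subgroups `lev k d` of the wreathed model.
-/

set_option autoImplicit false

namespace CfsgLib.TwoGroups.WreathTwo

variable {m : ℕ}

theorem pow_four' (x : WreathTwo m) : x ^ 4 = (x * x) * (x * x) := by
  simp only [pow_succ, pow_zero, one_mul, mul_assoc]

theorem h_eq_cast : h m = ((2 ^ (m + 1) : ℕ) : ZMod (2 ^ (m + 2))) := rfl

/-- `Ω₁` of the wreathed group. -/
def omega (m : ℕ) : Subgroup (WreathTwo m) where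
  carrier := {g | 2 * (g.a + g.b) = 0}
  one_mem' := by simp [one_def]
  mul_mem' := by
    intro g k
    induction g using cases' <;> induction k using cases' <;>
      (intro hg hk; simp at hg hk ⊢; linear_combination hg + hk)
  inv_mem' := by
    intro g
    induction g using cases' <;> (intro hg; simp at hg ⊢; linear_combination -hg)

theorem natCard_killed_two_eq :
    Nat.card {b : ZMod (2 ^ (m + 2)) // 2 * b = 0} = 2 := by
  have hs : {b : ZMod (2 ^ (m + 2)) | 2 * b = 0} = {0, h m} := by
    ext b
    exact two_mul_eq_zero_iff (by omega)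
  show Nat.card ↥{b : ZMod (2 ^ (m + 2)) | 2 * b = 0} = 2
  rw [hs, Nat.card_coe_set_eq, Set.ncard_pair (h_ne.symm)]

theorem natCard_omega : Nat.card (omega m) = 2 ^ (m + 2 + 2) := by
  let e : omega m ≃ ZMod (2 ^ (m + 2)) × {b : ZMod (2 ^ (m + 2)) // 2 * b = 0} × Bool :=
    { toFun := fun g => (g.1.a, ⟨g.1.a + g.1.b, g.2⟩, g.1.e)
      invFun := fun p => ⟨⟨p.1, p.2.1.1 - p.1, p.2.2⟩, by
        show 2 * (p.1 + (p.2.1.1 - p.1)) = 0
        rw [add_sub_cancel]; exact p.2.1.2⟩
      left_inv := fun g => Subtype.ext (WreathTwo.ext rfl (add_sub_cancel_left _ _) rfl)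
      right_inv := fun p => by simp }
  rw [Nat.card_congr e, Nat.card_prod, Nat.card_prod, natCard_killed_two_eq, Nat.card_zmod,
    Nat.card_eq_fintype_card (α := Bool), Fintype.card_bool, pow_add _ (m + 2) 2]
  norm_num

theorem closure_involutions :
    Subgroup.closure {x : WreathTwo m | orderOf x = 2} = omega m := by
  apply le_antisymm
  · rw [Subgroup.closure_le]
    intro g hg
    rcases (orderOf_eq_two_iff g).1 hg with rfl | rfl | rfl | ⟨a, rfl⟩
    · show 2 * (h m + h m) = 0; rw [h_add_h, mul_zero]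
    · show 2 * (h m + 0) = 0; rw [add_zero, two_mul_h]
    · show 2 * (0 + h m) = 0; rw [zero_add, two_mul_h]
    · show 2 * (a + -a) = 0; rw [add_neg_cancel, mul_zero]
  · have hmem : ∀ {g : WreathTwo m}, orderOf g = 2 → g ∈ Subgroup.closure {x : WreathTwo m | orderOf x = 2} :=
      fun hg => Subgroup.subset_closure hg
    have hw : ∀ c, w c (-c) ∈ Subgroup.closure {x : WreathTwo m | orderOf x = 2} := fun c =>
      hmem ((orderOf_eq_two_iff _).2 (Or.inr (Or.inr (Or.inr ⟨c, rfl⟩))))
    have hanti : ∀ c, u c (-c) ∈ Subgroup.closure {x : WreathTwo m | orderOf x = 2} := fun c => by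
      simpa using mul_mem (hw c) (hw 0)
    have hh0 : u (h m) 0 ∈ Subgroup.closure {x : WreathTwo m | orderOf x = 2} :=
      hmem ((orderOf_eq_two_iff _).2 (Or.inr (Or.inl rfl)))
    intro g hg
    have hu : ∀ a b, 2 * (a + b) = 0 → u a b ∈ Subgroup.closure {x : WreathTwo m | orderOf x = 2} := by
      intro a b hab
      rcases two_mul_eq_zero (by omega) hab with e | e
      · rw [eq_neg_of_add_eq_zero_right e]; exact hanti a
      · have := mul_mem hh0 (hanti (-b))
        rw [neg_neg, u_mul_u, zero_add, show h m + -b = a by linear_combination -e] at this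
        exact this
    induction g using cases' with
    | hu a b => exact hu a b hg
    | hw a b =>
      have := mul_mem (hu a b hg) (hw 0)
      rwa [neg_zero, u_mul_w, add_zero, add_zero] at this

theorem omega_sup : omega m ⊔ Subgroup.zpowers (u 1 0) = ⊤ := by
  rw [eq_top_iff]
  intro g _
  have hz : ∀ c, u c 0 ∈ omega m ⊔ Subgroup.zpowers (u 1 0) := fun c => by
    refine Subgroup.mem_sup_right ?_
    have := zpowers_u_one (m := m) 0 c
    rwa [mul_zero] at this
  induction g using cases' with
  | hu a b =>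
    have h1 : u (-b) b ∈ omega m ⊔ Subgroup.zpowers (u 1 0) :=
      Subgroup.mem_sup_left (by show 2 * (-b + b) = 0; rw [neg_add_cancel, mul_zero])
    simpa using mul_mem (hz (a + b)) h1
  | hw a b =>
    have h1 : w (-b) b ∈ omega m ⊔ Subgroup.zpowers (u 1 0) :=
      Subgroup.mem_sup_left (by show 2 * (-b + b) = 0; rw [neg_add_cancel, mul_zero])
    simpa using mul_mem (hz (a + b)) h1

/-- The generalized quaternion subgroup of order `2^(n+1)`. -/
def quat (m : ℕ) : Subgroup (WreathTwo m) where
  carrier := {g | g.a + g.b = if g.e then h m else 0}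
  one_mem' := by simp [one_def]
  mul_mem' := by
    intro g k
    induction g using cases' <;> induction k using cases' <;>
      (intro hg hk; simp at hg hk ⊢)
    all_goals first
      | linear_combination hg + hk
      | linear_combination hg + hk + h_add_h (m := m)
  inv_mem' := by
    intro g
    induction g using cases' <;> (intro hg; simp at hg ⊢)
    all_goals first
      | linear_combination -hg
      | linear_combination -hg + neg_h (m := m)
      | linear_combination -hg - two_mul_h (m := m)

theorem natCard_quat : Nat.card (quat m) = 2 ^ (m + 2 + 1) := by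
  let e : quat m ≃ ZMod (2 ^ (m + 2)) × Bool :=
    { toFun := fun g => (g.1.a, g.1.e)
      invFun := fun p => ⟨⟨p.1, (if p.2 then h m else 0) - p.1, p.2⟩, add_sub_cancel _ _⟩
      left_inv := fun g => Subtype.ext (WreathTwo.ext rfl (sub_eq_iff_eq_add'.2 g.2.symm) rfl)
      right_inv := fun p => rfl }
  rw [Nat.card_congr e, Nat.card_prod, Nat.card_zmod, Nat.card_eq_fintype_card (α := Bool),
    Fintype.card_bool, pow_succ _ (m + 2)]

theorem quat_equiv : Nonempty (quat m ≃* QuaternionGroup (2 ^ (m + 1))) := by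
  refine nonempty_mulEquiv_quaternionGroup
    (a := (⟨u 1 (-1), show (1 : ZMod (2 ^ (m + 2))) + -1 = 0 from add_neg_cancel 1⟩ : quat m))
    (b := (⟨w 0 (h m), show (0 : ZMod (2 ^ (m + 2))) + h m = h m from zero_add _⟩ : quat m))
    ?_ ?_ ?_ ?_ ?_
  · rw [← Subgroup.orderOf_coe, orderOf_u_one]; ring
  · refine Subtype.ext ?_
    push_cast
    rw [w_sq, u_pow, mul_one, zero_add, ← h_eq_cast, mul_neg, mul_one, neg_h]
  · intro hmem
    obtain ⟨k, hk⟩ := Subgroup.mem_zpowers_iff.1 hmem
    have h1 : (u (1 : ZMod (2 ^ (m + 2))) (-1)) ^ k ∈ base m := zpow_mem (u_mem_base _ _) k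
    have h2 := congrArg Subtype.val hk
    push_cast at h2
    rw [h2] at h1
    exact w_not_mem_base _ _ h1
  · refine Subtype.ext ?_
    push_cast
    rw [w_conj_u, u_inv, neg_neg]
  · rw [natCard_quat]; ring

theorem quaternion_prop (M : ℕ) [NeZero M] (hM : 2 ≤ M) (g v : QuaternionGroup M)
    (hg : orderOf g = 2 * M) (hv : v ∉ Subgroup.zpowers g) :
    v * g * v⁻¹ = g⁻¹ ∧ orderOf v = 4 := by
  rcases g with i | i
  · rcases v with j | j
    · exfalso
      apply hv
      have hle : Subgroup.zpowers (QuaternionGroup.a i) ≤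
          Subgroup.zpowers (QuaternionGroup.a 1 : QuaternionGroup M) := by
        rw [Subgroup.zpowers_le]
        exact Subgroup.mem_zpowers_iff.2 ⟨(i.val : ℤ), by
          rw [zpow_natCast, QuaternionGroup.a_one_pow, ZMod.natCast_zmod_val]⟩
      have heq := Subgroup.eq_of_le_of_card_ge hle
        (by rw [Nat.card_zpowers, Nat.card_zpowers, hg, QuaternionGroup.orderOf_a_one])
      rw [heq]
      exact Subgroup.mem_zpowers_iff.2 ⟨(j.val : ℤ), by
        rw [zpow_natCast, QuaternionGroup.a_one_pow, ZMod.natCast_zmod_val]⟩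
    · refine ⟨?_, QuaternionGroup.orderOf_xa j⟩
      rw [mul_inv_eq_iff_eq_mul]
      refine eq_inv_mul_iff_mul_eq.2 ?_
      simp
  · have hM2 : M = 2 := by
      rw [QuaternionGroup.orderOf_xa] at hg; omega
    subst hM2
    have key : ∀ i : ZMod (2 * 2), ∀ v : QuaternionGroup 2,
        (∀ k : Fin 4, QuaternionGroup.xa i ^ (k : ℕ) ≠ v) →
        v * QuaternionGroup.xa i * v⁻¹ = (QuaternionGroup.xa i)⁻¹ ∧ v ^ 4 = 1 ∧ v ^ 2 ≠ 1 := by
      decide
    obtain ⟨h1, h2, h3⟩ := key i v (fun k hk => hv (hk ▸ pow_mem (Subgroup.mem_zpowers _) _))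
    exact ⟨h1, orderOf_eq_prime_pow (p := 2) (n := 1) h3 h2⟩

theorem eq_quat_of_equiv {Y : Subgroup (WreathTwo m)}
    (eY : Y ≃* QuaternionGroup (2 ^ (m + 1))) : Y = quat m := by
  set M := 2 ^ (m + 1) with hMdef
  have hM : 2 ≤ M := by
    rw [hMdef]; calc 2 = 2 ^ 1 := rfl
      _ ≤ _ := Nat.pow_le_pow_right two_pos (by omega)
  haveI : NeZero M := ⟨by omega⟩
  have prop : ∀ g ∈ Y, ∀ v ∈ Y, orderOf g = 2 * M → v ∉ Subgroup.zpowers g →
      v * g * v⁻¹ = g⁻¹ ∧ orderOf v = 4 := by
    intro g hg v hv h1 h2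
    obtain ⟨k1, k2⟩ := quaternion_prop M hM (eY ⟨g, hg⟩) (eY ⟨v, hv⟩)
      (by rw [eY.orderOf_eq, ← Subgroup.orderOf_coe]; exact h1)
      (fun hh => by
        obtain ⟨k, hk⟩ := Subgroup.mem_zpowers_iff.1 hh
        rw [← map_zpow] at hk
        have := congrArg Subtype.val (eY.injective hk)
        push_cast at this
        exact h2 (Subgroup.mem_zpowers_iff.2 ⟨k, this⟩))
    rw [← map_mul, ← map_inv eY, ← map_mul, ← map_inv eY] at k1
    refine ⟨congrArg Subtype.val (eY.injective k1), ?_⟩
    rw [eY.orderOf_eq, ← Subgroup.orderOf_coe] at k2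
    exact k2
  have hcY : Nat.card Y = 4 * M := by
    rw [Nat.card_congr eY.toEquiv, Nat.card_eq_fintype_card, QuaternionGroup.card]
  have hout : ∀ g : WreathTwo m, orderOf g = 2 * M → g ∈ Y → ∃ v ∈ Y, v ∉ Subgroup.zpowers g := by
    intro g hg hgY
    by_contra hh
    push_neg at hh
    have := Subgroup.card_le_of_le (show Y ≤ Subgroup.zpowers g from hh)
    rw [hcY, Nat.card_zpowers, hg] at this
    omega
  obtain ⟨g0, hg0, hg0o⟩ : ∃ g ∈ Y, orderOf g = 2 * M := by
    refine ⟨_, (eY.symm (QuaternionGroup.a 1)).2, ?_⟩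
    rw [Subgroup.orderOf_coe, eY.symm.orderOf_eq, QuaternionGroup.orderOf_a_one]
  obtain ⟨g, hg, hgo, hgb⟩ : ∃ g ∈ Y, orderOf g = 2 * M ∧ g ∈ base m := by
    induction g0 using cases' with
    | hu a b => exact ⟨_, hg0, hg0o, u_mem_base a b⟩
    | hw a b =>
      obtain ⟨v, hv, hv'⟩ := hout _ hg0o hg0
      obtain ⟨k1, k2⟩ := prop _ hg0 v hv hg0o hv'
      have hsq : v * (w a b * w a b) * v⁻¹ = w a b * w a b := by rw [w_sq]; exact diag_conj v _
      have h4 : (w a b) ^ 4 = 1 := by
        have h5 : (w a b)⁻¹ * (w a b)⁻¹ = w a b * w a b := by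
          rw [← k1]
          calc v * w a b * v⁻¹ * (v * w a b * v⁻¹) = v * (w a b * w a b) * v⁻¹ := by group
            _ = _ := hsq
        calc (w a b) ^ 4 = (w a b * w a b) * (w a b * w a b) := pow_four' _
          _ = ((w a b)⁻¹ * (w a b)⁻¹) * (w a b * w a b) := by rw [h5]
          _ = 1 := by group
      have hM2 : 2 * M = 4 := by
        have := Nat.le_of_dvd (by norm_num) (orderOf_dvd_of_pow_eq_one h4)
        omega
      induction v using cases' with
      | hu c d => exact ⟨_, hv, by rw [k2, hM2], u_mem_base c d⟩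
      | hw c d =>
        have hv2 : w c d * w a b ∉ Subgroup.zpowers (w a b) := fun hh =>
          hv' (((Subgroup.zpowers (w a b)).mul_mem_cancel_right (Subgroup.mem_zpowers _)).1 hh)
        obtain ⟨-, k3⟩ := prop _ hg0 _ (Y.mul_mem hv hg0) hg0o hv2
        exact ⟨_, Y.mul_mem hv hg0, by rw [k3, hM2], by rw [w_mul_w]; exact u_mem_base _ _⟩
  induction g using cases' with
  | hw a b => exact absurd hgb (w_not_mem_base a b)
  | hu a b =>
    obtain ⟨v, hv, hv'⟩ := hout _ hgo hg
    have hnotu : ∀ c d, u c d ∈ Y → u c d ∈ Subgroup.zpowers (u a b) := by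
      intro c d hcd
      by_contra hh
      have k1 := (prop _ hg _ hcd hgo hh).1
      rw [u_conj_u] at k1
      have h2 : u a b ^ 2 = 1 := by
        rw [pow_two]; nth_rewrite 1 [k1]; exact inv_mul_cancel _
      have := Nat.le_of_dvd two_pos (orderOf_dvd_of_pow_eq_one h2)
      omega
    have hb : b = -a := by
      induction v using cases' with
      | hu c d => exact absurd (hnotu c d hv) hv'
      | hw c d =>
        have k1 := (prop _ hg _ hv hgo hv').1
        rw [w_conj_u, u_inv, u_inj] at k1
        exact k1.1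
    subst hb
    refine Subgroup.eq_of_le_of_card_ge (fun k hk => ?_)
      (by rw [hcY, natCard_quat, hMdef]; exact le_of_eq (by ring))
    induction k using cases' with
    | hu c d =>
      obtain ⟨j, hj⟩ := Subgroup.mem_zpowers_iff.1 (hnotu c d hk)
      rw [← hj]
      exact zpow_mem (show a + -a = 0 from add_neg_cancel a) j
    | hw c d =>
      have hk' : w c d ∉ Subgroup.zpowers (u a (-a)) := fun hh => by
        obtain ⟨j, hj⟩ := Subgroup.mem_zpowers_iff.1 hh
        exact w_not_mem_base c d (hj ▸ zpow_mem (u_mem_base _ _) j)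
      obtain ⟨-, k2⟩ := prop _ hg _ hk hgo hk'
      show c + d = h m
      have h4 : w c d * w c d * (w c d * w c d) = 1 := by
        have := pow_orderOf_eq_one (w c d)
        rw [k2, pow_four'] at this
        exact this
      rw [w_sq, u_mul_u, one_def, u_inj, ← two_mul] at h4
      rcases two_mul_eq_zero (by omega) h4.1 with e | e
      · exfalso
        have h2 : w c d ^ 2 = 1 := by rw [pow_two, w_sq, e, one_def]
        have := Nat.le_of_dvd two_pos (orderOf_dvd_of_pow_eq_one h2)
        omega
      · exact e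

/-- Differences of coordinates killed by `2^k`, shifted by `d` outside the base. -/
def lev (k : ℕ) (d : ZMod (2 ^ (m + 2))) : Subgroup (WreathTwo m) where
  carrier := {g | 2 ^ k * (g.a - g.b - if g.e then d else 0) = 0}
  one_mem' := by simp [one_def]
  mul_mem' := by
    intro g l
    induction g using cases' <;> induction l using cases' <;>
      (intro hg hl; simp at hg hl ⊢)
    all_goals first
      | linear_combination hg + hl
      | linear_combination hg - hl
  inv_mem' := by
    intro g
    induction g using cases' <;> (intro hg; simp at hg ⊢)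
    all_goals first
      | linear_combination -hg
      | linear_combination hg

theorem u_mem_lev {k : ℕ} {d a b : ZMod (2 ^ (m + 2))} :
    u a b ∈ lev k d ↔ 2 ^ k * (a - b) = 0 := by
  show 2 ^ k * (a - b - if false then d else 0) = 0 ↔ _
  simp

theorem w_mem_lev {k : ℕ} {d a b : ZMod (2 ^ (m + 2))} :
    w a b ∈ lev k d ↔ 2 ^ k * (a - b - d) = 0 := Iff.rfl

theorem center_le_lev (k : ℕ) (d : ZMod (2 ^ (m + 2))) :
    Subgroup.center (WreathTwo m) ≤ lev k d := by
  rw [center_eq, Subgroup.zpowers_le, u_mem_lev, sub_self, mul_zero]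

theorem normalizer_lev (k : ℕ) (d : ZMod (2 ^ (m + 2))) :
    Subgroup.normalizer ((lev k d : Subgroup (WreathTwo m)) : Set (WreathTwo m)) = lev (k + 1) d := by
  refine le_antisymm (fun g hg => ?_) (Subgroup.le_normalizer_iff.2 fun g hg f hf => ?_)
  · have h1 : g * w d 0 * g⁻¹ ∈ lev k d :=
      (Subgroup.mem_normalizer_iff.1 hg (w d 0)).1 (w_mem_lev.2 (by simp))
    induction g using cases' with
    | hu a b =>
      rw [u_conj_w, w_mem_lev] at h1
      exact u_mem_lev.2 (by linear_combination h1)
    | hw a b =>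
      rw [w_conj_w, w_mem_lev] at h1
      exact w_mem_lev.2 (by linear_combination h1)
  · induction g using cases' with
    | hu a b =>
      rw [u_mem_lev] at hg
      induction f using cases' with
      | hu c e => rw [u_conj_u]; exact hf
      | hw c e =>
        rw [u_conj_w, w_mem_lev]
        linear_combination hg + w_mem_lev.1 hf
    | hw a b =>
      rw [w_mem_lev] at hg
      induction f using cases' with
      | hu c e =>
        rw [w_conj_u, u_mem_lev]
        linear_combination -(u_mem_lev.1 hf)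
      | hw c e =>
        rw [w_conj_w, w_mem_lev]
        linear_combination hg - w_mem_lev.1 hf

theorem relIndex_normalizer_lev (k : ℕ) (d r : ZMod (2 ^ (m + 2))) (hr : 2 ^ k * r = h m) :
    (lev k d).relIndex (Subgroup.normalizer ((lev k d : Subgroup (WreathTwo m)) :
      Set (WreathTwo m))) = 2 := by
  rw [normalizer_lev, Subgroup.relIndex, Subgroup.index_eq_two_iff]
  refine ⟨⟨u r 0, u_mem_lev.2 (by linear_combination 2 * hr + two_mul_h (m := m))⟩, ?_⟩
  rintro ⟨g, hg⟩
  simp only [Subgroup.mem_subgroupOf, Subgroup.coe_mul]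
  induction g using cases' with
  | hu a b =>
    simp only [u_mul_u, u_mem_lev]
    have hb : 2 * (2 ^ k * (a - b)) = 0 := by linear_combination u_mem_lev.1 hg
    have e' : 2 ^ k * (a + r - (b + 0)) = 2 ^ k * (a - b) + h m := by linear_combination hr
    rw [e']
    rcases two_mul_eq_zero (by omega) hb with e | e <;> rw [e]
    · exact Or.inr ⟨rfl, by rw [zero_add]; exact h_ne⟩
    · exact Or.inl ⟨h_add_h, h_ne⟩
  | hw a b =>
    simp only [w_mul_u, w_mem_lev]
    have hb : 2 * (2 ^ k * (a - b - d)) = 0 := by linear_combination w_mem_lev.1 hg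
    have e' : 2 ^ k * (a + 0 - (b + r) - d) = 2 ^ k * (a - b - d) + h m := by
      linear_combination -hr - two_mul_h (m := m)
    rw [e']
    rcases two_mul_eq_zero (by omega) hb with e | e <;> rw [e]
    · exact Or.inr ⟨rfl, by rw [zero_add]; exact h_ne⟩
    · exact Or.inl ⟨h_add_h, h_ne⟩

theorem conj_lev (k : ℕ) (d j : ZMod (2 ^ (m + 2))) :
    (lev k d).map (MulAut.conj (u j 0)).toMonoidHom = lev k (d + 2 * j) := by
  apply le_antisymm
  · rintro _ ⟨g, hg, rfl⟩
    rw [MulEquiv.coe_toMonoidHom, MulAut.conj_apply]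
    rw [SetLike.mem_coe] at hg
    induction g using cases' with
    | hu a b => rw [u_conj_u]; exact u_mem_lev.2 (u_mem_lev.1 hg)
    | hw a b =>
      rw [u_conj_w, w_mem_lev]
      linear_combination w_mem_lev.1 hg
  · intro g hg
    rw [Subgroup.mem_map_equiv, MulAut.conj_symm_apply]
    induction g using cases' with
    | hu a b => simpa [u_mem_lev] using hg
    | hw a b =>
      simp only [u_inv, u_mul_w, w_mul_u, w_mem_lev]
      linear_combination w_mem_lev.1 hg

theorem center_map_le_center {X : Subgroup (WreathTwo m)} (hX : ¬ IsMulCommutative X) :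
    X ⊓ Subgroup.centralizer (X : Set (WreathTwo m)) ≤ Subgroup.center (WreathTwo m) := by
  have hdiag : ∀ c : ZMod (2 ^ (m + 2)), u c c ∈ Subgroup.center (WreathTwo m) := fun c => by
    rw [center_eq]
    have := zpowers_u_one (m := m) 1 c
    rwa [mul_one] at this
  rintro g ⟨hg, hgc⟩
  induction g using cases' with
  | hu c d =>
    by_cases hex : ∃ a b, w a b ∈ X
    · obtain ⟨a, b, hab⟩ := hex
      obtain rfl := (commute_u_w_iff c d a b).1 (Subgroup.mem_centralizer_iff.1 hgc _ hab).symm
      exact hdiag c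
    · exfalso
      push_neg at hex
      have hle : X ≤ base m := fun k hk => by
        induction k using cases' with
        | hu a b => exact u_mem_base a b
        | hw a b => exact absurd hk (hex a b)
      apply hX
      refine ⟨⟨fun p r => Subtype.ext ?_⟩⟩
      show (p : WreathTwo m) * r = r * p
      exact congrArg Subtype.val ((isMulCommutative_base (m := m)).1.1 ⟨_, hle p.2⟩ ⟨_, hle r.2⟩)
  | hw c d =>
    exfalso
    apply hX
    have hbase : ∀ a b, u a b ∈ X → u a b ∈ Subgroup.center (WreathTwo m) := fun a b hab => by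
      obtain rfl := (commute_u_w_iff a b c d).1 (Subgroup.mem_centralizer_iff.1 hgc _ hab)
      exact hdiag a
    have hgen : ∀ k ∈ X, ∃ z ∈ Subgroup.center (WreathTwo m), k = z ∨ k = z * w c d := by
      intro k hk
      induction k using cases' with
      | hu a b => exact ⟨_, hbase a b hk, Or.inl rfl⟩
      | hw a b =>
        have h1 := X.mul_mem hk (X.inv_mem hg)
        rw [w_inv, w_mul_w] at h1
        refine ⟨_, hbase _ _ h1, Or.inr ?_⟩
        rw [u_mul_w]; congr 1 <;> ring
    refine ⟨⟨fun p r => Subtype.ext ?_⟩⟩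
    show (p : WreathTwo m) * r = r * p
    obtain ⟨z, hz, hp⟩ := hgen p p.2
    obtain ⟨z', hz', hr⟩ := hgen r r.2
    have c1 : ∀ x, Commute z x := fun x => (Subgroup.mem_center_iff.1 hz x).symm
    have c2 : ∀ x, Commute z' x := fun x => (Subgroup.mem_center_iff.1 hz' x).symm
    rcases hp with hp | hp <;> rcases hr with hr | hr <;> rw [hp, hr]
    · exact (c1 _).eq
    · exact (c1 _).eq
    · exact (c2 _).eq.symm
    · exact ((c1 _).mul_left ((c2 _).symm.mul_right (Commute.refl _))).eq

end CfsgLib.TwoGroups.WreathTwo
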