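import Mathlib
import Cfsg.Agent.Lib.TwoGroups.WreathedSubgroups

/-!
Self-centralising subgroups of a wreathed group with automorphisms of odd order.
-/

set_option autoImplicit false

namespace CfsgLib.TwoGroups.WreathTwo

variable {m : ℕ}

theorem odd_period_translate {G : Type*} [Group G] (φ : MulAut G) {j : ℕ} (hj : Odd j)
    (hφ : φ ^ j = 1) {k δ : G} (h1 : φ k = k * δ) (hδ : φ δ = δ) : δ ^ j = 1 := by
  have h : ∀ i : ℕ, (φ ^ i) k = k * δ ^ i := by
    intro i
    induction i with
    | zero => simp
    | succ i ih =>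
      rw [pow_succ', MulAut.mul_apply, ih, map_mul, map_pow, h1, hδ, mul_assoc, ← pow_succ']
  have := h j
  rw [hφ, MulAut.one_apply] at this
  exact (mul_eq_left.1 this.symm)

theorem odd_fixes_pair {G : Type*} [Group G] (φ : MulAut G) {j : ℕ} (hj : Odd j) (hφ : φ ^ j = 1)
    {x c : G} (hc : φ c = c) (hc2 : c * c = 1) (hx : φ x = x ∨ φ x = x * c) : φ x = x := by
  rcases hx with hx | hx
  · exact hx
  · have h1 := odd_period_translate φ hj hφ hx hc
    obtain ⟨i, rfl⟩ := hj
    rw [pow_succ, pow_mul, pow_two, hc2, one_pow, one_mul] at h1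
    rw [hx, h1, mul_one]

theorem isPGroup_mulAut_of_odd_trivial {G : Type*} [Group G] [Finite G]
    (h : ∀ (φ : MulAut G) (j : ℕ), Odd j → φ ^ j = 1 → φ = 1) : IsPGroup 2 (MulAut G) := by
  intro φ
  haveI : Finite (MulAut G) := Finite.of_injective (fun f : MulAut G => f.toEquiv)
    (fun a b hab => MulEquiv.toEquiv_injective hab)
  have hpos : orderOf φ ≠ 0 := (orderOf_pos φ).ne'
  refine ⟨(orderOf φ).factorization 2, h _ (orderOf φ / 2 ^ (orderOf φ).factorization 2) ?_ ?_⟩
  · rw [← Nat.not_even_iff_odd, even_iff_two_dvd]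
    exact Nat.not_dvd_ordCompl Nat.prime_two hpos
  · rw [← pow_mul, Nat.mul_div_cancel' (Nat.ordProj_dvd _ _), pow_orderOf_eq_one]

theorem diag_mem_center (c : ZMod (2 ^ (m + 2))) : u c c ∈ Subgroup.center (WreathTwo m) := by
  rw [center_eq]
  have := zpowers_u_one (m := m) 1 c
  rwa [mul_one] at this

theorem u_pow_eq_one (a b : ZMod (2 ^ (m + 2))) : u a b ^ (2 ^ (m + 2)) = 1 := by
  rw [u_pow, ZMod.natCast_self, zero_mul, zero_mul, one_def]

theorem w_pow_ne_one {a b : ZMod (2 ^ (m + 2))} (hab : ∃ c, a + b = 2 * c + 1) :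
    w a b ^ (2 ^ (m + 2)) ≠ 1 := by
  obtain ⟨c, hc⟩ := hab
  rw [pow_succ', pow_mul, pow_two, w_sq, u_pow, one_def, Ne, u_inj, and_self, ← h_eq_cast, hc,
    half_mul_two_add_one (by omega)]
  exact h_ne

section

variable {X : Subgroup (WreathTwo m)} (hcent : Subgroup.center (WreathTwo m) ≤ X)
  (φ : MulAut X) {j : ℕ} (hj : Odd j) (hφ : φ ^ j = 1)

include hcent hj hφ

/-- An automorphism of odd order preserving `X ⊓ base` is trivial. -/
theorem aut_trivial_of_base {a₀ b₀ : ZMod (2 ^ (m + 2))} (hw : w a₀ b₀ ∈ X)
    (hK : ∀ g : X, (g : WreathTwo m) ∈ base m → ((φ g : X) : WreathTwo m) ∈ base m) : φ = 1 := by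
  have hd : ∀ c, u c c ∈ X := fun c => hcent (diag_mem_center c)
  have hbc : ∀ g k : X, (g : WreathTwo m) ∈ base m → (k : WreathTwo m) ∈ base m → g * k = k * g :=
    fun g k hg hk => Subtype.ext
      (congrArg Subtype.val ((isMulCommutative_base (m := m)).1.1 ⟨_, hg⟩ ⟨_, hk⟩) :)
  have hpreserve : ∀ g : X, (g : WreathTwo m) ∈ base m → ∀ i : ℕ,
      (((φ ^ i) g : X) : WreathTwo m) ∈ base m := by
    intro g hg i
    induction i with
    | zero => simpa using hg
    | succ i ih => rw [pow_succ', MulAut.mul_apply]; exact hK _ ih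
  -- `u h h` is fixed
  set c0 : X := ⟨u (h m) (h m), hd _⟩ with hc0
  have hc0fix : φ c0 = c0 := by
    obtain ⟨z, hz⟩ : ∃ z : X, z = φ ⟨u (q m) (q m), hd _⟩ := ⟨_, rfl⟩
    have hsq : z * z = φ c0 := by
      rw [hz, ← map_mul]; congr 1
      exact Subtype.ext (by push_cast; rw [u_mul_u, q_add_q])
    have hzb : (z : WreathTwo m) ∈ base m := hz ▸ hK _ (u_mem_base _ _)
    have hzc : ∀ g : X, z * g = g * z := by
      intro g
      rw [hz]
      apply φ.symm.injective
      rw [map_mul, map_mul, MulEquiv.symm_apply_apply]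
      exact Subtype.ext (Subgroup.mem_center_iff.1 (diag_mem_center (q m)) _).symm
    obtain ⟨⟨a, b, e⟩, hzX⟩ := z
    cases hzb
    obtain rfl := (commute_u_w_iff a b a₀ b₀).1 (congrArg Subtype.val (hzc ⟨_, hw⟩))
    have hne : φ c0 ≠ 1 := fun hh => by
      have := congrArg Subtype.val (φ.injective (hh.trans (map_one φ).symm))
      exact h_ne (u_inj.1 (this : u (h m) (h m) = u 0 0)).1
    have h4 : φ c0 * φ c0 = 1 := by
      rw [← map_mul, ← map_one φ]; congr 1
      exact Subtype.ext (by push_cast; rw [u_mul_u, h_add_h, one_def])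
    rw [← hsq] at hne h4 ⊢
    refine Subtype.ext ?_
    have hne' : u (a + a) (a + a) ≠ 1 := fun hh => hne (Subtype.ext (by push_cast; rw [u_mul_u, hh]))
    have h4' := congrArg Subtype.val h4
    push_cast at h4' ⊢
    rw [u_mul_u, u_mul_u, one_def, u_inj, ← two_mul] at h4'
    rw [one_def, Ne, u_inj, and_self] at hne'
    rw [u_mul_u, (two_mul_eq_zero (by omega) h4'.1).resolve_left hne']
  -- elements of the base are fixed
  have hfix : ∀ i : ℕ, ∀ g : X, (g : WreathTwo m) ∈ base m → g ^ (2 ^ i) = 1 → φ g = g := by
    intro i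
    induction i with
    | zero => intro g _ hg; rw [pow_zero, pow_one] at hg; rw [hg, map_one]
    | succ i ih =>
      intro g hgb hg
      have h2 : φ (g * g) = g * g := ih _ ((base m).mul_mem hgb hgb) (by
        rw [← pow_two, ← pow_mul, ← pow_succ']; exact hg)
      set δ := g⁻¹ * φ g with hδ
      have hδb : (δ : WreathTwo m) ∈ base m := (base m).mul_mem ((base m).inv_mem hgb) (hK g hgb)
      have hδ2 : δ * δ = 1 := by
        rw [map_mul] at h2
        calc δ * δ = g⁻¹ * (φ g * g⁻¹) * φ g := by rw [hδ]; group
          _ = g⁻¹ * (g⁻¹ * φ g) * φ g := by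
            rw [hbc (φ g) g⁻¹ (hK g hgb) ((base m).inv_mem hgb)]
          _ = g⁻¹ * g⁻¹ * (φ g * φ g) := by group
          _ = 1 := by rw [h2]; group
      have hδfix : φ δ = δ := by
        rcases i with _ | i
        · -- `g` is an involution of the base
          have hg2 : g * g = 1 := by rw [← pow_two]; simpa using hg
          have hgfix : φ g = g := by
            have hh : ∀ a b : ZMod (2 ^ (m + 2)), ∀ hX' : u a b ∈ X, u a b * u a b = 1 →
                (⟨u a b, hX'⟩ : X) = 1 ∨ (⟨u a b, hX'⟩ : X) = c0 ∨
                  (u a b = u (h m) 0 ∨ u a b = u 0 (h m)) := by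
              intro a b hX' hab
              rw [u_mul_u, one_def, u_inj, ← two_mul, ← two_mul] at hab
              rcases two_mul_eq_zero (by omega) hab.1 with rfl | rfl <;>
                rcases two_mul_eq_zero (by omega) hab.2 with rfl | rfl
              · left; rfl
              · right; right; right; rfl
              · right; right; left; rfl
              · right; left; rfl
            obtain ⟨⟨a, b, e⟩, hgX⟩ := g
            cases hgb
            rcases hh a b hgX (congrArg Subtype.val hg2) with k1 | k1 | k1
            · rw [k1, map_one]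
            · rw [k1, hc0fix]
            · obtain ⟨⟨⟨a', b', e'⟩, hgX'⟩, hfg⟩ : ∃ y, φ ⟨u a b, hgX⟩ = y := ⟨_, rfl⟩
              have hb' := hK ⟨u a b, hgX⟩ (u_mem_base a b)
              rw [hfg] at hb'
              cases hb'
              refine odd_fixes_pair φ hj hφ hc0fix (Subtype.ext ?_) ?_
              · push_cast; rw [u_mul_u, h_add_h, one_def]
              · have hsq : u a' b' * u a' b' = 1 := by
                  have := congrArg φ hg2
                  rw [map_mul, map_one, hfg] at this
                  exact congrArg Subtype.val this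
                rcases hh a' b' hgX' hsq with k2 | k2 | k2
                · exfalso
                  have := congrArg Subtype.val (φ.injective ((hfg.trans k2).trans (map_one φ).symm))
                  rcases k1 with k1 | k1
                  · exact h_ne (u_inj.1 ((k1.symm.trans this) : u (h m) 0 = u 0 0)).1
                  · exact h_ne (u_inj.1 ((k1.symm.trans this) : u 0 (h m) = u 0 0)).2
                · exfalso
                  have := congrArg Subtype.val (φ.injective ((hfg.trans k2).trans hc0fix.symm))
                  rcases k1 with k1 | k1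
                  · exact h_ne (u_inj.1 ((k1.symm.trans this) : u (h m) 0 = u (h m) (h m))).2.symm
                  · exact h_ne (u_inj.1 ((k1.symm.trans this) : u 0 (h m) = u (h m) (h m))).1.symm
                · rw [hfg]
                  rcases k1 with k1 | k1 <;> rcases k2 with k2 | k2
                  · left; exact Subtype.ext (k2.trans k1.symm)
                  · right; refine Subtype.ext ?_
                    show u a' b' = u a b * u (h m) (h m)
                    rw [k1, k2, u_mul_u, h_add_h, zero_add]
                  · right; refine Subtype.ext ?_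
                    show u a' b' = u a b * u (h m) (h m)
                    rw [k1, k2, u_mul_u, h_add_h, zero_add]
                  · left; exact Subtype.ext (k2.trans k1.symm)
          rw [hδ, hgfix, inv_mul_cancel, map_one]
        · refine ih δ hδb ?_
          rw [pow_succ', pow_mul, pow_two, hδ2, one_pow]
      have hδj := odd_period_translate φ hj hφ (show φ g = g * δ by rw [hδ]; group) hδfix
      obtain ⟨l, rfl⟩ := hj
      rw [pow_succ, pow_mul, pow_two, hδ2, one_pow, one_mul] at hδj
      exact (inv_mul_eq_one.1 (hδ ▸ hδj)).symm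
  have hfix' : ∀ g : X, (g : WreathTwo m) ∈ base m → φ g = g := by
    intro g hg
    refine hfix (m + 2) g hg (Subtype.ext ?_)
    obtain ⟨⟨a, b, e⟩, hgX⟩ := g
    cases hg
    push_cast
    exact u_pow_eq_one a b
  -- the element outside the base
  set w0 : X := ⟨w a₀ b₀, hw⟩ with hw0
  set δ := w0⁻¹ * φ w0 with hδ
  have hδb : (δ : WreathTwo m) ∈ base m := by
    have hnot : ((φ w0 : X) : WreathTwo m) ∉ base m := by
      intro hh
      have h1 := hfix' (φ w0) hh
      have h2 := φ.injective h1
      rw [h2] at hh
      exact w_not_mem_base _ _ hh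
    rw [hδ]
    obtain ⟨⟨⟨a, b, e⟩, hX'⟩, hwe⟩ : ∃ y, φ w0 = y := ⟨_, rfl⟩
    rw [hwe] at hnot
    cases e
    · exact absurd (u_mem_base a b) hnot
    · rw [hwe]
      show (w a₀ b₀)⁻¹ * w a b ∈ base m
      rw [w_inv, w_mul_w]; exact u_mem_base _ _
  have hδj := odd_period_translate φ hj hφ (show φ w0 = w0 * δ by rw [hδ]; group) (hfix' δ hδb)
  have hδN : δ ^ (2 ^ (m + 2)) = 1 := by
    refine Subtype.ext ?_
    obtain ⟨⟨⟨a, b, e⟩, hX'⟩, hde⟩ : ∃ y, δ = y := ⟨_, rfl⟩
    rw [hde] at hδb
    cases hδb
    rw [hde]
    push_cast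
    exact u_pow_eq_one a b
  have hδ1 : δ = 1 := orderOf_eq_one_iff.1 (Nat.eq_one_of_dvd_coprimes
    (Nat.Coprime.pow_right _ (Nat.coprime_two_right.2 hj)) (orderOf_dvd_of_pow_eq_one hδj)
    (orderOf_dvd_of_pow_eq_one hδN))
  have hw0fix : φ w0 = w0 := (inv_mul_eq_one.1 (hδ ▸ hδ1)).symm
  refine MulEquiv.ext fun g => ?_
  rw [MulAut.one_apply]
  obtain ⟨⟨a, b, e⟩, hgX⟩ := g
  cases e
  · exact hfix' _ (u_mem_base a b)
  · have hmem : (((⟨⟨a, b, true⟩, hgX⟩ : X) * w0⁻¹ : X) : WreathTwo m) ∈ base m := by
      show w a b * (w a₀ b₀)⁻¹ ∈ base m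
      rw [w_inv, w_mul_w]; exact u_mem_base _ _
    have := hfix' _ hmem
    rw [map_mul, map_inv, hw0fix, mul_left_inj] at this
    exact this

end

/-- The classification of self-centralising subgroups with automorphisms of odd order. -/
theorem selfCentralizing_cases {X : Subgroup (WreathTwo m)}
    (hC : Subgroup.centralizer (X : Set (WreathTwo m)) ≤ X) (hA : ¬ IsPGroup 2 (MulAut X)) :
    X = base m ∨ ∃ c, X = lev 1 (2 * c) := by
  have hcent : Subgroup.center (WreathTwo m) ≤ X :=
    le_trans (Subgroup.center_le_centralizer _) hC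
  by_cases hex : ∃ a b, w a b ∈ X
  · obtain ⟨a₀, b₀, hw⟩ := hex
    have hd : ∀ c, u c c ∈ X := fun c => hcent (diag_mem_center c)
    by_contra hne
    push_neg at hne
    apply hA
    refine isPGroup_mulAut_of_odd_trivial fun φ j hj hφ => ?_
    -- squares are central outside the base
    have hsqc : ∀ g : X, (g : WreathTwo m) ∉ base m → ∀ k : X, (g * g) * k = k * (g * g) := by
      intro g hg k
      obtain ⟨⟨a, b, e⟩, hgX⟩ := g
      cases e
      · exact absurd (u_mem_base a b) hg
      · refine Subtype.ext ?_
        show w a b * w a b * (k : WreathTwo m) = k * (w a b * w a b)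
        rw [w_sq]
        exact (Subgroup.mem_center_iff.1 (diag_mem_center _) _).symm
    by_cases hA1 : ∃ a b, u a b ∈ X ∧ 2 * (a - b) ≠ 0
    · obtain ⟨a, b, hab, hab'⟩ := hA1
      refine aut_trivial_of_base hcent φ hj hφ hw ?_
      -- elements with non-central square lie in the base
      have hkey : ∀ g : X, ∀ k : X, g * g * k ≠ k * (g * g) →
          ((φ g : X) : WreathTwo m) ∈ base m := by
        intro g k hgk
        by_contra hh
        apply hgk
        have := hsqc (φ g) hh (φ k)
        apply φ.injective
        simpa only [map_mul] using this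
      have hg0 : ∀ c d : ZMod (2 ^ (m + 2)), ∀ hX' : u c d ∈ X, 2 * (c - d) ≠ 0 →
          ((φ ⟨u c d, hX'⟩ : X) : WreathTwo m) ∈ base m := by
        intro c d hX' hne'
        refine hkey _ ⟨w a₀ b₀, hw⟩ fun hh => hne' ?_
        have h1 : u c d * u c d * w a₀ b₀ = w a₀ b₀ * (u c d * u c d) := congrArg Subtype.val hh
        rw [u_mul_u] at h1
        linear_combination (commute_u_w_iff _ _ a₀ b₀).1 h1
      intro g hg
      obtain ⟨⟨c, d, e⟩, hgX⟩ := g
      cases hg
      by_cases hcd : 2 * (c - d) = 0
      · have hX' : u (a + c) (b + d) ∈ X := by simpa using X.mul_mem hab hgX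
        have h1 := hg0 _ _ hX' (by
          rw [show 2 * (a + c - (b + d)) = 2 * (a - b) + 2 * (c - d) by ring, hcd, add_zero]
          exact hab')
        have h2 := hg0 _ _ hab hab'
        have e1 : (⟨u c d, hgX⟩ : X) = (⟨u a b, hab⟩ : X)⁻¹ * ⟨u (a + c) (b + d), hX'⟩ :=
          Subtype.ext (by push_cast; rw [u_inv, u_mul_u, neg_add_cancel_left, neg_add_cancel_left])
        rw [e1, map_mul, map_inv]
        exact (base m).mul_mem ((base m).inv_mem h2) h1
      · exact hg0 _ _ hgX hcd
    · push_neg at hA1
      have hle : X ≤ lev 1 (a₀ - b₀) := by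
        intro g hg
        induction g using cases' with
        | hu a b => exact u_mem_lev.2 (by rw [pow_one]; exact hA1 a b hg)
        | hw a b =>
          have h1 := X.mul_mem hg (X.inv_mem hw)
          rw [w_inv, w_mul_w] at h1
          exact w_mem_lev.2 (by linear_combination hA1 _ _ h1)
      by_cases hB : ∃ a b, u a b ∈ X ∧ a ≠ b
      · -- `X` is the whole of `lev 1`
        obtain ⟨a, b, hab, hne'⟩ := hB
        have hh : a - b = h m :=
          (two_mul_eq_zero (by omega) (hA1 a b hab)).resolve_left (sub_ne_zero.2 hne')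
        have hu : ∀ c d, 2 ^ 1 * (c - d) = 0 → u c d ∈ X := by
          intro c d hcd
          rw [pow_one] at hcd
          rcases two_mul_eq_zero (by omega) hcd with e | e
          · rw [sub_eq_zero.1 e]; exact hd d
          · have := X.mul_mem hab (hd (d - b))
            rw [u_mul_u, show a + (d - b) = c by linear_combination hh - e, add_sub_cancel] at this
            exact this
        have heq : X = lev 1 (a₀ - b₀) := by
          refine le_antisymm hle fun g hg => ?_
          induction g using cases' with
          | hu c d => exact hu c d (u_mem_lev.1 hg)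
          | hw c d =>
            have h1 := X.mul_mem (hu (c - a₀) (d - b₀) (by linear_combination w_mem_lev.1 hg)) hw
            rwa [u_mul_w, sub_add_cancel, sub_add_cancel] at h1
        obtain ⟨c, hc | hc⟩ := exists_two_mul (a₀ - b₀)
        · exact absurd (hc ▸ heq) (hne.2 c)
        · refine aut_trivial_of_base hcent φ hj hφ hw ?_
          intro g hg
          by_contra hgn
          obtain ⟨⟨⟨a', b', e⟩, hX'⟩, hge⟩ : ∃ y, φ g = y := ⟨_, rfl⟩
          rw [hge] at hgn
          cases e
          · exact hgn (u_mem_base a' b')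
          have hsum : ∃ c', a' + b' = 2 * c' + 1 := by
            have h1 := hle hX'
            rw [w_mem_lev, pow_one] at h1
            rcases two_mul_eq_zero (by omega) h1 with e | e
            · exact ⟨b' + c, by linear_combination e + hc⟩
            · exact ⟨b' + c + q m, by linear_combination e + hc + h_eq (m := m)⟩
          apply w_pow_ne_one hsum
          have h2 : g ^ (2 ^ (m + 2)) = 1 := by
            refine Subtype.ext ?_
            obtain ⟨⟨i, k, e⟩, hgX⟩ := g
            cases hg
            push_cast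
            exact u_pow_eq_one i k
          have h3 := congrArg φ h2
          rw [map_pow, map_one, hge] at h3
          exact congrArg Subtype.val h3
      · -- `X` is abelian
        push_neg at hB
        have hXc : ∀ k : X, ∀ g : X, (g : WreathTwo m) ∈ base m → g * k = k * g := by
          intro k g hg
          obtain ⟨⟨a, b, e⟩, hgX⟩ := g
          cases hg
          obtain rfl := hB a b hgX
          exact Subtype.ext (Subgroup.mem_center_iff.1 (diag_mem_center a) _).symm
        have hwd : ∀ c d, w c d ∈ X → c - d = a₀ - b₀ := by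
          intro c d hcd
          have h1 := X.mul_mem hcd (X.inv_mem hw)
          rw [w_inv, w_mul_w] at h1
          linear_combination hB _ _ h1
        have hXab : ∀ g k : X, g * k = k * g := by
          intro g k
          obtain ⟨⟨a, b, e⟩, hgX⟩ := g
          cases e
          · exact hXc k _ (u_mem_base a b)
          obtain ⟨⟨c, d, e'⟩, hkX⟩ := k
          cases e'
          · exact (hXc _ _ (u_mem_base c d)).symm
          refine Subtype.ext ?_
          show w a b * w c d = w c d * w a b
          rw [w_mul_w, w_mul_w, u_inj]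
          have h1 := hwd _ _ hgX
          have h2 := hwd _ _ hkX
          exact ⟨by linear_combination h1 - h2, by linear_combination h2 - h1⟩
        set c0 : X := ⟨u (h m) (h m), hd _⟩
        have hc02 : c0 * c0 = 1 := Subtype.ext (by push_cast; rw [u_mul_u, h_add_h, one_def])
        have hc0ne : c0 ≠ 1 := fun hh => h_ne (u_inj.1 (congrArg Subtype.val hh :)).1
        have hsq : ∀ g : X, g * g * (g * g) = 1 → g * g ≠ 1 → g * g = c0 := by
          intro g h1 h2
          have h1' := congrArg Subtype.val h1
          have h2' : (g : WreathTwo m) * g ≠ 1 := fun hh => h2 (Subtype.ext hh)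
          push_cast at h1'
          refine Subtype.ext ?_
          show (g : WreathTwo m) * g = u (h m) (h m)
          obtain ⟨⟨a, b, e⟩, hgX⟩ := g
          obtain ⟨s, hs⟩ : ∃ s, (⟨a, b, e⟩ : WreathTwo m) * ⟨a, b, e⟩ = u s s := by
            cases e
            · obtain rfl := hB a b hgX
              exact ⟨a + a, u_mul_u _ _ _ _⟩
            · exact ⟨a + b, w_sq a b⟩
          simp only at h1' h2' ⊢
          rw [hs] at h1' h2' ⊢
          rw [u_mul_u, one_def, u_inj, ← two_mul] at h1'
          rw [one_def, Ne, u_inj, and_self] at h2'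
          rw [(two_mul_eq_zero (by omega) h1'.1).resolve_left h2']
        have hc0fix : φ c0 = c0 := by
          have e1 : c0 = ⟨u (q m) (q m), hd _⟩ * ⟨u (q m) (q m), hd _⟩ :=
            Subtype.ext (by push_cast; rw [u_mul_u, q_add_q])
          conv_lhs => rw [e1, map_mul]
          refine hsq _ ?_ ?_ <;> rw [← map_mul, ← e1]
          · rw [← map_mul, hc02, map_one]
          · exact fun hh => hc0ne (φ.injective (hh.trans (map_one φ).symm))
        have hinv : ∀ g : X, g * g = 1 → φ g = g := by
          intro g hg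
          rcases eq_or_ne g 1 with rfl | hg1
          · exact map_one φ
          rcases eq_or_ne g c0 with rfl | hgc
          · exact hc0fix
          refine odd_fixes_pair φ hj hφ hc0fix hc02 ?_
          have hclass : ∀ k : X, k * k = 1 → k ≠ 1 → k ≠ c0 → ∃ a, (k : WreathTwo m) = w a (-a) := by
            intro k hk hk1 hkc
            have hk' := congrArg Subtype.val hk
            obtain ⟨⟨a, b, e⟩, hkX⟩ := k
            cases e
            · obtain rfl := hB a b hkX
              exfalso
              change u a a * u a a = 1 at hk'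
              rw [u_mul_u, one_def, u_inj, ← two_mul] at hk'
              rcases two_mul_eq_zero (by omega) hk'.1 with rfl | rfl
              · exact hk1 (Subtype.ext rfl)
              · exact hkc (Subtype.ext rfl)
            · change w a b * w a b = 1 at hk'
              rw [w_sq, one_def, u_inj, and_self] at hk'
              obtain rfl := eq_neg_of_add_eq_zero_right hk'
              exact ⟨a, rfl⟩
          obtain ⟨a, ha⟩ := hclass g hg hg1 hgc
          obtain ⟨c, hc⟩ := hclass (φ g) (by rw [← map_mul, hg, map_one])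
            (fun hh => hg1 (φ.injective (hh.trans (map_one φ).symm)))
            (fun hh => hgc (φ.injective (hh.trans hc0fix.symm)))
          have h1 := hwd _ _ (ha ▸ g.2)
          have h2 := hwd _ _ (hc ▸ (φ g).2)
          rcases two_mul_eq_zero (n := m + 2) (by omega)
              (show 2 * (c - a) = 0 by linear_combination h2 - h1) with e | e
          · left; refine Subtype.ext ?_; rw [hc, ha, sub_eq_zero.1 e]
          · right; refine Subtype.ext ?_
            push_cast
            rw [ha, hc, w_mul_u]
            congr 1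
            · linear_combination e
            · linear_combination -e - two_mul_h (m := m)
        have hall : ∀ i : ℕ, ∀ g : X, g ^ (2 ^ i) = 1 → φ g = g := by
          intro i
          induction i with
          | zero => intro g hg; rw [pow_zero, pow_one] at hg; rw [hg, map_one]
          | succ i ih =>
            intro g hg
            have h2 : φ (g * g) = g * g := ih _ (by rw [← pow_two, ← pow_mul, ← pow_succ']; exact hg)
            rw [map_mul] at h2
            have hδ2 : (g⁻¹ * φ g) * (g⁻¹ * φ g) = 1 := by
              calc (g⁻¹ * φ g) * (g⁻¹ * φ g) = g⁻¹ * (φ g * g⁻¹) * φ g := by group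
                _ = g⁻¹ * (g⁻¹ * φ g) * φ g := by rw [hXab (φ g) g⁻¹]
                _ = g⁻¹ * g⁻¹ * (φ g * φ g) := by group
                _ = 1 := by rw [h2]; group
            have hδj := odd_period_translate φ hj hφ (show φ g = g * (g⁻¹ * φ g) by group)
              (hinv _ hδ2)
            obtain ⟨l, rfl⟩ := hj
            rw [pow_succ, pow_mul, pow_two, hδ2, one_pow, one_mul] at hδj
            exact (inv_mul_eq_one.1 hδj).symm
        refine MulEquiv.ext fun g => ?_
        obtain ⟨i, hi⟩ := (isPGroup.to_subgroup X) g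
        rw [MulAut.one_apply, hall i g hi]
  · left
    push_neg at hex
    have hle : X ≤ base m := fun g hg => by
      induction g using cases' with
      | hu a b => exact u_mem_base a b
      | hw a b => exact absurd hg (hex a b)
    refine le_antisymm hle (le_trans (fun g hg => Subgroup.mem_centralizer_iff.2 fun k hk => ?_) hC)
    exact congrArg Subtype.val ((isMulCommutative_base (m := m)).1.1 ⟨_, hle hk⟩ ⟨_, hg⟩)

/-- The quaternion part of `lev 1 (2c)`. -/
def qsub (c : ZMod (2 ^ (m + 2))) : Subgroup (WreathTwo m) := quat m ⊓ lev 1 (2 * c)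

theorem u_q_mem_qsub (c : ZMod (2 ^ (m + 2))) : u (q m) (-q m) ∈ qsub c :=
  ⟨add_neg_cancel (q m), u_mem_lev.2 (by linear_combination (four_mul_q (m := m)))⟩

theorem w_mem_qsub (c : ZMod (2 ^ (m + 2))) : w c (h m - c) ∈ qsub c :=
  ⟨add_sub_cancel c (h m), w_mem_lev.2 (by linear_combination -(two_mul_h (m := m)))⟩

theorem natCard_qsub_le (c : ZMod (2 ^ (m + 2))) : Nat.card (qsub c) ≤ 8 := by
  let f : qsub c → Bool × {b : ZMod (2 ^ (m + 2)) // 4 * b = 0} := fun g =>
    (g.1.e, ⟨g.1.a - (if g.1.e then c else 0), by
      obtain ⟨⟨a, b, e⟩, h1, h2⟩ := g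
      cases e
      · have h1' : a + b = 0 := h1
        have h2' := u_mem_lev.1 h2
        show 4 * (a - 0) = 0
        linear_combination h2' + 2 * h1'
      · have h1' : a + b = h m := h1
        have h2' := w_mem_lev.1 h2
        show 4 * (a - c) = 0
        linear_combination h2' + 2 * h1' + two_mul_h (m := m)⟩)
  have hf : Function.Injective f := by
    rintro ⟨⟨a, b, e⟩, h1, h2⟩ ⟨⟨a', b', e'⟩, h1', h2'⟩ hh
    simp only [f, Prod.mk.injEq, Subtype.mk.injEq] at hh
    obtain ⟨rfl, hh⟩ := hh
    obtain rfl : a = a' := by simpa using hh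
    have : a + b = a + b' := (h1 : a + b = _).trans (h1' : a + b' = _).symm
    obtain rfl := add_left_cancel this
    rfl
  refine (Nat.card_le_card_of_injective f hf).trans ?_
  have hs : {b : ZMod (2 ^ (m + 2)) | 4 * b = 0} ⊆ {0, h m, q m, -q m} := by
    intro b hb
    have hb2 : (4 : ZMod (2 ^ (m + 2))) * b = 0 := hb
    have hb' : 2 * (2 * b) = 0 := by linear_combination hb2
    rcases two_mul_eq_zero (by omega) hb' with h1 | h1
    · rcases two_mul_eq_zero (by omega) h1 with rfl | rfl <;> simp
    · rcases two_mul_eq_half (by omega) h1 with rfl | rfl <;> simp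
  have h4 : Nat.card ↥{b : ZMod (2 ^ (m + 2)) | 4 * b = 0} ≤ 4 := by
    rw [Nat.card_coe_set_eq]
    refine (Set.ncard_le_ncard hs).trans ?_
    classical
    rw [show ({0, h m, q m, -q m} : Set (ZMod (2 ^ (m + 2)))) =
      (({0, h m, q m, -q m} : Finset (ZMod (2 ^ (m + 2)))) : Set _) by simp, Set.ncard_coe_finset]
    exact Finset.card_le_four
  rw [Nat.card_prod, Nat.card_eq_fintype_card (α := Bool), Fintype.card_bool]
  have : Nat.card {b : ZMod (2 ^ (m + 2)) // 4 * b = 0} ≤ 4 := h4
  omega

theorem qsub_equiv (c : ZMod (2 ^ (m + 2))) : Nonempty (qsub c ≃* QuaternionGroup 2) := by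
  set a : qsub c := ⟨_, u_q_mem_qsub c⟩
  set b : qsub c := ⟨_, w_mem_qsub c⟩
  have ha : orderOf a = 2 * 2 := by
    rw [← Subgroup.orderOf_coe]
    refine orderOf_eq_prime_pow (p := 2) (n := 1) ?_ ?_
    · show ¬ (u (q m) (-q m)) ^ 2 ^ 1 = 1
      rw [pow_one, pow_two, u_mul_u, one_def, u_inj, q_add_q]
      exact fun hh => h_ne hh.1
    · show (u (q m) (-q m)) ^ 2 ^ (1 + 1) = 1
      rw [show 2 ^ (1 + 1) = 4 by rfl, pow_four', u_mul_u, u_mul_u, one_def, u_inj, q_add_q,
        h_add_h]
      exact ⟨rfl, by linear_combination -(four_mul_q (m := m))⟩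
  have hba : b ∉ Subgroup.zpowers a := by
    intro hmem
    obtain ⟨k, hk⟩ := Subgroup.mem_zpowers_iff.1 hmem
    have h1 : (u (q m) (-q m)) ^ k ∈ base m := zpow_mem (u_mem_base _ _) k
    have h2 : (u (q m) (-q m)) ^ k = w c (h m - c) := congrArg Subtype.val hk
    rw [h2] at h1
    exact w_not_mem_base _ _ h1
  refine nonempty_mulEquiv_quaternionGroup ha ?_ hba ?_ ?_
  · refine Subtype.ext ?_
    show w c (h m - c) * w c (h m - c) = (u (q m) (-q m)) ^ 2
    rw [w_sq, pow_two, u_mul_u, u_inj, add_sub_cancel, q_add_q]
    exact ⟨rfl, by linear_combination two_mul_h (m := m) - h_eq (m := m) + 0 * q_add_q (m := m)⟩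
  · refine Subtype.ext ?_
    show w c (h m - c) * u (q m) (-q m) * (w c (h m - c))⁻¹ = (u (q m) (-q m))⁻¹
    rw [w_conj_u, u_inv, neg_neg]
  · refine le_antisymm (natCard_qsub_le c) ?_
    have h1 : Subgroup.zpowers a < ⊤ := lt_top_iff_ne_top.2 fun hh => hba (hh ▸ Subgroup.mem_top b)
    have h2 := (Subgroup.zpowers a).card_mul_index
    have h3 : (Subgroup.zpowers a).index ≠ 1 := fun hh => h1.ne (Subgroup.index_eq_one.1 hh)
    have h4 : (Subgroup.zpowers a).index ≠ 0 := Subgroup.index_ne_zero_of_finite
    rw [Nat.card_zpowers, ha] at h2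
    have : 2 ≤ (Subgroup.zpowers a).index := by omega
    nlinarith

theorem lev_eq_qsub_sup (c : ZMod (2 ^ (m + 2))) :
    lev 1 (2 * c) = qsub c ⊔ Subgroup.center (WreathTwo m) := by
  refine le_antisymm ?_ (sup_le inf_le_right (center_le_lev _ _))
  have hu : ∀ a b, 2 ^ 1 * (a - b) = 0 → u a b ∈ qsub c ⊔ Subgroup.center (WreathTwo m) := by
    intro a b hab
    rw [pow_one] at hab
    rcases two_mul_eq_zero (by omega) hab with e | e
    · rw [sub_eq_zero.1 e]; exact Subgroup.mem_sup_right (diag_mem_center b)
    · have h1 : u (q m) (-q m) * u (b + q m) (b + q m) ∈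
          qsub c ⊔ Subgroup.center (WreathTwo m) :=
        mul_mem (Subgroup.mem_sup_left (u_q_mem_qsub c))
          (Subgroup.mem_sup_right (diag_mem_center _))
      rw [u_mul_u, show q m + (b + q m) = a by linear_combination q_add_q (m := m) - e,
        show -q m + (b + q m) = b by ring] at h1
      exact h1
  intro g hg
  induction g using cases' with
  | hu a b => exact hu a b (u_mem_lev.1 hg)
  | hw a b =>
    have h1 := mul_mem (hu (a - c) (b - (h m - c))
      (by linear_combination w_mem_lev.1 hg + two_mul_h (m := m)))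
      (Subgroup.mem_sup_left (T := Subgroup.center (WreathTwo m)) (w_mem_qsub c))
    rwa [u_mul_w, sub_add_cancel, sub_add_cancel] at h1

theorem not_isMulCommutative_lev (c : ZMod (2 ^ (m + 2))) :
    ¬ IsMulCommutative (lev 1 (2 * c) : Subgroup (WreathTwo m)) := by
  intro hh
  have h1 : u (h m) 0 ∈ lev 1 (2 * c) := u_mem_lev.2 (by linear_combination two_mul_h (m := m))
  have h2 : w c (-c) ∈ lev 1 (2 * c) := w_mem_lev.2 (by ring)
  exact h_ne ((commute_u_w_iff _ _ _ _).1 (congrArg Subtype.val (hh.1.1 ⟨_, h1⟩ ⟨_, h2⟩)))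

end CfsgLib.TwoGroups.WreathTwo
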