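import Mathlib
import Cfsg.Agent.Lib.TwoGroups.WreathedSelfCentralizing
import Cfsg.Agent.Lib.TwoGroups.DihedralModel

/-!
Further facts on the wreathed model used for fusion: centralisers, invariants, subgroups.
-/

set_option autoImplicit false

namespace CfsgLib.TwoGroups.WreathTwo

variable {m : ℕ}

theorem u_mem_center_iff {a b : ZMod (2 ^ (m + 2))} :
    u a b ∈ Subgroup.center (WreathTwo m) ↔ a = b := by
  refine ⟨fun hg => (commute_u_w_iff a b 0 0).1 ((Subgroup.mem_center_iff.1 hg (w 0 0)).symm), ?_⟩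
  rintro rfl
  exact diag_mem_center a

theorem w_not_mem_center (a b : ZMod (2 ^ (m + 2))) : w a b ∉ Subgroup.center (WreathTwo m) :=
  fun hg => h_ne (by
    have := (commute_u_w_iff (1 : ZMod (2 ^ (m + 2))) 0 a b).1 (Subgroup.mem_center_iff.1 hg (u 1 0))
    rw [← mul_one (h m), this, mul_zero])

theorem center_eq_diag {g : WreathTwo m} (hg : g ∈ Subgroup.center (WreathTwo m)) :
    ∃ c, g = u c c := by
  induction g using cases' with
  | hu a b => exact ⟨a, by rw [u_mem_center_iff.1 hg]⟩
  | hw a b => exact absurd hg (w_not_mem_center a b)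

theorem mem_base_of_commute {a b : ZMod (2 ^ (m + 2))} (hab : a ≠ b) {g : WreathTwo m}
    (hg : u a b * g = g * u a b) : g ∈ base m := by
  induction g using cases' with
  | hu c d => exact u_mem_base c d
  | hw c d => exact absurd ((commute_u_w_iff a b c d).1 hg) hab

theorem base_commute {g k : WreathTwo m} (hg : g ∈ base m) (hk : k ∈ base m) : g * k = k * g :=
  congrArg Subtype.val ((isMulCommutative_base (m := m)).1.1 ⟨g, hg⟩ ⟨k, hk⟩)

theorem exists_eq_u_of_mem_base {g : WreathTwo m} (hg : g ∈ base m) : ∃ a b, g = u a b := by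
  induction g using cases' with
  | hu a b => exact ⟨a, b, rfl⟩
  | hw a b => exact absurd hg (w_not_mem_base a b)

theorem sq_mem_base (g : WreathTwo m) : g * g ∈ base m := by
  induction g using cases' with
  | hu a b => rw [u_mul_u]; exact u_mem_base _ _
  | hw a b => rw [w_mul_w]; exact u_mem_base _ _

theorem conj_mem_base (g : WreathTwo m) {k : WreathTwo m} (hk : k ∈ base m) :
    g * k * g⁻¹ ∈ base m :=
  (Subgroup.normal_of_index_eq_two index_base).conj_mem k hk g

theorem u_mem_four0 {a b : ZMod (2 ^ (m + 2))} : u a b ∈ four0 m ↔ 2 * a = 0 ∧ 2 * b = 0 :=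
  ⟨fun hh => ⟨hh.2.1, hh.2.2⟩, fun hh => ⟨rfl, hh.1, hh.2⟩⟩

theorem u_mem_fourW {a₀ x y : ZMod (2 ^ (m + 2))} : u x y ∈ fourW a₀ ↔ 2 * x = 0 ∧ y = x := by
  show 2 * (x - if false then a₀ else 0) = 0 ∧ (y = if false then -x else x) ↔ _
  simp

theorem w_mem_fourW {a₀ x y : ZMod (2 ^ (m + 2))} :
    w x y ∈ fourW a₀ ↔ 2 * (x - a₀) = 0 ∧ y = -x := by
  show 2 * (x - if true then a₀ else 0) = 0 ∧ (y = if true then -x else x) ↔ _
  simp

theorem fourW_eq {a c : ZMod (2 ^ (m + 2))} (hac : 2 * (a - c) = 0) : fourW a = fourW c := by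
  ext g
  induction g using cases' with
  | hu x y => rw [u_mem_fourW, u_mem_fourW]
  | hw x y =>
    rw [w_mem_fourW, w_mem_fourW]
    exact ⟨fun ⟨h1, h2⟩ => ⟨by linear_combination h1 + hac, h2⟩,
      fun ⟨h1, h2⟩ => ⟨by linear_combination h1 - hac, h2⟩⟩

theorem rot_q_moves_fourW (a : ZMod (2 ^ (m + 2))) :
    (fourW a).map (MulAut.conj (u (q m) 0)).toMonoidHom ≠ fourW a := by
  intro hh
  have h1 : u (q m) 0 * w a (-a) * (u (q m) 0)⁻¹ ∈ fourW a :=
    hh.le ⟨w a (-a), w_mem_fourW.2 ⟨by ring, rfl⟩, rfl⟩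
  rw [u_conj_w, w_mem_fourW] at h1
  exact h_ne (by linear_combination h1.1 + h_eq (m := m))

theorem normal_four0 : (four0 m).Normal := four0_normal

theorem rot_q_mem_lev (d : ZMod (2 ^ (m + 2))) : u (q m) 0 ∈ lev 2 d :=
  u_mem_lev.2 (by linear_combination four_mul_q (m := m))

theorem four0_le_lev (d : ZMod (2 ^ (m + 2))) : four0 m ≤ lev 1 d := by
  intro g hg
  induction g using cases' with
  | hu a b =>
    obtain ⟨h1, h2⟩ := u_mem_four0.1 hg
    exact u_mem_lev.2 (by linear_combination h1 - h2)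
  | hw a b => exact Bool.noConfusion hg.1

theorem fourW_le_lev_iff {a d : ZMod (2 ^ (m + 2))} : fourW a ≤ lev 1 d ↔ 2 * (2 * a - d) = 0 := by
  constructor
  · intro hh
    have := w_mem_lev.1 (hh (w_mem_fourW.2 ⟨by ring, rfl⟩ : w a (-a) ∈ fourW a))
    linear_combination this
  · intro hh g hg
    induction g using cases' with
    | hu x y =>
      obtain ⟨h1, rfl⟩ := u_mem_fourW.1 hg
      exact u_mem_lev.2 (by ring)
    | hw x y =>
      obtain ⟨h1, rfl⟩ := w_mem_fourW.1 hg
      exact w_mem_lev.2 (by linear_combination 2 * h1 + hh)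

/-- The four-groups inside `lev 1 0`. -/
theorem four_cases_lev {T : Subgroup (WreathTwo m)} (hT : IsKleinFour T)
    (hle : T ≤ lev 1 (0 : ZMod (2 ^ (m + 2)))) : T = four0 m ∨ T = fourW 0 ∨ T = fourW (q m) := by
  rcases four_cases hT with rfl | ⟨a, rfl⟩
  · exact Or.inl rfl
  · have h4 := fourW_le_lev_iff.1 hle
    rw [sub_zero] at h4
    rcases two_mul_eq_zero (by omega) h4 with e | e
    · exact Or.inr (Or.inl (fourW_eq (by linear_combination e)))
    · exact Or.inr (Or.inr (fourW_eq (by linear_combination e + h_eq (m := m))))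

theorem fourW_zero_ne : (fourW 0 : Subgroup (WreathTwo m)) ≠ fourW (q m) := by
  intro hh
  have h1 : w (0 : ZMod (2 ^ (m + 2))) (-0) ∈ fourW (q m) := hh ▸ w_mem_fourW.2 ⟨by ring, rfl⟩
  exact h_ne (by linear_combination h_eq (m := m) - (w_mem_fourW.1 h1).1)

/-- An element fixing `fourW 0` inside `lev 2 0` lies in `lev 1 0`. -/
theorem mem_lev_of_fix {g : WreathTwo m}
    (hfix : (fourW 0).map (MulAut.conj g).toMonoidHom = fourW 0) : g ∈ lev 1 (0 : ZMod (2 ^ (m + 2))) := by
  have h1 : g * w 0 (-0) * g⁻¹ ∈ fourW 0 :=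
    hfix.le ⟨_, w_mem_fourW.2 ⟨by ring, rfl⟩, rfl⟩
  induction g using cases' with
  | hu a b =>
    rw [u_conj_w, w_mem_fourW] at h1
    exact u_mem_lev.2 (by linear_combination h1.1)
  | hw a b =>
    rw [w_conj_w, w_mem_fourW] at h1
    exact w_mem_lev.2 (by linear_combination h1.1)

theorem lev_one_normalizes_fourW {g : WreathTwo m} (hg : g ∈ lev 1 (0 : ZMod (2 ^ (m + 2))))
    {a : ZMod (2 ^ (m + 2))} (ha : 2 * (2 * a - 0) = 0) :
    (fourW a).map (MulAut.conj g).toMonoidHom = fourW a := by
  refine Subgroup.eq_of_le_of_card_ge ?_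
    (by rw [Subgroup.card_map_of_injective (f := (MulAut.conj g).toMonoidHom) (MulAut.conj g).injective])
  rintro _ ⟨k, hk, rfl⟩
  rw [MulEquiv.coe_toMonoidHom, MulAut.conj_apply]
  induction g using cases' with
  | hu c d =>
    induction k using cases' with
    | hu x y => rw [u_conj_u]; exact hk
    | hw x y =>
      obtain ⟨h1, rfl⟩ := w_mem_fourW.1 hk
      rw [u_conj_w, w_mem_fourW]
      exact ⟨by linear_combination h1 + u_mem_lev.1 hg, by ring⟩
  | hw c d =>
    induction k using cases' with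
    | hu x y =>
      obtain ⟨h1, rfl⟩ := u_mem_fourW.1 hk
      rw [w_conj_u, u_mem_fourW]
      exact ⟨h1, rfl⟩
    | hw x y =>
      obtain ⟨h1, rfl⟩ := w_mem_fourW.1 hk
      rw [w_conj_w, w_mem_fourW]
      exact ⟨by linear_combination w_mem_lev.1 hg - h1 - ha, by ring⟩

/-- A quaternion subgroup of order 8 is some `qsub c`. -/
theorem eq_qsub_of_quaternion {Q : Subgroup (WreathTwo m)} (e : Q ≃* QuaternionGroup 2) :
    ∃ c, Q = qsub c := by
  have h8 : Nat.card Q = 8 := by
    rw [Nat.card_congr e.toEquiv, Nat.card_eq_fintype_card, QuaternionGroup.card]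
  have q0 : ∀ v : QuaternionGroup 2, v * v ≠ 1 → ∃ v' : QuaternionGroup 2,
      v' * v * v'⁻¹ = v⁻¹ ∧ v' * v ≠ v * v' := by decide
  have q1 : ∀ v v' : QuaternionGroup 2, v * v ≠ 1 → v' * v' ≠ 1 → v' * v' = v * v := by decide
  have q2 : ∀ v : QuaternionGroup 2, v * v * (v * v) = 1 := by decide
  have q3 : ∀ v v' : QuaternionGroup 2, v * v = 1 → v' * v = v * v' := by decide
  have q4 : ∃ v v' : QuaternionGroup 2, v' * v ≠ v * v' := by decide
  have q5 : ∀ v v' v'' : QuaternionGroup 2, v * v' ≠ v' * v →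
      v'' * v ≠ v * v'' → v'' * v * v''⁻¹ = v⁻¹ := by decide
  have pow4 : ∀ g ∈ Q, g * g * (g * g) = 1 := fun g hg => by
    have := q2 (e ⟨g, hg⟩)
    rw [← map_mul, ← map_mul, ← map_one e, e.injective.eq_iff] at this
    exact congrArg Subtype.val this
  -- some element lies outside the base
  obtain ⟨a, b, hab⟩ : ∃ a b, w a b ∈ Q := by
    by_contra hno
    push Not at hno
    obtain ⟨v, v', hvv⟩ := q4
    obtain ⟨g, rfl⟩ := e.surjective v
    obtain ⟨g', rfl⟩ := e.surjective v'
    apply hvv
    rw [← map_mul, ← map_mul]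
    refine congrArg e (Subtype.ext (base_commute ?_ ?_))
    · obtain ⟨g, hg⟩ := g'
      induction g using cases' with
      | hu x y => exact u_mem_base x y
      | hw x y => exact absurd hg (hno x y)
    · obtain ⟨g, hg⟩ := g
      induction g using cases' with
      | hu x y => exact u_mem_base x y
      | hw x y => exact absurd hg (hno x y)
  -- it is not an involution, as it is not central
  have hne : w a b * w a b ≠ 1 := by
    intro h1
    have hc : ∀ g ∈ Q, g * w a b = w a b * g := fun g hg => by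
      have h2 : e ⟨w a b, hab⟩ * e ⟨w a b, hab⟩ = 1 := by
        rw [← map_mul, ← map_one e]; exact congrArg e (Subtype.ext h1)
      have := q3 _ (e ⟨g, hg⟩) h2
      rw [← map_mul, ← map_mul] at this
      exact congrArg Subtype.val (e.injective this)
    have hbase : ∀ g ∈ Q, g ∈ base m → ∃ x, g = u x x := by
      intro g hg hgb
      obtain ⟨x, y, rfl⟩ := exists_eq_u_of_mem_base hgb
      exact ⟨x, by rw [(commute_u_w_iff x y a b).1 (hc _ hg)]⟩
    -- then the group would be abelian
    have habel : ∀ g ∈ Q, ∀ k ∈ Q, g * k = k * g := by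
      have hform : ∀ g ∈ Q, ∃ x, g = u x x ∨ g = u x x * w a b := by
        intro g hg
        by_cases hgb : g ∈ base m
        · obtain ⟨x, hx⟩ := hbase g hg hgb; exact ⟨x, Or.inl hx⟩
        · have hmem : g * w a b ∈ base m :=
            (Subgroup.mul_mem_iff_of_index_two index_base).2 (iff_of_false hgb (w_not_mem_base a b))
          obtain ⟨x, hx⟩ := hbase _ (Q.mul_mem hg hab) hmem
          exact ⟨x, Or.inr (by rw [← hx, mul_assoc, h1, mul_one])⟩
      intro g hg k hk
      have hd : ∀ x (k : WreathTwo m), u x x * k = k * u x x := fun x k =>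
        (Subgroup.mem_center_iff.1 (diag_mem_center x) k).symm
      obtain ⟨x, rfl | rfl⟩ := hform g hg
      · exact hd x k
      · obtain ⟨y, rfl | rfl⟩ := hform k hk
        · exact (hd y _).symm
        · rw [← mul_assoc, ← mul_assoc, mul_assoc (u x x) (w a b) (u y y), ← hd y (w a b),
            mul_assoc (u y y) (w a b) (u x x), ← hd x (w a b), ← mul_assoc (u x x), ← mul_assoc (u y y),
            hd x (u y y)]
    obtain ⟨v, v'', hvv⟩ := q4
    apply hvv
    obtain ⟨g, rfl⟩ := e.surjective v
    obtain ⟨g', rfl⟩ := e.surjective v''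
    rw [← map_mul, ← map_mul]
    exact congrArg e (Subtype.ext (habel _ g'.2 _ g.2))
  -- hence the squares outside the base are the central involution
  have h4 := pow4 _ hab
  rw [w_sq, u_mul_u, one_def, u_inj, ← two_mul] at h4
  have hsum : a + b = h m := by
    rcases two_mul_eq_zero (by omega) h4.1 with h1 | h1
    · exfalso; exact hne (by rw [w_sq, h1]; rfl)
    · exact h1
  refine ⟨a, Subgroup.eq_of_le_of_card_ge ?_ (by rw [h8]; exact natCard_qsub_le a)⟩
  -- elements of the base in `Q`
  have hbase : ∀ x y, u x y ∈ Q → x + y = 0 ∧ 4 * x = 0 := by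
    intro x y hxy
    have h4' := pow4 _ hxy
    rw [u_mul_u, u_mul_u, one_def, u_inj] at h4'
    have hx4 : 4 * x = 0 := by linear_combination h4'.1
    refine ⟨?_, hx4⟩
    by_cases hc : u x y * w a b = w a b * u x y
    · have hxy' := (commute_u_w_iff x y a b).1 hc
      subst hxy'
      -- an element centralising `w a b` is central in `Q` or a power of it
      by_contra hx2
      have hsq : u x x * u x x ≠ 1 := by
        rw [u_mul_u, one_def, Ne, u_inj]; exact fun h0 => hx2 h0.1
      have hcomm : ∀ k ∈ Q, u x x * k = k * u x x := fun k _ =>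
        (Subgroup.mem_center_iff.1 (diag_mem_center x) k).symm
      obtain ⟨v', -, hv'⟩ := q0 (e ⟨_, hxy⟩) (by
        rw [← map_mul, ← map_one e]; exact fun hh => hsq (congrArg Subtype.val (e.injective hh)))
      obtain ⟨k, rfl⟩ := e.surjective v'
      exact hv' (by rw [← map_mul, ← map_mul]; exact congrArg e (Subtype.ext (hcomm k k.2).symm))
    · have hinv := q5 (e ⟨_, hxy⟩) (e ⟨_, hab⟩) (e ⟨_, hab⟩)
        (by rw [← map_mul, ← map_mul]; exact fun hh => hc (congrArg Subtype.val (e.injective hh)))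
        (by rw [← map_mul, ← map_mul]; exact fun hh => hc (congrArg Subtype.val (e.injective hh)).symm)
      rw [← map_mul, ← map_inv, ← map_inv, ← map_mul] at hinv
      have hinv' : w a b * u x y * (w a b)⁻¹ = (u x y)⁻¹ := congrArg Subtype.val (e.injective hinv)
      rw [w_conj_u, u_inv, u_inj] at hinv'
      linear_combination hinv'.1
  intro g hg
  induction g using cases' with
  | hu x y =>
    obtain ⟨h1, h2⟩ := hbase x y hg
    exact ⟨h1, u_mem_lev.2 (by linear_combination h2 - 2 * h1)⟩
  | hw x y =>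
    have h1 := Q.mul_mem hg hab
    rw [w_mul_w] at h1
    obtain ⟨h2, h3⟩ := hbase _ _ h1
    exact ⟨show x + y = h m by linear_combination h2 - hsum - two_mul_h (m := m),
      w_mem_lev.2 (by linear_combination h3 - 2 * h2 - 2 * hsum - two_mul_h (m := m))⟩

/-- The centraliser of `qsub c` is the centre. -/
theorem mem_center_of_commute_qsub {c : ZMod (2 ^ (m + 2))} {g : WreathTwo m}
    (h1 : u (q m) (-q m) * g = g * u (q m) (-q m)) (h2 : w c (h m - c) * g = g * w c (h m - c)) :
    g ∈ Subgroup.center (WreathTwo m) := by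
  have hb := mem_base_of_commute (fun e => neg_quarter_ne (n := m + 2) (by omega) e.symm) h1
  obtain ⟨x, y, rfl⟩ := exists_eq_u_of_mem_base hb
  rw [(commute_u_w_iff x y c (h m - c)).1 h2.symm]
  exact diag_mem_center y

/-- The sum invariant. -/
def phi (m : ℕ) : WreathTwo m →* Multiplicative (ZMod (2 ^ (m + 2))) where
  toFun g := Multiplicative.ofAdd (g.a + g.b + if g.e then h m else 0)
  map_one' := by simp [one_def]
  map_mul' := by
    intro g k
    induction g using cases' <;> induction k using cases' <;>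
      simp [← ofAdd_add] <;> (try ring_nf) <;>
      linear_combination -(two_mul_h (m := m))

/-- The bit telling whether an element is outside the base. -/
def ebit (m : ℕ) : WreathTwo m →* Multiplicative (ZMod 2) where
  toFun g := Multiplicative.ofAdd (if g.e then 1 else 0)
  map_one' := by simp [one_def]
  map_mul' := by
    intro g k
    induction g using cases' <;> induction k using cases' <;> simp [← ofAdd_add] <;> rfl

theorem phi_u (a b : ZMod (2 ^ (m + 2))) : phi m (u a b) = Multiplicative.ofAdd (a + b) := by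
  simp [phi]

theorem phi_w (a b : ZMod (2 ^ (m + 2))) : phi m (w a b) = Multiplicative.ofAdd (a + b + h m) := by
  simp [phi]

theorem ebit_u (a b : ZMod (2 ^ (m + 2))) : ebit m (u a b) = 1 := by simp [ebit]

theorem ebit_w (a b : ZMod (2 ^ (m + 2))) : ebit m (w a b) = Multiplicative.ofAdd 1 := by simp [ebit]

theorem ebit_w_ne_one (a b : ZMod (2 ^ (m + 2))) : ebit m (w a b) ≠ 1 := by
  rw [ebit_w, ← ofAdd_zero, Ne, Multiplicative.ofAdd.injective.eq_iff]
  exact one_ne_zero

theorem phi_surjective : Function.Surjective (phi m) := fun v =>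
  ⟨u v.toAdd 0, by rw [phi_u, add_zero]; rfl⟩

theorem ebit_ker : (ebit m).ker = base m := by
  ext g
  induction g using cases' with
  | hu a b => simp [ebit_u, u_mem_base]
  | hw a b => simp [ebit_w_ne_one, w_not_mem_base]

theorem phi_ker : (phi m).ker = quat m := by
  ext g
  induction g using cases' with
  | hu a b =>
    rw [MonoidHom.mem_ker, phi_u, ← ofAdd_zero, Multiplicative.ofAdd.injective.eq_iff]
    exact Iff.rfl
  | hw a b =>
    rw [MonoidHom.mem_ker, phi_w, ← ofAdd_zero, Multiplicative.ofAdd.injective.eq_iff]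
    exact ⟨fun hh => show a + b = h m by linear_combination hh - two_mul_h (m := m),
      fun hh => by
        have hh' : a + b = h m := hh
        linear_combination hh' + two_mul_h (m := m)⟩

theorem prod_surjective : Function.Surjective ((phi m).prod (ebit m)) := by
  rintro ⟨v, e⟩
  obtain ⟨e, rfl⟩ := Multiplicative.ofAdd.surjective e
  have he : ∀ e : ZMod 2, e = 0 ∨ e = 1 := by decide
  rcases he e with rfl | rfl
  · exact ⟨u v.toAdd 0, by
      rw [MonoidHom.prod_apply, phi_u, add_zero, ebit_u]; rfl⟩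
  · exact ⟨w (v.toAdd + h m) 0, by
      rw [MonoidHom.prod_apply, phi_w, add_zero, ebit_w, add_assoc, h_add_h, add_zero]; rfl⟩

theorem isCyclic_prod_ker : IsCyclic ((phi m).prod (ebit m)).ker := by
  haveI : IsCyclic (Subgroup.zpowers (u (1 : ZMod (2 ^ (m + 2))) (-1))) :=
    Subgroup.isCyclic_zpowers _
  refine Subgroup.isCyclic_of_le (H := ((phi m).prod (ebit m)).ker)
    (H' := Subgroup.zpowers (u (1 : ZMod (2 ^ (m + 2))) (-1))) fun g hg => ?_
  rw [MonoidHom.mem_ker, MonoidHom.prod_apply, Prod.mk_eq_one] at hg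
  induction g using cases' with
  | hu a b =>
    rw [phi_u, ← ofAdd_zero, Multiplicative.ofAdd.injective.eq_iff] at hg
    rw [eq_neg_of_add_eq_zero_right hg.1]
    simpa using zpowers_u_one (m := m) (-1) a
  | hw a b => exact absurd hg.2 (ebit_w_ne_one a b)

end CfsgLib.TwoGroups.WreathTwo
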