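import Mathlib
import Cfsg.Agent.Lib.TwoGroups.WreathedShapes
import Cfsg.Agent.Lib.TwoGroups.InvolutionPts

/-!
The automisers of the base and of `lev 1 0` in a group with wreathed Sylow 2-subgroup.
-/

set_option autoImplicit false

namespace CfsgLib.TwoGroups.WreathTwo

variable {G : Type*} [Group G] {m : ℕ} {f : WreathTwo m →* G}

/-- `c ~ t₁` -/
abbrev BaseFused (f : WreathTwo m →* G) : Prop := IsConj (f (u (h m) 0)) (f (u (h m) (h m)))

/-- `v ~ t₁` -/
abbrev OuterFused (f : WreathTwo m →* G) : Prop := IsConj (f (w 0 0)) (f (u (h m) 0))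

/-- the base in the group -/
abbrev baseG (f : WreathTwo m →* G) : Subgroup G := (base m).map f

/-- `lev 1 0` in the group -/
abbrev levG (f : WreathTwo m →* G) : Subgroup G :=
  (lev 1 (0 : ZMod (2 ^ (m + 2)))).map f

/-- the centre of the Sylow subgroup in the group -/
abbrev centG (f : WreathTwo m →* G) : Subgroup G := (Subgroup.center (WreathTwo m)).map f

theorem isPGroup_mapG (f : WreathTwo m →* G) (H : Subgroup (WreathTwo m)) : IsPGroup 2 (H.map f) :=
  (isPGroup.to_subgroup H).map f

theorem centralizer_le_normalizer (A : Subgroup G) :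
    Subgroup.centralizer (A : Set G) ≤ Subgroup.normalizer (A : Set G) :=
  Subgroup.le_normalizer_iff.2 fun c hc v hv => by
    rwa [← Subgroup.mem_centralizer_iff.1 hc v hv, mul_inv_cancel_right]

section Sylow

variable [Finite G] {S : Sylow 2 G} (hf : Function.Injective f) (hS : f.range = (S : Subgroup G))

include hS in
omit [Finite G] in
theorem mapG_le_sylow (H : Subgroup (WreathTwo m)) : H.map f ≤ (S : Subgroup G) :=
  hS ▸ Subgroup.map_le_range f H

include hS in
omit [Finite G] in
theorem sylow_le_centralizer_centG :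
    (S : Subgroup G) ≤ Subgroup.centralizer (centG f : Set G) := by
  rw [← hS]
  rintro _ ⟨v, rfl⟩
  rw [Subgroup.mem_centralizer_iff]
  rintro _ ⟨z, hz, rfl⟩
  rw [← map_mul, ← map_mul, (Subgroup.mem_center_iff.1 hz v)]

include hS in
omit [Finite G] in
theorem sylow_le_centralizer_c0 :
    (S : Subgroup G) ≤ Subgroup.centralizer {f (u (h m) (h m))} := by
  refine (sylow_le_centralizer_centG hS).trans ?_
  exact Subgroup.centralizer_le (Set.singleton_subset_iff.2
    (Subgroup.mem_map_of_mem f (diag_mem_center _)))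

include hS in
omit [Finite G] in
theorem sylow_le_normalizer_baseG :
    (S : Subgroup G) ≤ Subgroup.normalizer (baseG f : Set G) := by
  rw [← hS]
  rintro _ ⟨v, rfl⟩
  refine Subgroup.le_normalizer_iff.2 ?_ (Subgroup.mem_zpowers (f v))
  intro x hx y hy
  obtain ⟨k, rfl⟩ := Subgroup.mem_zpowers_iff.1 hx
  obtain ⟨b, hb, rfl⟩ := hy
  exact ⟨v ^ k * b * (v ^ k)⁻¹, conj_mem_base _ hb, by simp⟩

include hf hS in
/-- A conjugate of the base inside the Sylow subgroup is the base. -/
theorem map_conj_baseG_eq {x : G}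
    (hx : (baseG f).map (MulAut.conj x).toMonoidHom ≤ (S : Subgroup G)) :
    (baseG f).map (MulAut.conj x).toMonoidHom = baseG f := by
  obtain ⟨B, hB, ⟨e⟩⟩ := exists_map_eq_of_le_range hf (hS.symm ▸ hx : _ ≤ f.range)
  let e' : B ≃* base m := e.trans
    (((base m).equivMapOfInjective f hf).trans
      ((baseG f).equivMapOfInjective _ (MulAut.conj x).injective)).symm
  have hBab : IsMulCommutative B :=
    ⟨⟨fun p r => e'.injective (by rw [map_mul, map_mul]; exact isMulCommutative_base.1.1 _ _)⟩⟩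
  rw [← hB, eq_base_of_abelian hBab (by rw [Nat.card_congr e'.toEquiv, natCard_base])]

include hf in
omit [Finite G] S hS in
theorem baseG_invPts_cases {t : G} (ht : t ∈ baseG f) (h1 : t ≠ 1) (h2 : t * t = 1) :
    t = f (u (h m) (h m)) ∨ t = f (u (h m) 0) ∨ t = f (u 0 (h m)) := by
  obtain ⟨b, hb, rfl⟩ := ht
  have ho : orderOf b = 2 := orderOf_eq_prime
    (by rw [pow_two]; exact hf (by rw [map_mul, h2, map_one]))
    (fun e => h1 (by rw [e, map_one]))
  rcases (orderOf_eq_two_iff b).1 ho with rfl | rfl | rfl | ⟨a, rfl⟩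
  exacts [Or.inl rfl, Or.inr (Or.inl rfl), Or.inr (Or.inr rfl), absurd hb (w_not_mem_base _ _)]

/-- The involution `c` as a point. -/
def ptC (f : WreathTwo m →* G) (hf : Function.Injective f) : InvPts (baseG f) :=
  ⟨f (u (h m) (h m)), Subgroup.mem_map_of_mem f (u_mem_base _ _),
    fun e => h_ne (u_inj.1 (hf (e.trans (map_one f).symm))).1,
    by rw [← map_mul, u_mul_u, h_add_h, ← one_def, map_one]⟩

/-- The involution `t₁` as a point. -/
def ptT1 (f : WreathTwo m →* G) (hf : Function.Injective f) : InvPts (baseG f) :=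
  ⟨f (u (h m) 0), Subgroup.mem_map_of_mem f (u_mem_base _ _),
    fun e => h_ne (u_inj.1 (hf (e.trans (map_one f).symm))).1,
    by rw [← map_mul, u_mul_u, h_add_h, add_zero, ← one_def, map_one]⟩

/-- The involution `t₂` as a point. -/
def ptT2 (f : WreathTwo m →* G) (hf : Function.Injective f) : InvPts (baseG f) :=
  ⟨f (u 0 (h m)), Subgroup.mem_map_of_mem f (u_mem_base _ _),
    fun e => h_ne (u_inj.1 (hf (e.trans (map_one f).symm))).2,
    by rw [← map_mul, u_mul_u, h_add_h, add_zero, ← one_def, map_one]⟩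

include hf in
omit [Finite G] S hS in
theorem natCard_invPts : Nat.card (InvPts (baseG f)) = 3 := by
  have hs : {t : G | t ∈ baseG f ∧ t ≠ 1 ∧ t * t = 1} =
      {f (u (h m) (h m)), f (u (h m) 0), f (u 0 (h m))} := by
    ext t
    constructor
    · rintro ⟨h1, h2, h3⟩; exact baseG_invPts_cases hf h1 h2 h3
    · rintro (rfl | rfl | rfl)
      exacts [(ptC f hf).2, (ptT1 f hf).2, (ptT2 f hf).2]
  show Nat.card ↥{t : G | t ∈ baseG f ∧ t ≠ 1 ∧ t * t = 1} = 3
  rw [hs, Nat.card_coe_set_eq, Set.ncard_eq_three]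
  exact ⟨_, _, _, fun e => h_ne (u_inj.1 (hf e)).2,
    fun e => h_ne (u_inj.1 (hf e)).1, fun e => h_ne (u_inj.1 (hf e)).1, rfl⟩

include hf hS in
theorem threeKer_baseG :
    threeKer (Subgroup.normalizer (baseG f : Set G)) (InvPts (baseG f)) =
      (Subgroup.centralizer (baseG f : Set G)).subgroupOf (Subgroup.normalizer (baseG f : Set G)) := by
  refine le_antisymm (fun n hn => ?_) (fun n hn => mem_threeKer.2 fun t => Subtype.ext ?_)
  swap
  · have hc := Subgroup.mem_centralizer_iff.1 (Subgroup.mem_subgroupOf.1 hn) t.1 t.2.1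
    rw [invPts_smul_val, ← hc, mul_inv_cancel_right]
  obtain ⟨a, q, hq, hord⟩ := Nat.exists_eq_two_pow_mul_odd (orderOf_pos n).ne'
  refine mem_of_two_parts (a := 2 ^ a) (b := q) (Nat.Coprime.pow_left a (Nat.coprime_two_left.2 hq)) ?_ ?_
  · -- odd part
    have hn' := mem_threeKer.1 (pow_mem hn (2 ^ a))
    have hodd : Odd (orderOf ((n ^ 2 ^ a : Subgroup.normalizer (baseG f : Set G)) : G)) := by
      rw [Subgroup.orderOf_coe, orderOf_pow' _ (pow_ne_zero _ two_ne_zero), hord, Nat.gcd_eq_right (dvd_mul_right _ _),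
        Nat.mul_div_cancel_left _ (by positivity)]
      exact hq
    refine Subgroup.mem_subgroupOf.2 (Subgroup.mem_centralizer_iff.2 fun x hx => ?_)
    have := conj_eq_of_fixes_involutions (isPGroup_mapG f (base m))
      (fun p hp r hr => by
        obtain ⟨p, hp, rfl⟩ := hp
        obtain ⟨r, hr, rfl⟩ := hr
        rw [← map_mul, ← map_mul, base_commute hp hr])
      (n ^ 2 ^ a).2 hodd (fun t ht h2 => by
        by_cases h1 : t = 1
        · subst h1; simp
        · exact congrArg Subtype.val (hn' ⟨t, ht, h1, h2⟩)) x hx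
    nth_rewrite 1 [← this]
    group
  · -- two part
    have hP : IsPGroup 2 (Subgroup.zpowers ((n ^ q : Subgroup.normalizer (baseG f : Set G)) : G)) :=
      IsPGroup.of_card (n := a) (by
        rw [Nat.card_zpowers, Subgroup.orderOf_coe, orderOf_pow' _ (by rintro rfl; simp at hq), hord,
          Nat.gcd_eq_right (dvd_mul_left _ _), Nat.mul_div_cancel _ hq.pos])
    obtain ⟨k, hk, hk'⟩ := exists_conj_le_of_maximal (sylow_le_normalizer_baseG hS) S.2
      (fun P _ hP hle => Nat.card_mono (Set.toFinite _)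
        (show (P : Set G) ⊆ ((S : Subgroup G) : Set G) from (S.3 hP hle).le))
      (Subgroup.zpowers_le.2 (n ^ q).2) hP
    obtain ⟨v, hv⟩ := hS.ge (hk' (conj_mem_map_conj (Subgroup.mem_zpowers _)))
    set K := threeKer (Subgroup.normalizer (baseG f : Set G)) (InvPts (baseG f))
    haveI : K.Normal := MonoidHom.normal_ker _
    have hker := mem_threeKer.1
      (Subgroup.Normal.conj_mem (H := K) inferInstance _ (pow_mem hn q) ⟨k, hk⟩)
    have hvb : v ∈ base m := by
      induction v using cases' with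
      | hu x y => exact u_mem_base x y
      | hw x y =>
        exfalso
        have h1 := congrArg Subtype.val (hker (ptT1 f hf))
        have h2 : f (w x y) * f (u (h m) 0) * (f (w x y))⁻¹ = f (u (h m) 0) := by
          rw [hv]; exact h1
        rw [← map_inv, ← map_mul, ← map_mul, w_conj_u] at h2
        exact h_ne (u_inj.1 (hf h2)).2
    refine Subgroup.mem_subgroupOf.2 (Subgroup.mem_centralizer_iff.2 fun x hx => ?_)
    have hmem : ((n ^ q : Subgroup.normalizer (baseG f : Set G)) : G) ∈ baseG f := by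
      refine (Subgroup.mem_normalizer_iff.1 hk _).2 ?_
      exact ⟨v, hvb, hv⟩
    obtain ⟨p, hp, hp'⟩ := hmem
    obtain ⟨r, hr, rfl⟩ := hx
    rw [← hp', ← map_mul, ← map_mul, base_commute hr hp]

include hf hS in
theorem mem_centralizer_baseG {k : G} (hk : k ∈ Subgroup.normalizer (baseG f : Set G))
    (hfix : ∀ t ∈ baseG f, t * t = 1 → k * t * k⁻¹ = t) :
    k ∈ Subgroup.centralizer (baseG f : Set G) :=
  (threeKer_baseG hf hS).le (x := ⟨k, hk⟩) (mem_threeKer.2 fun t =>
    Subtype.ext (hfix t.1 t.2.1 t.2.2.2))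

include hf hS in
theorem relIndex_baseG_dvd_six :
    (Subgroup.centralizer (baseG f : Set G)).relIndex (Subgroup.normalizer (baseG f : Set G)) ∣ 6 := by
  rw [Subgroup.relIndex, ← threeKer_baseG hf hS]
  exact three_index_dvd_six (natCard_invPts hf)

include hf hS in
theorem exists_normalizer_of_baseFused (h1 : BaseFused f) :
    ∃ x ∈ Subgroup.normalizer (baseG f : Set G), x * f (u (h m) 0) * x⁻¹ = f (u (h m) (h m)) := by
  obtain ⟨g, hg⟩ := isConj_iff.1 h1
  obtain ⟨x, hx, hxS⟩ := exists_conj_le_sylow_of_isConj S (sylow_le_centralizer_c0 hS) hg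
    (isPGroup_mapG f (base m)) (by
      rintro _ ⟨b, hb, rfl⟩
      rw [Subgroup.mem_centralizer_singleton_iff, ← map_mul, ← map_mul,
        base_commute hb (u_mem_base _ _)])
  exact ⟨x, map_conj_eq_iff_mem_normalizer.1 (map_conj_baseG_eq hf hS hxS), hx⟩

include hf hS in
omit [Finite G] in
theorem w_mem_normalizer_baseG (a b : ZMod (2 ^ (m + 2))) :
    f (w a b) ∈ Subgroup.normalizer (baseG f : Set G) := by
  have _ := hf
  exact sylow_le_normalizer_baseG hS (hS ▸ ⟨_, rfl⟩)

include hf hS in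
theorem relIndex_baseG_six (h1 : BaseFused f) :
    (Subgroup.centralizer (baseG f : Set G)).relIndex (Subgroup.normalizer (baseG f : Set G)) = 6 := by
  obtain ⟨x, hx, hxt⟩ := exists_normalizer_of_baseFused hf hS h1
  rw [Subgroup.relIndex, ← threeKer_baseG hf hS]
  refine three_index_eq_six (natCard_invPts hf) (g₁ := ⟨x, hx⟩)
    (g₂ := ⟨f (w 0 0), w_mem_normalizer_baseG hf hS 0 0⟩) (x := ptC f hf) (y := ptT1 f hf) ?_ ?_ ?_
  · intro e
    have e' : x * f (u (h m) (h m)) * x⁻¹ = f (u (h m) (h m)) := congrArg Subtype.val e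
    have := hf (mul_left_cancel (mul_right_cancel (e'.trans hxt.symm)))
    exact h_ne (u_inj.1 this).2
  · refine Subtype.ext ?_
    show f (w 0 0) * f (u (h m) (h m)) * (f (w 0 0))⁻¹ = f (u (h m) (h m))
    rw [← map_inv, ← map_mul, ← map_mul, w_conj_u]
  · intro e
    have e' : f (w 0 0) * f (u (h m) 0) * (f (w 0 0))⁻¹ = f (u (h m) 0) := congrArg Subtype.val e
    rw [← map_inv, ← map_mul, ← map_mul, w_conj_u] at e'
    exact h_ne (u_inj.1 (hf e')).2

include hf hS in
theorem exists_odd_baseG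
    (h3 : 3 ∣ (Subgroup.centralizer (baseG f : Set G)).relIndex
      (Subgroup.normalizer (baseG f : Set G))) :
    ∃ g ∈ Subgroup.normalizer (baseG f : Set G), Odd (orderOf g) ∧
      ∃ k : ℕ, g ^ k * f (u (h m) 0) * (g ^ k)⁻¹ = f (u (h m) (h m)) := by
  rw [Subgroup.relIndex, ← threeKer_baseG hf hS] at h3
  obtain ⟨g, hg, p, hp⟩ := three_exists_odd_mover h3
  have hc := natCard_invPts (f := f) hf
  obtain ⟨k, hk⟩ := three_odd_transitive hc hg
    (fun e => hp (three_odd_fix_all hc hg e p) : g • ptT1 f hf ≠ ptT1 f hf) (ptC f hf)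
  refine ⟨g, g.2, by rwa [Subgroup.orderOf_coe], k, ?_⟩
  have h1 : ((g ^ k : Subgroup.normalizer (baseG f : Set G)) : G) * f (u (h m) 0) *
      ((g ^ k : Subgroup.normalizer (baseG f : Set G)) : G)⁻¹ = f (u (h m) (h m)) :=
    congrArg Subtype.val hk
  rwa [SubgroupClass.coe_pow] at h1

include hf hS in
theorem baseFused_of_three_dvd
    (h3 : 3 ∣ (Subgroup.centralizer (baseG f : Set G)).relIndex
      (Subgroup.normalizer (baseG f : Set G))) : BaseFused f := by
  obtain ⟨g, -, -, k, hk⟩ := exists_odd_baseG hf hS h3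
  exact isConj_iff.2 ⟨g ^ k, hk⟩

include hf hS in
theorem baseG_two_or_six :
    ((Subgroup.centralizer (baseG f : Set G)).relIndex (Subgroup.normalizer (baseG f : Set G)) = 2 ∧
      ¬ BaseFused f) ∨
    ((Subgroup.centralizer (baseG f : Set G)).relIndex (Subgroup.normalizer (baseG f : Set G)) = 6 ∧
      BaseFused f) := by
  by_cases h1 : BaseFused f
  · exact Or.inr ⟨relIndex_baseG_six hf hS h1, h1⟩
  refine Or.inl ⟨?_, h1⟩
  have h6 := relIndex_baseG_dvd_six hf hS
  have hne : (Subgroup.centralizer (baseG f : Set G)).relIndex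
      (Subgroup.normalizer (baseG f : Set G)) ≠ 1 := by
    intro e
    have hmem := Subgroup.relIndex_eq_one.1 e (w_mem_normalizer_baseG hf hS 0 0)
    have hc := Subgroup.mem_centralizer_iff.1 hmem (f (u 1 0))
      (Subgroup.mem_map_of_mem f (u_mem_base _ _))
    rw [← map_mul, ← map_mul] at hc
    exact h_ne (by rw [← mul_one (h m), (commute_u_w_iff _ _ _ _).1 (hf hc), mul_zero])
  have h3 : ¬ 3 ∣ (Subgroup.centralizer (baseG f : Set G)).relIndex
      (Subgroup.normalizer (baseG f : Set G)) := fun e => h1 (baseFused_of_three_dvd hf hS e)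
  have hle := Nat.le_of_dvd (by norm_num) h6
  interval_cases hd : (Subgroup.centralizer (baseG f : Set G)).relIndex
    (Subgroup.normalizer (baseG f : Set G)) <;> omega

/-! ### The central product -/

include hf hS in
theorem exists_eq_map_lev {x : G}
    (hx : (levG f).map (MulAut.conj x).toMonoidHom ≤ (S : Subgroup G)) :
    ∃ c, (levG f).map (MulAut.conj x).toMonoidHom = (lev 1 (2 * c)).map f := by
  have hdec : levG f = (qsub 0).map f ⊔ centG f := by
    rw [← Subgroup.map_sup, ← lev_eq_qsub_sup, mul_zero]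
  obtain ⟨e0⟩ := qsub_equiv (m := m) 0
  have hQS : ((qsub 0).map f).map (MulAut.conj x).toMonoidHom ≤ f.range :=
    hS.symm ▸ (Subgroup.map_mono (hdec ▸ le_sup_left)).trans hx
  obtain ⟨B, hB, ⟨eB⟩⟩ := exists_map_eq_of_le_range hf hQS
  obtain ⟨c, rfl⟩ := eq_qsub_of_quaternion (eB.trans
    ((((qsub 0).equivMapOfInjective f hf).trans
      (((qsub 0).map f).equivMapOfInjective _ (MulAut.conj x).injective)).symm.trans e0))
  refine ⟨c, ?_⟩
  have hZ : (centG f).map (MulAut.conj x).toMonoidHom = centG f := by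
    refine Subgroup.eq_of_le_of_card_ge ?_ (natCard_map_conj x _).ge
    intro y hy
    obtain ⟨v, rfl⟩ := hS.ge (((Subgroup.map_mono (hdec ▸ le_sup_right)).trans hx) hy)
    refine Subgroup.mem_map_of_mem f ?_
    obtain ⟨z, hz, hzv⟩ := hy
    have hcomm : ∀ s ∈ qsub c, s * v = v * s := by
      intro s hs
      apply hf
      obtain ⟨s', hs', hss⟩ := hB.le (Subgroup.mem_map_of_mem f hs)
      obtain ⟨s'', -, rfl⟩ := hs'
      obtain ⟨z', hz', rfl⟩ := hz
      rw [map_mul, map_mul, ← hss, ← hzv, ← map_mul (MulAut.conj x).toMonoidHom,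
        ← map_mul (MulAut.conj x).toMonoidHom, ← map_mul, ← map_mul,
        Subgroup.mem_center_iff.1 hz' s'']
    exact mem_center_of_commute_qsub (hcomm _ (u_q_mem_qsub c)) (hcomm _ (w_mem_qsub c))
  rw [hdec, Subgroup.map_sup, hZ, ← hB, ← Subgroup.map_sup, ← lev_eq_qsub_sup]

include hS in
omit [Finite G] in
theorem lev_two_le_normalizer (hf : Function.Injective f) :
    (lev 2 (0 : ZMod (2 ^ (m + 2)))).map f ≤ Subgroup.normalizer (levG f : Set G) := by
  have _ := hS
  rintro _ ⟨v, hv, rfl⟩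
  exact (mem_normalizer_map_iff hf).2 (by rw [normalizer_lev]; exact hv)

include hf hS in
theorem maximal_in_normalizer_levG {P : Subgroup G}
    (hP : P ≤ Subgroup.normalizer (levG f : Set G)) (hP2 : IsPGroup 2 P)
    (hle : (lev 2 (0 : ZMod (2 ^ (m + 2)))).map f ≤ P) :
    Nat.card P ≤ Nat.card ((lev 2 (0 : ZMod (2 ^ (m + 2)))).map f) := by
  obtain ⟨x, hx⟩ := exists_conj_le_sylow S hP2
  have hVP : levG f ≤ P := by
    refine le_trans (Subgroup.map_mono ?_) hle
    intro g hg
    induction g using cases' with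
    | hu a b => exact u_mem_lev.2 (by linear_combination 2 * u_mem_lev.1 hg)
    | hw a b => exact w_mem_lev.2 (by linear_combination 2 * w_mem_lev.1 hg)
  obtain ⟨c, hc⟩ := exists_eq_map_lev hf hS ((Subgroup.map_mono hVP).trans hx)
  have hxN : P.map (MulAut.conj x).toMonoidHom ≤ (lev 2 (2 * c)).map f := by
    intro y hy
    obtain ⟨v, rfl⟩ := (hS.symm ▸ hx : _ ≤ f.range) hy
    refine Subgroup.mem_map_of_mem f ?_
    rw [← normalizer_lev 1 (2 * c), ← mem_normalizer_map_iff hf, ← hc,
      ← map_conj_eq_iff_mem_normalizer]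
    obtain ⟨p, hp, hpa⟩ := hy
    rw [← map_conj_mul, show f v = x * p * x⁻¹ from hpa.symm,
      show x * p * x⁻¹ * x = x * p by group, map_conj_mul, map_conj_eq_iff_mem_normalizer.2 (hP hp)]
  have h1 := Nat.card_mono (Set.toFinite _) (show ((P.map (MulAut.conj x).toMonoidHom : Subgroup G) : Set G)
    ⊆ (((lev 2 (2 * c)).map f : Subgroup G) : Set G) from hxN)
  simp only [SetLike.coe_sort_coe, natCard_map_conj, Subgroup.card_map_of_injective hf] at h1 ⊢
  have h2 := conj_lev (m := m) 2 0 c
  rw [zero_add] at h2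
  rwa [← h2, natCard_map_conj] at h1

/-- The three four-groups of `lev 1 0`, as points. -/
def fpt (f : WreathTwo m →* G) (hf : Function.Injective f) (T : Subgroup (WreathTwo m))
    (hT : T ≤ lev 1 (0 : ZMod (2 ^ (m + 2)))) (hK : IsKleinFour T) : FourPts (levG f) :=
  ⟨T.map f, Subgroup.map_mono hT, isKleinFour_of_mulEquiv (T.equivMapOfInjective f hf).symm hK⟩

omit [Finite G] S hS in
theorem fourW_zero_le : (fourW 0 : Subgroup (WreathTwo m)) ≤ lev 1 0 :=
  fourW_le_lev_iff.2 (by ring)

omit [Finite G] S hS in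
theorem fourW_q_le : (fourW (q m) : Subgroup (WreathTwo m)) ≤ lev 1 0 :=
  fourW_le_lev_iff.2 (by linear_combination four_mul_q (m := m))

include hf in
omit [Finite G] S hS in
theorem natCard_fourPts : Nat.card (FourPts (levG f)) = 3 := by
  have hs : {T : Subgroup G | T ≤ levG f ∧ IsKleinFour T} =
      {(four0 m).map f, (fourW 0).map f, (fourW (q m)).map f} := by
    ext T
    constructor
    · rintro ⟨h1, h2⟩
      obtain ⟨B, hB, ⟨e⟩⟩ := exists_map_eq_of_le_range hf (h1.trans (Subgroup.map_le_range f _))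
      have hBl : B ≤ lev 1 0 := fun b hb =>
        (Subgroup.mem_map_iff_mem hf).1 (h1 (hB ▸ Subgroup.mem_map_of_mem f hb))
      rcases four_cases_lev (isKleinFour_of_mulEquiv e h2) hBl with rfl | rfl | rfl
      exacts [Or.inl hB.symm, Or.inr (Or.inl hB.symm), Or.inr (Or.inr hB.symm)]
    · rintro (rfl | rfl | rfl)
      exacts [(fpt f hf _ (four0_le_lev 0) isKleinFour_four0).2,
        (fpt f hf _ fourW_zero_le (isKleinFour_fourW 0)).2,
        (fpt f hf _ fourW_q_le (isKleinFour_fourW _)).2]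
  show Nat.card ↥{T : Subgroup G | T ≤ levG f ∧ IsKleinFour T} = 3
  rw [hs, Nat.card_coe_set_eq, Set.ncard_eq_three]
  exact ⟨_, _, _, fun e => four0_ne_fourW 0 (Subgroup.map_injective hf e).symm,
    fun e => four0_ne_fourW _ (Subgroup.map_injective hf e).symm,
    fun e => fourW_zero_ne (Subgroup.map_injective hf e), rfl⟩

include hf hS in
theorem threeKer_levG :
    threeKer (Subgroup.normalizer (levG f : Set G)) (FourPts (levG f)) =
      (levG f ⊔ Subgroup.centralizer (levG f : Set G)).subgroupOf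
        (Subgroup.normalizer (levG f : Set G)) := by
  refine le_antisymm (fun n hn => ?_) (fun n hn => mem_threeKer.2 fun T => Subtype.ext ?_)
  swap
  · have hle : levG f ⊔ Subgroup.centralizer (levG f : Set G) ≤
        Subgroup.normalizer (T.1 : Set G) := by
      refine sup_le ?_ ((Subgroup.centralizer_le T.2.1).trans (centralizer_le_normalizer _))
      rintro _ ⟨v, hv, rfl⟩
      obtain ⟨B, hB, ⟨e⟩⟩ := exists_map_eq_of_le_range hf (T.2.1.trans (Subgroup.map_le_range f _))
      have hBl : B ≤ lev 1 0 := fun b hb =>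
        (Subgroup.mem_map_iff_mem hf).1 (T.2.1 (hB ▸ Subgroup.mem_map_of_mem f hb))
      rw [← hB]
      refine (mem_normalizer_map_iff hf).2 ?_
      rcases four_cases_lev (isKleinFour_of_mulEquiv e T.2.2) hBl with rfl | rfl | rfl
      · rw [Subgroup.normalizer_eq_top_iff.2 normal_four0]; trivial
      · exact map_conj_eq_iff_mem_normalizer.1 (lev_one_normalizes_fourW hv (by ring))
      · exact map_conj_eq_iff_mem_normalizer.1
          (lev_one_normalizes_fourW hv (by linear_combination four_mul_q (m := m)))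
    exact map_conj_eq_iff_mem_normalizer.2 (hle hn)
  obtain ⟨a, q', hq, hord⟩ := Nat.exists_eq_two_pow_mul_odd (orderOf_pos n).ne'
  refine mem_of_two_parts (a := 2 ^ a) (b := q') (Nat.Coprime.pow_left a (Nat.coprime_two_left.2 hq)) ?_ ?_
  · -- odd part centralises
    refine Subgroup.mem_subgroupOf.2 (Subgroup.mem_sup_right ?_)
    set g := ((n ^ 2 ^ a : Subgroup.normalizer (levG f : Set G)) : G) with hgdef
    have hgfix := mem_threeKer.1 (pow_mem hn (2 ^ a))
    have hodd : Odd (orderOf g) := by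
      rw [hgdef, Subgroup.orderOf_coe, orderOf_pow' _ (pow_ne_zero _ two_ne_zero), hord,
        Nat.gcd_eq_right (dvd_mul_right _ _), Nat.mul_div_cancel_left _ (by positivity)]
      exact hq
    have himg : ∀ T (hT : T ≤ lev 1 0) (hK : IsKleinFour T), ∀ v ∈ T,
        ∃ v' ∈ T, f v' = g * f v * g⁻¹ := by
      intro T hT hK v hv
      obtain ⟨v', hv', he⟩ := (congrArg Subtype.val (hgfix (fpt f hf T hT hK)) :).le
        (conj_mem_map_conj (g := g) (Subgroup.mem_map_of_mem f hv))
      exact ⟨v', hv', he⟩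
    have hc0 : g * f (u (h m) (h m)) * g⁻¹ = f (u (h m) (h m)) := by
      obtain ⟨v, hv, he⟩ := himg _ (four0_le_lev 0) isKleinFour_four0 _
        (u_mem_four0.2 ⟨two_mul_h, two_mul_h⟩)
      obtain ⟨v', hv', he'⟩ := himg _ fourW_zero_le (isKleinFour_fourW 0) _
        (u_mem_fourW.2 ⟨two_mul_h, rfl⟩)
      obtain rfl := hf (he.trans he'.symm)
      obtain ⟨x, y, rfl⟩ := exists_eq_u_of_mem_base (show v ∈ base m from hv.1)
      obtain ⟨h2, rfl⟩ := u_mem_fourW.1 hv'
      rcases two_mul_eq_zero (by omega) h2 with e | e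
      · subst e
        rw [← one_def, map_one, eq_comm, conj_eq_one_iff, ← map_one f, one_def] at he
        exact absurd (u_inj.1 (hf he)).1 h_ne
      · subst e; exact he.symm
    -- the two other involutions of each four-group
    have hfix : ∀ v c : WreathTwo m, u (h m) (h m) * v = c → v * u (h m) (h m) = c →
        ∀ T (hT : T ≤ lev 1 0) (hK : IsKleinFour T), v ∈ T → v ≠ 1 → v ≠ u (h m) (h m) →
        g * f v * g⁻¹ = f v := by
      intro v c hvc hvc' T hT hK hv h1 h2
      have hcT : u (h m) (h m) ∈ T := by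
        rcases four_cases_lev hK hT with rfl | rfl | rfl
        exacts [u_mem_four0.2 ⟨two_mul_h, two_mul_h⟩, u_mem_fourW.2 ⟨two_mul_h, rfl⟩,
          u_mem_fourW.2 ⟨two_mul_h, rfl⟩]
      obtain ⟨v', hv', he⟩ := himg T hT hK v hv
      haveI := hK
      have hne1 : v' ≠ 1 := fun e => h1 (hf (by
        rw [e, map_one, eq_comm, conj_eq_one_iff] at he; rw [he, map_one]))
      have hnec : v' ≠ u (h m) (h m) := fun e => h2 (hf (by
        rw [e] at he; exact (mul_left_cancel (mul_right_cancel (hc0.trans he))).symm))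
      by_cases hvv : v' = v
      · rw [← he, hvv]
      exfalso
      have hvm : v' = u (h m) (h m) * v := by
        have := IsKleinFour.eq_mul_of_ne_all (x := (⟨_, hcT⟩ : T)) (y := ⟨v, hv⟩) (z := ⟨v', hv'⟩)
          (fun e => h_ne (u_inj.1 ((congrArg Subtype.val e :) : u (h m) (h m) = u 0 0)).1)
          (fun e => h1 (congrArg Subtype.val e)) (fun e => h2 (congrArg Subtype.val e).symm)
          (fun e => hne1 (congrArg Subtype.val e)) (fun e => hnec (congrArg Subtype.val e))
          (fun e => hvv (congrArg Subtype.val e))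
        exact congrArg Subtype.val this
      rw [hvm, map_mul] at he
      have hpow : ∀ j : ℕ, g ^ j * f v * (g ^ j)⁻¹ = f (u (h m) (h m)) ^ j * f v := by
        intro j
        induction j with
        | zero => simp
        | succ j ih =>
          calc g ^ (j + 1) * f v * (g ^ (j + 1))⁻¹ = g * (g ^ j * f v * (g ^ j)⁻¹) * g⁻¹ := by group
            _ = (g * f (u (h m) (h m)) * g⁻¹) ^ j * (g * f v * g⁻¹) := by rw [ih, conj_pow]; group
            _ = _ := by rw [hc0, ← he, pow_succ, mul_assoc]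
      have h3 := hpow (orderOf g)
      rw [pow_orderOf_eq_one, one_mul, inv_one, mul_one, eq_comm, mul_eq_right] at h3
      have h4 := eq_one_of_sq_of_odd hodd
        (by rw [← map_mul, u_mul_u, h_add_h, ← one_def, map_one]) h3
      exact h_ne (u_inj.1 (hf (h4.trans (map_one f).symm))).1
    have ht1 : g * f (u (h m) 0) * g⁻¹ = f (u (h m) 0) :=
      hfix _ (u 0 (h m)) (by rw [u_mul_u, h_add_h, add_zero]) (by rw [u_mul_u, h_add_h, zero_add])
        _ (four0_le_lev 0) isKleinFour_four0 (u_mem_four0.2 ⟨two_mul_h, mul_zero _⟩)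
        (fun e => h_ne (u_inj.1 e).1) (fun e => h_ne (u_inj.1 e).2.symm)
    have hw0 : g * f (w 0 0) * g⁻¹ = f (w 0 0) :=
      hfix _ (w (h m) (h m)) (by rw [u_mul_w, add_zero]) (by rw [w_mul_u, zero_add])
        _ fourW_zero_le (isKleinFour_fourW 0) (w_mem_fourW.2 ⟨by ring, neg_zero.symm⟩)
        (fun e => u_ne_w _ _ _ _ e.symm) (fun e => u_ne_w _ _ _ _ e.symm)
    have hZfix : ∀ c, g * f (u c c) * g⁻¹ = f (u c c) := by
      have hN : g ∈ Subgroup.normalizer (centG f : Set G) := by
        rw [← map_conj_eq_iff_mem_normalizer]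
        refine Subgroup.eq_of_le_of_card_ge ?_ (natCard_map_conj _ _).ge
        rintro _ ⟨_, ⟨z, hz, rfl⟩, rfl⟩
        obtain ⟨z', hz', he⟩ := (map_conj_eq_iff_mem_normalizer.2 (n ^ 2 ^ a).2).le
          (conj_mem_map_conj (g := g) (Subgroup.mem_map_of_mem f (center_le_lev 1 0 hz)))
        refine ⟨z', ?_, he⟩
        have hcent : ∀ v ∈ lev 1 (0 : ZMod (2 ^ (m + 2))), v * z' = z' * v := by
          intro v hv
          apply hf
          obtain ⟨v'', hv'', hv'⟩ := (map_conj_eq_iff_mem_normalizer.2 (n ^ 2 ^ a).2).ge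
            (Subgroup.mem_map_of_mem f hv)
          obtain ⟨v3, -, rfl⟩ := hv''
          rw [map_mul, map_mul, he, ← hv']
          show g * f v3 * g⁻¹ * (g * f z * g⁻¹) = g * f z * g⁻¹ * (g * f v3 * g⁻¹)
          rw [show g * f v3 * g⁻¹ * (g * f z * g⁻¹) = g * (f v3 * f z) * g⁻¹ by group, ← map_mul,
            Subgroup.mem_center_iff.1 hz v3, map_mul]
          group
        have hlev : qsub 0 ≤ lev 1 (0 : ZMod (2 ^ (m + 2))) := by
          have h0 : qsub (0 : ZMod (2 ^ (m + 2))) ≤ lev 1 (2 * 0) := inf_le_right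
          rwa [mul_zero] at h0
        exact mem_center_of_commute_qsub (hcent _ (hlev (u_q_mem_qsub 0)))
          (hcent _ (hlev (w_mem_qsub 0)))
      intro c
      refine conj_eq_of_fixes_involutions (isPGroup_mapG f _) ?_ hN hodd ?_ _
        (Subgroup.mem_map_of_mem f (diag_mem_center c))
      · rintro _ ⟨p, hp, rfl⟩ _ ⟨r, hr, rfl⟩
        rw [← map_mul, ← map_mul, (Subgroup.mem_center_iff.1 hr p)]
      · rintro _ ⟨p, hp, rfl⟩ h2
        obtain ⟨d, rfl⟩ := center_eq_diag hp
        rw [← map_mul, ← map_one f, hf.eq_iff, u_mul_u, one_def, u_inj, ← two_mul] at h2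
        rcases two_mul_eq_zero (by omega) h2.1 with e | e
        · subst e; rw [← one_def, map_one]; simp
        · subst e; exact hc0
    have hfixU : ∀ x y, 2 ^ 1 * (x - y) = 0 → g * f (u x y) * g⁻¹ = f (u x y) := by
      intro x y hxy
      rw [pow_one] at hxy
      rcases two_mul_eq_zero (by omega) hxy with e | e
      · rw [sub_eq_zero.1 e]; exact hZfix y
      · have e' : u x y = u y y * u (h m) 0 := by
          rw [u_mul_u, add_zero, show y + h m = x by linear_combination -e]
        rw [e', map_mul, show g * (f (u y y) * f (u (h m) 0)) * g⁻¹ =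
          g * f (u y y) * g⁻¹ * (g * f (u (h m) 0) * g⁻¹) by group, hZfix, ht1]
    refine Subgroup.mem_centralizer_iff.2 ?_
    rintro _ ⟨v, hv, rfl⟩
    suffices hh : g * f v * g⁻¹ = f v by nth_rewrite 1 [← hh]; group
    induction v using cases' with
    | hu x y => exact hfixU x y (u_mem_lev.1 hv)
    | hw x y =>
      have h' : 2 ^ 1 * (x - y) = 0 := by linear_combination w_mem_lev.1 hv
      have e' : w x y = u x y * w 0 0 := by rw [u_mul_w, add_zero, add_zero]
      rw [e', map_mul, show g * (f (u x y) * f (w 0 0)) * g⁻¹ =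
        g * f (u x y) * g⁻¹ * (g * f (w 0 0) * g⁻¹) by group, hfixU x y h', hw0]
  · -- two part lies in `lev 1 0`
    refine Subgroup.mem_subgroupOf.2 (Subgroup.mem_sup_left ?_)
    have hP : IsPGroup 2 (Subgroup.zpowers ((n ^ q' : Subgroup.normalizer (levG f : Set G)) : G)) :=
      IsPGroup.of_card (n := a) (by
        rw [Nat.card_zpowers, Subgroup.orderOf_coe, orderOf_pow' _ (by rintro rfl; simp at hq), hord,
          Nat.gcd_eq_right (dvd_mul_left _ _), Nat.mul_div_cancel _ hq.pos])
    obtain ⟨k, hk, hk'⟩ := exists_conj_le_of_maximal (lev_two_le_normalizer hS hf) (isPGroup_mapG f _)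
      (fun P h1 h2 h3 => maximal_in_normalizer_levG hf hS h1 h2 h3)
      (Subgroup.zpowers_le.2 (n ^ q').2) hP
    obtain ⟨v, hvl, hv⟩ := hk' (conj_mem_map_conj (Subgroup.mem_zpowers _))
    set K := threeKer (Subgroup.normalizer (levG f : Set G)) (FourPts (levG f))
    haveI : K.Normal := MonoidHom.normal_ker _
    have hker := mem_threeKer.1
      (Subgroup.Normal.conj_mem (H := K) inferInstance _ (pow_mem hn q') ⟨k, hk⟩)
    have h1 : ((fourW 0).map f).map (MulAut.conj (f v)).toMonoidHom = (fourW 0).map f := by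
      rw [hv]; exact congrArg Subtype.val (hker (fpt f hf _ fourW_zero_le (isKleinFour_fourW 0)))
    rw [map_conj_map_hom] at h1
    exact (Subgroup.mem_normalizer_iff.1 hk _).2
      ⟨v, mem_lev_of_fix (Subgroup.map_injective hf h1), hv⟩

end Sylow

end CfsgLib.TwoGroups.WreathTwo
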