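import Mathlib
import Cfsg.Prelude.Def_TwoFusion
import Cfsg.Agent.Lib.TwoGroups.WreathedLocal

/-!
Fusion in a finite group with wreathed Sylow 2-subgroup.
-/

set_option autoImplicit false

namespace CfsgLib.TwoGroups.WreathTwo

variable {G : Type*} [Group G] {m : ℕ} {f : WreathTwo m →* G}

theorem isConj_t2 (f : WreathTwo m →* G) : IsConj (f (u 0 (h m))) (f (u (h m) 0)) :=
  isConj_iff.2 ⟨f (w 0 0), by rw [← map_inv, ← map_mul, ← map_mul, w_conj_u]⟩

theorem isConj_w_of_sum (f : WreathTwo m →* G) {a b c d : ZMod (2 ^ (m + 2))} (hab : a + b = c + d) :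
    IsConj (f (w a b)) (f (w c d)) :=
  isConj_iff.2 ⟨f (u (c - a) 0), by
    rw [← map_inv, ← map_mul, ← map_mul, u_conj_w,
      show a + (c - a - 0) = c by ring, show b - (c - a - 0) = d by linear_combination hab]⟩

theorem mem_of_conj_eq_fix {k x : G} (hx : k * x * k⁻¹ = x) : x * k = k * x :=
  (mul_inv_eq_iff_eq_mul.1 hx).symm

section Sylow

variable [Finite G] {S : Sylow 2 G} (hf : Function.Injective f) (hS : f.range = (S : Subgroup G))

include hS in
theorem exists_conj_le_sylow_in_centralizer {A : Subgroup G}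
    (hA : A ≤ Subgroup.centralizer (centG f : Set G)) (hA2 : IsPGroup 2 A) :
    ∃ k ∈ Subgroup.centralizer (centG f : Set G),
      A.map (MulAut.conj k).toMonoidHom ≤ (S : Subgroup G) :=
  exists_conj_le_of_maximal (sylow_le_centralizer_centG hS) S.2
    (fun P _ hP hle => Nat.card_mono (Set.toFinite _)
      (show (P : Set G) ⊆ ((S : Subgroup G) : Set G) from (S.3 hP hle).le)) hA hA2

omit [Finite G] in
theorem conj_c0_of_mem_centralizer {k : G} (hk : k ∈ Subgroup.centralizer (centG f : Set G))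
    (c : ZMod (2 ^ (m + 2))) : k * f (u c c) * k⁻¹ = f (u c c) := by
  rw [← Subgroup.mem_centralizer_iff.1 hk _ (Subgroup.mem_map_of_mem f (diag_mem_center c)),
    mul_inv_cancel_right]

include hf hS in
/-- If a conjugate of the base contains `⟨Z, v⟩`, then `v` is fused to `t₁` centralising `Z`. -/
theorem outer_of_base_ge {g : G}
    (hg : (lev 0 (0 : ZMod (2 ^ (m + 2)))).map f ≤ (baseG f).map (MulAut.conj g).toMonoidHom) :
    ∃ k ∈ Subgroup.centralizer (centG f : Set G), k * f (w 0 0) * k⁻¹ = f (u (h m) 0) := by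
  set A := (baseG f).map (MulAut.conj g).toMonoidHom with hA
  have hAM : A ≤ Subgroup.centralizer (centG f : Set G) := by
    rintro _ ⟨_, ⟨b, hb, rfl⟩, rfl⟩
    refine Subgroup.mem_centralizer_iff.2 fun z hz => ?_
    obtain ⟨z', hz', rfl⟩ := hz
    obtain ⟨_, ⟨b', hb', rfl⟩, hz''⟩ :=
      hg (Subgroup.mem_map_of_mem f (center_le_lev 0 0 hz'))
    rw [← hz'', ← map_mul (MulAut.conj g).toMonoidHom, ← map_mul (MulAut.conj g).toMonoidHom,
      ← map_mul, ← map_mul, base_commute hb' hb]
  obtain ⟨k, hk, hkS⟩ := exists_conj_le_sylow_in_centralizer hS hAM ((isPGroup_mapG f _).map _)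
  have hkA : A.map (MulAut.conj k).toMonoidHom = baseG f := by
    rw [hA, ← map_conj_mul] at hkS ⊢
    exact map_conj_baseG_eq hf hS hkS
  have hv : k * f (w 0 0) * k⁻¹ ∈ baseG f :=
    hkA.le (conj_mem_map_conj (hg (Subgroup.mem_map_of_mem f (w_mem_lev.2 (by ring)))))
  have h1 : k * f (w 0 0) * k⁻¹ ≠ 1 := fun e =>
    u_ne_w _ _ _ _ (hf ((conj_eq_one_iff.1 e).trans (map_one f).symm)).symm
  have h2 : k * f (w 0 0) * k⁻¹ * (k * f (w 0 0) * k⁻¹) = 1 := by
    rw [show k * f (w 0 0) * k⁻¹ * (k * f (w 0 0) * k⁻¹) = k * (f (w 0 0) * f (w 0 0)) * k⁻¹ by group,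
      ← map_mul, w_mul_w, add_zero, ← one_def, map_one, mul_one, mul_inv_cancel]
  rcases baseG_invPts_cases hf hv h1 h2 with e | e | e
  · exact absurd (hf (mul_left_cancel (mul_right_cancel
      ((conj_c0_of_mem_centralizer hk (h m)).trans e.symm)))) (u_ne_w _ _ _ _)
  · exact ⟨k, hk, e⟩
  · refine ⟨f (w 0 0) * k, mul_mem (sylow_le_centralizer_centG hS (hS ▸ ⟨_, rfl⟩)) hk, ?_⟩
    rw [show f (w 0 0) * k * f (w 0 0) * (f (w 0 0) * k)⁻¹ =
      f (w 0 0) * (k * f (w 0 0) * k⁻¹) * (f (w 0 0))⁻¹ by group, e, ← map_inv, ← map_mul, ← map_mul,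
      w_conj_u]

include hf hS in
theorem maximal_in_centralizer_base {a b : ZMod (2 ^ (m + 2))}
    (hno : ∀ c, ¬ IsConj (f (u a b)) (f (u c c))) {P : Subgroup G}
    (hP : P ≤ Subgroup.centralizer {f (u a b)}) (hP2 : IsPGroup 2 P) (hle : baseG f ≤ P) :
    Nat.card P ≤ Nat.card (baseG f) := by
  obtain ⟨x, hx⟩ := exists_conj_le_sylow S hP2
  have hxU := map_conj_baseG_eq hf hS ((Subgroup.map_mono hle).trans hx)
  obtain ⟨v, hv, hxv⟩ := hxU.le (conj_mem_map_conj (g := x)
    (Subgroup.mem_map_of_mem f (u_mem_base a b)))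
  obtain ⟨c, d, rfl⟩ := exists_eq_u_of_mem_base hv
  have hcd : c ≠ d := by
    rintro rfl
    exact hno c (isConj_iff.2 ⟨x, hxv.symm⟩)
  have hle' : P.map (MulAut.conj x).toMonoidHom ≤ baseG f := by
    intro y hy
    obtain ⟨s, rfl⟩ := (hS.symm ▸ hx : _ ≤ f.range) hy
    refine Subgroup.mem_map_of_mem f (mem_base_of_commute hcd (hf ?_))
    obtain ⟨p, hp, hps⟩ := hy
    rw [map_mul, map_mul, hxv, show f s = x * p * x⁻¹ from hps.symm,
      show x * f (u a b) * x⁻¹ * (x * p * x⁻¹) = x * (f (u a b) * p) * x⁻¹ by group,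
      ← Subgroup.mem_centralizer_singleton_iff.1 (hP hp)]
    group
  have h1 := Nat.card_mono (Set.toFinite _) (show ((P.map (MulAut.conj x).toMonoidHom : Subgroup G) : Set G)
    ⊆ ((baseG f : Subgroup G) : Set G) from hle')
  simpa only [SetLike.coe_sort_coe, natCard_map_conj] using h1

omit [Finite G] in
theorem baseG_le_centralizer (f : WreathTwo m →* G) (a b : ZMod (2 ^ (m + 2))) :
    baseG f ≤ Subgroup.centralizer {f (u a b)} := by
  rintro _ ⟨v, hv, rfl⟩
  rw [Subgroup.mem_centralizer_singleton_iff, ← map_mul, ← map_mul,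
    base_commute hv (u_mem_base _ _)]

include hf hS in
theorem normalizer_baseG_cases (h1 : ¬ BaseFused f) {k : G}
    (hk : k ∈ Subgroup.normalizer (baseG f : Set G)) :
    (∀ a b, k * f (u a b) * k⁻¹ = f (u a b)) ∨ (∀ a b, k * f (u a b) * k⁻¹ = f (u b a)) := by
  have himg : ∀ t : InvPts (baseG f), k * t.1 * k⁻¹ = f (u (h m) (h m)) ∨
      k * t.1 * k⁻¹ = f (u (h m) 0) ∨ k * t.1 * k⁻¹ = f (u 0 (h m)) := fun t => by
    have ht := ((⟨k, hk⟩ : Subgroup.normalizer (baseG f : Set G)) • t).2
    exact baseG_invPts_cases hf ht.1 ht.2.1 ht.2.2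
  have hnc : ∀ t : G, IsConj t (f (u (h m) 0)) → k * t * k⁻¹ ≠ f (u (h m) (h m)) := fun t ht e =>
    h1 (ht.symm.trans (isConj_iff.2 ⟨k, e⟩))
  have h0 : k * f (u (h m) (h m)) * k⁻¹ = f (u (h m) (h m)) := by
    have key : ∀ t' : G, IsConj t' (f (u (h m) 0)) → k * f (u (h m) (h m)) * k⁻¹ ≠ t' := by
      intro t' ht' e
      exact h1 (ht'.symm.trans (isConj_iff.2 ⟨k, e⟩).symm)
    rcases himg (ptC f hf) with e | e | e
    · exact e
    · exact absurd e (key _ (IsConj.refl _))
    · exact absurd e (key _ (isConj_t2 f))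
  have fix_of : ∀ {l : G}, l ∈ Subgroup.normalizer (baseG f : Set G) →
      l * f (u (h m) (h m)) * l⁻¹ = f (u (h m) (h m)) → l * f (u (h m) 0) * l⁻¹ = f (u (h m) 0) →
      ∀ a b, l * f (u a b) * l⁻¹ = f (u a b) := by
    intro l hl hl0 hl1 a b
    have hc := mem_centralizer_baseG hf hS hl (fun t ht h2 => by
      by_cases ht1 : t = 1
      · subst ht1; simp
      · rcases baseG_invPts_cases hf ht ht1 h2 with rfl | rfl | rfl
        · exact hl0
        · exact hl1
        · have e2 : f (u 0 (h m)) = f (u (h m) (h m)) * f (u (h m) 0) := by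
            rw [← map_mul, u_mul_u, h_add_h, add_zero]
          rw [e2, show l * (f (u (h m) (h m)) * f (u (h m) 0)) * l⁻¹ =
            l * f (u (h m) (h m)) * l⁻¹ * (l * f (u (h m) 0) * l⁻¹) by group, hl0, hl1])
    rw [← Subgroup.mem_centralizer_iff.1 hc _ (Subgroup.mem_map_of_mem f (u_mem_base a b)),
      mul_inv_cancel_right]
  rcases himg (ptT1 f hf) with e | e | e
  · exact absurd e (hnc _ (IsConj.refl _))
  · exact Or.inl (fix_of hk h0 e)
  · right
    have hl : f (w 0 0) * k ∈ Subgroup.normalizer (baseG f : Set G) :=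
      mul_mem (w_mem_normalizer_baseG hf hS 0 0) hk
    have e' : ∀ t, f (w 0 0) * k * t * (f (w 0 0) * k)⁻¹ =
        f (w 0 0) * (k * t * k⁻¹) * (f (w 0 0))⁻¹ := fun t => by group
    have e'' : ∀ t' : G, t' = f (u 0 (h m)) →
        f (w 0 0) * t' * (f (w 0 0))⁻¹ = f (u (h m) 0) := by
      rintro _ rfl
      rw [← map_inv, ← map_mul, ← map_mul, w_conj_u]
    have hfix := fix_of hl (by rw [e', h0, ← map_inv, ← map_mul, ← map_mul, w_conj_u])
      (by rw [e']; exact e'' _ e)
    intro a b
    have h2 := hfix a b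
    rw [e', mul_inv_eq_iff_eq_mul, ← eq_inv_mul_iff_mul_eq] at h2
    rw [h2, ← map_inv, ← map_mul, ← map_mul, w_inv, u_mul_w, w_mul_w]
    congr 1
    refine u_inj.2 ⟨?_, ?_⟩ <;> ring

include hf hS in
/-- Central elements of the Sylow subgroup are not fused to other elements of it. -/
theorem conj_center_eq (h1 : ¬ BaseFused f) {y : WreathTwo m} {c : ZMod (2 ^ (m + 2))}
    (hy : IsConj (f y) (f (u c c))) : y = u c c := by
  have hbase : ∀ a b c, IsConj (f (u a b)) (f (u c c)) → u a b = u c c := by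
    intro a b c hy
    obtain ⟨g, hg⟩ := isConj_iff.1 hy
    obtain ⟨x, hx, hxS⟩ := exists_conj_le_sylow_of_isConj S
      ((sylow_le_centralizer_centG hS).trans (Subgroup.centralizer_le (Set.singleton_subset_iff.2
        (Subgroup.mem_map_of_mem f (diag_mem_center c))))) hg (isPGroup_mapG f (base m))
      (baseG_le_centralizer f a b)
    rcases normalizer_baseG_cases hf hS h1
      (map_conj_eq_iff_mem_normalizer.1 (map_conj_baseG_eq hf hS hxS)) with e | e
    · rw [e] at hx; exact hf hx
    · rw [e] at hx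
      obtain ⟨rfl, rfl⟩ := u_inj.1 (hf hx)
      rfl
  induction y using cases' with
  | hu a b => exact hbase a b c hy
  | hw a b =>
    exfalso
    obtain ⟨g, hg⟩ := isConj_iff.1 hy
    set A : Subgroup G := Subgroup.zpowers (f (w a b)) ⊔ centG f with hA
    have hAle : A ≤ Subgroup.centralizer {f (w a b)} := by
      refine sup_le (Subgroup.zpowers_le.2 (Subgroup.mem_centralizer_singleton_iff.2 rfl)) ?_
      rintro _ ⟨z, hz, rfl⟩
      rw [Subgroup.mem_centralizer_singleton_iff, ← map_mul, ← map_mul,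
        Subgroup.mem_center_iff.1 hz]
    have hA2 : IsPGroup 2 A := S.2.to_le (sup_le (Subgroup.zpowers_le.2 (hS ▸ ⟨_, rfl⟩))
      (mapG_le_sylow hS _))
    obtain ⟨x, hx, hxS⟩ := exists_conj_le_sylow_of_isConj S
      ((sylow_le_centralizer_centG hS).trans (Subgroup.centralizer_le (Set.singleton_subset_iff.2
        (Subgroup.mem_map_of_mem f (diag_mem_center c))))) hg hA2 hAle
    have himg : ∀ d, ∃ i, f i = x * f (u d d) * x⁻¹ := fun d =>
      hS.ge (hxS (conj_mem_map_conj (Subgroup.mem_sup_right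
        (Subgroup.mem_map_of_mem f (diag_mem_center d)))))
    obtain ⟨i, hi⟩ := himg (h m)
    obtain ⟨j, hj⟩ := himg (q m)
    have hji : i = j * j := hf (by
      rw [map_mul, hi, hj, show x * f (u (q m) (q m)) * x⁻¹ * (x * f (u (q m) (q m)) * x⁻¹) =
        x * (f (u (q m) (q m)) * f (u (q m) (q m))) * x⁻¹ by group, ← map_mul, u_mul_u, q_add_q])
    have ho : orderOf i = 2 := by
      rw [← orderOf_injective f hf i, hi,
        show x * f (u (h m) (h m)) * x⁻¹ = MulAut.conj x (f (u (h m) (h m))) from rfl,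
        MulEquiv.orderOf_eq, orderOf_injective f hf]
      exact (orderOf_eq_two_iff _).2 (Or.inl rfl)
    have hi0 : x * f (u (h m) (h m)) * x⁻¹ = f (u (h m) (h m)) := by
      rcases (orderOf_eq_two_iff i).1 ho with e | e | e | ⟨d, e⟩ <;> rw [e] at hi hji
      · exact hi.symm
      · exact absurd (isConj_iff.2 ⟨x, hi.symm⟩).symm h1
      · exact absurd ((isConj_t2 f).symm.trans (isConj_iff.2 ⟨x, hi.symm⟩).symm) h1
      · exact absurd (hji ▸ sq_mem_base j) (w_not_mem_base _ _)
    have h3 : IsConj (f (w (a + h m) (b + h m))) (f (u (c + h m) (c + h m))) :=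
      isConj_iff.2 ⟨x, by
        rw [← u_mul_u c c (h m) (h m), ← w_mul_u, map_mul, map_mul,
          show x * (f (w a b) * f (u (h m) (h m))) * x⁻¹ =
            x * f (w a b) * x⁻¹ * (x * f (u (h m) (h m)) * x⁻¹) by group, hx, hi0]⟩
    have h4 : IsConj (f (u c c)) (f (u (c + h m) (c + h m))) :=
      hy.symm.trans ((isConj_w_of_sum f
        (by linear_combination -(two_mul_h (m := m)))).trans h3)
    have := (u_inj.1 (hbase _ _ _ h4)).1
    exact h_ne (left_eq_add.1 this)

include hf hS in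
/-- A base element fused to an element outside the base gives the fusion of `v` and `t₁`. -/
theorem outer_of_conj {a b c d : ZMod (2 ^ (m + 2))} (hc : IsConj (f (u a b)) (f (w c d))) :
    ∃ k ∈ Subgroup.centralizer (centG f : Set G), k * f (w 0 0) * k⁻¹ = f (u (h m) 0) := by
  obtain ⟨e, hcd⟩ : ∃ e, c + d = 2 * e := by
    obtain ⟨g, hg⟩ := isConj_iff.1 hc
    have h0 : (u a b) ^ 2 ^ (m + 2) = (1 : WreathTwo m) := u_pow_eq_one a b
    have h1 : (w c d) ^ 2 ^ (m + 2) = 1 := hf (by
      rw [map_pow, ← hg, conj_pow, ← map_pow, h0, map_one, mul_one, mul_inv_cancel])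
    obtain ⟨e, he | he⟩ := exists_two_mul (c + d)
    · exact ⟨e, he⟩
    · exact absurd h1 (w_pow_ne_one ⟨e, he⟩)
  have hy : IsConj (f (u a b)) (f (w e e)) :=
    hc.trans (isConj_w_of_sum f (by rw [hcd]; ring))
  set B := (lev 0 (0 : ZMod (2 ^ (m + 2)))).map f with hB
  have hBle : B ≤ Subgroup.centralizer {f (w e e)} := by
    rintro _ ⟨v, hv, rfl⟩
    rw [Subgroup.mem_centralizer_singleton_iff, ← map_mul, ← map_mul]
    congr 1
    induction v using cases' with
    | hu x y =>
      have := u_mem_lev.1 hv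
      rw [pow_zero, one_mul, sub_eq_zero] at this
      exact (commute_u_w_iff x y e e).2 this
    | hw x y =>
      have := w_mem_lev.1 hv
      rw [pow_zero, one_mul, sub_zero, sub_eq_zero] at this
      subst this
      rw [w_mul_w, w_mul_w, add_comm]
  by_cases hz : ∃ z, IsConj (f (w e e)) (f (u z z))
  · obtain ⟨z, hz⟩ := hz
    obtain ⟨g, hg⟩ := isConj_iff.1 hz
    obtain ⟨x, hx, hxS⟩ := exists_conj_le_sylow_of_isConj S
      ((sylow_le_centralizer_centG hS).trans (Subgroup.centralizer_le (Set.singleton_subset_iff.2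
        (Subgroup.mem_map_of_mem f (diag_mem_center z))))) hg (isPGroup_mapG f _) hBle
    have himg : ∀ v ∈ B, ∃ i, f i = x * v * x⁻¹ := fun v hv => hS.ge (hxS (conj_mem_map_conj hv))
    have hBd : ∀ d, f (u d d) ∈ B := fun d =>
      Subgroup.mem_map_of_mem f (u_mem_lev.2 (by ring))
    obtain ⟨i, hi⟩ := himg _ (hBd (h m))
    obtain ⟨j, hj⟩ := himg _ (hBd (q m))
    have hji : i = j * j := hf (by
      rw [map_mul, hi, hj, show x * f (u (q m) (q m)) * x⁻¹ * (x * f (u (q m) (q m)) * x⁻¹) =
        x * (f (u (q m) (q m)) * f (u (q m) (q m))) * x⁻¹ by group, ← map_mul, u_mul_u, q_add_q])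
    obtain ⟨p, r, rfl⟩ := exists_eq_u_of_mem_base (hji ▸ sq_mem_base j : i ∈ base m)
    by_cases hpr : p = r
    · -- inside the centraliser of `c`
      exfalso
      subst hpr
      have hpc : p = h m := by
        have ho : orderOf (u p p) = 2 := by
          rw [← orderOf_injective f hf (u p p), hi,
            show x * f (u (h m) (h m)) * x⁻¹ = MulAut.conj x (f (u (h m) (h m))) from rfl,
            MulEquiv.orderOf_eq, orderOf_injective f hf]
          exact (orderOf_eq_two_iff _).2 (Or.inl rfl)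
        rcases (orderOf_eq_two_iff _).1 ho with e' | e' | e' | ⟨d', e'⟩
        · exact (u_inj.1 e').1
        · exact absurd ((u_inj.1 e').1.symm.trans (u_inj.1 e').2) h_ne
        · exact absurd ((u_inj.1 e').2.symm.trans (u_inj.1 e').1) h_ne
        · exact absurd e' (u_ne_w _ _ _ _)
      subst hpc
      set C := Subgroup.centralizer ({f (u (h m) (h m))} : Set G)
      have hSC : (S : Subgroup G) ≤ C := sylow_le_centralizer_c0 hS
      let f' : WreathTwo m →* C := MonoidHom.codRestrict f C (fun v => hSC (hS ▸ ⟨v, rfl⟩))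
      have hf' : Function.Injective f' := fun v v' e' => hf (congrArg Subtype.val e' :)
      have hS' : f'.range = ((S.subtype hSC : Sylow 2 C) : Subgroup C) := by
        rw [Sylow.coe_subtype]
        ext v
        rw [Subgroup.mem_subgroupOf, MonoidHom.mem_range, ← hS, MonoidHom.mem_range]
        exact exists_congr fun v => Subtype.ext_iff
      have h1' : ¬ BaseFused f' := by
        intro hh
        obtain ⟨g', hg'⟩ := isConj_iff.1 hh.symm
        have hg'' : (g' : G) * f (u (h m) (h m)) * (g' : G)⁻¹ = f (u (h m) 0) :=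
          congrArg Subtype.val hg'
        rw [Subgroup.mem_centralizer_singleton_iff.1 g'.2, mul_inv_cancel_right] at hg''
        exact h_ne (u_inj.1 (hf hg'')).2
      have hxC : x ∈ C := Subgroup.mem_centralizer_singleton_iff.2
        (mul_inv_eq_iff_eq_mul.1 hi.symm)
      have : IsConj (f' (w e e)) (f' (u z z)) := isConj_iff.2 ⟨⟨x, hxC⟩, Subtype.ext hx⟩
      exact u_ne_w _ _ _ _ (conj_center_eq hf' hS' h1' this).symm
    · refine outer_of_base_ge hf hS (g := x⁻¹) ?_
      intro v hv
      obtain ⟨s, hs⟩ := himg v hv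
      have hsb : s ∈ base m := by
        refine mem_base_of_commute hpr (hf ?_)
        rw [map_mul, map_mul, hi, hs]
        obtain ⟨v', hv', rfl⟩ := hv
        have hcom : f (u (h m) (h m)) * f v' = f v' * f (u (h m) (h m)) := by
          rw [← map_mul, ← map_mul, (Subgroup.mem_center_iff.1 (diag_mem_center (h m)) v')]
        rw [show x * f (u (h m) (h m)) * x⁻¹ * (x * f v' * x⁻¹) =
          x * (f (u (h m) (h m)) * f v') * x⁻¹ by group, hcom]
        group
      rw [mem_map_conj, inv_inv, ← hs]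
      exact Subgroup.mem_map_of_mem f hsb
  · have hno : ∀ z, ¬ IsConj (f (u a b)) (f (u z z)) := fun z h' => hz ⟨z, hy.symm.trans h'⟩
    obtain ⟨g, hg⟩ := isConj_iff.1 hy.symm
    have hA : B.map (MulAut.conj g).toMonoidHom ≤ Subgroup.centralizer {f (u a b)} := by
      rintro _ ⟨v, hv, rfl⟩
      have hv' := Subgroup.mem_centralizer_singleton_iff.1 (hBle hv)
      rw [Subgroup.mem_centralizer_singleton_iff, ← hg]
      show g * v * g⁻¹ * (g * f (w e e) * g⁻¹) = g * f (w e e) * g⁻¹ * (g * v * g⁻¹)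
      rw [show g * v * g⁻¹ * (g * f (w e e) * g⁻¹) = g * (v * f (w e e)) * g⁻¹ by group, hv']
      group
    obtain ⟨k, -, hk⟩ := exists_conj_le_of_maximal (baseG_le_centralizer f a b) (isPGroup_mapG f _)
      (fun P h1 h2 h3 => maximal_in_centralizer_base hf hS hno h1 h2 h3) hA ((isPGroup_mapG f _).map _)
    refine outer_of_base_ge hf hS (g := (k * g)⁻¹) ?_
    intro v hv
    rw [mem_map_conj, inv_inv]
    have := hk (conj_mem_map_conj (g := k) (conj_mem_map_conj (g := g) hv))
    rwa [show k * (g * v * g⁻¹) * k⁻¹ = k * g * v * (k * g)⁻¹ by group] at this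

include hf hS in
theorem outer_of_outerFused (h2 : OuterFused f) :
    ∃ k ∈ Subgroup.centralizer (centG f : Set G), k * f (w 0 0) * k⁻¹ = f (u (h m) 0) :=
  outer_of_conj hf hS h2.symm

include hf hS in
theorem conj_centG_of_mem_normalizer_levG {k : G} (hk : k ∈ Subgroup.normalizer (levG f : Set G))
    {z : WreathTwo m} (hz : z ∈ Subgroup.center (WreathTwo m)) :
    k * f z * k⁻¹ ∈ centG f := by
  have _ := hS
  obtain ⟨z', hz', he⟩ := (Subgroup.mem_normalizer_iff.1 hk _).1
    (Subgroup.mem_map_of_mem f (center_le_lev 1 0 hz))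
  refine ⟨z', ?_, he⟩
  have hcent : ∀ v ∈ lev 1 (0 : ZMod (2 ^ (m + 2))), v * z' = z' * v := by
    intro v hv
    obtain ⟨v3, hv3, hv'⟩ := (Subgroup.mem_normalizer_iff''.1 hk _).1 (Subgroup.mem_map_of_mem f hv)
    apply hf
    rw [map_mul, map_mul, he, show f v = k * f v3 * k⁻¹ by rw [hv']; group,
      show k * f v3 * k⁻¹ * (k * f z * k⁻¹) = k * (f v3 * f z) * k⁻¹ by group, ← map_mul,
      Subgroup.mem_center_iff.1 hz v3, map_mul]
    group
  have hlev : qsub 0 ≤ lev 1 (0 : ZMod (2 ^ (m + 2))) := by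
    have h0 : qsub (0 : ZMod (2 ^ (m + 2))) ≤ lev 1 (2 * 0) := inf_le_right
    rwa [mul_zero] at h0
  exact mem_center_of_commute_qsub (hcent _ (hlev (u_q_mem_qsub 0)))
    (hcent _ (hlev (w_mem_qsub 0)))

include hf hS in
theorem conj_c0_of_mem_normalizer_levG {k : G} (hk : k ∈ Subgroup.normalizer (levG f : Set G)) :
    k * f (u (h m) (h m)) * k⁻¹ = f (u (h m) (h m)) := by
  obtain ⟨z, hz, he⟩ := conj_centG_of_mem_normalizer_levG hf hS hk (diag_mem_center (h m))
  obtain ⟨c, rfl⟩ := center_eq_diag hz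
  have h2 : u c c * u c c = (1 : WreathTwo m) := hf (by
    rw [map_mul, he, show k * f (u (h m) (h m)) * k⁻¹ * (k * f (u (h m) (h m)) * k⁻¹) =
      k * (f (u (h m) (h m)) * f (u (h m) (h m))) * k⁻¹ by group, ← map_mul, u_mul_u, h_add_h,
      ← one_def, map_one, mul_one, mul_inv_cancel])
  rw [u_mul_u, one_def, u_inj, ← two_mul] at h2
  rcases two_mul_eq_zero (by omega) h2.1 with e | e
  · subst e
    rw [← one_def, map_one, eq_comm, conj_eq_one_iff, ← map_one f] at he
    exact absurd (u_inj.1 ((hf he).trans one_def)).1 h_ne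
  · subst e; exact he.symm

include hf hS in
theorem four_involution_cases {k : G} (hk : k ∈ Subgroup.normalizer (levG f : Set G))
    {T T' : Subgroup (WreathTwo m)} (hT' : ((T.map f).map (MulAut.conj k).toMonoidHom) = T'.map f)
    {t : WreathTwo m} (ht : t ∈ T) (ht1 : t ≠ 1) (ht2 : t ≠ u (h m) (h m)) :
    ∃ t' ∈ T', t' ≠ 1 ∧ t' ≠ u (h m) (h m) ∧ f t' = k * f t * k⁻¹ := by
  obtain ⟨t', ht', he⟩ := hT'.le (conj_mem_map_conj (g := k) (Subgroup.mem_map_of_mem f ht))
  refine ⟨t', ht', fun e => ?_, fun e => ?_, he⟩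
  · rw [e, map_one, eq_comm, conj_eq_one_iff, ← map_one f] at he
    exact ht1 (hf he)
  · rw [e] at he
    exact ht2 (hf (mul_left_cancel (mul_right_cancel
      ((conj_c0_of_mem_normalizer_levG hf hS hk).trans he))).symm)

include hf hS in
theorem relIndex_levG_six (h2 : OuterFused f) :
    (levG f ⊔ Subgroup.centralizer (levG f : Set G)).relIndex
      (Subgroup.normalizer (levG f : Set G)) = 6 := by
  obtain ⟨k, hk, hkv⟩ := outer_of_outerFused hf hS h2
  set E0 := (four0 m).map f with hE0
  set E1 := (fourW 0).map f with hE1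
  have hc0 := conj_c0_of_mem_centralizer hk (h m)
  have hkE : E1.map (MulAut.conj k).toMonoidHom = E0 := by
    refine Subgroup.eq_of_le_of_card_ge ?_ ?_
    · rintro _ ⟨_, ⟨v, hv, rfl⟩, rfl⟩
      show k * f v * k⁻¹ ∈ E0
      induction v using cases' with
      | hu x y =>
        obtain ⟨h2', rfl⟩ := u_mem_fourW.1 hv
        rw [conj_c0_of_mem_centralizer hk]
        exact Subgroup.mem_map_of_mem f (u_mem_four0.2 ⟨h2', h2'⟩)
      | hw x y =>
        obtain ⟨h2', rfl⟩ := w_mem_fourW.1 hv
        rw [sub_zero] at h2'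
        have hx : x = 0 ∨ x = h m := two_mul_eq_zero (by omega) h2'
        rcases hx with rfl | rfl
        · rw [neg_zero, hkv]
          exact Subgroup.mem_map_of_mem f (u_mem_four0.2 ⟨two_mul_h, mul_zero _⟩)
        · have e : w (h m) (-h m) = u (h m) (h m) * w 0 0 := by
            rw [u_mul_w, add_zero, neg_h]
          rw [e, map_mul, show k * (f (u (h m) (h m)) * f (w 0 0)) * k⁻¹ =
            k * f (u (h m) (h m)) * k⁻¹ * (k * f (w 0 0) * k⁻¹) by group, hc0, hkv, ← map_mul]
          exact Subgroup.mem_map_of_mem f (mul_mem (u_mem_four0.2 ⟨two_mul_h, two_mul_h⟩)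
            (u_mem_four0.2 ⟨two_mul_h, mul_zero _⟩))
    · rw [natCard_map_conj, Subgroup.card_map_of_injective hf, Subgroup.card_map_of_injective hf,
        (isKleinFour_four0 (m := m)).card_four, (isKleinFour_fourW (m := m) 0).card_four]
  set N := Subgroup.centralizer (centG f : Set G) ⊓ Subgroup.normalizer (E0 : Set G) with hN
  have hSN : (S : Subgroup G) ≤ N := by
    refine le_inf (sylow_le_centralizer_centG hS) ?_
    rw [← hS]
    rintro _ ⟨v, rfl⟩
    refine (mem_normalizer_map_iff hf).2 ?_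
    rw [Subgroup.normalizer_eq_top_iff.2 normal_four0]; trivial
  have hVN : (levG f).map (MulAut.conj k).toMonoidHom ≤ N := by
    rintro _ ⟨_, ⟨v, hv, rfl⟩, rfl⟩
    refine ⟨(Subgroup.centralizer (centG f : Set G)).mul_mem ((Subgroup.centralizer (centG f : Set G)).mul_mem hk
      (sylow_le_centralizer_centG hS (hS ▸ ⟨v, rfl⟩))) ((Subgroup.centralizer (centG f : Set G)).inv_mem hk), ?_⟩
    refine map_conj_eq_iff_mem_normalizer.1 ?_
    show E0.map (MulAut.conj (k * f v * k⁻¹)).toMonoidHom = E0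
    rw [← hkE, ← map_conj_mul, show k * f v * k⁻¹ * k = k * f v by group, map_conj_mul]
    congr 1
    rw [hE1, map_conj_map_hom, lev_one_normalizes_fourW hv (by ring)]
  obtain ⟨k', hk', hk'S⟩ := exists_conj_le_of_maximal hSN S.2
    (fun P _ hP hle => Nat.card_mono (Set.toFinite _)
      (show (P : Set G) ⊆ ((S : Subgroup G) : Set G) from (S.3 hP hle).le)) hVN
    ((isPGroup_mapG f _).map _)
  set x := k' * k with hx
  rw [← map_conj_mul, ← hx] at hk'S
  have hxE : E1.map (MulAut.conj x).toMonoidHom = E0 := by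
    rw [hx, map_conj_mul, hkE, map_conj_eq_iff_mem_normalizer.2 hk'.2]
  obtain ⟨c, hc⟩ := exists_eq_map_lev hf hS hk'S
  have hn1 : f (u (q m) 0) ∈ Subgroup.normalizer (levG f : Set G) :=
    lev_two_le_normalizer hS hf (Subgroup.mem_map_of_mem f (rot_q_mem_lev 0))
  have hn2 : x⁻¹ * f (u (q m) 0) * x ∈ Subgroup.normalizer (levG f : Set G) := by
    have hn : f (u (q m) 0) ∈
        Subgroup.normalizer (((lev 1 (2 * c)).map f : Subgroup G) : Set G) :=
      (mem_normalizer_map_iff hf).2 (by rw [normalizer_lev]; exact rot_q_mem_lev _)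
    rw [← map_conj_eq_iff_mem_normalizer, map_conj_mul, map_conj_mul, hc,
      map_conj_eq_iff_mem_normalizer.2 hn, ← hc, ← map_conj_mul, inv_mul_cancel, map_conj_one]
  rw [Subgroup.relIndex, ← threeKer_levG hf hS]
  refine three_index_eq_six (natCard_fourPts hf) (g₁ := ⟨_, hn1⟩) (g₂ := ⟨_, hn2⟩)
    (x := fpt f hf _ fourW_zero_le (isKleinFour_fourW 0))
    (y := fpt f hf _ (four0_le_lev 0) isKleinFour_four0) ?_ ?_ ?_
  · intro e
    have e' : E1.map (MulAut.conj (f (u (q m) 0))).toMonoidHom = E1 := congrArg Subtype.val e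
    rw [hE1, map_conj_map_hom] at e'
    exact rot_q_moves_fourW 0 (Subgroup.map_injective hf e')
  · refine Subtype.ext ?_
    show E1.map (MulAut.conj (x⁻¹ * f (u (q m) 0) * x)).toMonoidHom = E1
    have hq4 : (four0 m).map (MulAut.conj (u (q m) 0)).toMonoidHom = four0 m :=
      map_conj_eq_iff_mem_normalizer.2 (by
        rw [Subgroup.normalizer_eq_top_iff.2 normal_four0]; trivial)
    rw [map_conj_mul, map_conj_mul, hxE, hE0, map_conj_map_hom, hq4, ← hE0, ← hxE,
      ← map_conj_mul, inv_mul_cancel, map_conj_one]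
  · intro e
    have e' : E0.map (MulAut.conj (x⁻¹ * f (u (q m) 0) * x)).toMonoidHom = E0 :=
      congrArg Subtype.val e
    set T := E0.map (MulAut.conj x).toMonoidHom with hT
    have hTfix : T.map (MulAut.conj (f (u (q m) 0))).toMonoidHom = T := by
      rw [map_conj_mul, map_conj_mul] at e'
      have := congrArg (Subgroup.map (MulAut.conj x).toMonoidHom) e'
      rwa [← map_conj_mul, mul_inv_cancel, map_conj_one] at this
    have hTle : T ≤ (lev 1 (2 * c)).map f :=
      (Subgroup.map_mono (Subgroup.map_mono (four0_le_lev 0))).trans hc.le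
    obtain ⟨B, hB, ⟨eB⟩⟩ := exists_map_eq_of_le_range hf (hTle.trans (Subgroup.map_le_range f _))
    have hBK : IsKleinFour B := isKleinFour_of_mulEquiv
      (eB.trans ((four0 m).equivMapOfInjective f hf |>.trans
        (E0.equivMapOfInjective _ (MulAut.conj x).injective)).symm) isKleinFour_four0
    rcases four_cases hBK with rfl | ⟨a, rfl⟩
    · have : E0 = E1 := Subgroup.map_injective (f := (MulAut.conj x).toMonoidHom)
        (MulAut.conj x).injective (by rw [hxE]; exact hB.symm)
      exact four0_ne_fourW 0 (Subgroup.map_injective hf this).symm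
    · rw [← hB, map_conj_map_hom] at hTfix
      exact rot_q_moves_fourW a (Subgroup.map_injective hf hTfix)

include hf hS in
theorem exists_odd_levG
    (h3 : 3 ∣ (levG f ⊔ Subgroup.centralizer (levG f : Set G)).relIndex
      (Subgroup.normalizer (levG f : Set G))) :
    ∃ g ∈ Subgroup.normalizer (levG f : Set G), Odd (orderOf g) ∧
      (∃ k : ℕ, ((four0 m).map f).map (MulAut.conj (g ^ k)).toMonoidHom = (fourW 0).map f) ∧
      ∃ k : ℕ, ((four0 m).map f).map (MulAut.conj (g ^ k)).toMonoidHom = (fourW (q m)).map f := by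
  rw [Subgroup.relIndex, ← threeKer_levG hf hS] at h3
  obtain ⟨g, hg, p, hp⟩ := three_exists_odd_mover h3
  have hc := natCard_fourPts (f := f) hf
  have key : ∀ T (hT : T ≤ lev 1 (0 : ZMod (2 ^ (m + 2)))) (hK : IsKleinFour T),
      ∃ k : ℕ, ((four0 m).map f).map (MulAut.conj ((g : G) ^ k)).toMonoidHom = T.map f := by
    intro T hT hK
    obtain ⟨k, hk⟩ := three_odd_transitive hc hg
      (fun e => hp (three_odd_fix_all hc hg e p) :
        g • fpt f hf _ (four0_le_lev 0) isKleinFour_four0 ≠ fpt f hf _ (four0_le_lev 0) isKleinFour_four0)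
      (fpt f hf T hT hK)
    have h1 : ((four0 m).map f).map (MulAut.conj ((g ^ k : Subgroup.normalizer (levG f : Set G)) : G)).toMonoidHom
        = T.map f := congrArg Subtype.val hk
    rw [SubgroupClass.coe_pow] at h1
    exact ⟨k, h1⟩
  exact ⟨g, g.2, by rwa [Subgroup.orderOf_coe], key _ fourW_zero_le (isKleinFour_fourW 0),
    key _ fourW_q_le (isKleinFour_fourW _)⟩

include hf hS in
theorem outerFused_of_three_dvd
    (h3 : 3 ∣ (levG f ⊔ Subgroup.centralizer (levG f : Set G)).relIndex
      (Subgroup.normalizer (levG f : Set G))) : OuterFused f := by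
  obtain ⟨g, hg, -, ⟨k, hk⟩, -⟩ := exists_odd_levG hf hS h3
  obtain ⟨t, ht, -, ht2, he⟩ := four_involution_cases hf hS (pow_mem hg k) hk
    (t := u (h m) 0) (u_mem_four0.2 ⟨two_mul_h, mul_zero _⟩) (fun e => h_ne (u_inj.1 e).1)
    (fun e => h_ne (u_inj.1 e).2.symm)
  have hconj : IsConj (f (u (h m) 0)) (f t) := isConj_iff.2 ⟨g ^ k, he.symm⟩
  induction t using cases' with
  | hu x y =>
    obtain ⟨h2, rfl⟩ := u_mem_fourW.1 ht
    rcases two_mul_eq_zero (by omega) h2 with rfl | rfl
    · rw [← one_def, map_one, eq_comm, conj_eq_one_iff, ← map_one f] at he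
      exact absurd (u_inj.1 ((hf he).trans one_def)).1 h_ne
    · exact absurd rfl ht2
  | hw x y =>
    obtain ⟨h2, rfl⟩ := w_mem_fourW.1 ht
    exact (isConj_w_of_sum f (by ring)).trans hconj.symm

include hf hS in
theorem levG_two_or_six :
    ((levG f ⊔ Subgroup.centralizer (levG f : Set G)).relIndex
        (Subgroup.normalizer (levG f : Set G)) = 2 ∧ ¬ OuterFused f) ∨
    ((levG f ⊔ Subgroup.centralizer (levG f : Set G)).relIndex
        (Subgroup.normalizer (levG f : Set G)) = 6 ∧ OuterFused f) := by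
  by_cases h2 : OuterFused f
  · exact Or.inr ⟨relIndex_levG_six hf hS h2, h2⟩
  refine Or.inl ⟨?_, h2⟩
  have h6 : (levG f ⊔ Subgroup.centralizer (levG f : Set G)).relIndex
      (Subgroup.normalizer (levG f : Set G)) ∣ 6 := by
    rw [Subgroup.relIndex, ← threeKer_levG hf hS]
    exact three_index_dvd_six (natCard_fourPts hf)
  have hn1 : f (u (q m) 0) ∈ Subgroup.normalizer (levG f : Set G) :=
    lev_two_le_normalizer hS hf (Subgroup.mem_map_of_mem f (rot_q_mem_lev 0))
  have hne : (levG f ⊔ Subgroup.centralizer (levG f : Set G)).relIndex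
      (Subgroup.normalizer (levG f : Set G)) ≠ 1 := by
    intro e
    have hmem : (⟨_, hn1⟩ : Subgroup.normalizer (levG f : Set G)) ∈
        threeKer (Subgroup.normalizer (levG f : Set G)) (FourPts (levG f)) := by
      rw [threeKer_levG hf hS]
      exact Subgroup.mem_subgroupOf.2 (Subgroup.relIndex_eq_one.1 e hn1)
    have e' : ((fourW 0).map f).map (MulAut.conj (f (u (q m) 0))).toMonoidHom = (fourW 0).map f :=
      congrArg Subtype.val (mem_threeKer.1 hmem (fpt f hf _ fourW_zero_le (isKleinFour_fourW 0)))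
    rw [map_conj_map_hom] at e'
    exact rot_q_moves_fourW 0 (Subgroup.map_injective hf e')
  have h3 : ¬ 3 ∣ (levG f ⊔ Subgroup.centralizer (levG f : Set G)).relIndex
      (Subgroup.normalizer (levG f : Set G)) := fun e => h2 (outerFused_of_three_dvd hf hS e)
  have hle := Nat.le_of_dvd (by norm_num) h6
  interval_cases hd : (levG f ⊔ Subgroup.centralizer (levG f : Set G)).relIndex
    (Subgroup.normalizer (levG f : Set G)) <;> omega

/-! ### Invariants -/

include hf hS in
theorem ebit_invariant (h2 : ¬ OuterFused f) {x y : WreathTwo m} (hxy : IsConj (f x) (f y)) :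
    ebit m x = ebit m y := by
  have key : ∀ a b c d, ¬ IsConj (f (u a b)) (f (w c d)) := fun a b c d e => by
    obtain ⟨k, -, hk⟩ := outer_of_conj hf hS e
    exact h2 (isConj_iff.2 ⟨k, hk⟩)
  induction x using cases' with
  | hu a b => induction y using cases' with
    | hu c d => rw [ebit_u, ebit_u]
    | hw c d => exact absurd hxy (key a b c d)
  | hw a b => induction y using cases' with
    | hu c d => exact absurd hxy.symm (key c d a b)
    | hw c d => rw [ebit_w, ebit_w]

include hf hS in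
theorem phi_invariant (h1 : ¬ BaseFused f) {x y : WreathTwo m} (hxy : IsConj (f x) (f y)) :
    phi m x = phi m y := by
  have hcz : ∀ v c, IsConj (f v) (f (u c c)) → v = u c c := fun v c hv => conj_center_eq hf hS h1 hv
  have sq : ∀ a b (v : WreathTwo m), IsConj (f (w a b)) (f v) → v * v = u (a + b) (a + b) := by
    intro a b v hv
    refine hcz _ _ ?_
    obtain ⟨g, hg⟩ := isConj_iff.1 hv.symm
    refine isConj_iff.2 ⟨g, ?_⟩
    rw [map_mul, show g * (f v * f v) * g⁻¹ = g * f v * g⁻¹ * (g * f v * g⁻¹) by group, hg,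
      ← map_mul, w_sq]
  have hwu : ∀ a b c d, IsConj (f (w a b)) (f (u c d)) → phi m (w a b) = phi m (u c d) := by
    intro a b c d hv
    have h3 := sq a b _ hv
    rw [u_mul_u, u_inj] at h3
    rw [phi_w, phi_u]
    congr 1
    rcases two_mul_eq_zero (show 1 ≤ m + 2 by omega) (a := d - c)
      (by linear_combination h3.2 - h3.1) with e | e
    · obtain rfl : d = c := sub_eq_zero.1 e
      exact absurd (hcz _ _ hv) (u_ne_w _ _ _ _).symm
    · linear_combination -h3.1 - e
  induction x using cases' with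
  | hw a b => induction y using cases' with
    | hu c d => exact hwu a b c d hxy
    | hw c d =>
      have h3 := sq a b _ hxy
      rw [w_sq, u_inj] at h3
      rw [phi_w, phi_w, h3.1]
  | hu a b => induction y using cases' with
    | hw c d => exact (hwu c d a b hxy.symm).symm
    | hu c d =>
      by_cases hab : a = b
      · subst hab; rw [hcz _ _ hxy.symm]
      by_cases hcd : c = d
      · subst hcd; rw [hcz _ _ hxy]
      obtain ⟨g, hg⟩ := isConj_iff.1 hxy
      have hno : ∀ z, ¬ IsConj (f (u c d)) (f (u z z)) := fun z h' => by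
        obtain ⟨rfl, rfl⟩ := u_inj.1 (hcz _ _ h')
        exact hcd rfl
      have hA : (baseG f).map (MulAut.conj g).toMonoidHom ≤ Subgroup.centralizer {f (u c d)} := by
        rintro _ ⟨v, hv, rfl⟩
        rw [Subgroup.mem_centralizer_singleton_iff, ← hg]
        show g * v * g⁻¹ * (g * f (u a b) * g⁻¹) = g * f (u a b) * g⁻¹ * (g * v * g⁻¹)
        rw [show g * v * g⁻¹ * (g * f (u a b) * g⁻¹) = g * (v * f (u a b)) * g⁻¹ by group,
          Subgroup.mem_centralizer_singleton_iff.1 (baseG_le_centralizer f a b hv)]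
        group
      obtain ⟨k, hk, hk'⟩ := exists_conj_le_of_maximal (baseG_le_centralizer f c d) (isPGroup_mapG f _)
        (fun P h1 h2 h3 => maximal_in_centralizer_base hf hS hno h1 h2 h3) hA
        ((isPGroup_mapG f _).map _)
      have hkg : k * g ∈ Subgroup.normalizer (baseG f : Set G) :=
        map_conj_eq_iff_mem_normalizer.1 (by
          rw [map_conj_mul]
          exact Subgroup.eq_of_le_of_card_ge hk' (by simp only [natCard_map_conj, le_refl]))
      have he : k * g * f (u a b) * (k * g)⁻¹ = f (u c d) := by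
        rw [show k * g * f (u a b) * (k * g)⁻¹ = k * (g * f (u a b) * g⁻¹) * k⁻¹ by group, hg,
          Subgroup.mem_centralizer_singleton_iff.1 hk, mul_inv_cancel_right]
      rcases normalizer_baseG_cases hf hS h1 hkg with e | e <;> rw [e] at he
      · rw [hf he]
      · rw [← hf he, phi_u, phi_u]; exact congrArg _ (add_comm a b)

end Sylow

end CfsgLib.TwoGroups.WreathTwo
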