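import Mathlib
import Cfsg.Agent.Lib.TwoGroups.WreathedFusion

/-!
Normal subgroups and classes of involutions of a group with wreathed Sylow 2-subgroup.
-/

set_option autoImplicit false

namespace CfsgLib.TwoGroups.WreathTwo

variable {G : Type*} [Group G] {m : ℕ} {f : WreathTwo m →* G}

theorem exists_model [Finite G] {S : Sylow 2 G} (hS : Cfsg.IsWreathed (S : Subgroup G)) :
    ∃ (m : ℕ) (f : WreathTwo m →* G), Nat.card S = 2 ^ (2 * (m + 2) + 1) ∧ Function.Injective f ∧
      f.range = (S : Subgroup G) := by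
  obtain ⟨m, hcard, ⟨e⟩⟩ := of_isWreathed hS
  exact ⟨m, (S : Subgroup G).subtype.comp e.symm.toMonoidHom, hcard,
    (S : Subgroup G).subtype_injective.comp e.symm.injective, by
    rw [MonoidHom.range_comp, MonoidHom.range_eq_top.2 e.symm.surjective, ← MonoidHom.range_eq_map,
      Subgroup.range_subtype]⟩

/-- Translating the model by `u c 0`. -/
noncomputable def shift (f : WreathTwo m →* G) (c : ZMod (2 ^ (m + 2))) : WreathTwo m →* G :=
  f.comp (MulAut.conj (u c 0)).toMonoidHom

theorem shift_apply (f : WreathTwo m →* G) (c : ZMod (2 ^ (m + 2))) (v : WreathTwo m) :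
    shift f c v = f (u c 0 * v * (u c 0)⁻¹) := rfl

theorem shift_injective {f : WreathTwo m →* G} (hf : Function.Injective f) (c : ZMod (2 ^ (m + 2))) :
    Function.Injective (shift f c) := hf.comp (MulAut.conj (u c 0)).injective

theorem shift_range (f : WreathTwo m →* G) (c : ZMod (2 ^ (m + 2))) : (shift f c).range = f.range := by
  rw [shift, MonoidHom.range_comp, MonoidHom.range_eq_top.2 (MulAut.conj (u c 0)).surjective,
    ← MonoidHom.range_eq_map]

theorem isConj_shift (f : WreathTwo m →* G) (c : ZMod (2 ^ (m + 2))) (v : WreathTwo m) :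
    IsConj (shift f c v) (f v) :=
  (isConj_iff.2 ⟨f (u c 0), by rw [shift_apply, map_mul, map_mul, map_inv]⟩ :
    IsConj (f v) (shift f c v)).symm

section Sylow

variable [Finite G] {S : Sylow 2 G} (hf : Function.Injective f) (hS : f.range = (S : Subgroup G))

include hS in
omit [Finite G] in
theorem center_map_eq (hf : Function.Injective f) :
    (Subgroup.center (S : Subgroup G)).map (S : Subgroup G).subtype = centG f := by
  apply le_antisymm
  · rintro _ ⟨s, hs, rfl⟩
    obtain ⟨v, hv⟩ := hS.ge s.2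
    refine ⟨v, Subgroup.mem_center_iff.2 fun v' => hf ?_, hv⟩
    rw [map_mul, map_mul, hv]
    exact congrArg Subtype.val (Subgroup.mem_center_iff.1 hs ⟨f v', hS ▸ ⟨v', rfl⟩⟩)
  · rintro _ ⟨v, hv, rfl⟩
    refine ⟨⟨f v, hS ▸ ⟨v, rfl⟩⟩, Subgroup.mem_center_iff.2 fun s => Subtype.ext ?_, rfl⟩
    obtain ⟨v', hv'⟩ := hS.ge s.2
    show (s : G) * f v = f v * (s : G)
    rw [← hv', ← map_mul, ← map_mul, Subgroup.mem_center_iff.1 hv]

omit [Finite G] S hS hf in
theorem exists_adapted [Finite G] {S : Sylow 2 G} (hS : Cfsg.IsWreathed (S : Subgroup G)) {n : ℕ}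
    (hn : Nat.card S = 2 ^ (2 * n + 1)) {U : Subgroup G} (hUS : U ≤ (S : Subgroup G))
    (hUab : IsMulCommutative U) (hUcard : Nat.card U = 2 ^ (2 * n))
    {Q : Subgroup G} (hQS : Q ≤ (S : Subgroup G)) (eQ : Q ≃* QuaternionGroup 2) :
    ∃ (m : ℕ) (f : WreathTwo m →* G), n = m + 2 ∧ Function.Injective f ∧
      f.range = (S : Subgroup G) ∧ U = baseG f ∧
      Q ⊔ (Subgroup.center (S : Subgroup G)).map (S : Subgroup G).subtype = levG f := by
  obtain ⟨m, f, hcard, hf, hr⟩ := exists_model hS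
  have hnm : n = m + 2 := by
    have := Nat.pow_right_injective le_rfl (hn.symm.trans hcard)
    omega
  subst hnm
  obtain ⟨B, hB, ⟨eB⟩⟩ := exists_map_eq_of_le_range hf (hr.symm ▸ hUS : U ≤ f.range)
  have hBab : IsMulCommutative B :=
    ⟨⟨fun p r => eB.injective (by rw [map_mul, map_mul]; exact hUab.1.1 _ _)⟩⟩
  obtain rfl := eq_base_of_abelian hBab (by rw [Nat.card_congr eB.toEquiv, hUcard])
  obtain ⟨B', hB', ⟨eB'⟩⟩ := exists_map_eq_of_le_range hf (hr.symm ▸ hQS : Q ≤ f.range)
  obtain ⟨c, rfl⟩ := eq_qsub_of_quaternion (eB'.trans eQ)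
  refine ⟨m, shift f c, rfl, shift_injective hf c, by rw [shift_range, hr], ?_, ?_⟩
  · show U = (base m).map (shift f c)
    rw [shift, ← Subgroup.map_map, map_conj_eq_iff_mem_normalizer.2, hB]
    rw [Subgroup.normalizer_eq_top_iff.2 (Subgroup.normal_of_index_eq_two index_base)]
    trivial
  · show _ = (lev 1 0).map (shift f c)
    rw [shift, ← Subgroup.map_map, conj_lev, zero_add, lev_eq_qsub_sup, Subgroup.map_sup, hB',
      center_map_eq hr hf]

include hf hS in
theorem involution_cases {z : G} (hz : orderOf z = 2) :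
    IsConj z (f (u (h m) (h m))) ∨ IsConj z (f (u (h m) 0)) ∨ IsConj z (f (w 0 0)) := by
  obtain ⟨x, hx⟩ := exists_conj_le_sylow S (P := Subgroup.zpowers z)
    (IsPGroup.of_card (n := 1) (by rw [Nat.card_zpowers, hz, pow_one]))
  obtain ⟨i, hi⟩ := (hS ▸ hx) (conj_mem_map_conj (Subgroup.mem_zpowers z))
  have ho : orderOf i = 2 := by
    rw [← orderOf_injective f hf i, hi, show x * z * x⁻¹ = MulAut.conj x z from rfl,
      MulEquiv.orderOf_eq, hz]
  have hc : IsConj z (f i) := isConj_iff.2 ⟨x, hi.symm⟩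
  rcases (orderOf_eq_two_iff i).1 ho with rfl | rfl | rfl | ⟨a, rfl⟩
  · exact Or.inl hc
  · exact Or.inr (Or.inl hc)
  · exact Or.inr (Or.inl (hc.trans (isConj_t2 f)))
  · exact Or.inr (Or.inr (hc.trans (isConj_w_of_sum f (by ring))))

include hf in
omit [Finite G] S hS in
theorem orderOf_c0 : orderOf (f (u (h m) (h m))) = 2 := by
  rw [orderOf_injective f hf]; exact (orderOf_eq_two_iff _).2 (Or.inl rfl)

include hf in
omit [Finite G] S hS in
theorem orderOf_t1 : orderOf (f (u (h m) 0)) = 2 := by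
  rw [orderOf_injective f hf]; exact (orderOf_eq_two_iff _).2 (Or.inr (Or.inl rfl))

include hf in
omit [Finite G] S hS in
theorem orderOf_v : orderOf (f (w 0 0)) = 2 := by
  rw [orderOf_injective f hf]
  exact (orderOf_eq_two_iff _).2 (Or.inr (Or.inr (Or.inr ⟨0, by rw [neg_zero]⟩)))

include hf hS in
theorem not_conj_c0_v (h2 : ¬ OuterFused f) : ¬ IsConj (f (u (h m) (h m))) (f (w 0 0)) := fun e => by
  have := ebit_invariant hf hS h2 e
  rw [ebit_u] at this
  exact ebit_w_ne_one 0 0 this.symm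

include hf hS in
theorem classes_one (h1 : BaseFused f) (h2 : OuterFused f) :
    Nat.card {C : ConjClasses G // ∃ t : G, orderOf t = 2 ∧ ConjClasses.mk t = C} = 1 :=
  natCard_conjClasses_orderOf_eq_one (orderOf_c0 hf) fun t ht => by
    rcases involution_cases hf hS ht with e | e | e
    exacts [e, e.trans h1, (e.trans h2).trans h1]

include hf hS in
theorem classes_quat (h1 : ¬ BaseFused f) (h2 : OuterFused f) :
    Nat.card {C : ConjClasses G // ∃ t : G, orderOf t = 2 ∧ ConjClasses.mk t = C} = 2 :=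
  natCard_conjClasses_orderOf_eq_two (orderOf_c0 hf) (orderOf_t1 hf) (fun e => h1 e.symm) fun t ht => by
    rcases involution_cases hf hS ht with e | e | e
    exacts [Or.inl e, Or.inr e, Or.inr (e.trans h2)]

include hf hS in
theorem classes_abelian (h1 : BaseFused f) (h2 : ¬ OuterFused f) :
    Nat.card {C : ConjClasses G // ∃ t : G, orderOf t = 2 ∧ ConjClasses.mk t = C} = 2 :=
  natCard_conjClasses_orderOf_eq_two (orderOf_c0 hf) (orderOf_v hf) (not_conj_c0_v hf hS h2) fun t ht => by
    rcases involution_cases hf hS ht with e | e | e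
    exacts [Or.inl e, Or.inl (e.trans h1), Or.inr e]

include hf hS in
theorem classes_three (h1 : ¬ BaseFused f) (h2 : ¬ OuterFused f) :
    Nat.card {C : ConjClasses G // ∃ t : G, orderOf t = 2 ∧ ConjClasses.mk t = C} = 3 :=
  natCard_conjClasses_orderOf_eq_three (orderOf_c0 hf) (orderOf_t1 hf) (orderOf_v hf)
    (fun e => h1 e.symm) (not_conj_c0_v hf hS h2) (fun e => h2 e.symm)
    fun _ ht => involution_cases hf hS ht

include hf hS in
theorem complement_of_unfused (h1 : ¬ BaseFused f) (h2 : ¬ OuterFused f) :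
    Cfsg.HasNormalPComplement 2 G :=
  complement_of_model hf hS
    (A := Multiplicative (ZMod (2 ^ (m + 2))) × Multiplicative (ZMod 2))
    (IsPGroup.of_card (n := m + 2 + 1) (by simp [Nat.card_prod, pow_succ]))
    ((phi m).prod (ebit m)) prod_surjective isCyclic_prod_ker
    (fun u v huv => Prod.ext (phi_invariant hf hS h1 huv) (ebit_invariant hf hS h2 huv))

include hf hS in
theorem baseG_le_of_relIndex_two {K H : Subgroup G} (hodd : ∀ g : G, Odd (orderOf g) → g ∈ K)
    (hH : H.relIndex K = 2) (hU : baseG f ≤ K) (h1 : BaseFused f) : baseG f ≤ H := by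
  have h3 : 3 ∣ (Subgroup.centralizer (baseG f : Set G)).relIndex
      (Subgroup.normalizer (baseG f : Set G)) := by
    rw [relIndex_baseG_six hf hS h1]; norm_num
  rw [Subgroup.relIndex, ← threeKer_baseG hf hS] at h3
  obtain ⟨g, hg, p, hp⟩ := three_exists_odd_mover h3
  have hc := natCard_invPts (f := f) hf
  have hmove : ∀ t : InvPts (baseG f), g • t ≠ t := fun t e => hp (three_odd_fix_all hc hg e p)
  have hcube : g ^ 3 ∈ threeKer (Subgroup.normalizer (baseG f : Set G)) (InvPts (baseG f)) := by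
    refine mem_threeKer.2 fun t => ?_
    have a1 := hmove t
    have a2 : g • (g • t) ≠ g • t := hmove _
    have a3 : g • (g • t) ≠ t := by
      intro e
      apply hp
      obtain ⟨k, hk⟩ := hg
      have e2 : (g * g) ^ (k + 1) = g := by
        rw [← pow_two, ← pow_mul, show 2 * (k + 1) = orderOf g + 1 by omega, pow_succ,
          pow_orderOf_eq_one, one_mul]
      exact absurd (by rw [← e2]; exact three_pow_fix (by rw [mul_smul]; exact e) _) (hmove t)
    have e3 : g ^ 3 • t = g • (g • (g • t)) := by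
      rw [pow_succ, pow_two, mul_smul, mul_smul]
    rw [e3]
    rcases three_eq_of_ne hc (Ne.symm a1) (Ne.symm a3) (Ne.symm a2) (w := g • (g • (g • t)))
      with e | e | e
    · exact e
    · exact absurd (smul_left_cancel g e) a3
    · exact absurd e (hmove _)
  have hcent := Subgroup.mem_centralizer_iff.1
    (Subgroup.mem_subgroupOf.1 ((threeKer_baseG hf hS).le hcube))
  have hgK : (g : G) ∈ K := hodd _ (by rwa [Subgroup.orderOf_coe])
  have hconj : ∀ x ∈ baseG f, (g : G) * x * (g : G)⁻¹ ∈ baseG f := fun x hx =>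
    (Subgroup.mem_normalizer_iff.1 g.2 x).1 hx
  have hcomm : ∀ a ∈ baseG f, ∀ b ∈ baseG f, a * b = b * a := by
    rintro _ ⟨a, ha, rfl⟩ _ ⟨b, hb, rfl⟩
    rw [← map_mul, ← map_mul, base_commute ha hb]
  intro x hx
  have hy := hconj x hx
  set y := (g : G) * x * (g : G)⁻¹ with hydef
  have hz := hconj y hy
  set z := (g : G) * y * (g : G)⁻¹ with hzdef
  have hgz : (g : G) * z * (g : G)⁻¹ = x := by
    have := hcent x hx
    rw [hzdef, hydef, show (g : G) * (g * (g * x * (g : G)⁻¹) * (g : G)⁻¹) * (g : G)⁻¹ =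
      ((g : G) ^ 3) * x * ((g : G) ^ 3)⁻¹ by rw [pow_succ, pow_two]; group]
    rw [SubgroupClass.coe_pow] at this
    rw [← this, mul_inv_cancel_right]
  have hP : x * y * z = 1 := by
    have hfix : (g : G) * (x * y * z) * (g : G)⁻¹ = x * y * z := by
      rw [show (g : G) * (x * y * z) * (g : G)⁻¹ =
        (g : G) * x * (g : G)⁻¹ * ((g : G) * y * (g : G)⁻¹) * ((g : G) * z * (g : G)⁻¹) by group,
        ← hydef, ← hzdef, hgz, hcomm _ (mul_mem hy hz) _ hx, ← mul_assoc]
    by_contra hne
    have hxyz : x * y * z ∈ baseG f := mul_mem (mul_mem hx hy) hz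
    obtain ⟨k, hk⟩ := (isPGroup_mapG f (base m)) ⟨_, hxyz⟩
    have hk' : (x * y * z) ^ 2 ^ k = 1 := congrArg Subtype.val hk
    obtain ⟨j, -, hj⟩ := (Nat.dvd_prime_pow Nat.prime_two).1 (orderOf_dvd_of_pow_eq_one hk')
    obtain ⟨i, rfl⟩ : ∃ i, j = i + 1 := by
      rcases j with _ | i
      · rw [pow_zero] at hj; exact absurd (orderOf_eq_one_iff.1 hj) hne
      · exact ⟨i, rfl⟩
    have ho : orderOf ((x * y * z) ^ 2 ^ i) = 2 := by
      rw [orderOf_pow_of_dvd (by positivity) (hj ▸ pow_dvd_pow 2 (Nat.le_succ i)), hj, pow_succ,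
        Nat.mul_div_cancel_left _ (by positivity)]
    refine hmove ⟨(x * y * z) ^ 2 ^ i, pow_mem hxyz _, fun e => ?_, ?_⟩ (Subtype.ext ?_)
    · rw [e, orderOf_one] at ho; omega
    · rw [← pow_two]; have h' := pow_orderOf_eq_one ((x * y * z) ^ 2 ^ i); rwa [ho] at h'
    · show (g : G) * (x * y * z) ^ 2 ^ i * (g : G)⁻¹ = _
      rw [← conj_pow, hfix]
  have e1 : y ∈ H ↔ x ∈ H := conj_mem_iff_of_relIndex_two hH hgK (hU hx)
  have e2 : z ∈ H ↔ y ∈ H := conj_mem_iff_of_relIndex_two hH hgK (hU hy)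
  have e3 := mul_mem_iff_of_relIndex_two hH (K.mul_mem (hU hx) (hU hy)) (hU hz)
  have e4 := mul_mem_iff_of_relIndex_two hH (hU hx) (hU hy)
  rw [hP] at e3
  have := H.one_mem
  tauto

include hf hS in
theorem index_ne_two_of_fused (h1 : BaseFused f) (h2 : OuterFused f) (H : Subgroup G) :
    H.index ≠ 2 := by
  rw [← Subgroup.relIndex_top_right]
  intro hH
  have hU : baseG f ≤ H := baseG_le_of_relIndex_two hf hS (K := ⊤) (fun _ _ => Subgroup.mem_top _) hH le_top h1
  obtain ⟨g, hg⟩ := isConj_iff.1 h2.symm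
  have hv : f (w 0 0) ∈ H := by
    rw [← hg, conj_mem_iff_of_relIndex_two hH (Subgroup.mem_top _) (Subgroup.mem_top _)]
    exact hU (Subgroup.mem_map_of_mem f (u_mem_base _ _))
  refine relIndex_ne_two_of_model hf hS (K := ⊤) (H := H) (fun v _ => ?_) hH
  induction v using cases' with
  | hu a b => exact hU (Subgroup.mem_map_of_mem f (u_mem_base a b))
  | hw a b =>
    have := H.mul_mem (hU (Subgroup.mem_map_of_mem f (u_mem_base a b))) hv
    rwa [← map_mul, u_mul_w, add_zero, add_zero] at this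

include hf hS in
theorem exists_abelian_normal (h1 : BaseFused f) (h2 : ¬ OuterFused f) :
    ∃ K : Subgroup G, K.Normal ∧ K.index = 2 ∧ baseG f ≤ K ∧ ∀ H : Subgroup K, H.index ≠ 2 := by
  obtain ⟨K, hKn, hKi, hKm, -, hKodd⟩ := exists_normal_of_model hf hS
    (A := Multiplicative (ZMod 2)) (IsPGroup.of_card (n := 1) (by simp)) (ebit m)
    (fun v => by
      obtain ⟨v, rfl⟩ := Multiplicative.ofAdd.surjective v
      have hv : v = 0 ∨ v = 1 := by revert v; decide
      rcases hv with rfl | rfl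
      · exact ⟨1, map_one _⟩
      · exact ⟨w 0 0, ebit_w 0 0⟩)
    (fun _ _ huv => ebit_invariant hf hS h2 huv)
  have hUK : baseG f ≤ K := by
    rintro _ ⟨v, hv, rfl⟩
    exact (hKm v).2 (MonoidHom.mem_ker.1 (by rw [ebit_ker]; exact hv))
  refine ⟨K, hKn, by rw [hKi]; simp, hUK, fun H hH => ?_⟩
  have hrel : (H.map K.subtype).relIndex K = 2 := by
    rw [Subgroup.relIndex, Subgroup.subgroupOf,
      Subgroup.comap_map_eq_self_of_injective K.subtype_injective, hH]
  refine relIndex_ne_two_of_model hf hS (fun v hv => ?_) hrel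
  exact baseG_le_of_relIndex_two hf hS hKodd hrel hUK h1
    (Subgroup.mem_map_of_mem f (by rw [← ebit_ker]; exact MonoidHom.mem_ker.2 ((hKm v).1 hv)))

include hf hS in
theorem quat_pair_mem {K H : Subgroup G} (hodd : ∀ g : G, Odd (orderOf g) → g ∈ K)
    (hH : H.relIndex K = 2) (h2 : OuterFused f) (hi : f (u (q m) (-q m)) ∈ K)
    (hj : f (w (q m) (q m)) ∈ K) : f (w (q m) (q m)) ∈ H := by
  have h3 : 3 ∣ (levG f ⊔ Subgroup.centralizer (levG f : Set G)).relIndex
      (Subgroup.normalizer (levG f : Set G)) := by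
    rw [relIndex_levG_six hf hS h2]; norm_num
  obtain ⟨g, hgN, hg, ⟨k, hk⟩, ⟨l, hl⟩⟩ := exists_odd_levG hf hS h3
  have hgK : ∀ k : ℕ, g ^ k ∈ K := fun k => K.pow_mem (hodd g hg) k
  set zeta := f (u (q m) (q m)) with hzeta
  -- the image of `u q q` is `u q q` or its inverse
  have hz : ∀ {k : G}, k ∈ Subgroup.normalizer (levG f : Set G) →
      k * zeta * k⁻¹ = zeta ∨ k * zeta * k⁻¹ = zeta⁻¹ := by
    intro k hk
    obtain ⟨z, hzc, he⟩ := conj_centG_of_mem_normalizer_levG hf hS hk (diag_mem_center (q m))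
    obtain ⟨c, rfl⟩ := center_eq_diag hzc
    have e2 : u c c * u c c = u (h m) (h m) := hf (by
      rw [map_mul, he, show k * zeta * k⁻¹ * (k * zeta * k⁻¹) = k * (zeta * zeta) * k⁻¹ by group,
        hzeta, ← map_mul, u_mul_u, q_add_q, conj_c0_of_mem_normalizer_levG hf hS hk])
    rw [u_mul_u, u_inj, ← two_mul] at e2
    rcases two_mul_eq_half (show 2 ≤ m + 2 by omega) e2.1 with e | e
    · subst e; exact Or.inl he.symm
    · subst e
      refine Or.inr ?_
      rw [hzeta, ← map_inv, u_inv]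
      exact he.symm
  have himg : ∀ (k : G) (T : Subgroup (WreathTwo m)), k ∈ Subgroup.normalizer (levG f : Set G) →
      ((four0 m).map f).map (MulAut.conj k).toMonoidHom = T.map f →
      ∃ t ∈ T, t ≠ 1 ∧ t ≠ u (h m) (h m) ∧
        (k * f (u (q m) (-q m)) * k⁻¹ = f (t * u (q m) (q m)) ∨
         k * f (u (q m) (-q m)) * k⁻¹ = f (t * u (-q m) (-q m))) := by
    intro k T hk hT
    obtain ⟨t, ht, ht1, ht2, he⟩ := four_involution_cases hf hS hk hT
      (t := u 0 (h m)) (u_mem_four0.2 ⟨mul_zero _, two_mul_h⟩)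
      (fun e => h_ne (u_inj.1 e).2) (fun e => h_ne (u_inj.1 e).1.symm)
    refine ⟨t, ht, ht1, ht2, ?_⟩
    have e0 : u (q m) (-q m) = u 0 (h m) * u (q m) (q m) := by
      rw [u_mul_u, zero_add]
      congr 1
      linear_combination -(two_mul_h (m := m)) + h_eq (m := m)
    rw [e0, map_mul, show k * (f (u 0 (h m)) * f (u (q m) (q m))) * k⁻¹ =
      k * f (u 0 (h m)) * k⁻¹ * (k * zeta * k⁻¹) by rw [hzeta]; group, ← he]
    rcases hz hk with e | e <;> rw [e, hzeta]
    · exact Or.inl (map_mul _ _ _).symm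
    · right; rw [← map_inv, u_inv, ← map_mul]
  have hkN : ∀ k : ℕ, g ^ k ∈ Subgroup.normalizer (levG f : Set G) := fun k => pow_mem hgN k
  refine (pair_mem_of_relIndex_two hH hi hj ⟨g ^ k, hgK k, ?_⟩ ⟨g ^ l, hgK l, ?_⟩).2
  · obtain ⟨t, ht, ht1, ht2, he⟩ := himg _ _ (hkN k) hk
    induction t using cases' with
    | hu x y =>
      obtain ⟨e1, rfl⟩ := u_mem_fourW.1 ht
      rcases two_mul_eq_zero (by omega) e1 with rfl | rfl
      · exact absurd rfl ht1
      · exact absurd rfl ht2
    | hw x y =>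
      obtain ⟨e1, rfl⟩ := w_mem_fourW.1 ht
      rw [sub_zero] at e1
      rw [← map_inv, w_inv]
      rcases two_mul_eq_zero (by omega) e1 with rfl | rfl <;> rcases he with he | he <;>
        rw [he, w_mul_u]
      · exact Or.inl (congrArg f (w_inj.2 ⟨by ring, by ring⟩))
      · exact Or.inr (congrArg f (w_inj.2 ⟨by ring, by ring⟩))
      · exact Or.inr (congrArg f (w_inj.2 ⟨by linear_combination two_mul_h (m := m) - h_eq (m := m),
          by linear_combination -(h_eq (m := m))⟩))
      · exact Or.inl (congrArg f (w_inj.2 ⟨by linear_combination h_eq (m := m),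
          by linear_combination h_eq (m := m) - two_mul_h (m := m)⟩))
  · obtain ⟨t, ht, ht1, ht2, he⟩ := himg _ _ (hkN l) hl
    have eij : f (u (q m) (-q m)) * f (w (q m) (q m)) = f (w (h m) 0) := by
      rw [← map_mul, u_mul_w, q_add_q, neg_add_cancel]
    rw [eij, ← map_inv, w_inv]
    induction t using cases' with
    | hu x y =>
      obtain ⟨e1, rfl⟩ := u_mem_fourW.1 ht
      rcases two_mul_eq_zero (by omega) e1 with rfl | rfl
      · exact absurd rfl ht1
      · exact absurd rfl ht2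
    | hw x y =>
      obtain ⟨e1, rfl⟩ := w_mem_fourW.1 ht
      rcases two_mul_eq_zero (by omega) e1 with e | e <;> rcases he with he | he <;>
        rw [he, w_mul_u]
      · exact Or.inl (congrArg f (w_inj.2 ⟨by linear_combination e - h_eq (m := m),
          by linear_combination -e⟩))
      · exact Or.inr (congrArg f (w_inj.2 ⟨by linear_combination e,
          by linear_combination -e + h_eq (m := m)⟩))
      · exact Or.inr (congrArg f (w_inj.2 ⟨by linear_combination e + two_mul_h (m := m) - h_eq (m := m),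
          by linear_combination -e⟩))
      · exact Or.inl (congrArg f (w_inj.2 ⟨by linear_combination e,
          by linear_combination -e - two_mul_h (m := m) + h_eq (m := m)⟩))

include hf hS in
theorem exists_quaternion_normal (h1 : ¬ BaseFused f) (h2 : OuterFused f) :
    ∃ K : Subgroup G, K.Normal ∧ K.index = 2 ^ (m + 2) ∧
      (∀ P : Sylow 2 K, ∃ k : ℕ, 1 ≤ k ∧ Nonempty ((P : Subgroup K) ≃* QuaternionGroup (2 ^ k))) ∧
      ∀ H : Subgroup K, H.index ≠ 2 := by
  obtain ⟨K, hKn, hKi, hKm, hKS, hKodd⟩ := exists_normal_of_model hf hS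
    (A := Multiplicative (ZMod (2 ^ (m + 2)))) (IsPGroup.of_card (n := m + 2) (by simp)) (phi m)
    phi_surjective (fun _ _ huv => phi_invariant hf hS h1 huv)
  refine ⟨K, hKn, by rw [hKi]; simp, fun P => ⟨m + 1, by omega, ?_⟩, fun H hH => ?_⟩
  · obtain ⟨e⟩ := hKS P
    obtain ⟨e'⟩ := quat_equiv (m := m)
    exact ⟨(e.trans (MulEquiv.subgroupCongr phi_ker)).trans e'⟩
  have hrel : (H.map K.subtype).relIndex K = 2 := by
    rw [Subgroup.relIndex, Subgroup.subgroupOf,
      Subgroup.comap_map_eq_self_of_injective K.subtype_injective, hH]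
  refine relIndex_ne_two_of_model hf hS (fun v hv => ?_) hrel
  have hw : ∀ a, f (w a (h m - a)) ∈ H.map K.subtype := by
    intro a
    set c := a - q m with hc
    have hmem : ∀ v, phi m v = 1 → shift f c v ∈ K := fun v hv => by
      rw [shift_apply, hKm, map_mul, map_mul, map_inv, mul_inv_cancel_comm, hv]
    have := quat_pair_mem (shift_injective hf c) (by rw [shift_range, hS]) hKodd hrel
      (((isConj_shift f c _).trans h2).trans (isConj_shift f c _).symm)
      (hmem _ (by rw [phi_u, add_neg_cancel]; rfl))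
      (hmem _ (by rw [phi_w, q_add_q, h_add_h]; rfl))
    rw [shift_apply, u_conj_w, show q m + (c - 0) = a by rw [hc]; ring,
      show q m - (c - 0) = h m - a by rw [hc]; linear_combination q_add_q (m := m)] at this
    exact this
  have hv' : phi m v = 1 := (hKm v).1 hv
  induction v using cases' with
  | hw a b =>
    rw [phi_w, ← ofAdd_zero, Multiplicative.ofAdd.injective.eq_iff] at hv'
    rw [show b = h m - a by linear_combination hv' - two_mul_h (m := m)]
    exact hw a
  | hu a b =>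
    rw [phi_u, ← ofAdd_zero, Multiplicative.ofAdd.injective.eq_iff] at hv'
    have := mul_mem (hw (a - h m)) (hw 0)
    rwa [← map_mul, w_mul_w, sub_zero, add_zero,
      show a - h m + h m = a by ring, show h m - (a - h m) = b by
        linear_combination two_mul_h (m := m) - hv'] at this

include hf hS in
theorem weaklyClosed_of_not_baseFused (h1 : ¬ BaseFused f) {Z : Subgroup G}
    (hZ : Z ≤ (Subgroup.center (S : Subgroup G)).map (S : Subgroup G).subtype) :
    Cfsg.IsWeaklyClosed Z (S : Subgroup G) := by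
  refine ⟨hZ.trans (Subgroup.map_subtype_le _), fun g hg => ?_⟩
  refine Subgroup.eq_of_le_of_card_ge ?_ (natCard_map_conj g Z).ge
  rintro _ ⟨z, hz, rfl⟩
  show g * z * g⁻¹ ∈ Z
  have hz' := hZ hz
  rw [center_map_eq hS hf] at hz'
  obtain ⟨v, hv, rfl⟩ := hz'
  obtain ⟨c, rfl⟩ := center_eq_diag hv
  obtain ⟨y, hy⟩ := hS.ge (hg (conj_mem_map_conj hz))
  rw [← hy]
  obtain rfl := conj_center_eq hf hS h1 (y := y) (c := c) (isConj_iff.2 ⟨g, hy.symm⟩).symm
  exact hz

include hf hS in
theorem baseFused_of_no_index_two (hG : ∀ H : Subgroup G, H.index ≠ 2) : BaseFused f := by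
  by_contra h1
  let l : Multiplicative (ZMod (2 ^ (m + 2))) →* Multiplicative (ZMod 2) :=
    AddMonoidHom.toMultiplicative
      (Dihedral.parity (show 1 ≤ m + 2 by omega)).toAddMonoidHom
  obtain ⟨K, -, hKi, -⟩ := exists_normal_of_model hf hS
    (A := Multiplicative (ZMod 2)) (IsPGroup.of_card (n := 1) (by simp)) (l.comp (phi m))
    (by
      refine Function.Surjective.comp (g := l) ?_ phi_surjective
      intro v
      obtain ⟨v, rfl⟩ := Multiplicative.ofAdd.surjective v
      obtain ⟨w, hw⟩ := ZMod.castHom_surjective (dvd_pow_self 2 (show m + 2 ≠ 0 by omega)) v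
      exact ⟨Multiplicative.ofAdd w, congrArg Multiplicative.ofAdd hw⟩)
    (fun _ _ huv => congrArg l (phi_invariant hf hS h1 huv))
  exact hG K (by rw [hKi]; simp)

include hf hS in
theorem outerFused_of_no_index_two (hG : ∀ H : Subgroup G, H.index ≠ 2) : OuterFused f := by
  by_contra h2
  obtain ⟨K, -, hKi, -⟩ := exists_normal_of_model hf hS
    (A := Multiplicative (ZMod 2)) (IsPGroup.of_card (n := 1) (by simp)) (ebit m)
    (fun v => by
      obtain ⟨v, rfl⟩ := Multiplicative.ofAdd.surjective v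
      have hv : v = 0 ∨ v = 1 := by revert v; decide
      rcases hv with rfl | rfl
      · exact ⟨1, map_one _⟩
      · exact ⟨w 0 0, ebit_w 0 0⟩)
    (fun _ _ huv => ebit_invariant hf hS h2 huv)
  exact hG K (by rw [hKi]; simp)

end Sylow

end CfsgLib.TwoGroups.WreathTwo
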