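import Cfsg.Prelude.Def_CaseTheorems
import Cfsg.Prelude.Def_LieClassical
import Cfsg.Agent.Lib.Classical.SylowGL
import Cfsg.Agent.Lib.Classical.HomocyclicSylow
import Cfsg.Agent.Lib.Classical.Unitary.Matrix

/-!
The type of a Sylow 2-subgroup of GL(2, q) and of GU(2, q), q odd.
-/

set_option autoImplicit false

namespace CfsgLib.TwoGroups.LinearSylowTwo

open Matrix

theorem isQuasiDihedral_sylow {G : Type*} [Group G] [Finite G] (P : Sylow 2 G) {n : ℕ} (hn : 3 ≤ n)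
    (hP : Nat.card P = 2 ^ (n + 1)) {x y : G} (hx : orderOf x = 2 ^ n) (hy : orderOf y = 2)
    (hxy : y * x * y⁻¹ = x ^ (2 ^ (n - 1) - 1)) : Cfsg.IsQuasiDihedral (P : Subgroup G) := by
  have hX : IsPGroup 2 (Subgroup.zpowers x) := IsPGroup.of_card (n := n) (by rw [Nat.card_zpowers, hx])
  have hY : IsPGroup 2 (Subgroup.zpowers y) :=
    IsPGroup.of_card (n := 1) (by rw [Nat.card_zpowers, hy, pow_one])
  have hN : Subgroup.zpowers y ≤ Subgroup.normalizer (Subgroup.zpowers x : Set G) := by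
    rw [Subgroup.zpowers_le, Subgroup.mem_normalizer_iff_map_conj_eq]
    refine Subgroup.eq_of_le_of_card_ge ?_ ?_
    · rw [MonoidHom.map_zpowers, Subgroup.zpowers_le]
      show y * x * y⁻¹ ∈ _
      rw [hxy]
      exact Subgroup.pow_mem _ (Subgroup.mem_zpowers x) _
    · rw [Subgroup.card_map_of_injective (MulAut.conj y).injective]
  obtain ⟨Q, hQ⟩ := (IsPGroup.to_sup_of_normal_left' hX hY hN).exists_le_sylow
  have hxQ : x ∈ (Q : Subgroup G) := hQ (Subgroup.mem_sup_left (Subgroup.mem_zpowers x))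
  have hyQ : y ∈ (Q : Subgroup G) := hQ (Subgroup.mem_sup_right (Subgroup.mem_zpowers y))
  let e := Sylow.equiv Q P
  refine ⟨n, hn, hP, e ⟨x, hxQ⟩, e ⟨y, hyQ⟩, ?_, ?_, ?_⟩
  · rw [MulEquiv.orderOf_eq, Subgroup.orderOf_mk, hx]
  · rw [MulEquiv.orderOf_eq, Subgroup.orderOf_mk, hy]
  · rw [← map_inv, ← map_mul, ← map_mul, ← map_pow]
    exact congrArg e (Subtype.ext hxy)

theorem isWreathed_sylow {G : Type*} [Group G] [Finite G] (P : Sylow 2 G) {n : ℕ} (hn : 2 ≤ n)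
    (hP : Nat.card P = 2 ^ (2 * n + 1)) {x y z : G} (hx : orderOf x = 2 ^ n) (hxy : x * y = y * x)
    (hd : Subgroup.zpowers x ⊓ Subgroup.zpowers y = ⊥) (hz : orderOf z = 2)
    (hzx : z * x * z⁻¹ = y) : Cfsg.IsWreathed (P : Subgroup G) := by
  have hy : orderOf y = 2 ^ n := by
    rw [← hzx, ← hx]
    exact MulEquiv.orderOf_eq (MulAut.conj z) x
  have hz2 : z * z = 1 := by rw [← pow_two, ← hz, pow_orderOf_eq_one]
  have hzi : z⁻¹ = z := inv_eq_of_mul_eq_one_right hz2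
  have hzy : z * y * z⁻¹ = x := by
    rw [← hzx, hzi]
    calc z * (z * x * z) * z = (z * z) * x * (z * z) := by group
      _ = x := by rw [hz2]; group
  have hX : IsPGroup 2 (Subgroup.zpowers x) := IsPGroup.of_card (n := n) (by rw [Nat.card_zpowers, hx])
  have hY : IsPGroup 2 (Subgroup.zpowers y) := IsPGroup.of_card (n := n) (by rw [Nat.card_zpowers, hy])
  have hZ : IsPGroup 2 (Subgroup.zpowers z) :=
    IsPGroup.of_card (n := 1) (by rw [Nat.card_zpowers, hz, pow_one])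
  have hN : Subgroup.zpowers y ≤ Subgroup.normalizer (Subgroup.zpowers x : Set G) := by
    rw [Subgroup.zpowers_le, Subgroup.mem_normalizer_iff_map_conj_eq, MonoidHom.map_zpowers]
    show Subgroup.zpowers (y * x * y⁻¹) = _
    rw [← hxy, mul_inv_cancel_right]
  have hA := IsPGroup.to_sup_of_normal_left' hX hY hN
  have hNz : Subgroup.zpowers z ≤
      Subgroup.normalizer ((Subgroup.zpowers x ⊔ Subgroup.zpowers y : Subgroup G) : Set G) := by
    rw [Subgroup.zpowers_le, Subgroup.mem_normalizer_iff_map_conj_eq, Subgroup.map_sup,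
      MonoidHom.map_zpowers, MonoidHom.map_zpowers]
    show Subgroup.zpowers (z * x * z⁻¹) ⊔ Subgroup.zpowers (z * y * z⁻¹) = _
    rw [hzx, hzy, sup_comm]
  obtain ⟨Q, hQ⟩ := (IsPGroup.to_sup_of_normal_left' hA hZ hNz).exists_le_sylow
  have hxQ : x ∈ (Q : Subgroup G) :=
    hQ (Subgroup.mem_sup_left (Subgroup.mem_sup_left (Subgroup.mem_zpowers x)))
  have hyQ : y ∈ (Q : Subgroup G) :=
    hQ (Subgroup.mem_sup_left (Subgroup.mem_sup_right (Subgroup.mem_zpowers y)))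
  have hzQ : z ∈ (Q : Subgroup G) := hQ (Subgroup.mem_sup_right (Subgroup.mem_zpowers z))
  let e := Sylow.equiv Q P
  refine ⟨n, hn, hP, e ⟨x, hxQ⟩, e ⟨y, hyQ⟩, e ⟨z, hzQ⟩, ?_, ?_, ?_, ?_, ?_⟩
  · rw [MulEquiv.orderOf_eq, Subgroup.orderOf_mk, hx]
  · rw [← map_mul, ← map_mul]
    exact congrArg e (Subtype.ext hxy)
  · rw [show Subgroup.zpowers (e ⟨x, hxQ⟩) = (Subgroup.zpowers ⟨x, hxQ⟩).map e.toMonoidHom from
        (MonoidHom.map_zpowers e.toMonoidHom ⟨x, hxQ⟩).symm,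
      show Subgroup.zpowers (e ⟨y, hyQ⟩) = (Subgroup.zpowers ⟨y, hyQ⟩).map e.toMonoidHom from
        (MonoidHom.map_zpowers e.toMonoidHom ⟨y, hyQ⟩).symm,
      ← Subgroup.map_inf _ _ _ e.injective, Subgroup.map_eq_bot_iff_of_injective _ e.injective,
      eq_bot_iff]
    intro w hw
    rw [Subgroup.mem_inf, Subgroup.mem_zpowers_iff, Subgroup.mem_zpowers_iff] at hw
    obtain ⟨⟨i, hi⟩, j, hj⟩ := hw
    have h1 : (w : G) ∈ Subgroup.zpowers x ⊓ Subgroup.zpowers y :=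
      ⟨Subgroup.mem_zpowers_iff.2 ⟨i, by rw [← hi, Subgroup.coe_zpow]⟩,
        Subgroup.mem_zpowers_iff.2 ⟨j, by rw [← hj, Subgroup.coe_zpow]⟩⟩
    rw [hd, Subgroup.mem_bot] at h1
    exact Subgroup.mem_bot.2 (Subtype.ext h1)
  · rw [MulEquiv.orderOf_eq, Subgroup.orderOf_mk, hz]
  · rw [← map_inv, ← map_mul, ← map_mul]
    exact congrArg e (Subtype.ext hzx)

theorem card_sylow_two {G : Type*} [Group G] [Finite G] (P : Sylow 2 G) {k M : ℕ}
    (hG : Nat.card G = 2 ^ k * M) (hM : Odd M) : Nat.card P = 2 ^ k := by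
  have h := CfsgLib.Classical.card_sylow_eq_of_card_eq P (f := 1) (e := k) (M := M)
    (by rw [pow_one]; exact hG) (by rw [Nat.two_dvd_ne_zero]; exact Nat.odd_iff.1 hM)
  rwa [pow_one] at h

theorem exists_orderOf_units {F : Type*} [Field F] [Fintype F] {d : ℕ}
    (hd : d ∣ Fintype.card F - 1) : ∃ a : Fˣ, orderOf a = d := by
  classical
  obtain ⟨g, hg⟩ := IsCyclic.exists_ofOrder_eq_natCard (α := Fˣ)
  rw [Nat.card_eq_fintype_card, Fintype.card_units] at hg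
  exact ⟨g ^ (orderOf g / d), orderOf_pow_orderOf_div (orderOf_pos g).ne' (hg ▸ hd)⟩

section Diag

variable {F : Type*} [Field F]

/-- Invertible diagonal two by two matrices. -/
noncomputable def diagHom : (Fin 2 → Fˣ) →* GL (Fin 2) F :=
  (Units.map (Matrix.diagonalRingHom (Fin 2) F).toMonoidHom).comp
    MulEquiv.piUnits.symm.toMonoidHom

theorem diagHom_val (u : Fin 2 → Fˣ) :
    (diagHom u : Matrix (Fin 2) (Fin 2) F) = Matrix.diagonal fun i => (u i : F) := rfl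

theorem diagHom_injective : Function.Injective (diagHom (F := F)) := by
  intro u v h
  have h' := congrArg (fun g : GL (Fin 2) F => (g : Matrix (Fin 2) (Fin 2) F)) h
  simp only [diagHom_val] at h'
  funext i
  refine Units.ext ?_
  exact congrFun (Matrix.diagonal_injective h') i

/-- The matrix exchanging the two basis vectors. -/
noncomputable def swapGL : GL (Fin 2) F :=
  GeneralLinearGroup.mkOfDetNeZero !![0, 1; 1, 0] (by simp [Matrix.det_fin_two])

theorem swapGL_mul_self : (swapGL : GL (Fin 2) F) * swapGL = 1 := by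
  refine Units.ext ?_
  show (!![0, 1; 1, 0] : Matrix (Fin 2) (Fin 2) F) * !![0, 1; 1, 0] = 1
  ext i j
  fin_cases i <;> fin_cases j <;> simp [Matrix.mul_apply, Fin.sum_univ_two]

theorem orderOf_swapGL : orderOf (swapGL : GL (Fin 2) F) = 2 := by
  refine orderOf_eq_prime (by rw [pow_two, swapGL_mul_self]) fun h => ?_
  have h' := congrFun (congrFun (congrArg (fun g : GL (Fin 2) F => (g : Matrix (Fin 2) (Fin 2) F)) h) 0) 0
  simp [swapGL] at h'

theorem swapGL_conj (u : Fin 2 → Fˣ) :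
    swapGL * diagHom u * swapGL⁻¹ = diagHom ![u 1, u 0] := by
  rw [mul_inv_eq_iff_eq_mul]
  refine Units.ext ?_
  show (!![0, 1; 1, 0] : Matrix (Fin 2) (Fin 2) F) * (Matrix.diagonal fun i => (u i : F)) =
    (Matrix.diagonal fun i => ((![u 1, u 0] : Fin 2 → Fˣ) i : F)) * !![0, 1; 1, 0]
  ext i j
  fin_cases i <;> fin_cases j <;>
    simp [Matrix.mul_apply, Fin.sum_univ_two, Matrix.diagonal]

theorem orderOf_diag_left (a : Fˣ) : orderOf (diagHom ![a, 1]) = orderOf a := by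
  rw [orderOf_injective diagHom diagHom_injective]
  refine orderOf_eq_orderOf_iff.2 fun n => ⟨fun h => by simpa using congrFun h 0, fun h => ?_⟩
  funext i
  fin_cases i <;> simp [h]

theorem wreath_elements (a : Fˣ) :
    diagHom ![a, 1] * diagHom ![1, a] = diagHom ![1, a] * diagHom ![a, 1] ∧
    Subgroup.zpowers (diagHom ![a, 1]) ⊓ Subgroup.zpowers (diagHom ![1, a]) = ⊥ ∧
    swapGL * diagHom ![a, 1] * swapGL⁻¹ = diagHom ![1, a] := by
  refine ⟨by rw [← map_mul, ← map_mul, mul_comm], ?_, by rw [swapGL_conj]; simp⟩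
  rw [eq_bot_iff]
  rintro w ⟨hw1, hw2⟩
  obtain ⟨i, hi⟩ := Subgroup.mem_zpowers_iff.1 hw1
  obtain ⟨j, hj⟩ := Subgroup.mem_zpowers_iff.1 hw2
  rw [← map_zpow] at hi hj
  have h := congrFun (diagHom_injective (hi.trans hj.symm)) 0
  rw [Subgroup.mem_bot, ← hi, ← map_one diagHom]
  congr 1
  funext k
  fin_cases k
  · simpa using h
  · simp

end Diag

/-- An element of order `2^(s+1)` and an involution inverting it up to the central involution. -/
theorem exists_semidihedral_pair {F : Type*} [Field F] [Fintype F] {s : ℕ} (hs : 2 ≤ s)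
    (hdvd : 2 ^ (s + 1) ∣ Fintype.card F ^ 2 - 1)
    (hq : Fintype.card F % 2 ^ (s + 1) = 2 ^ s - 1) :
    ∃ x y : GL (Fin 2) F, orderOf x = 2 ^ (s + 1) ∧ orderOf y = 2 ∧
      y * x * y⁻¹ = x ^ (2 ^ s - 1) := by
  classical
  obtain ⟨K, _, _, _, hK, hrk⟩ := CfsgLib.Classical.Homocyclic.exists_extension (F := F) 2 two_pos
  obtain ⟨ζ, hζo⟩ := exists_orderOf_units (F := K) (d := 2 ^ (s + 1)) (by rw [hK]; exact hdvd)
  have hfr : ∀ x : K, FiniteField.frobeniusAlgHom F K x = x ^ Fintype.card F := fun x => by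
    rw [FiniteField.coe_frobeniusAlgHom]
  have hqq : ∀ x : K, (x ^ Fintype.card F) ^ Fintype.card F = x := fun x => by
    have h := FiniteField.pow_card x
    rwa [hK, pow_two, pow_mul] at h
  let b0 := Module.finBasisOfFinrankEq F K hrk
  let toM := LinearMap.toMatrixAlgEquiv b0
  let frob : Module.End F K := (FiniteField.frobeniusAlgHom F K).toLinearMap
  have hff : frob * frob = 1 := LinearMap.ext fun x => by
    show FiniteField.frobeniusAlgHom F K (FiniteField.frobeniusAlgHom F K x) = x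
    rw [hfr, hfr, hqq]
  let fu : (Module.End F K)ˣ := ⟨frob, frob, hff, hff⟩
  let L : Kˣ →* (Module.End F K)ˣ := Units.map (Algebra.lmul F K).toRingHom.toMonoidHom
  let M : (Module.End F K)ˣ →* GL (Fin 2) F := Units.map toM.toRingEquiv.toRingHom.toMonoidHom
  have hMinj : Function.Injective M := Units.map_injective toM.injective
  have hlinj : Function.Injective L :=
    Units.map_injective fun x y h => by
      have := congrArg (fun f : Module.End F K => f 1) h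
      simpa using this
  have hx : orderOf (M (L ζ)) = 2 ^ (s + 1) := by
    rw [orderOf_injective M hMinj, orderOf_injective L hlinj, hζo]
  have hconj : M fu * M (L ζ) * (M fu)⁻¹ = M (L ζ) ^ (2 ^ s - 1) := by
    rw [← map_inv, ← map_mul, ← map_mul, ← map_pow, ← map_pow L, ← hq, ← hζo, pow_mod_orderOf]
    congr 1
    refine Units.ext (LinearMap.ext fun x => ?_)
    rw [Units.val_mul, Units.val_mul]
    show frob ((ζ : K) * frob x) = ((ζ ^ Fintype.card F : Kˣ) : K) * x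
    show FiniteField.frobeniusAlgHom F K ((ζ : K) * FiniteField.frobeniusAlgHom F K x) = _
    rw [hfr, hfr, mul_pow, hqq, ← Units.val_pow_eq_pow_val]
  refine ⟨M (L ζ), M fu, hx, orderOf_eq_prime ?_ ?_, hconj⟩
  · rw [pow_two, ← map_mul, show fu * fu = 1 from Units.ext hff, map_one]
  · intro h
    rw [h, one_mul, inv_one, mul_one] at hconj
    have h4 : (2 : ℕ) ^ 2 ≤ 2 ^ s := Nat.pow_le_pow_right two_pos hs
    have h2 : M (L ζ) ^ (2 ^ s - 2) = 1 := by
      have h3 : M (L ζ) * M (L ζ) ^ (2 ^ s - 2) = M (L ζ) * 1 := by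
        rw [mul_one, ← pow_succ', show 2 ^ s - 2 + 1 = 2 ^ s - 1 by omega, ← hconj]
      exact mul_left_cancel h3
    have h5 := Nat.le_of_dvd (by omega) (orderOf_dvd_of_pow_eq_one h2)
    rw [hx, pow_succ] at h5
    omega

theorem gl_quasiDihedral {F : Type*} [Field F] [Fintype F] (P : Sylow 2 (GL (Fin 2) F))
    (h : Fintype.card F % 4 = 3) : Cfsg.IsQuasiDihedral (P : Subgroup (GL (Fin 2) F)) := by
  set q := Fintype.card F with hqdef
  obtain ⟨s, r, hr, hsr⟩ := Nat.exists_eq_two_pow_mul_odd (n := q + 1) (by omega)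
  obtain ⟨c, rfl⟩ := hr
  have hs : 2 ≤ s := by
    by_contra hs
    have : s = 0 ∨ s = 1 := by omega
    rcases this with rfl | rfl <;> omega
  have h4 : (2 : ℕ) ^ 2 ≤ 2 ^ s := Nat.pow_le_pow_right two_pos hs
  obtain ⟨d, hd⟩ : ∃ d, q - 1 = 2 * (2 * d + 1) := ⟨(q - 3) / 4, by omega⟩
  have hq2 : q ^ 2 - 1 = (q + 1) * (q - 1) := by simpa using Nat.sq_sub_sq q 1
  have hdvd : 2 ^ (s + 1) ∣ q ^ 2 - 1 :=
    ⟨(2 * c + 1) * (2 * d + 1), by rw [hq2, hd, hsr, pow_succ]; ring⟩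
  have hq : q % 2 ^ (s + 1) = 2 ^ s - 1 := by
    have h1 : q = (2 ^ s - 1) + c * 2 ^ (s + 1) := by
      have e : 2 ^ s * (2 * c + 1) = c * 2 ^ (s + 1) + 2 ^ s := by rw [pow_succ]; ring
      omega
    rw [h1, Nat.add_mul_mod_self_right, Nat.mod_eq_of_lt]
    rw [pow_succ]; omega
  obtain ⟨x, y, hx, hy, hxy⟩ := exists_semidihedral_pair hs hdvd hq
  refine isQuasiDihedral_sylow P (n := s + 1) (by omega) ?_ hx hy (by simpa using hxy)
  refine card_sylow_two P (M := q * ((2 * c + 1) * ((2 * d + 1) * (2 * d + 1)))) ?_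
    (Odd.mul (Nat.odd_iff.2 (by omega)) (Odd.mul ⟨c, rfl⟩ (Odd.mul ⟨d, rfl⟩ ⟨d, rfl⟩)))
  rw [CfsgLib.Classical.card_GL_eq]
  simp only [Finset.prod_range_succ, Finset.prod_range_zero, one_mul, zero_add, pow_one,
    Nat.reduceMul, Nat.reduceSub, Nat.reduceDiv, Nat.reduceAdd]
  rw [← hqdef, hq2, hd, hsr, pow_succ, pow_succ]
  ring

theorem gl_wreathed {F : Type*} [Field F] [Fintype F] (P : Sylow 2 (GL (Fin 2) F))
    (h : Fintype.card F % 4 = 1) : Cfsg.IsWreathed (P : Subgroup (GL (Fin 2) F)) := by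
  set q := Fintype.card F with hqdef
  have hq1 : 1 < q := Fintype.one_lt_card
  obtain ⟨n, r, hr, hnr⟩ := Nat.exists_eq_two_pow_mul_odd (n := q - 1) (by omega)
  obtain ⟨c, rfl⟩ := hr
  have hn : 2 ≤ n := by
    by_contra hn
    have : n = 0 ∨ n = 1 := by omega
    rcases this with rfl | rfl <;> omega
  obtain ⟨d, hd⟩ : ∃ d, q + 1 = 2 * (2 * d + 1) := ⟨(q - 1) / 4, by omega⟩
  have hq2 : q ^ 2 - 1 = (q + 1) * (q - 1) := by simpa using Nat.sq_sub_sq q 1
  obtain ⟨a, ha⟩ := exists_orderOf_units (F := F) (d := 2 ^ n)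
    (by rw [← hqdef, hnr]; exact dvd_mul_right _ _)
  obtain ⟨w1, w2, w3⟩ := wreath_elements a
  refine isWreathed_sylow P hn ?_ (by rw [orderOf_diag_left, ha]) w1 w2 orderOf_swapGL w3
  refine card_sylow_two P (M := q * ((2 * c + 1) * (2 * c + 1) * (2 * d + 1))) ?_
    (Odd.mul (Nat.odd_iff.2 (by omega)) (Odd.mul (Odd.mul ⟨c, rfl⟩ ⟨c, rfl⟩) ⟨d, rfl⟩))
  rw [CfsgLib.Classical.card_GL_eq]
  simp only [Finset.prod_range_succ, Finset.prod_range_zero, one_mul, zero_add, pow_one,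
    Nat.reduceMul, Nat.reduceSub, Nat.reduceDiv, Nat.reduceAdd]
  rw [← hqdef, hq2, hd, hnr, pow_succ, two_mul n, pow_add]
  ring

section Unitary

variable {F : Type*} [Field F] {q : ℕ}

theorem mem_GU_iff {g : GL (Fin 2) F} :
    g ∈ Cfsg.GU 2 F q ↔ ∀ u v : Fin 2 → F, Cfsg.hermForm 2 F q ((g : Matrix (Fin 2) (Fin 2) F) *ᵥ u)
      ((g : Matrix (Fin 2) (Fin 2) F) *ᵥ v) = Cfsg.hermForm 2 F q u v := Iff.rfl

theorem diagHom_mem_GU {u : Fin 2 → Fˣ} (hu : ∀ i, u i ^ (q + 1) = 1) :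
    diagHom u ∈ Cfsg.GU 2 F q := by
  rw [mem_GU_iff]
  intro v w
  have h : ∀ i, (u i : F) * (u i : F) ^ q = 1 := fun i => by
    rw [← pow_succ', ← Units.val_pow_eq_pow_val, hu, Units.val_one]
  simp only [Cfsg.hermForm, Fin.sum_univ_two, diagHom_val, Matrix.mulVec_diagonal, mul_pow]
  linear_combination (v 0 * w 0 ^ q) * h 0 + (v 1 * w 1 ^ q) * h 1

theorem swapGL_mem_GU : (swapGL : GL (Fin 2) F) ∈ Cfsg.GU 2 F q := by
  rw [mem_GU_iff]
  intro v w
  show Cfsg.hermForm 2 F q ((!![0, 1; 1, 0] : Matrix (Fin 2) (Fin 2) F) *ᵥ v)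
    ((!![0, 1; 1, 0] : Matrix (Fin 2) (Fin 2) F) *ᵥ w) = _
  simp [Cfsg.hermForm, Fin.sum_univ_two, Matrix.mulVec, dotProduct, add_comm]

theorem card_GU_two [Fintype F] (hF : Fintype.card F = q ^ 2) :
    Nat.card (Cfsg.GU 2 F q) = q * ((q + 1) * ((q + 1) * (q - 1))) := by
  rw [CfsgLib.Classical.Herm.card_GU hF]
  simp only [Finset.prod_range_succ, Finset.prod_range_zero, one_mul, zero_add, pow_one,
    Nat.reduceMul, Nat.reduceSub, Nat.reduceDiv, Nat.reduceAdd, Even.zero, if_true,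
    Nat.not_even_one, if_false]
  rw [show q ^ 2 - 1 = (q + 1) * (q - 1) by simpa using Nat.sq_sub_sq q 1]

theorem gu_wreathed [Fintype F] (hF : Fintype.card F = q ^ 2) (h : q % 4 = 3)
    (P : Sylow 2 (Cfsg.GU 2 F q)) : Cfsg.IsWreathed (P : Subgroup (Cfsg.GU 2 F q)) := by
  obtain ⟨n, r, hr, hnr⟩ := Nat.exists_eq_two_pow_mul_odd (n := q + 1) (by omega)
  obtain ⟨c, rfl⟩ := hr
  have hn : 2 ≤ n := by
    by_contra hn
    have : n = 0 ∨ n = 1 := by omega
    rcases this with rfl | rfl <;> omega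
  obtain ⟨d, hd⟩ : ∃ d, q - 1 = 2 * (2 * d + 1) := ⟨(q - 3) / 4, by omega⟩
  have hq2 : q ^ 2 - 1 = (q + 1) * (q - 1) := by simpa using Nat.sq_sub_sq q 1
  obtain ⟨a, ha⟩ := exists_orderOf_units (F := F) (d := 2 ^ n)
    (by rw [hF, hq2, hnr, mul_assoc]; exact dvd_mul_right _ _)
  have ha1 : a ^ (q + 1) = 1 := orderOf_dvd_iff_pow_eq_one.1 (by rw [ha, hnr]; exact dvd_mul_right _ _)
  obtain ⟨w1, w2, w3⟩ := wreath_elements a
  have m1 : diagHom ![a, 1] ∈ Cfsg.GU 2 F q :=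
    diagHom_mem_GU (fun i => by fin_cases i <;> simp [ha1])
  have m2 : diagHom ![1, a] ∈ Cfsg.GU 2 F q :=
    diagHom_mem_GU (fun i => by fin_cases i <;> simp [ha1])
  refine isWreathed_sylow P hn ?_ (x := ⟨_, m1⟩) (y := ⟨_, m2⟩) (z := ⟨swapGL, swapGL_mem_GU⟩)
    ?_ (Subtype.ext w1) ?_ ?_ (Subtype.ext w3)
  · refine card_sylow_two P (M := q * ((2 * c + 1) * (2 * c + 1) * (2 * d + 1))) ?_
      (Odd.mul (Nat.odd_iff.2 (by omega)) (Odd.mul (Odd.mul ⟨c, rfl⟩ ⟨c, rfl⟩) ⟨d, rfl⟩))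
    rw [card_GU_two hF, hd, hnr, pow_succ, two_mul n, pow_add]
    ring
  · rw [Subgroup.orderOf_mk, orderOf_diag_left, ha]
  · rw [← Subgroup.map_eq_bot_iff_of_injective _ (Subgroup.subtype_injective _),
      Subgroup.map_inf _ _ _ (Subgroup.subtype_injective _), MonoidHom.map_zpowers,
      MonoidHom.map_zpowers]
    exact w2
  · rw [Subgroup.orderOf_mk, orderOf_swapGL]

theorem gu_quasiDihedral [Fintype F] (hF : Fintype.card F = q ^ 2) (h : q % 4 = 1)
    (P : Sylow 2 (Cfsg.GU 2 F q)) : Cfsg.IsQuasiDihedral (P : Subgroup (Cfsg.GU 2 F q)) := by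
  classical
  have hq2' : 2 ≤ q := by
    have := Fintype.one_lt_card (α := F)
    by_contra hlt
    have : q = 0 ∨ q = 1 := by omega
    rcases this with rfl | rfl <;> omega
  obtain ⟨s, r, hr, hsr⟩ := Nat.exists_eq_two_pow_mul_odd (n := q - 1) (by omega)
  obtain ⟨c, rfl⟩ := hr
  have hs : 2 ≤ s := by
    by_contra hs
    have : s = 0 ∨ s = 1 := by omega
    rcases this with rfl | rfl <;> omega
  obtain ⟨d, hd⟩ : ∃ d, q + 1 = 2 * (2 * d + 1) := ⟨(q - 1) / 4, by omega⟩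
  have hq2 : q ^ 2 - 1 = (q + 1) * (q - 1) := by simpa using Nat.sq_sub_sq q 1
  -- an element of norm minus one
  obtain ⟨e, he⟩ := exists_orderOf_units (F := F) (d := 2 * (q + 1)) (by
    rw [hF, hq2, hsr, mul_comm 2]
    exact Nat.mul_dvd_mul_left _ (Dvd.dvd.mul_right (dvd_pow_self 2 (by omega)) _))
  have hk : ((e : F)) ^ (q + 1) = -1 := by
    have h1 : orderOf (e ^ (q + 1)) = 2 := by
      rw [orderOf_pow_of_dvd (by omega) (by rw [he]; exact dvd_mul_left _ _), he,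
        Nat.mul_div_cancel _ (by omega)]
    have h2 : e ^ (q + 1) * e ^ (q + 1) = 1 := by rw [← pow_two, ← h1, pow_orderOf_eq_one]
    rw [← Units.val_inj, Units.val_mul, Units.val_one, Units.val_pow_eq_pow_val] at h2
    rcases mul_self_eq_one_iff.1 h2 with h3 | h3
    · exfalso
      have h4 : e ^ (q + 1) = 1 := Units.ext (by rw [Units.val_pow_eq_pow_val, h3, Units.val_one])
      rw [h4, orderOf_one] at h1
      omega
    · exact h3
  have h20 : (2 : F) ≠ 0 := by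
    intro h0
    have hm : ((-1 : F)) = 1 := by linear_combination -h0
    rw [hm] at hk
    have h4 := orderOf_dvd_of_pow_eq_one (x := e) (n := q + 1)
      (Units.ext (by rw [Units.val_pow_eq_pow_val, hk, Units.val_one]))
    rw [he] at h4
    have h5 := Nat.le_of_dvd (by omega) h4
    omega
  have hhalf : ((2 : F)⁻¹) ^ q = (2 : F)⁻¹ := by
    rw [← CfsgLib.Classical.Herm.powHom_apply hF, map_inv₀, map_ofNat]
  have hneg : (-(e : F) * (2 : F)⁻¹) ^ q = -((e : F) ^ q) * (2 : F)⁻¹ := by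
    rw [← CfsgLib.Classical.Herm.powHom_apply hF, map_mul, map_neg, CfsgLib.Classical.Herm.powHom_apply,
      CfsgLib.Classical.Herm.powHom_apply, hhalf]
  have hA : ∀ x y : F, (x + y) ^ q = x ^ q + y ^ q := fun x y => by
    rw [← CfsgLib.Classical.Herm.powHom_apply hF, map_add, CfsgLib.Classical.Herm.powHom_apply,
      CfsgLib.Classical.Herm.powHom_apply]
  -- change to a hyperbolic basis
  let Pm : Matrix (Fin 2) (Fin 2) F := !![1, 2⁻¹; (e : F), -(e : F) * 2⁻¹]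
  have hdet : Pm.det ≠ 0 := by
    rw [Matrix.det_fin_two_of, show (1 : F) * (-(e : F) * 2⁻¹) - 2⁻¹ * (e : F) = -((e : F) * (2 * 2⁻¹))
      by ring, mul_inv_cancel₀ h20, mul_one]
    exact neg_ne_zero.2 e.ne_zero
  let W : GL (Fin 2) F := GeneralLinearGroup.mkOfDetNeZero Pm hdet
  have hW : ∀ u v : Fin 2 → F, Cfsg.hermForm 2 F q ((W : Matrix (Fin 2) (Fin 2) F) *ᵥ u)
      ((W : Matrix (Fin 2) (Fin 2) F) *ᵥ v) = u 0 * v 1 ^ q + u 1 * v 0 ^ q := by
    intro u v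
    show Cfsg.hermForm 2 F q (Pm *ᵥ u) (Pm *ᵥ v) = _
    have e1 : ∀ w : Fin 2 → F, (Pm *ᵥ w) 0 = w 0 + 2⁻¹ * w 1 := fun w => by
      simp [Pm, Matrix.mulVec, dotProduct, Fin.sum_univ_two]
    have e2 : ∀ w : Fin 2 → F, (Pm *ᵥ w) 1 = (e : F) * w 0 + -(e : F) * 2⁻¹ * w 1 := fun w => by
      simp [Pm, Matrix.mulVec, dotProduct, Fin.sum_univ_two]
    simp only [Cfsg.hermForm, Fin.sum_univ_two, e1, e2, hA]
    rw [mul_pow, mul_pow, mul_pow (-(e : F) * (2 : F)⁻¹), hneg, hhalf]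
    have hk' : (e : F) * (e : F) ^ q = -1 := by rw [← pow_succ', hk]
    have h22 : (2 : F) * 2⁻¹ = 1 := mul_inv_cancel₀ h20
    linear_combination (u 0 * v 0 ^ q - 2⁻¹ * u 0 * v 1 ^ q - 2⁻¹ * u 1 * v 0 ^ q +
      2⁻¹ * 2⁻¹ * u 1 * v 1 ^ q) * hk' + (u 0 * v 1 ^ q + u 1 * v 0 ^ q) * h22
  have hmem : ∀ g : GL (Fin 2) F,
      (∀ u v : Fin 2 → F, ((g : Matrix (Fin 2) (Fin 2) F) *ᵥ u) 0 *
          (((g : Matrix (Fin 2) (Fin 2) F) *ᵥ v) 1) ^ q +
        ((g : Matrix (Fin 2) (Fin 2) F) *ᵥ u) 1 * (((g : Matrix (Fin 2) (Fin 2) F) *ᵥ v) 0) ^ q =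
        u 0 * v 1 ^ q + u 1 * v 0 ^ q) → MulAut.conj W g ∈ Cfsg.GU 2 F q := by
    intro g hg
    rw [mem_GU_iff]
    intro u v
    rw [MulAut.conj_apply, Units.val_mul, Units.val_mul, ← Matrix.mulVec_mulVec,
      ← Matrix.mulVec_mulVec, ← Matrix.mulVec_mulVec, ← Matrix.mulVec_mulVec, hW, hg, ← hW,
      Matrix.mulVec_mulVec, Matrix.mulVec_mulVec, ← Units.val_mul, mul_inv_cancel, Units.val_one,
      Matrix.one_mulVec, Matrix.one_mulVec]
  obtain ⟨lam, hlam⟩ := exists_orderOf_units (F := F) (d := 2 ^ (s + 1)) (by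
    rw [hF, hq2, hd, hsr]
    exact ⟨(2 * d + 1) * (2 * c + 1), by rw [pow_succ]; ring⟩)
  set x0 : GL (Fin 2) F := diagHom ![lam, (lam ^ q)⁻¹]
  have hlq : (lam ^ q) ^ q = lam := by
    refine Units.ext ?_
    rw [Units.val_pow_eq_pow_val, Units.val_pow_eq_pow_val, ← pow_mul, ← pow_two, ← hF, FiniteField.pow_card]
  have hmx : MulAut.conj W x0 ∈ Cfsg.GU 2 F q := by
    refine hmem _ fun u v => ?_
    have i1 : (lam : F) * (((lam ^ q)⁻¹ : Fˣ) : F) ^ q = 1 := by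
      rw [← Units.val_pow_eq_pow_val, ← Units.val_mul, inv_pow, hlq, mul_inv_cancel, Units.val_one]
    have i2 : (((lam ^ q)⁻¹ : Fˣ) : F) * (lam : F) ^ q = 1 := by
      rw [← Units.val_pow_eq_pow_val, ← Units.val_mul, inv_mul_cancel, Units.val_one]
    simp only [x0, diagHom_val, Matrix.mulVec_diagonal, mul_pow, Matrix.cons_val_zero,
      Matrix.cons_val_one]
    linear_combination (u 0 * v 1 ^ q) * i1 + (u 1 * v 0 ^ q) * i2
  have hmy : MulAut.conj W swapGL ∈ Cfsg.GU 2 F q := by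
    refine hmem _ fun u v => ?_
    simp [swapGL, Matrix.mulVec, dotProduct, Fin.sum_univ_two, add_comm]
  have hx0 : orderOf x0 = 2 ^ (s + 1) := by
    rw [orderOf_injective diagHom diagHom_injective, ← hlam]
    refine orderOf_eq_orderOf_iff.2 fun n => ⟨fun h => by simpa using congrFun h 0, fun h => ?_⟩
    have h' : ((lam ^ q)⁻¹) ^ n = 1 := by rw [inv_pow, ← pow_mul, mul_comm, pow_mul, h, one_pow, inv_one]
    funext i
    fin_cases i <;> simp [h, h']
  have h2s : (2 : ℕ) ^ 2 ≤ 2 ^ s := Nat.pow_le_pow_right two_pos hs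
  have hmod : (q + (2 ^ s - 1)) % 2 ^ (s + 1) = 0 := by
    rw [show q + (2 ^ s - 1) = 2 ^ (s + 1) * (c + 1) by
      have e : 2 ^ s * (2 * c + 1) + 2 ^ s = 2 ^ (s + 1) * (c + 1) := by rw [pow_succ]; ring
      omega]
    exact Nat.mul_mod_right _ _
  have hk1 : lam ^ (2 ^ s - 1) = (lam ^ q)⁻¹ := by
    refine eq_inv_of_mul_eq_one_left ?_
    rw [← pow_add, ← pow_mod_orderOf, hlam, add_comm, hmod, pow_zero]
  have hk2 : ((lam ^ q)⁻¹) ^ (2 ^ s - 1) = lam := by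
    rw [inv_pow, ← pow_mul, mul_comm, pow_mul, hk1, inv_pow, inv_inv, hlq]
  have hconj : swapGL * x0 * swapGL⁻¹ = x0 ^ (2 ^ s - 1) := by
    rw [swapGL_conj, ← map_pow]
    congr 1
    funext i
    fin_cases i <;> simp [hk1, hk2]
  refine isQuasiDihedral_sylow P (n := s + 1) (by omega) ?_ (x := ⟨_, hmx⟩) (y := ⟨_, hmy⟩) ?_ ?_ ?_
  · refine card_sylow_two P (M := q * ((2 * c + 1) * ((2 * d + 1) * (2 * d + 1)))) ?_
      (Odd.mul (Nat.odd_iff.2 (by omega)) (Odd.mul ⟨c, rfl⟩ (Odd.mul ⟨d, rfl⟩ ⟨d, rfl⟩)))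
    rw [card_GU_two hF, hd, hsr, pow_succ, pow_succ]
    ring
  · rw [Subgroup.orderOf_mk, MulEquiv.orderOf_eq, hx0]
  · rw [Subgroup.orderOf_mk, MulEquiv.orderOf_eq, orderOf_swapGL]
  · refine Subtype.ext ?_
    rw [Nat.add_sub_cancel]
    show MulAut.conj W swapGL * MulAut.conj W x0 * (MulAut.conj W swapGL)⁻¹ =
      (MulAut.conj W x0) ^ (2 ^ s - 1)
    rw [← map_inv, ← map_mul, ← map_mul, ← map_pow, hconj]

end Unitary

end CfsgLib.TwoGroups.LinearSylowTwo
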