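import Cfsg.Agent.Lib.Classical.LinearOrder
import Cfsg.Agent.Lib.Classical.SignRank
import Mathlib.LinearAlgebra.Matrix.GeneralLinearGroup.Defs
import Mathlib.LinearAlgebra.Matrix.ProjectiveSpecialLinearGroup

/-!
The centraliser of an involution of `PSL(3, q)`, `q` odd.
-/

set_option autoImplicit false
set_option linter.all false

namespace CfsgLib.TwoGroups.PSLThree

open Matrix

universe u

variable {F : Type u} [Field F]

/-- `g ↦ diag((det g)⁻¹, g)` as a matrix. -/
def blockMat (g : GL (Fin 2) F) : Matrix (Fin 3) (Fin 3) F :=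
  !![((g : Matrix (Fin 2) (Fin 2) F)).det⁻¹, 0, 0;
     0, (g : Matrix (Fin 2) (Fin 2) F) 0 0, (g : Matrix (Fin 2) (Fin 2) F) 0 1;
     0, (g : Matrix (Fin 2) (Fin 2) F) 1 0, (g : Matrix (Fin 2) (Fin 2) F) 1 1]

theorem blockMat_det (g : GL (Fin 2) F) : (blockMat g).det = 1 := by
  have h : ((g : Matrix (Fin 2) (Fin 2) F)).det ≠ 0 := (Matrix.GeneralLinearGroup.det g).ne_zero
  have h2 := Matrix.det_fin_two (g : Matrix (Fin 2) (Fin 2) F)
  rw [Matrix.det_fin_three]
  simp [blockMat]
  field_simp
  rw [h2]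

/-- `g ↦ diag((det g)⁻¹, g)`. -/
noncomputable def block : GL (Fin 2) F →* SpecialLinearGroup (Fin 3) F where
  toFun g := ⟨blockMat g, blockMat_det g⟩
  map_one' := by
    refine Subtype.ext ?_
    ext i j
    fin_cases i <;> fin_cases j <;> simp [blockMat]
  map_mul' g h := by
    refine Subtype.ext ?_
    show blockMat (g * h) = blockMat g * blockMat h
    ext i j
    fin_cases i <;> fin_cases j <;>
      simp [blockMat, Matrix.mul_apply, Fin.sum_univ_three, Fin.sum_univ_two, Matrix.det_mul, mul_comm]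

theorem block_val (g : GL (Fin 2) F) :
    ((block g : SpecialLinearGroup (Fin 3) F) : Matrix (Fin 3) (Fin 3) F) = blockMat g := rfl

theorem block_injective : Function.Injective (block (F := F)) := by
  intro g h hgh
  have h' := congrArg (fun A : SpecialLinearGroup (Fin 3) F => (A : Matrix (Fin 3) (Fin 3) F)) hgh
  simp only [block_val] at h'
  refine Units.ext (Matrix.ext fun i j => ?_)
  have := congrFun (congrFun h' i.succ) j.succ
  fin_cases i <;> fin_cases j <;> simpa [blockMat] using this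

/-- `diag(1, -1, -1)`. -/
def stdInv (F : Type u) [Field F] : SpecialLinearGroup (Fin 3) F :=
  ⟨Matrix.diagonal ![1, -1, -1], by simp [Matrix.det_diagonal, Fin.prod_univ_three]⟩

theorem commute_stdInv_iff (h2 : (2 : F) ≠ 0) (x : SpecialLinearGroup (Fin 3) F) :
    x * stdInv F = stdInv F * x ↔ x ∈ (block (F := F)).range := by
  constructor
  · intro h
    have h' : (x : Matrix (Fin 3) (Fin 3) F) * Matrix.diagonal ![1, -1, -1] =
        Matrix.diagonal ![1, -1, -1] * (x : Matrix (Fin 3) (Fin 3) F) :=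
      congrArg (fun A : SpecialLinearGroup (Fin 3) F => (A : Matrix (Fin 3) (Fin 3) F)) h
    have hz : ∀ a : F, a = -a → a = 0 := fun a ha =>
      mul_left_cancel₀ h2 (by linear_combination ha)
    have e01 : (x : Matrix (Fin 3) (Fin 3) F) 0 1 = 0 := by
      have := congrFun (congrFun h' 0) 1
      simp [Matrix.mul_diagonal, Matrix.diagonal_mul] at this
      exact hz _ this.symm
    have e02 : (x : Matrix (Fin 3) (Fin 3) F) 0 2 = 0 := by
      have := congrFun (congrFun h' 0) 2
      simp [Matrix.mul_diagonal, Matrix.diagonal_mul] at this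
      exact hz _ this.symm
    have e10 : (x : Matrix (Fin 3) (Fin 3) F) 1 0 = 0 := by
      have := congrFun (congrFun h' 1) 0
      simp [Matrix.mul_diagonal, Matrix.diagonal_mul] at this
      exact hz _ this
    have e20 : (x : Matrix (Fin 3) (Fin 3) F) 2 0 = 0 := by
      have := congrFun (congrFun h' 2) 0
      simp [Matrix.mul_diagonal, Matrix.diagonal_mul] at this
      exact hz _ this
    set X := (x : Matrix (Fin 3) (Fin 3) F)
    set Y : Matrix (Fin 2) (Fin 2) F := !![X 1 1, X 1 2; X 2 1, X 2 2]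
    have hd : X.det = X 0 0 * Y.det := by
      rw [Matrix.det_fin_three, Matrix.det_fin_two_of]
      rw [e01, e02, e10, e20]
      ring
    rw [show X.det = 1 from x.2] at hd
    have hY : Y.det ≠ 0 := fun h0 => by rw [h0, mul_zero] at hd; exact one_ne_zero hd
    refine ⟨GeneralLinearGroup.mkOfDetNeZero Y hY, Subtype.ext ?_⟩
    show blockMat _ = X
    have h00 : Y.det⁻¹ = X 0 0 := inv_eq_of_mul_eq_one_left hd.symm
    ext i j
    fin_cases i <;> fin_cases j <;>
      simp [blockMat, Y, e01, e02, e10, e20] <;> simpa [Y] using h00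
  · rintro ⟨g, rfl⟩
    refine Subtype.ext ?_
    show blockMat g * Matrix.diagonal ![1, -1, -1] = Matrix.diagonal ![1, -1, -1] * blockMat g
    ext i j
    fin_cases i <;> fin_cases j <;> simp [blockMat, Matrix.mul_diagonal, Matrix.diagonal_mul]

theorem pow_three_of_mem_center {z : SpecialLinearGroup (Fin 3) F}
    (hz : z ∈ Subgroup.center (SpecialLinearGroup (Fin 3) F)) : z ^ 3 = 1 := by
  obtain ⟨r, hr, hr'⟩ := Matrix.SpecialLinearGroup.mem_center_iff.1 hz
  rw [Fintype.card_fin] at hr
  refine Subtype.ext ?_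
  rw [Matrix.SpecialLinearGroup.coe_pow, ← hr', ← map_pow, hr, map_one, Matrix.SpecialLinearGroup.coe_one]

theorem eq_one_of_sq {z : SpecialLinearGroup (Fin 3) F}
    (hz : z ∈ Subgroup.center (SpecialLinearGroup (Fin 3) F)) (h : z * z = 1) : z = 1 := by
  have h3 := pow_three_of_mem_center hz
  rwa [pow_succ, pow_two, h, one_mul] at h3

/-- The map onto the centraliser. -/
noncomputable def toPSL : GL (Fin 2) F →* ProjectiveSpecialLinearGroup (Fin 3) F :=
  (QuotientGroup.mk' _).comp block

theorem range_toPSL (h2 : (2 : F) ≠ 0) :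
    (toPSL (F := F)).range =
      Subgroup.centralizer ({QuotientGroup.mk' _ (stdInv F)} : Set (ProjectiveSpecialLinearGroup (Fin 3) F)) := by
  ext y
  obtain ⟨x, rfl⟩ := QuotientGroup.mk'_surjective _ y
  rw [Subgroup.mem_centralizer_singleton_iff]
  constructor
  · rintro ⟨g, hg⟩
    rw [← hg]
    show QuotientGroup.mk' _ (block g) * _ = _ * QuotientGroup.mk' _ (block g)
    rw [← map_mul, ← map_mul, (commute_stdInv_iff h2 (block g)).2 ⟨g, rfl⟩]
  · intro h
    rw [← map_mul, ← map_mul] at h
    obtain ⟨z, hz, hz'⟩ := (QuotientGroup.mk'_eq_mk' _).1 h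
    have hs : stdInv F * stdInv F = 1 := by
      refine Subtype.ext ?_
      show Matrix.diagonal ![(1 : F), -1, -1] * Matrix.diagonal ![1, -1, -1] = 1
      rw [Matrix.diagonal_mul_diagonal, ← Matrix.diagonal_one]
      congr 1
      funext i
      fin_cases i <;> simp
    have hc := Subgroup.mem_center_iff.1 hz
    have hzz : z * z = 1 := by
      have h1 : x * stdInv F * x⁻¹ = stdInv F * z⁻¹ := by
        rw [mul_inv_eq_iff_eq_mul]
        have : x * stdInv F = stdInv F * x * z⁻¹ := by rw [← hz', mul_inv_cancel_right]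
        rw [this, mul_assoc, mul_assoc]
        congr 1
        exact Subgroup.mem_center_iff.1 (Subgroup.inv_mem _ hz) x
      have h3 : (x * stdInv F * x⁻¹) * (x * stdInv F * x⁻¹) = 1 := by
        calc (x * stdInv F * x⁻¹) * (x * stdInv F * x⁻¹) = x * (stdInv F * stdInv F) * x⁻¹ := by group
          _ = 1 := by rw [hs, mul_one, mul_inv_cancel]
      rw [h1] at h3
      have h4 : z⁻¹ * z⁻¹ = 1 := by
        calc z⁻¹ * z⁻¹ = (stdInv F * stdInv F) * (z⁻¹ * z⁻¹) := by rw [hs, one_mul]
          _ = stdInv F * z⁻¹ * (stdInv F * z⁻¹) := by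
            rw [mul_assoc (stdInv F) z⁻¹, ← mul_assoc z⁻¹ (stdInv F),
              ← Subgroup.mem_center_iff.1 (Subgroup.inv_mem _ hz) (stdInv F)]
            group
          _ = 1 := h3
      rw [← _root_.mul_inv_rev, inv_eq_one] at h4
      exact h4
    rw [eq_one_of_sq hz hzz, mul_one] at hz'
    obtain ⟨g, hg⟩ := (commute_stdInv_iff h2 x).1 hz'
    exact ⟨g, congrArg (QuotientGroup.mk' _) hg⟩

theorem ker_toPSL_le_center : (toPSL (F := F)).ker ≤ Subgroup.center (GL (Fin 2) F) := by
  intro g hg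
  refine Subgroup.mem_center_iff.2 fun h => block_injective ?_
  rw [map_mul, map_mul]
  exact Subgroup.mem_center_iff.1 ((QuotientGroup.eq_one_iff _).1 hg) (block h)

theorem card_ker_toPSL [Fintype F] (h2 : (2 : F) ≠ 0) :
    Nat.card (toPSL (F := F)).ker = Nat.gcd (Fintype.card F - 1) 3 := by
  have hc := Classical.card_center_SL (F := F) (ι := Fin 3)
  rw [Fintype.card_fin, Nat.gcd_comm] at hc
  rw [← hc]
  refine Nat.card_congr (Equiv.ofBijective
    (fun g => ⟨block g.1, (QuotientGroup.eq_one_iff _).1 g.2⟩) ⟨fun a b h => ?_, fun z => ?_⟩)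
  · exact Subtype.ext (block_injective (congrArg Subtype.val h))
  · obtain ⟨g, hg⟩ := (commute_stdInv_iff h2 z.1).1 (Subgroup.mem_center_iff.1 z.2 _).symm
    refine ⟨⟨g, ?_⟩, Subtype.ext hg⟩
    show QuotientGroup.mk' _ (block g) = 1
    rw [hg]
    exact (QuotientGroup.eq_one_iff _).2 z.2

/-- An involution of `SL(3, q)` is conjugate to `diag(1, -1, -1)`. -/
theorem exists_conj_stdInv (h2 : (2 : F) ≠ 0) {g : SpecialLinearGroup (Fin 3) F} (hg : g * g = 1)
    (hg1 : g ≠ 1) : ∃ p : SpecialLinearGroup (Fin 3) F, g * p = p * stdInv F := by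
  classical
  set A := (g : Matrix (Fin 3) (Fin 3) F)
  have hA : A * A = 1 := congrArg (fun B : SpecialLinearGroup (Fin 3) F => (B : Matrix (Fin 3) (Fin 3) F)) hg
  have hfin : ∀ y : Subgroup.zpowers g, y.1 = 1 ∨ y.1 = g := by
    rintro ⟨y, hy⟩
    obtain ⟨k, rfl⟩ := Subgroup.mem_zpowers_iff.1 hy
    rcases Int.even_or_odd k with ⟨m, rfl⟩ | ⟨m, rfl⟩
    · left
      show g ^ (m + m) = 1
      rw [_root_.zpow_add, ← (Commute.refl g).mul_zpow, hg, _root_.one_zpow]
    · right
      show g ^ (2 * m + 1) = g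
      rw [_root_.zpow_add, _root_.zpow_one, two_mul, _root_.zpow_add, ← (Commute.refl g).mul_zpow,
        hg, _root_.one_zpow, one_mul]
  haveI : Finite (Subgroup.zpowers g) := by
    refine Finite.of_surjective (fun b : Bool => if b then (1 : Subgroup.zpowers g) else
      ⟨g, Subgroup.mem_zpowers g⟩) fun y => ?_
    rcases hfin y with h | h
    · exact ⟨true, Subtype.ext (by simp [h])⟩
    · exact ⟨false, Subtype.ext (by simp [h])⟩
  let ρ : Subgroup.zpowers g →* ((Fin 3 → F) ≃ₗ[F] (Fin 3 → F)) :=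
    (Matrix.SpecialLinearGroup.toLin' (n := Fin 3) (R := F)).comp (Subgroup.zpowers g).subtype
  have he : ∀ e : Subgroup.zpowers g, e * e = 1 := fun e => Subtype.ext (by
    rcases hfin e with h | h
    · simp [h]
    · simp [h, hg])
  obtain ⟨n, b, w, hw, hb⟩ := Classical.SignRank.exists_sign_basis ρ h2 he
  have hn : n = 3 := by
    have := Module.finrank_eq_card_basis b
    rw [Module.finrank_fin_fun, Fintype.card_fin] at this
    exact this.symm
  subst hn
  set e0 : Subgroup.zpowers g := ⟨g, Subgroup.mem_zpowers g⟩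
  set s : Fin 3 → F := fun i => w i e0
  have hs : ∀ i, s i = 1 ∨ s i = -1 := fun i => hw i e0
  have hAb : ∀ i, A *ᵥ b i = s i • b i := fun i => by
    rw [← Matrix.toLin'_apply]
    exact hb i e0
  -- the matrix with columns the sign basis
  set P : Matrix (Fin 3) (Fin 3) F := Matrix.of fun i j => b j i
  have hP : A * P = P * Matrix.diagonal s := by
    ext i j
    rw [Matrix.mul_diagonal]
    have := congrFun (hAb j) i
    simp only [Matrix.mulVec, dotProduct, Pi.smul_apply, smul_eq_mul] at this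
    rw [Matrix.mul_apply]
    show ∑ k, A i k * b j k = b j i * s j
    rw [this, mul_comm]
  have hdetP : P.det ≠ 0 := by
    have h := (Module.Basis.isUnit_det (Pi.basisFun F (Fin 3)) b).ne_zero
    rwa [Module.Basis.det_apply, show (Pi.basisFun F (Fin 3)).toMatrix b = P from rfl] at h
  have hprod : s 0 * s 1 * s 2 = 1 := by
    have h := congrArg Matrix.det hP
    rw [Matrix.det_mul, Matrix.det_mul, Matrix.det_diagonal, Fin.prod_univ_three,
      show A.det = 1 from g.2, one_mul] at h
    exact (mul_eq_left₀ hdetP).1 h.symm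
  have hne : ¬ ∀ i, s i = 1 := by
    intro h
    apply hg1
    refine Subtype.ext ?_
    have hd : Matrix.diagonal s = 1 := by rw [funext h]; exact Matrix.diagonal_one
    rw [hd, mul_one] at hP
    have hu : IsUnit P.det := isUnit_iff_ne_zero.2 hdetP
    calc A = A * P * P⁻¹ := by rw [Matrix.mul_nonsing_inv_cancel_right _ _ hu]
      _ = 1 := by rw [hP, Matrix.mul_nonsing_inv _ hu]
  have h11 : (-1 : F) ≠ 1 := fun h => h2 (by linear_combination -h)
  obtain ⟨i0, hi0⟩ : ∃ i0 : Fin 3, ∀ j, s (Equiv.swap 0 i0 j) = ![1, -1, -1] j := by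
    rcases hs 0 with a | a <;> rcases hs 1 with c | c <;> rcases hs 2 with d | d
    · exact absurd (fun i => by fin_cases i <;> assumption) hne
    · simp [a, c, d, h11] at hprod
    · simp [a, c, d, h11] at hprod
    · exact ⟨0, fun j => by fin_cases j <;> simp [a, c, d]⟩
    · simp [a, c, d, h11] at hprod
    · refine ⟨1, fun j => ?_⟩
      fin_cases j <;> simp [Equiv.swap_apply_def, a, c, d]
    · refine ⟨2, fun j => ?_⟩
      fin_cases j <;> simp [Equiv.swap_apply_def, a, c, d]
    · simp [a, c, d, h11] at hprod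
  set Q : Matrix (Fin 3) (Fin 3) F := Matrix.of fun i j => P i (Equiv.swap 0 i0 j)
  have hQ : A * Q = Q * Matrix.diagonal ![1, -1, -1] := by
    ext i j
    rw [Matrix.mul_diagonal]
    have := congrFun (congrFun hP i) (Equiv.swap 0 i0 j)
    rw [Matrix.mul_diagonal, hi0 j] at this
    exact this
  have hdQ : Q.det ≠ 0 := by
    rw [show Q = P.submatrix id (Equiv.swap 0 i0) from rfl, Matrix.det_permute']
    exact mul_ne_zero (by rcases Int.units_eq_one_or (Equiv.Perm.sign (Equiv.swap 0 i0)) with h | h <;> simp [h]) hdetP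
  refine ⟨⟨Q * Matrix.diagonal ![Q.det⁻¹, 1, 1], by
    simp [Matrix.det_diagonal, Fin.prod_univ_three, hdQ]⟩, Subtype.ext ?_⟩
  show A * (Q * Matrix.diagonal ![Q.det⁻¹, 1, 1]) =
    Q * Matrix.diagonal ![Q.det⁻¹, 1, 1] * Matrix.diagonal ![1, -1, -1]
  rw [← mul_assoc, hQ, mul_assoc, mul_assoc, Matrix.diagonal_mul_diagonal, Matrix.diagonal_mul_diagonal]
  congr 2
  funext i
  exact mul_comm _ _

theorem main [Fintype F] (hF : Odd (Fintype.card F))
    (t : ProjectiveSpecialLinearGroup (Fin 3) F) (ht : orderOf t = 2) :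
    ∃ (Z : Subgroup (GL (Fin 2) F)) (_ : Z.Normal), Z ≤ Subgroup.center (GL (Fin 2) F) ∧
      Nat.card Z = Nat.gcd (Fintype.card F - 1) 3 ∧
      Nonempty (↥(Subgroup.centralizer ({t} : Set (ProjectiveSpecialLinearGroup (Fin 3) F))) ≃*
        GL (Fin 2) F ⧸ Z) := by
  have h2 : (2 : F) ≠ 0 := Ring.two_ne_zero (fun h => by
    have := FiniteField.even_card_iff_char_two.1 h
    rw [Nat.odd_iff] at hF
    omega)
  obtain ⟨g, rfl⟩ := QuotientGroup.mk'_surjective _ t
  have hz : g * g ∈ Subgroup.center (SpecialLinearGroup (Fin 3) F) := by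
    rw [← QuotientGroup.eq_one_iff]
    show QuotientGroup.mk' _ (g * g) = 1
    rw [map_mul, ← pow_two, ← ht, pow_orderOf_eq_one]
  set g' := g * (g * g)
  have hg' : g' * g' = 1 := by
    have := pow_three_of_mem_center hz
    rw [← this]
    simp only [g', pow_succ, pow_zero, one_mul, mul_assoc]
  have hmk : QuotientGroup.mk' (Subgroup.center (SpecialLinearGroup (Fin 3) F)) g' =
      QuotientGroup.mk' (Subgroup.center (SpecialLinearGroup (Fin 3) F)) g := by
    rw [map_mul, show QuotientGroup.mk' _ (g * g) = 1 from (QuotientGroup.eq_one_iff _).2 hz, mul_one]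
  have hg1 : g' ≠ 1 := by
    intro h
    rw [h, map_one] at hmk
    rw [← hmk, orderOf_one] at ht
    omega
  obtain ⟨p, hp⟩ := exists_conj_stdInv h2 hg' hg1
  set π := QuotientGroup.mk' (Subgroup.center (SpecialLinearGroup (Fin 3) F))
  have ht' : MulAut.conj (π p) (π (stdInv F)) = π g := by
    rw [MulAut.conj_apply, ← map_mul, ← hp, map_mul, mul_inv_cancel_right, hmk]
  have hmap : (Subgroup.centralizer ({π (stdInv F)} : Set (ProjectiveSpecialLinearGroup (Fin 3) F))).map
      (MulAut.conj (π p)).toMonoidHom =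
      Subgroup.centralizer ({π g} : Set (ProjectiveSpecialLinearGroup (Fin 3) F)) := by
    ext y
    rw [Subgroup.mem_map_equiv, Subgroup.mem_centralizer_singleton_iff,
      Subgroup.mem_centralizer_singleton_iff, ← ht', ← (MulAut.conj (π p)).injective.eq_iff, map_mul,
      map_mul, MulEquiv.apply_symm_apply]
  refine ⟨(toPSL (F := F)).ker, inferInstance, ker_toPSL_le_center, card_ker_toPSL h2, ⟨?_⟩⟩
  exact ((((QuotientGroup.quotientKerEquivRange _).trans (MulEquiv.subgroupCongr (range_toPSL h2))).trans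
    ((MulAut.conj (π p)).subgroupMap _)).trans (MulEquiv.subgroupCongr hmap)).symm

end CfsgLib.TwoGroups.PSLThree
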