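import Mathlib
import Cfsg.Agent.Lib.TwoGroups.SemiDihedralFusion
import Cfsg.Agent.Lib.TwoGroups.WreathedConclusions

/-!
The centraliser of an involution in a group with quasi-dihedral or wreathed Sylow 2-subgroup and
no subgroup of index two.
-/

set_option autoImplicit false

namespace CfsgLib.TwoGroups

variable {G : Type*} [Group G] [Finite G]

omit [Finite G] in
/-- Moving a Sylow embedding of a model by conjugation. -/
theorem exists_conj_model [Finite G] {P : Type*} [Group P] {S : Sylow 2 G} {f : P →* G}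
    (hf : Function.Injective f) (hS : f.range = (S : Subgroup G)) {a : P} {x : G}
    (h : IsConj (f a) x) :
    ∃ (S' : Sylow 2 G) (f' : P →* G), Function.Injective f' ∧ f'.range = (S' : Subgroup G) ∧
      f' a = x ∧ Nat.card S' = Nat.card S := by
  obtain ⟨g, hg⟩ := isConj_iff.1 h
  refine ⟨g • S, (MulAut.conj g).toMonoidHom.comp f, (MulAut.conj g).injective.comp hf, ?_, hg,
    (Nat.card_congr ((S : Subgroup G).equivSMul (MulAut.conj g)).toEquiv).symm⟩
  rw [MonoidHom.range_comp, hS, Sylow.coe_subgroup_smul]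
  ext y
  rw [mem_map_conj, Subgroup.mem_pointwise_smul_iff_inv_smul_mem]
  simp [MulAut.smul_def, mul_assoc]

/-- The embedding of the model in the centraliser of a central element. -/
theorem exists_centralizer_model {P : Type*} [Group P] {S : Sylow 2 G} {f : P →* G}
    (hf : Function.Injective f) (hS : f.range = (S : Subgroup G)) {a : P} (ha : ∀ b, b * a = a * b)
    {x : G} (hx : f a = x) :
    ∃ (R : Sylow 2 (Subgroup.centralizer ({x} : Set G)))
      (f' : P →* Subgroup.centralizer ({x} : Set G)), Function.Injective f' ∧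
      f'.range = (R : Subgroup (Subgroup.centralizer ({x} : Set G))) ∧ Nat.card R = Nat.card S ∧
      ∀ b, (f' b : G) = f b := by
  subst hx
  have hSC : (S : Subgroup G) ≤ Subgroup.centralizer {f a} := by
    rw [← hS]
    rintro _ ⟨b, rfl⟩
    rw [Subgroup.mem_centralizer_singleton_iff, ← map_mul, ← map_mul, ha]
  refine ⟨S.subtype hSC, MonoidHom.codRestrict f _ (fun b => hSC (hS ▸ ⟨b, rfl⟩)),
    fun b b' e => hf (congrArg Subtype.val e :), ?_, ?_, fun b => rfl⟩
  · rw [Sylow.coe_subtype]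
    ext y
    rw [Subgroup.mem_subgroupOf, MonoidHom.mem_range]
    refine ⟨fun ⟨b, hb⟩ => hS.le ⟨b, congrArg Subtype.val hb⟩, fun hy => ?_⟩
    obtain ⟨b, hb⟩ := hS.ge hy
    exact ⟨b, Subtype.ext hb⟩
  · show Nat.card ((S.subtype hSC : Sylow 2 _) : Subgroup (Subgroup.centralizer {f a})) = _
    rw [Sylow.coe_subtype]
    exact Nat.card_congr (Subgroup.subgroupOfEquivOfLe hSC).toEquiv

theorem qd_centralizer {S : Sylow 2 G} (hS : Cfsg.IsQuasiDihedral (S : Subgroup G))
    (hG : ∀ H : Subgroup G, H.index ≠ 2) {x : G} (hx : orderOf x = 2) :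
    ∃ R : Sylow 2 (Subgroup.centralizer ({x} : Set G)), Nat.card R = Nat.card S ∧
      (∃ K : Subgroup (Subgroup.centralizer ({x} : Set G)), K.Normal ∧ (∃ a : ℕ, K.index = 2 ^ a) ∧
        (∀ H : Subgroup K, H.index ≠ 2) ∧
        ∀ P : Sylow 2 K, ∃ k : ℕ, 1 ≤ k ∧ Nonempty ((P : Subgroup K) ≃* QuaternionGroup (2 ^ k))) ∧
      ∀ Z : Subgroup (Subgroup.centralizer ({x} : Set G)),
        Z ≤ (Subgroup.center (R : Subgroup (Subgroup.centralizer ({x} : Set G)))).map
          (R : Subgroup (Subgroup.centralizer ({x} : Set G))).subtype →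
        Cfsg.IsWeaklyClosed Z (R : Subgroup (Subgroup.centralizer ({x} : Set G))) := by
  open SemiDihedral in
  obtain ⟨m, f, hf, hr⟩ := SemiDihedral.exists_model hS
  open SemiDihedral in
  have hI := invFused_of_no_index_two hf hr hG
  open SemiDihedral in
  have hxc : IsConj (f (rot (h m))) x := by
    rcases involution_cases hf hr hx with e | e
    exacts [e.symm, (e.trans hI).symm]
  obtain ⟨S', f₁, hf₁, hr₁, hx₁, hcard₁⟩ := exists_conj_model hf hr hxc
  open SemiDihedral in
  have hF := fourFused_of_no_index_two hf₁ hr₁ hG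
  open SemiDihedral in
  obtain ⟨R, f', hf', hr', hcard, hval⟩ := exists_centralizer_model hf₁ hr₁ (a := rot (h m))
    (fun b => Subgroup.mem_center_iff.1 (center_eq.ge (Subgroup.mem_zpowers _)) b) hx₁
  open SemiDihedral in
  have hI' : ¬ InvFused f' := by
    intro e
    obtain ⟨g, hg⟩ := isConj_iff.1 e.symm
    have hg' : (g : G) * x * (g : G)⁻¹ = f₁ (ref 0) := by
      have := congrArg Subtype.val hg
      simp only [Subgroup.coe_mul, Subgroup.coe_inv, hval, hx₁] at this
      exact this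
    rw [Subgroup.mem_centralizer_singleton_iff.1 g.2, mul_inv_cancel_right, ← hx₁] at hg'
    exact rot_ne_ref _ _ (hf₁ hg')
  open SemiDihedral in
  have hF' : FourFused f' := by
    obtain ⟨g, hg⟩ := isConj_iff.1 hF
    have hgC : g ∈ Subgroup.centralizer ({x} : Set G) := by
      rw [Subgroup.mem_centralizer_singleton_iff, ← hx₁]
      have h1 : f₁ (ref 1) * f₁ (ref 1) = f₁ (rot (h m)) := by rw [← map_mul, ref_sq, mul_one]
      have h2 : f₁ (rot (q m)) * f₁ (rot (q m)) = f₁ (rot (h m)) := by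
        rw [← map_mul, rot_mul_rot, q_add_q]
      rw [← mul_inv_eq_iff_eq_mul]
      calc g * f₁ (rot (h m)) * g⁻¹ = g * f₁ (ref 1) * g⁻¹ * (g * f₁ (ref 1) * g⁻¹) := by
            rw [← h1]; group
        _ = f₁ (rot (h m)) := by rw [hg, h2]
    exact isConj_iff.2 ⟨⟨g, hgC⟩, Subtype.ext (by simp only [Subgroup.coe_mul, Subgroup.coe_inv, hval]; exact hg)⟩
  obtain ⟨K, hK1, hK2, hK3, hK4⟩ := SemiDihedral.exists_quaternion_normal hf' hr' hI' hF'
  exact ⟨R, hcard.trans hcard₁, ⟨K, hK1, ⟨1, by rw [hK2, pow_one]⟩, hK4, hK3⟩,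
    fun Z hZ => SemiDihedral.weaklyClosed_of_not_invFused hf' hr' hI' hZ⟩

theorem wreathed_centralizer {S : Sylow 2 G} (hS : Cfsg.IsWreathed (S : Subgroup G))
    (hG : ∀ H : Subgroup G, H.index ≠ 2) {x : G} (hx : orderOf x = 2) :
    ∃ R : Sylow 2 (Subgroup.centralizer ({x} : Set G)), Nat.card R = Nat.card S ∧
      (∃ K : Subgroup (Subgroup.centralizer ({x} : Set G)), K.Normal ∧ (∃ a : ℕ, K.index = 2 ^ a) ∧
        (∀ H : Subgroup K, H.index ≠ 2) ∧
        ∀ P : Sylow 2 K, ∃ k : ℕ, 1 ≤ k ∧ Nonempty ((P : Subgroup K) ≃* QuaternionGroup (2 ^ k))) ∧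
      ∀ Z : Subgroup (Subgroup.centralizer ({x} : Set G)),
        Z ≤ (Subgroup.center (R : Subgroup (Subgroup.centralizer ({x} : Set G)))).map
          (R : Subgroup (Subgroup.centralizer ({x} : Set G))).subtype →
        Cfsg.IsWeaklyClosed Z (R : Subgroup (Subgroup.centralizer ({x} : Set G))) := by
  open WreathTwo in
  obtain ⟨m, f, -, hf, hr⟩ := WreathTwo.exists_model hS
  open WreathTwo in
  have h1 := baseFused_of_no_index_two hf hr hG
  open WreathTwo in
  have h2 := outerFused_of_no_index_two hf hr hG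
  open WreathTwo in
  have hxc : IsConj (f (u (h m) (h m))) x := by
    rcases involution_cases hf hr hx with e | e | e
    exacts [e.symm, (e.trans h1).symm, ((e.trans h2).trans h1).symm]
  obtain ⟨S', f₁, hf₁, hr₁, hx₁, hcard₁⟩ := exists_conj_model hf hr hxc
  open WreathTwo in
  have h2₁ := outerFused_of_no_index_two hf₁ hr₁ hG
  open WreathTwo in
  obtain ⟨R, f', hf', hr', hcard, hval⟩ := exists_centralizer_model hf₁ hr₁ (a := u (h m) (h m))
    (fun b => Subgroup.mem_center_iff.1 (diag_mem_center (h m)) b) hx₁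
  open WreathTwo in
  have h1' : ¬ BaseFused f' := by
    intro e
    obtain ⟨g, hg⟩ := isConj_iff.1 e.symm
    have hg' : (g : G) * x * (g : G)⁻¹ = f₁ (u (h m) 0) := by
      have := congrArg Subtype.val hg
      simp only [Subgroup.coe_mul, Subgroup.coe_inv, hval, hx₁] at this
      exact this
    rw [Subgroup.mem_centralizer_singleton_iff.1 g.2, mul_inv_cancel_right, ← hx₁] at hg'
    exact h_ne (u_inj.1 (hf₁ hg')).2
  open WreathTwo in
  have h2' : OuterFused f' := by
    obtain ⟨k, hk, hkv⟩ := outer_of_outerFused hf₁ hr₁ h2₁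
    have hkC : k ∈ Subgroup.centralizer ({x} : Set G) := by
      rw [Subgroup.mem_centralizer_singleton_iff, ← hx₁, ← mul_inv_eq_iff_eq_mul]
      exact conj_c0_of_mem_centralizer hk (h m)
    exact isConj_iff.2 ⟨⟨k, hkC⟩, Subtype.ext (by simp only [Subgroup.coe_mul, Subgroup.coe_inv, hval]; exact hkv)⟩
  obtain ⟨K, hK1, hK2, hK3, hK4⟩ := WreathTwo.exists_quaternion_normal hf' hr' h1' h2'
  exact ⟨R, hcard.trans hcard₁, ⟨K, hK1, ⟨_, hK2⟩, hK4, hK3⟩,
    fun Z hZ => WreathTwo.weaklyClosed_of_not_baseFused hf' hr' h1' hZ⟩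

end CfsgLib.TwoGroups
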