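import Mathlib
import Cfsg.Prelude.Def_TwoFusion
import Cfsg.Agent.Lib.TwoGroups.DihedralModel
import Cfsg.Agent.Lib.TwoGroups.LocalSylow
import Cfsg.Agent.Lib.TwoGroups.Automizer
import Cfsg.Agent.Lib.TwoGroups.FusionTools
import Cfsg.Agent.Lib.Transfer.PResidual
import Cfsg.Agent.Lib.Char.Exceptional.Quaternion

/-!
Fusion in a finite group with a dihedral Sylow 2-subgroup, given by an embedding of the model.
-/

set_option autoImplicit false

namespace CfsgLib.TwoGroups.Dihedral

open DihedralGroup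

variable {X : Type*} [Group X] {n : ℕ}

theorem mem_normalizer_map {f : DihedralGroup (2 ^ n) →* X} (hf : Function.Injective f)
    {H : Subgroup (DihedralGroup (2 ^ n))} {g : DihedralGroup (2 ^ n)} :
    f g ∈ Subgroup.normalizer ((H.map f : Subgroup X) : Set X) ↔
      g ∈ Subgroup.normalizer (H : Set (DihedralGroup (2 ^ n))) := by
  haveI : NeZero (2 ^ n) := ⟨pow_ne_zero _ two_ne_zero⟩
  constructor
  · intro h
    refine Subgroup.mem_normalizer_iff.2 fun v => ?_
    rw [← Subgroup.mem_map_iff_mem hf (K := H), ← Subgroup.mem_map_iff_mem hf (K := H) (x := g * v * g⁻¹),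
      map_mul, map_mul, map_inv]
    exact Subgroup.mem_normalizer_iff.1 h (f v)
  · intro h
    rw [← map_conj_eq_iff_mem_normalizer]
    refine Eq.trans ?_ (congrArg (Subgroup.map f) (map_conj_eq_iff_mem_normalizer.2 h))
    rw [Subgroup.map_map, Subgroup.map_map]
    congr 1
    ext v
    simp

theorem map_conj_map (f : DihedralGroup (2 ^ n) →* X) (g : DihedralGroup (2 ^ n))
    (H : Subgroup (DihedralGroup (2 ^ n))) :
    (H.map f).map (MulAut.conj (f g)).toMonoidHom = (H.map (MulAut.conj g).toMonoidHom).map f := by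
  rw [Subgroup.map_map, Subgroup.map_map]
  congr 1
  ext v
  simp

theorem isPGroup_map (f : DihedralGroup (2 ^ n) →* X) (H : Subgroup (DihedralGroup (2 ^ n))) :
    IsPGroup 2 (H.map f) := by
  have h : IsPGroup 2 (DihedralGroup (2 ^ n)) :=
    IsPGroup.of_card (n := n + 1) (by rw [DihedralGroup.nat_card, pow_succ'])
  exact (h.to_subgroup H).map f

theorem isConj_map_sr (f : DihedralGroup (2 ^ n) →* X) (i : ZMod (2 ^ n)) :
    IsConj (f (sr i)) (f (sr 0)) ∨ IsConj (f (sr i)) (f (sr 1)) := by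
  obtain ⟨a, h | h⟩ := exists_conj_parity i
  · exact Or.inl (isConj_iff.2 ⟨f (r a), by rw [← map_inv, ← map_mul, ← map_mul, conj_r_sr, h]⟩)
  · exact Or.inr (isConj_iff.2 ⟨f (r a), by rw [← map_inv, ← map_mul, ← map_mul, conj_r_sr, h]⟩)

theorem isConj_map_sr_of_parity (hn : 1 ≤ n) (f : DihedralGroup (2 ^ n) →* X)
    {i j : ZMod (2 ^ n)} (h : parity hn i = parity hn j) : IsConj (f (sr i)) (f (sr j)) := by
  obtain ⟨c, hc⟩ := (half_mul_eq_zero_iff hn).1
    ((parity_eq_zero_iff hn (t := i - j)).1 (by rw [map_sub, h, sub_self]))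
  exact isConj_iff.2 ⟨f (r c), by
    rw [← map_inv, ← map_mul, ← map_mul, conj_r_sr, show i - 2 * c = j by linear_combination hc]⟩

section Sylow

variable [Finite X] {S : Sylow 2 X} {f : DihedralGroup (2 ^ n) →* X} (hf : Function.Injective f)
  (hS : f.range = (S : Subgroup X))

include hS in
theorem map_le_sylow (H : Subgroup (DihedralGroup (2 ^ n))) : H.map f ≤ (S : Subgroup X) := by
  rw [← hS]; exact Subgroup.map_le_range f H

include hf hS in
theorem exists_eq_map_lev (hn : 1 ≤ n) {j : ℕ} (hj1 : 1 ≤ j) (hj : j ≤ n) {i : ZMod (2 ^ n)}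
    {x : X} (hx : ((lev j i).map f).map (MulAut.conj x).toMonoidHom ≤ (S : Subgroup X)) :
    ∃ i', ((lev j i).map f).map (MulAut.conj x).toMonoidHom = (lev j i').map f := by
  set P := ((lev j i).map f).map (MulAut.conj x).toMonoidHom with hP
  have hPr : P ≤ f.range := hS ▸ hx
  have hPeq : (P.comap f).map f = P := Subgroup.map_comap_eq_self hPr
  have hcard : Nat.card (P.comap f) = 2 ^ (j + 1) := by
    rw [← Subgroup.card_map_of_injective hf, hPeq, hP, natCard_map_conj,
      Subgroup.card_map_of_injective hf, natCard_lev hj]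
  have key : ∀ v, v ∈ lev j i → v * v = 1 → v ≠ 1 →
      ∃ a, a ∈ P.comap f ∧ a * a = 1 ∧ a ≠ 1 ∧ f a = x * f v * x⁻¹ := by
    intro v hv h2 h1
    obtain ⟨a, ha⟩ := hPr (conj_mem_map_conj (g := x) (Subgroup.mem_map_of_mem f hv))
    refine ⟨a, ?_, hf ?_, ?_, ha⟩
    · rw [Subgroup.mem_comap, ha]
      exact conj_mem_map_conj (Subgroup.mem_map_of_mem f hv)
    · rw [map_mul, map_one, ha, show x * f v * x⁻¹ * (x * f v * x⁻¹) = x * (f v * f v) * x⁻¹ by group,
        ← map_mul, h2, map_one, mul_one, mul_inv_cancel]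
    · intro h
      rw [h, map_one, eq_comm, conj_eq_one_iff, ← map_one f] at ha
      exact h1 (hf ha)
  obtain ⟨a, ha, ha2, ha1, ha'⟩ := key _ (r_half_mem_lev hn hj1 i)
    (by rw [r_mul_r, half_add_half hn]; rfl)
    (by rw [Ne, one_def, r.injEq]; exact half_ne_zero hn)
  obtain ⟨b, hb, hb2, hb1, hb'⟩ := key _ (sr_mem_lev_self j i) (sr_mul_self i)
    (fun h => by rw [one_def] at h; cases h)
  have hab : a ≠ b := by
    intro h
    rw [h, hb'] at ha'
    have := hf (mul_left_cancel (mul_right_cancel ha'))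
    simp at this
  obtain ⟨i', hi'⟩ := exists_eq_lev hn hj hcard ha hb ha2 hb2 ha1 hb1 hab
  exact ⟨i', by rw [← hPeq, hi']⟩

include hf hS in
theorem maximal_in_normalizer (hn : 1 ≤ n) {j : ℕ} (hj1 : 1 ≤ j) (hj : j + 1 ≤ n)
    (i : ZMod (2 ^ n)) {P : Subgroup X}
    (hP : P ≤ Subgroup.normalizer (((lev j i).map f : Subgroup X) : Set X)) (hP2 : IsPGroup 2 P)
    (hle : (lev (j + 1) i).map f ≤ P) : Nat.card P ≤ Nat.card ((lev (j + 1) i).map f) := by
  haveI : NeZero (2 ^ n) := ⟨pow_ne_zero _ two_ne_zero⟩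
  obtain ⟨x, hx⟩ := exists_conj_le_sylow S hP2
  have hLP : (lev j i).map f ≤ P := by
    refine le_trans (Subgroup.map_mono ?_) hle
    rintro (t | t) ht
    · rw [r_mem_lev] at ht ⊢; linear_combination 2 * ht
    · rw [sr_mem_lev] at ht ⊢; linear_combination 2 * ht
  obtain ⟨i', hi'⟩ := exists_eq_map_lev hf hS hn hj1 (by omega) ((Subgroup.map_mono hLP).trans hx)
  have hxN : P.map (MulAut.conj x).toMonoidHom ≤ (lev (j + 1) i').map f := by
    intro y hy
    obtain ⟨a, rfl⟩ := (hS ▸ hx) hy
    refine Subgroup.mem_map_of_mem f ?_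
    rw [← normalizer_lev, ← mem_normalizer_map hf, ← hi', ← map_conj_eq_iff_mem_normalizer]
    obtain ⟨p, hp, hpa⟩ := hy
    have hpa' : f a = x * p * x⁻¹ := hpa.symm
    rw [← map_conj_mul, hpa', show x * p * x⁻¹ * x = x * p by group, map_conj_mul,
      map_conj_eq_iff_mem_normalizer.2 (hP hp)]
  have := Nat.card_mono (Set.toFinite _) (show ((P.map (MulAut.conj x).toMonoidHom : Subgroup X) : Set X)
    ⊆ (((lev (j + 1) i').map f : Subgroup X) : Set X) from hxN)
  simp only [SetLike.coe_sort_coe, natCard_map_conj, Subgroup.card_map_of_injective hf,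
    natCard_lev hj] at this ⊢
  exact this

include hf hS in
theorem conj_step (hn : 1 ≤ n) {j : ℕ} (hj1 : 1 ≤ j) (hj : j + 1 ≤ n) {g : X}
    (hg : ((lev j (0 : ZMod (2 ^ n))).map f).map (MulAut.conj g).toMonoidHom = (lev j 1).map f) :
    ∃ g' : X, ((lev j (0 : ZMod (2 ^ n))).map f).map (MulAut.conj g').toMonoidHom = (lev j 1).map f ∧
      ((lev (j + 1) (0 : ZMod (2 ^ n))).map f).map (MulAut.conj g').toMonoidHom =
        (lev (j + 1) 1).map f := by
  set L0 := (lev j (0 : ZMod (2 ^ n))).map f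
  set T := (lev (j + 1) (0 : ZMod (2 ^ n))).map f
  have hTN : T ≤ Subgroup.normalizer (L0 : Set X) := by
    rintro _ ⟨a, ha, rfl⟩
    exact (mem_normalizer_map hf).2 (by rw [normalizer_lev]; exact ha)
  have hQN : ((lev (j + 1) 1).map f).map (MulAut.conj g⁻¹).toMonoidHom ≤
      Subgroup.normalizer (L0 : Set X) := by
    intro y hy
    rw [mem_map_conj, inv_inv] at hy
    obtain ⟨a, ha, hay⟩ := hy
    have h1 : g * y * g⁻¹ ∈ Subgroup.normalizer ((L0.map (MulAut.conj g).toMonoidHom : Subgroup X) :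
        Set X) := by
      rw [hg, ← hay]
      exact (mem_normalizer_map hf).2 (by rw [normalizer_lev]; exact ha)
    rw [← map_conj_eq_iff_mem_normalizer, ← map_conj_mul,
      show g * y * g⁻¹ * g = g * y by group, map_conj_mul] at h1
    exact map_conj_eq_iff_mem_normalizer.1
      (Subgroup.map_injective (f := (MulAut.conj g).toMonoidHom) (MulAut.conj g).injective h1)
  obtain ⟨k, hk, hk'⟩ := exists_conj_le_of_maximal hTN (isPGroup_map f _)
    (fun P hP hP2 hle => maximal_in_normalizer hf hS hn hj1 hj 0 hP hP2 hle) hQN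
    ((isPGroup_map f _).map _)
  have heq : (((lev (j + 1) 1).map f).map (MulAut.conj g⁻¹).toMonoidHom).map
      (MulAut.conj k).toMonoidHom = T :=
    Subgroup.eq_of_le_of_card_ge hk' (by
      simp only [T, natCard_map_conj, Subgroup.card_map_of_injective hf, natCard_lev hj, le_refl])
  refine ⟨g * k⁻¹, ?_, ?_⟩
  · rw [map_conj_mul, map_conj_eq_iff_mem_normalizer.2 (inv_mem hk), hg]
  · show T.map _ = _
    rw [← heq, ← map_conj_mul, ← map_conj_mul,
      show g * k⁻¹ * k * g⁻¹ = 1 by group, map_conj_one]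

include hf hS in
/-- The two classes of four-groups are not fused. -/
theorem not_conj_four (hn : 2 ≤ n) (g : X) :
    ((lev 1 (0 : ZMod (2 ^ n))).map f).map (MulAut.conj g).toMonoidHom ≠ (lev 1 1).map f := by
  intro hg
  have hch : ∀ j, 1 ≤ j → j + 1 ≤ n → ∃ g : X,
      ((lev j (0 : ZMod (2 ^ n))).map f).map (MulAut.conj g).toMonoidHom = (lev j 1).map f := by
    intro j hj
    induction j, hj using Nat.le_induction with
    | base => exact fun _ => ⟨g, hg⟩
    | succ j hj ih =>
      intro hjn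
      obtain ⟨g1, h1⟩ := ih (by omega)
      obtain ⟨g2, -, h2⟩ := conj_step hf hS (by omega) hj (by omega) h1
      exact ⟨g2, h2⟩
  obtain ⟨g0, hg0⟩ := hch (n - 1) (by omega) (by omega)
  obtain ⟨g1, hA, hTop⟩ := conj_step hf hS (by omega) (by omega : 1 ≤ n - 1) (by omega) hg0
  simp only [show n - 1 + 1 = n by omega, lev_top, ← MonoidHom.range_eq_map, hS] at hTop
  set A := (lev (n - 1) (0 : ZMod (2 ^ n))).map f with hAdef
  set B := (lev (n - 1) (1 : ZMod (2 ^ n))).map f with hBdef
  have hABne : A ≠ B := by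
    intro h
    have h1 := Subgroup.map_injective hf h
    rw [lev_eq_lev_iff, zero_sub, mul_neg, mul_one, neg_eq_zero] at h1
    exact half_ne_zero (by omega : 1 ≤ n) (by rw [half]; push_cast; exact h1)
  have hB : B.map (MulAut.conj g1).toMonoidHom = A := by
    obtain ⟨i, hi⟩ := exists_eq_map_lev hf hS (by omega) (by omega : 1 ≤ n - 1) (by omega)
      (i := (1 : ZMod (2 ^ n))) (x := g1) ((Subgroup.map_mono (map_le_sylow hS _)).trans hTop.le)
    rw [← hBdef] at hi
    have hor : lev (n - 1) i = lev (n - 1) 0 ∨ lev (n - 1) i = lev (n - 1) 1 := by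
      have h2 : (2 : ZMod (2 ^ n)) ^ (n - 1) * 2 = 0 := by
        rw [← pow_succ, show n - 1 + 1 = n by omega]
        have h := ZMod.natCast_self (2 ^ n); push_cast at h; exact h
      obtain ⟨c, rfl | rfl⟩ := exists_two_mul i
      · exact Or.inl ((lev_eq_lev_iff _ _ _).2 (by linear_combination c * h2))
      · exact Or.inr ((lev_eq_lev_iff _ _ _).2 (by linear_combination c * h2))
    rcases hor with h | h
    · rw [hi, h, hAdef]
    · exfalso
      rw [h, ← hBdef] at hi
      exact hABne (Subgroup.map_injective (f := (MulAut.conj g1).toMonoidHom)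
        (MulAut.conj g1).injective (hA.trans hi.symm))
  have hpow : ∀ k : ℕ, A.map (MulAut.conj (g1 ^ (2 * k + 1))).toMonoidHom = B := by
    intro k
    induction k with
    | zero => rw [mul_zero, zero_add, pow_one]; exact hA
    | succ k ih =>
      rw [show 2 * (k + 1) + 1 = 1 + (1 + (2 * k + 1)) by ring, pow_add, pow_one, map_conj_mul,
        pow_add g1 1 (2 * k + 1), pow_one, map_conj_mul, ih, hB, hA]
  -- the 2-part lies in the Sylow subgroup, which fixes both
  obtain ⟨a, q, hq, hord⟩ := Nat.exists_eq_two_pow_mul_odd (orderOf_pos g1).ne'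
  obtain ⟨k, hk⟩ := hq
  have hmem : g1 ^ q ∈ (S : Subgroup X) :=
    mem_sylow_of_mem_normalizer S (pow_mem (map_conj_eq_iff_mem_normalizer.1 hTop) q)
      ⟨a, by rw [← pow_mul, mul_comm, ← hord, pow_orderOf_eq_one]⟩
  obtain ⟨d, hd⟩ := (hS ▸ hmem : g1 ^ q ∈ f.range)
  apply hABne
  rw [← hpow k, ← hk, ← hd]
  refine (map_conj_eq_iff_mem_normalizer.2 ((mem_normalizer_map hf).2 ?_)).symm
  rw [normalizer_lev, show n - 1 + 1 = n by omega, lev_top]
  trivial

include hf hS in
/-- Every involution is conjugate to one of three. -/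
theorem exists_conj_involution (hn : 1 ≤ n) {z : X} (hz : orderOf z = 2) :
    IsConj z (f (r (half n))) ∨ IsConj z (f (sr 0)) ∨ IsConj z (f (sr 1)) := by
  obtain ⟨x, hx⟩ := exists_conj_le_sylow S (P := Subgroup.zpowers z)
    (IsPGroup.of_card (n := 1) (by rw [Nat.card_zpowers, hz, pow_one]))
  obtain ⟨a, ha⟩ := (hS ▸ hx) (conj_mem_map_conj (Subgroup.mem_zpowers z))
  have hzc : IsConj z (f a) := isConj_iff.2 ⟨x, ha.symm⟩
  rcases a with t | t
  · have hz2 : f (r t) * f (r t) = 1 := by
      rw [ha, show x * z * x⁻¹ * (x * z * x⁻¹) = x * (z * z) * x⁻¹ by group,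
        show z * z = 1 by rw [← pow_two, ← hz, pow_orderOf_eq_one], mul_one, mul_inv_cancel]
    refine Or.inl ?_
    by_cases h : r t * r t = (1 : DihedralGroup (2 ^ n))
    · rcases sq_eq_one_r hn h with h1 | h1
      · exfalso
        rw [h1, map_one, eq_comm, conj_eq_one_iff] at ha
        rw [ha, orderOf_one] at hz
        omega
      · rwa [h1] at hzc
    · exfalso
      apply h
      by_contra hne
      exact absurd hz2 (by rw [← map_mul]; exact fun e => hne (hf (e.trans (map_one f).symm)))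
  · exact Or.inr ((isConj_map_sr f t).imp hzc.trans hzc.trans)

include hf hS in
theorem exists_conj_four_group (hn : 1 ≤ n) {V : Subgroup X} (hV : IsKleinFour V) :
    ∃ x : X, V.map (MulAut.conj x).toMonoidHom = (lev 1 0).map f ∨
      V.map (MulAut.conj x).toMonoidHom = (lev 1 1).map f := by
  haveI : NeZero (2 ^ n) := ⟨pow_ne_zero _ two_ne_zero⟩
  haveI := hV
  obtain ⟨x, hx⟩ := exists_conj_le_sylow S (P := V)
    (IsPGroup.of_card (n := 2) (by rw [IsKleinFour.card_four]; norm_num))
  set P := V.map (MulAut.conj x).toMonoidHom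
  have hPr : P ≤ f.range := hS ▸ hx
  have hK : IsKleinFour (P.comap f) := by
    let e : V ≃* P := (V.equivMapOfInjective _ (MulAut.conj x).injective)
    let e2 : (P.comap f) ≃* P :=
      ((P.comap f).equivMapOfInjective f hf).trans
        (MulEquiv.subgroupCongr (Subgroup.map_comap_eq_self hPr))
    exact ⟨by rw [Nat.card_congr (e2.trans e.symm).toEquiv, IsKleinFour.card_four],
      by rw [Monoid.exponent_eq_of_mulEquiv (e2.trans e.symm), IsKleinFour.exponent_two]⟩
  obtain ⟨i, hi⟩ := exists_eq_lev_one hn hK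
  have hP : P = (lev 1 i).map f := by rw [← hi, Subgroup.map_comap_eq_self hPr]
  obtain ⟨a, ha | ha⟩ := exists_conj_parity i
  · exact ⟨f (r a) * x, Or.inl (by
      rw [map_conj_mul]; show P.map _ = _; rw [hP, map_conj_map, map_conj_r_lev, ha])⟩
  · exact ⟨f (r a) * x, Or.inr (by
      rw [map_conj_mul]; show P.map _ = _; rw [hP, map_conj_map, map_conj_r_lev, ha])⟩

include hS in
theorem sylow_le_centralizer_half (hn : 1 ≤ n) :
    (S : Subgroup X) ≤ Subgroup.centralizer {f (r (half n))} := by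
  rw [← hS]
  rintro _ ⟨a, rfl⟩
  rw [Subgroup.mem_centralizer_singleton_iff, ← map_mul, ← map_mul]
  congr 1
  rcases a with t | t
  · rw [r_mul_r, r_mul_r, add_comm]
  · rw [sr_mul_r, r_mul_sr, sub_eq_add_neg, neg_half hn]

theorem four_le_centralizer (i : ZMod (2 ^ n)) (f : DihedralGroup (2 ^ n) →* X) :
    (lev 1 i).map f ≤ Subgroup.centralizer {f (sr i)} := by
  rintro _ ⟨a, ha, rfl⟩
  rw [Subgroup.mem_centralizer_singleton_iff, ← map_mul, ← map_mul]
  congr 1
  have h1 := mul_self_of_mem_lev_one ((lev 1 i).mul_mem ha (sr_mem_lev_self 1 i))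
  have h2 := mul_self_of_mem_lev_one ha
  have h3 := inv_eq_of_mul_eq_one_right h1
  rwa [mul_inv_rev, inv_sr, inv_eq_of_mul_eq_one_right h2, eq_comm] at h3

include hf hS in
theorem index_six_of_isConj (hn : 2 ≤ n) {i : ZMod (2 ^ n)}
    (h : IsConj (f (sr i)) (f (r (half n)))) :
    (Subgroup.centralizer (((lev 1 i).map f : Subgroup X) : Set X)).relIndex
      (Subgroup.normalizer (((lev 1 i).map f : Subgroup X) : Set X)) = 6 := by
  obtain ⟨g, hg⟩ := isConj_iff.1 h
  obtain ⟨x, hx, hxS⟩ := exists_conj_le_sylow_of_isConj S (sylow_le_centralizer_half hS (by omega))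
    hg (isPGroup_map f (lev 1 i)) (four_le_centralizer i f)
  obtain ⟨k, hk⟩ := exists_eq_map_lev hf hS (by omega) le_rfl (by omega) hxS
  have hq : ∀ k, f (r (quarter n)) ∈
      Subgroup.normalizer (((lev 1 k).map f : Subgroup X) : Set X) := fun k =>
    (mem_normalizer_map hf).2 (by
      rw [normalizer_lev, r_mem_lev, show (1 + 1) = 2 from rfl, pow_two, mul_assoc,
        two_mul (quarter n), quarter_add_quarter hn, two_mul_half (by omega)])
  have hqsr : ∀ k, f (r (quarter n)) * f (sr k) * (f (r (quarter n)))⁻¹ = f (sr (k + half n)) :=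
    fun k => by
      rw [← map_inv, ← map_mul, ← map_mul, conj_r_sr, two_mul, quarter_add_quarter hn,
        sub_eq_add_neg, neg_half (by omega)]
  have hqc : f (r (quarter n)) * f (r (half n)) * (f (r (quarter n)))⁻¹ = f (r (half n)) := by
    rw [← map_inv, ← map_mul, ← map_mul, conj_r_r]
  obtain ⟨b, hbmem, hb⟩ := hk.le (conj_mem_map_conj (g := x)
    (Subgroup.mem_map_of_mem f (r_half_mem_lev (by omega : 1 ≤ n) le_rfl i)))
  have hbne : b ≠ 1 ∧ b ≠ r (half n) := by
    constructor
    · rintro rfl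
      rw [map_one, eq_comm, conj_eq_one_iff, ← map_one f] at hb
      exact half_ne_zero (by omega : 1 ≤ n) (r.inj ((hf hb).trans one_def))
    · rintro rfl
      have e := hf (mul_left_cancel (mul_right_cancel (hx.trans hb)))
      cases e
  have hsr : ∃ k', b = sr k' := by
    rcases (mem_lev_one (by omega : 1 ≤ n)).1 hbmem with rfl | rfl | rfl | rfl
    exacts [absurd rfl hbne.1, absurd rfl hbne.2, ⟨_, rfl⟩, ⟨_, rfl⟩]
  obtain ⟨k', rfl⟩ := hsr
  refine klein_relIndex_eq_six (n₁ := f (r (quarter n))) (n₂ := x⁻¹ * f (r (quarter n)) * x)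
    (t := f (sr i)) (t' := f (r (half n))) ?_ (hq i) ?_
    (Subgroup.mem_map_of_mem f (sr_mem_lev_self 1 i))
    (Subgroup.mem_map_of_mem f (r_half_mem_lev (by omega) le_rfl i)) ?_ ?_ ?_
  · refine ⟨?_, ?_⟩
    · rw [Subgroup.card_map_of_injective hf, natCard_lev (by omega)]; rfl
    · refine Nat.dvd_antisymm (Monoid.exponent_dvd_of_forall_pow_eq_one ?_) ?_
      · rintro ⟨_, a, ha, rfl⟩
        exact Subtype.ext (by
          show f a ^ 2 = 1
          rw [pow_two, ← map_mul, mul_self_of_mem_lev_one ha, map_one])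
      · have h2 : orderOf (⟨f (sr i), Subgroup.mem_map_of_mem f (sr_mem_lev_self 1 i)⟩ :
            (lev 1 i).map f) = 2 := by
          rw [Subgroup.orderOf_mk, orderOf_injective f hf, orderOf_sr]
        exact h2.symm.dvd.trans (Monoid.order_dvd_exponent _)
  · rw [← map_conj_eq_iff_mem_normalizer, map_conj_mul, map_conj_mul, hk,
      map_conj_eq_iff_mem_normalizer.2 (hq k), ← hk, ← map_conj_mul, inv_mul_cancel, map_conj_one]
  · rw [hqsr]
    exact fun e => half_ne_zero (by omega : 1 ≤ n) (add_eq_left.1 (sr.inj (hf e)))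
  · calc x⁻¹ * f (r (quarter n)) * x * f (sr i) * (x⁻¹ * f (r (quarter n)) * x)⁻¹
        = x⁻¹ * (f (r (quarter n)) * (x * f (sr i) * x⁻¹) * (f (r (quarter n)))⁻¹) * x := by group
      _ = x⁻¹ * (x * f (sr i) * x⁻¹) * x := by rw [hx, hqc]
      _ = f (sr i) := by group
  · intro e
    have : f (r (quarter n)) * (x * f (r (half n)) * x⁻¹) * (f (r (quarter n)))⁻¹ =
        x * f (r (half n)) * x⁻¹ := by
      nth_rewrite 2 [← e]; group
    rw [← hb, hqsr] at this
    exact half_ne_zero (by omega : 1 ≤ n) (add_eq_left.1 (sr.inj (hf this)))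

include hf hS in
theorem maximal_in_centralizer (hn : 2 ≤ n) {i : ZMod (2 ^ n)}
    (h : ¬ IsConj (f (sr i)) (f (r (half n)))) {P : Subgroup X}
    (hP : P ≤ Subgroup.centralizer {f (sr i)}) (hP2 : IsPGroup 2 P)
    (hle : (lev 1 i).map f ≤ P) : Nat.card P ≤ Nat.card ((lev 1 i).map f) := by
  obtain ⟨x, hx⟩ := exists_conj_le_sylow S hP2
  obtain ⟨a, ha⟩ := (hS ▸ hx) (conj_mem_map_conj (g := x)
    (hle (Subgroup.mem_map_of_mem f (sr_mem_lev_self 1 i))))
  obtain ⟨k, rfl⟩ : ∃ k, a = sr k := by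
    rcases a with t | t
    · exfalso
      have h2 : r t * r t = (1 : DihedralGroup (2 ^ n)) := hf (by
        rw [map_mul, map_one, ha,
          show x * f (sr i) * x⁻¹ * (x * f (sr i) * x⁻¹) = x * (f (sr i) * f (sr i)) * x⁻¹ by group,
          ← map_mul, sr_mul_self, map_one, mul_one, mul_inv_cancel])
      rcases sq_eq_one_r (by omega) h2 with h1 | h1
      · rw [h1, map_one, eq_comm, conj_eq_one_iff, ← map_one f] at ha
        exact absurd (hf ha) (fun h => by rw [one_def] at h; cases h)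
      · exact h (isConj_iff.2 ⟨x, by rw [← ha, h1]⟩)
    · exact ⟨t, rfl⟩
  have hxN : P.map (MulAut.conj x).toMonoidHom ≤ (lev 1 k).map f := by
    intro y hy
    obtain ⟨b, rfl⟩ := (hS ▸ hx) hy
    refine Subgroup.mem_map_of_mem f ?_
    obtain ⟨p, hp, hpb⟩ := hy
    have hpb' : f b = x * p * x⁻¹ := hpb.symm
    have hc : b * sr k * b⁻¹ = sr k := hf (by
      rw [map_mul, map_mul, map_inv, hpb', ha,
        show x * p * x⁻¹ * (x * f (sr i) * x⁻¹) * (x * p * x⁻¹)⁻¹ = x * (p * f (sr i) * p⁻¹) * x⁻¹ by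
          group, Subgroup.mem_centralizer_singleton_iff.1 (hP hp), mul_inv_cancel_right])
    rcases b with t | t
    · rw [conj_r_sr, sr.injEq] at hc
      rw [r_mem_lev]; linear_combination -hc
    · rw [conj_sr_sr, sr.injEq] at hc
      rw [sr_mem_lev]; linear_combination hc
  haveI : NeZero (2 ^ n) := ⟨pow_ne_zero _ two_ne_zero⟩
  have := Nat.card_mono (Set.toFinite _) (show ((P.map (MulAut.conj x).toMonoidHom : Subgroup X) : Set X)
    ⊆ (((lev 1 k).map f : Subgroup X) : Set X) from hxN)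
  simp only [SetLike.coe_sort_coe, natCard_map_conj, Subgroup.card_map_of_injective hf,
    natCard_lev (show 1 ≤ n by omega)] at this ⊢
  exact this

include hf hS in
/-- The two classes of reflections can only be fused through the central involution. -/
theorem isConj_half_of_isConj_sr (hn : 2 ≤ n) (h : IsConj (f (sr 0)) (f (sr 1))) :
    IsConj (f (sr 0)) (f (r (half n))) := by
  by_contra hc
  have hc1 : ¬ IsConj (f (sr 1)) (f (r (half n))) := fun e => hc (h.trans e)
  obtain ⟨g, hg⟩ := isConj_iff.1 h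
  have hA : ((lev 1 (0 : ZMod (2 ^ n))).map f).map (MulAut.conj g).toMonoidHom ≤
      Subgroup.centralizer {f (sr 1)} := by
    rintro _ ⟨a, ha, rfl⟩
    have e : a * f (sr 0) = f (sr 0) * a :=
      Subgroup.mem_centralizer_singleton_iff.1 (four_le_centralizer 0 f ha)
    rw [Subgroup.mem_centralizer_singleton_iff, ← hg]
    show g * a * g⁻¹ * (g * f (sr 0) * g⁻¹) = g * f (sr 0) * g⁻¹ * (g * a * g⁻¹)
    calc g * a * g⁻¹ * (g * f (sr 0) * g⁻¹) = g * (a * f (sr 0)) * g⁻¹ := by group
      _ = g * (f (sr 0) * a) * g⁻¹ := by rw [e]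
      _ = g * f (sr 0) * g⁻¹ * (g * a * g⁻¹) := by group
  obtain ⟨k, -, hk⟩ := exists_conj_le_of_maximal (four_le_centralizer 1 f) (isPGroup_map f _)
    (fun P hP hP2 hle => maximal_in_centralizer hf hS hn hc1 hP hP2 hle) hA ((isPGroup_map f _).map _)
  refine not_conj_four hf hS hn (k * g) ?_
  rw [map_conj_mul]
  exact Subgroup.eq_of_le_of_card_ge hk (by
    simp only [natCard_map_conj, Subgroup.card_map_of_injective hf,
      natCard_lev (show 1 ≤ n by omega), le_refl])

include hf hS in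
/-- A character of the two-bit invariant is fusion invariant when it kills the reflections that
are fused to the central involution. -/
theorem chi_eq_of_isConj (hn : 2 ≤ n) {A : Type*} [CommGroup A]
    (l : Multiplicative (ZMod 2 × ZMod 2) →* A)
    (hl : ∀ i, IsConj (f (sr i)) (f (r (half n))) → l (chi (by omega : 1 ≤ n) (sr i)) = 1)
    {u v : DihedralGroup (2 ^ n)} (h : IsConj (f u) (f v)) :
    l (chi (by omega : 1 ≤ n) u) = l (chi (by omega : 1 ≤ n) v) := by
  have hn1 : 1 ≤ n := by omega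
  have hchalf : chi hn1 (r (half n)) = 1 := by rw [chi_r, parity_half hn]; rfl
  have key : ∀ (a b : ZMod (2 ^ n)), IsConj (f (r a)) (f (sr b)) →
      l (chi hn1 (r a)) = l (chi hn1 (sr b)) := by
    intro a b h
    have h2 : r a * r a = (1 : DihedralGroup (2 ^ n)) := hf (by
      obtain ⟨g, hg⟩ := isConj_iff.1 h.symm
      rw [map_mul, map_one, ← hg,
        show g * f (sr b) * g⁻¹ * (g * f (sr b) * g⁻¹) = g * (f (sr b) * f (sr b)) * g⁻¹ by group,
        ← map_mul, sr_mul_self, map_one, mul_one, mul_inv_cancel])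
    rcases sq_eq_one_r hn1 h2 with h1 | h1
    · exfalso
      rw [h1, map_one] at h
      exact absurd (hf ((isConj_one_right.1 h).trans (map_one f).symm)) (fun h => by rw [one_def] at h; cases h)
    · rw [h1] at h ⊢
      rw [hchalf, map_one, hl b h.symm]
  rcases u with a | a <;> rcases v with b | b
  · have e : (f (r a)) ^ 2 ^ (n - 1) = 1 ↔ (f (r b)) ^ 2 ^ (n - 1) = 1 := by
      obtain ⟨g, hg⟩ := isConj_iff.1 h
      rw [← hg, conj_pow, conj_eq_one_iff]
    rw [← map_pow, ← map_pow, r_pow_half, r_pow_half, ← map_one f, hf.eq_iff, hf.eq_iff, one_def,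
      r.injEq, r.injEq, ← parity_eq_zero_iff hn1, ← parity_eq_zero_iff hn1] at e
    have hp : parity hn1 a = parity hn1 b := by
      revert e
      generalize parity hn1 a = p
      generalize parity hn1 b = q
      revert p q
      decide
    rw [chi_r, chi_r, hp]
  · exact key a b h
  · exact (key b a h.symm).symm
  · by_cases hp : parity hn1 a = parity hn1 b
    · rw [chi_sr, chi_sr, hp]
    · have key2 : ∀ a b : ZMod (2 ^ n), parity hn1 a = 0 → parity hn1 b = 1 →
          IsConj (f (sr a)) (f (sr b)) → l (chi hn1 (sr a)) = l (chi hn1 (sr b)) := by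
        intro a b ha hb h
        have ha0 : IsConj (f (sr a)) (f (sr 0)) :=
          isConj_map_sr_of_parity hn1 f (by rw [ha, map_zero])
        have hb1 : IsConj (f (sr b)) (f (sr 1)) :=
          isConj_map_sr_of_parity hn1 f (by rw [hb, map_one])
        have hc := isConj_half_of_isConj_sr hf hS hn ((ha0.symm.trans h).trans hb1)
        rw [hl a (ha0.trans hc), hl b ((h.symm.trans ha0).trans hc)]
      have h01 : ∀ p q : ZMod 2, p ≠ q → (p = 0 ∧ q = 1) ∨ (q = 0 ∧ p = 1) := by decide
      rcases h01 _ _ hp with ⟨ha, hb⟩ | ⟨hb, ha⟩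
      · exact key2 a b ha hb h
      · exact (key2 b a hb ha h.symm).symm

/-- The isomorphism of the Sylow subgroup with the model. -/
noncomputable def sylowEquiv : (S : Subgroup X) ≃* DihedralGroup (2 ^ n) :=
  ((MonoidHom.ofInjective hf).trans (MulEquiv.subgroupCongr hS)).symm

theorem apply_sylowEquiv (u : (S : Subgroup X)) : f (sylowEquiv hf hS u) = (u : X) :=
  congrArg Subtype.val (((MonoidHom.ofInjective hf).trans (MulEquiv.subgroupCongr hS)).apply_symm_apply u)

include hf hS in
/-- If no reflection is fused to the central involution there is a normal complement. -/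
theorem complement_of_not_conj (hn : 2 ≤ n) (h0 : ¬ IsConj (f (sr 0)) (f (r (half n))))
    (h1 : ¬ IsConj (f (sr 1)) (f (r (half n)))) : Cfsg.HasNormalPComplement 2 X := by
  have hn1 : 1 ≤ n := by omega
  have hl : ∀ i, IsConj (f (sr i)) (f (r (half n))) →
      (MonoidHom.id _) (chi hn1 (sr i)) = 1 := by
    intro i hi
    exfalso
    rcases isConj_map_sr f i with h | h
    · exact h0 (h.symm.trans hi)
    · exact h1 (h.symm.trans hi)
  obtain ⟨K, hKn, hKi, -, hKS, -⟩ := exists_normal_of_fusion_invariant S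
    (A := Multiplicative (ZMod 2 × ZMod 2))
    (IsPGroup.of_card (n := 2) (by simp [Nat.card_prod]))
    ((chi hn1).comp (sylowEquiv hf hS).toMonoidHom)
    ((chi_surjective hn1).comp (sylowEquiv hf hS).surjective)
    (fun u v huv => chi_eq_of_isConj hf hS hn _ hl (isConj_iff.2 (by
      obtain ⟨g, hg⟩ := huv
      exact ⟨g, by simp only [MulEquiv.coe_toMonoidHom]; rw [apply_sylowEquiv, apply_sylowEquiv, hg]⟩)))
  obtain ⟨R⟩ : Nonempty (Sylow 2 K) := inferInstance
  obtain ⟨eR⟩ := hKS R
  have hcyc : IsCyclic (R : Subgroup K) := by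
    refine eR.isCyclic.2 ?_
    haveI := isCyclic_chi_ker hn1
    let ψ : ((chi hn1).comp (sylowEquiv hf hS).toMonoidHom).ker →* (chi hn1).ker :=
      { toFun := fun u => ⟨sylowEquiv hf hS u.1, u.2⟩
        map_one' := Subtype.ext (map_one _)
        map_mul' := fun a b => Subtype.ext (map_mul _ _ _) }
    exact isCyclic_of_injective ψ fun a b hab =>
      Subtype.ext ((sylowEquiv hf hS).injective (congrArg Subtype.val hab :))
  obtain ⟨K', hK'odd, hsup, hK'mem⟩ := CfsgLib.Char.Exceptional.exists_odd_complement_of_cyclic R hcyc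
  set M := K'.map K.subtype with hM
  have hmem : ∀ x ∈ K, x ∈ M ↔ Odd (orderOf x) := by
    intro x hx
    rw [show orderOf x = orderOf (⟨x, hx⟩ : K) from Subgroup.orderOf_coe ⟨x, hx⟩, ← hK'mem]
    exact ⟨fun ⟨y, hy, hyx⟩ => by rwa [← show y = ⟨x, hx⟩ from Subtype.ext hyx],
      fun hy => ⟨⟨x, hx⟩, hy, rfl⟩⟩
  have hMK : M ≤ K := Subgroup.map_subtype_le _
  haveI hMn : M.Normal := ⟨fun x hx g => by
    rw [hmem _ (hKn.conj_mem x (hMK hx) g)]
    have := (hmem x (hMK hx)).1 hx
    rwa [show g * x * g⁻¹ = MulAut.conj g x from rfl, MulEquiv.orderOf_eq]⟩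
  refine (CfsgLib.Transfer.hasNormalPComplement_iff_exists).2 ⟨M, hMn, ?_, ?_⟩
  · rw [hM, Subgroup.card_map_of_injective K.subtype_injective]
    exact Nat.coprime_two_right.2 hK'odd
  · have hdvd : K'.index ∣ Nat.card (R : Subgroup K) := by
      haveI : K'.Normal := ⟨fun x hx g => by
        rw [hK'mem] at hx ⊢
        rwa [show g * x * g⁻¹ = MulAut.conj g x from rfl, MulEquiv.orderOf_eq]⟩
      rw [← Subgroup.relIndex_top_right, ← hsup, Subgroup.relIndex_sup_left]
      exact Subgroup.relIndex_dvd_card _ _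
    obtain ⟨e, he⟩ := IsPGroup.iff_card.1 R.2
    obtain ⟨d, -, hd⟩ := (Nat.dvd_prime_pow Nat.prime_two).1 (he ▸ hdvd)
    refine IsPGroup.of_card (n := d + 2) ?_
    rw [← Subgroup.index_eq_card, hM, Subgroup.index_map_subtype, hd, hKi]
    simp [Nat.card_prod, pow_add]

include hf hS in
theorem exists_index_two_of_not_conj (hn : 2 ≤ n) {i : ZMod (2 ^ n)}
    (h : ¬ IsConj (f (sr i)) (f (r (half n)))) : ∃ H : Subgroup X, H.index = 2 := by
  have hn1 : 1 ≤ n := by omega
  set w : ZMod 2 := parity hn1 i + 1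
  let l : Multiplicative (ZMod 2 × ZMod 2) →* Multiplicative (ZMod 2) :=
    AddMonoidHom.toMultiplicative
      ((AddMonoidHom.snd (ZMod 2) (ZMod 2)) + (AddMonoidHom.mulLeft w).comp (AddMonoidHom.fst _ _))
  have hlsr : ∀ j, l (chi hn1 (sr j)) = Multiplicative.ofAdd (parity hn1 j + w * 1) := fun j => rfl
  have hl : ∀ j, IsConj (f (sr j)) (f (r (half n))) → l (chi hn1 (sr j)) = 1 := by
    intro j hj
    have hne : parity hn1 j ≠ parity hn1 i := fun e =>
      h ((isConj_map_sr_of_parity hn1 f e.symm).trans hj)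
    rw [hlsr, ← ofAdd_zero]
    congr 1
    revert hne
    simp only [w]
    generalize parity hn1 j = p
    generalize parity hn1 i = q
    revert p q
    decide
  have hsurj : Function.Surjective (l.comp ((chi hn1).comp (sylowEquiv hf hS).toMonoidHom)) := by
    intro v
    have hv : v = 1 ∨ v = l (chi hn1 (sr i)) := by
      rw [hlsr]
      obtain ⟨v, rfl⟩ := Multiplicative.ofAdd.surjective v
      simp only [w, ← ofAdd_zero, Multiplicative.ofAdd.injective.eq_iff]
      generalize parity hn1 i = q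
      revert v q
      decide
    rcases hv with rfl | rfl
    · exact ⟨1, map_one _⟩
    · exact ⟨(sylowEquiv hf hS).symm (sr i), by simp⟩
  obtain ⟨K, -, hKi, -⟩ := exists_normal_of_fusion_invariant S (A := Multiplicative (ZMod 2))
    (IsPGroup.of_card (n := 1) (by simp))
    (l.comp ((chi hn1).comp (sylowEquiv hf hS).toMonoidHom)) hsurj
    (fun u v huv => chi_eq_of_isConj hf hS hn l hl (isConj_iff.2 (by
      obtain ⟨g, hg⟩ := huv
      exact ⟨g, by simp only [MulEquiv.coe_toMonoidHom]; rw [apply_sylowEquiv, apply_sylowEquiv, hg]⟩)))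
  exact ⟨K, by rw [hKi]; simp⟩

end Sylow

end CfsgLib.TwoGroups.Dihedral
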