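import Mathlib
import Cfsg.Prelude.Def_Transfer
import Cfsg.Agent.Lib.TwoGroups.LocalSylow
import Cfsg.Agent.Lib.Transfer.PResidual

/-!
Groups whose Sylow 2-subgroup is a four-group, and normalisers in groups with a normal complement.
-/

set_option autoImplicit false

namespace CfsgLib.TwoGroups

variable {G : Type*} [Group G] [Finite G]

theorem klein_commute {U : Subgroup G} (hU : IsKleinFour U) {a b : G} (ha : a ∈ U) (hb : b ∈ U) :
    a * b = b * a := by
  haveI := hU
  have h : (⟨a, ha⟩ : U) * ⟨b, hb⟩ = ⟨b, hb⟩ * ⟨a, ha⟩ := by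
    rw [← IsKleinFour.inv_eq_self ((⟨a, ha⟩ : U) * ⟨b, hb⟩), mul_inv_rev, IsKleinFour.inv_eq_self,
      IsKleinFour.inv_eq_self]
  exact congrArg Subtype.val h

theorem klein_cases {U : Subgroup G} (hU : IsKleinFour U) {a b x : G} (ha : a ∈ U) (hb : b ∈ U)
    (ha1 : a ≠ 1) (hb1 : b ≠ 1) (hab : a ≠ b) (hx : x ∈ U) :
    x = 1 ∨ x = a ∨ x = b ∨ x = a * b := by
  haveI := hU
  by_contra h
  push Not at h
  obtain ⟨h1, h2, h3, h4⟩ := h
  have h := IsKleinFour.eq_mul_of_ne_all (x := (⟨a, ha⟩ : U)) (y := ⟨b, hb⟩) (z := ⟨x, hx⟩)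
    (fun e => ha1 (congrArg Subtype.val e)) (fun e => hb1 (congrArg Subtype.val e))
    (fun e => hab (congrArg Subtype.val e)) (fun e => h1 (congrArg Subtype.val e))
    (fun e => h2 (congrArg Subtype.val e)) (fun e => h3 (congrArg Subtype.val e))
  exact h4 (congrArg Subtype.val h)

/-- An element normalising a Klein Sylow subgroup and fixing one of its involutions centralises it. -/
theorem mem_centralizer_of_klein_fix (P : Sylow 2 G) (hP : IsKleinFour (P : Subgroup G)) {z : G}
    (hz : z ∈ (P : Subgroup G)) (hz1 : z ≠ 1) {g : G}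
    (hg : g ∈ Subgroup.normalizer ((P : Subgroup G) : Set G)) (hfix : g * z * g⁻¹ = z) :
    g ∈ Subgroup.centralizer ((P : Subgroup G) : Set G) := by
  refine Subgroup.mem_centralizer_iff.2 fun u hu => ?_
  suffices h : g * u * g⁻¹ = u by
    nth_rewrite 1 [← h]; group
  rcases eq_or_ne u 1 with rfl | hu1
  · simp
  rcases eq_or_ne u z with rfl | huz
  · exact hfix
  have hgu : g * u * g⁻¹ ∈ (P : Subgroup G) := (Subgroup.mem_normalizer_iff.1 hg u).1 hu
  rcases klein_cases hP hz hu hz1 hu1 (Ne.symm huz) hgu with h | h | h | h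
  · exact absurd (conj_eq_one_iff.1 h) hu1
  · exact absurd (mul_left_cancel (mul_right_cancel (h.trans hfix.symm))) huz
  · exact h
  · exfalso
    have hzz : z * z = 1 := by
      haveI := hP
      exact congrArg Subtype.val (IsKleinFour.mul_self (⟨z, hz⟩ : (P : Subgroup G)))
    have hzk : ∀ k : ℕ, g ^ k * z * (g ^ k)⁻¹ = z := by
      intro k
      induction k with
      | zero => simp
      | succ k ih =>
        calc g ^ (k + 1) * z * (g ^ (k + 1))⁻¹ = g * (g ^ k * z * (g ^ k)⁻¹) * g⁻¹ := by group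
          _ = z := by rw [ih, hfix]
    have hodd : ∀ k : ℕ, g ^ (2 * k + 1) * u * (g ^ (2 * k + 1))⁻¹ = z * u := by
      intro k
      induction k with
      | zero => simpa using h
      | succ k ih =>
        calc g ^ (2 * (k + 1) + 1) * u * (g ^ (2 * (k + 1) + 1))⁻¹
            = g * (g * (g ^ (2 * k + 1) * u * (g ^ (2 * k + 1))⁻¹) * g⁻¹) * g⁻¹ := by group
          _ = g * (g * z * g⁻¹ * (g * u * g⁻¹)) * g⁻¹ := by rw [ih]; group
          _ = g * u * g⁻¹ := by rw [hfix, h, ← mul_assoc z z u, hzz, one_mul, h]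
          _ = z * u := h
    obtain ⟨a, q, ⟨k, hk⟩, hord⟩ := Nat.exists_eq_two_pow_mul_odd (orderOf_pos g).ne'
    have hq : g ^ q ∈ (P : Subgroup G) :=
      mem_sylow_of_mem_normalizer P (pow_mem hg q)
        ⟨a, by rw [← pow_mul, mul_comm, ← hord, pow_orderOf_eq_one]⟩
    have := hodd k
    rw [← hk, klein_commute hP hq hu, mul_inv_cancel_right] at this
    exact hz1 (mul_eq_right.1 this.symm)

/-- Burnside's transfer theorem. -/
theorem hasNormalPComplement_of_normalizer_le {p : ℕ} [Fact p.Prime] (P : Sylow p G)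
    (h : Subgroup.normalizer ((P : Subgroup G) : Set G) ≤
      Subgroup.centralizer ((P : Subgroup G) : Set G)) : Cfsg.HasNormalPComplement p G :=
  ⟨P, _, MonoidHom.normal_ker _, MonoidHom.ker_transferSylow_isComplement' P h⟩

/-- A Klein Sylow subgroup with a central involution has a normal complement. -/
theorem hasNormalPComplement_klein_central (P : Sylow 2 G) (hP : IsKleinFour (P : Subgroup G))
    {z : G} (hz : z ∈ (P : Subgroup G)) (hz1 : z ≠ 1) (hzc : ∀ g : G, g * z = z * g) :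
    Cfsg.HasNormalPComplement 2 G :=
  hasNormalPComplement_of_normalizer_le P fun g hg =>
    mem_centralizer_of_klein_fix P hP hz hz1 hg (by rw [hzc, mul_inv_cancel_right])

/-- With a normal complement, the normaliser of a subgroup of the Sylow subgroup is generated by
its centraliser and its part in the Sylow subgroup. -/
theorem normalizer_eq_of_complement {p : ℕ} [Fact p.Prime] (S : Sylow p G)
    (h : Cfsg.HasNormalPComplement p G) {U : Subgroup G} (hU : U ≤ (S : Subgroup G)) :
    Subgroup.normalizer (U : Set G) =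
      Subgroup.centralizer (U : Set G) ⊔ ((S : Subgroup G) ⊓ Subgroup.normalizer (U : Set G)) := by
  refine le_antisymm (fun x hx => ?_) (sup_le ?_ inf_le_right)
  swap
  · refine Subgroup.le_normalizer_iff.2 fun c hc v hv => ?_
    rw [← Subgroup.mem_centralizer_iff.1 hc v hv, mul_inv_cancel_right]
    exact hv
  obtain ⟨K, hK, hKS⟩ := (CfsgLib.Transfer.exists_complement_iff S).2 h
  obtain ⟨⟨⟨k, hk⟩, ⟨s, hs⟩⟩, hks : k * s = x⟩ := hKS.2 x
  subst hks
  have hdis : ∀ v ∈ U, k * (s * v * s⁻¹) * k⁻¹ = s * v * s⁻¹ ∧ s * v * s⁻¹ ∈ U := by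
    intro v hv
    have h1 := (Subgroup.mem_normalizer_iff.1 hx v).1 hv
    rw [show k * s * v * (k * s)⁻¹ = k * (s * v * s⁻¹) * k⁻¹ by group] at h1
    have hw : s * v * s⁻¹ ∈ (S : Subgroup G) := mul_mem (mul_mem hs (hU hv)) (inv_mem hs)
    set w := s * v * s⁻¹
    have h2 : k * w * k⁻¹ * w⁻¹ ∈ K ⊓ (S : Subgroup G) := by
      refine ⟨?_, (S : Subgroup G).mul_mem (hU h1) ((S : Subgroup G).inv_mem hw)⟩
      rw [show k * w * k⁻¹ * w⁻¹ = k * (w * k⁻¹ * w⁻¹) by group]
      exact mul_mem hk (hK.conj_mem _ (inv_mem hk) w)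
    rw [hKS.disjoint.eq_bot, Subgroup.mem_bot, mul_inv_eq_one] at h2
    exact ⟨h2, by rwa [h2] at h1⟩
  have hsN : s ∈ Subgroup.normalizer (U : Set G) := by
    rw [← map_conj_eq_iff_mem_normalizer]
    refine Subgroup.eq_of_le_of_card_ge ?_ (natCard_map_conj s U).ge
    rintro _ ⟨v, hv, rfl⟩
    exact (hdis v hv).2
  refine mul_mem (Subgroup.mem_sup_left ?_) (Subgroup.mem_sup_right ⟨hs, hsN⟩)
  refine Subgroup.mem_centralizer_iff.2 fun u hu => ?_
  have hv : s⁻¹ * u * s ∈ U := (Subgroup.mem_normalizer_iff''.1 hsN u).1 hu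
  have := (hdis _ hv).1
  rw [show s * (s⁻¹ * u * s) * s⁻¹ = u by group] at this
  nth_rewrite 1 [← this]
  group

/-- If the normaliser is generated by the centraliser and a subgroup of `2`-power order, no prime
other than `2` divides the index. -/
theorem not_three_dvd_relIndex {U T : Subgroup G} (hT : IsPGroup 2 T)
    (h : Subgroup.normalizer (U : Set G) =
      Subgroup.centralizer (U : Set G) ⊔ (T ⊓ Subgroup.normalizer (U : Set G))) :
    ¬ 3 ∣ (Subgroup.centralizer (U : Set G)).relIndex (Subgroup.normalizer (U : Set G)) := by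
  set N := Subgroup.normalizer (U : Set G)
  set C := Subgroup.centralizer (U : Set G)
  have hCN : C ≤ N := le_of_le_of_eq le_sup_left h.symm
  haveI hn : (C.subgroupOf N).Normal := by
    refine ⟨fun c hc g => ?_⟩
    rw [Subgroup.mem_subgroupOf] at hc ⊢
    refine Subgroup.mem_centralizer_iff.2 fun u hu => ?_
    have hv : (g : G)⁻¹ * u * g ∈ U := (Subgroup.mem_normalizer_iff''.1 g.2 u).1 hu
    have := Subgroup.mem_centralizer_iff.1 hc _ hv
    push_cast
    calc u * ((g : G) * c * (g : G)⁻¹) = g * ((g : G)⁻¹ * u * g * c) * (g : G)⁻¹ := by group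
      _ = g * (c * ((g : G)⁻¹ * u * g)) * (g : G)⁻¹ := by rw [this]
      _ = (g : G) * c * (g : G)⁻¹ * u := by group
  have htop : C.subgroupOf N ⊔ (T ⊓ N).subgroupOf N = ⊤ := by
    rw [← Subgroup.subgroupOf_sup hCN inf_le_right, ← h, Subgroup.subgroupOf_self]
  have h2 : (C.subgroupOf N).index ∣ Nat.card ((T ⊓ N).subgroupOf N) := by
    rw [← Subgroup.relIndex_top_right, ← htop, Subgroup.relIndex_sup_left]
    exact Subgroup.relIndex_dvd_card _ _
  rw [Nat.card_congr (Subgroup.subgroupOfEquivOfLe inf_le_right).toEquiv] at h2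
  obtain ⟨k, hk⟩ := IsPGroup.iff_card.1 (hT.to_le (inf_le_left : T ⊓ N ≤ T))
  intro h3
  rw [hk] at h2
  have := (Nat.prime_dvd_prime_iff_eq Nat.prime_three Nat.prime_two).1
    (Nat.prime_three.dvd_of_dvd_pow (h3.trans h2))
  omega

end CfsgLib.TwoGroups
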