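import Mathlib
import Cfsg.Prelude.Def_TwoFusion
import Cfsg.Agent.Lib.TwoGroups.DihedralSylow
import Cfsg.Agent.Lib.TwoGroups.KleinSylow

/-!
Consequences for groups with dihedral Sylow 2-subgroups.
-/

set_option autoImplicit false

namespace CfsgLib.TwoGroups.Dihedral

open DihedralGroup

variable {X : Type*} [Group X] [Finite X] {n : ℕ} {S : Sylow 2 X}
  {f : DihedralGroup (2 ^ n) →* X}

omit n f in
theorem exists_model {m : ℕ} (hm : 2 ≤ m) (eS : (S : Subgroup X) ≃* DihedralGroup m) :
    ∃ (n : ℕ) (f : DihedralGroup (2 ^ n) →* X), 1 ≤ n ∧ Nat.card S = 2 ^ (n + 1) ∧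
      Function.Injective f ∧ f.range = (S : Subgroup X) := by
  obtain ⟨k, hk⟩ := IsPGroup.iff_card.1 S.2
  have hk' : 2 * m = 2 ^ k := by rw [← hk, Nat.card_congr eS.toEquiv, DihedralGroup.nat_card]
  obtain ⟨n, rfl⟩ : ∃ n, k = n + 1 := ⟨k - 1, by rcases k with _ | k <;> simp_all⟩
  rw [pow_succ'] at hk'
  obtain rfl : m = 2 ^ n := Nat.eq_of_mul_eq_mul_left two_pos hk'
  refine ⟨n, (S : Subgroup X).subtype.comp eS.symm.toMonoidHom, ?_, hk,
    (S : Subgroup X).subtype_injective.comp eS.symm.injective, ?_⟩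
  · rcases n with _ | n
    · simp at hm
    · omega
  · rw [MonoidHom.range_comp, MonoidHom.range_eq_top.2 eS.symm.surjective, ← MonoidHom.range_eq_map,
      Subgroup.range_subtype]

omit [Finite X] S in
theorem isKleinFour_map_lev (hf : Function.Injective f) (hn : 1 ≤ n) (i : ZMod (2 ^ n)) :
    IsKleinFour ((lev 1 i).map f) := by
  haveI : NeZero (2 ^ n) := ⟨pow_ne_zero _ two_ne_zero⟩
  refine ⟨?_, ?_⟩
  · rw [Subgroup.card_map_of_injective hf, natCard_lev hn]; rfl
  · refine Nat.dvd_antisymm (Monoid.exponent_dvd_of_forall_pow_eq_one ?_) ?_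
    · rintro ⟨_, a, ha, rfl⟩
      exact Subtype.ext (by
        show f a ^ 2 = 1
        rw [pow_two, ← map_mul, mul_self_of_mem_lev_one ha, map_one])
    · have h2 : orderOf (⟨f (sr i), Subgroup.mem_map_of_mem f (sr_mem_lev_self 1 i)⟩ :
          (lev 1 i).map f) = 2 := by
        rw [Subgroup.orderOf_mk, orderOf_injective f hf, orderOf_sr]
      exact h2.symm.dvd.trans (Monoid.order_dvd_exponent _)

variable (hf : Function.Injective f) (hS : f.range = (S : Subgroup X))

include hf hS in
theorem sylow_eq_map_lev (hn : n = 1) (i : ZMod (2 ^ n)) :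
    (lev 1 i).map f = (S : Subgroup X) := by
  subst hn
  rw [lev_top, ← MonoidHom.range_eq_map, hS]

omit [Finite X] S hS in
include hf in
theorem orderOf_half (hn : 1 ≤ n) : orderOf (f (r (half n))) = 2 := by
  rw [orderOf_injective f hf]
  refine orderOf_eq_prime ?_ ?_
  · rw [pow_two, r_mul_r, half_add_half hn]; rfl
  · rw [Ne, one_def, r.injEq]; exact half_ne_zero hn

include hf hS in
theorem all_conj_iff (hn : 1 ≤ n) :
    (∀ a b : X, orderOf a = 2 → orderOf b = 2 → IsConj a b) ↔
      ∀ i, IsConj (f (sr i)) (f (r (half n))) := by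
  refine ⟨fun h i => h _ _ (by rw [orderOf_injective f hf, orderOf_sr]) (orderOf_half hf hn),
    fun h a b ha hb => ?_⟩
  have key : ∀ z : X, orderOf z = 2 → IsConj z (f (r (half n))) := fun z hz => by
    rcases exists_conj_involution hf hS hn hz with h1 | h1 | h1
    exacts [h1, h1.trans (h 0), h1.trans (h 1)]
  exact (key a ha).trans (key b hb).symm

omit [Finite X] hS S in
include hf in
theorem not_isolated_of_all_conj (hn : 1 ≤ n)
    (h : ∀ a b : X, orderOf a = 2 → orderOf b = 2 → IsConj a b) (z : X) :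
    ¬ Cfsg.IsIsolatedInvolution z := by
  intro hz
  obtain ⟨x, hx⟩ := isConj_iff.1 (h (f (r (half n))) z (orderOf_half hf hn) hz.1)
  have hord : orderOf (x * f (sr 0) * x⁻¹) = 2 := by
    rw [show x * f (sr 0) * x⁻¹ = MulAut.conj x (f (sr 0)) from rfl, MulEquiv.orderOf_eq,
      orderOf_injective f hf, orderOf_sr]
  obtain ⟨g, hg⟩ := isConj_iff.1 (h z _ hz.1 hord)
  have hcomm : Commute z (g * z * g⁻¹) := by
    rw [hg, ← hx]
    have hc : f (r (half n)) * f (sr 0) = f (sr 0) * f (r (half n)) := by
      rw [← map_mul, ← map_mul, r_mul_sr, sr_mul_r, sub_eq_add_neg, neg_half hn]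
    show x * f (r (half n)) * x⁻¹ * (x * f (sr 0) * x⁻¹) = x * f (sr 0) * x⁻¹ * (x * f (r (half n)) * x⁻¹)
    calc x * f (r (half n)) * x⁻¹ * (x * f (sr 0) * x⁻¹) = x * (f (r (half n)) * f (sr 0)) * x⁻¹ := by group
      _ = x * (f (sr 0) * f (r (half n))) * x⁻¹ := by rw [hc]
      _ = _ := by group
  have he := hz.2 g hcomm
  rw [hg, ← hx] at he
  have := hf (mul_left_cancel (mul_right_cancel he))
  cases this

include hf hS in
theorem index_ne_two_of_all_conj (hn : 1 ≤ n)
    (h : ∀ a b : X, orderOf a = 2 → orderOf b = 2 → IsConj a b) (H : Subgroup X) : H.index ≠ 2 := by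
  intro hH
  have hiff : ∀ a b : X, orderOf a = 2 → orderOf b = 2 → a ∈ H → b ∈ H := by
    intro a b ha hb hmem
    obtain ⟨g, hg⟩ := isConj_iff.1 (h a b ha hb)
    rw [← hg, mem_iff_conj_of_index_two hH]
    exact hmem
  have hsr : ∀ i, orderOf (f (sr i)) = 2 := fun i => by rw [orderOf_injective f hf, orderOf_sr]
  have hr : f (r 1) ∈ H := by
    have hmem : f (sr 0) * f (sr 1) ∈ H := (Subgroup.mul_mem_iff_of_index_two hH).2
      ⟨hiff _ _ (hsr 0) (hsr 1), hiff _ _ (hsr 1) (hsr 0)⟩
    rwa [← map_mul, sr_mul_sr, sub_zero] at hmem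
  have hhalf : f (r (half n)) ∈ H := by
    have e : (r 1 : DihedralGroup (2 ^ n)) ^ (2 ^ (n - 1)) = r (half n) := by
      rw [r_pow_half, mul_one]
    rw [← e, map_pow]
    exact H.pow_mem hr _
  have hSH : (S : Subgroup X) ≤ H := by
    rw [← hS]
    rintro _ ⟨a, rfl⟩
    rcases a with t | t
    · have e : r t = (r 1 : DihedralGroup (2 ^ n)) ^ (t.cast : ℤ) := by
        rw [r_one_zpow, ZMod.intCast_zmod_cast]
      rw [e, map_zpow]
      exact H.zpow_mem hr _
    · exact hiff _ _ (orderOf_half hf hn) (hsr t) hhalf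
  have h2 : 2 ∣ (S : Subgroup X).index := by
    have := Subgroup.index_dvd_of_le hSH
    rwa [hH] at this
  exact S.not_dvd_index h2

include hf hS in
theorem exists_index_two_of_complement (hn : 1 ≤ n) (hc : Cfsg.HasNormalPComplement 2 X) :
    ∃ H : Subgroup X, H.index = 2 := by
  obtain ⟨K, hK, hKS⟩ := (CfsgLib.Transfer.exists_complement_iff S).2 hc
  let Φ : X →* Multiplicative (ZMod 2) :=
    ((AddMonoidHom.toMultiplicative (AddMonoidHom.fst (ZMod 2) (ZMod 2))).comp (chi hn)).comp
      ((sylowEquiv hf hS).toMonoidHom.comp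
        (hKS.symm.QuotientMulEquiv.toMonoidHom.comp (QuotientGroup.mk' K)))
  have hsurj : Function.Surjective Φ := by
    refine Function.Surjective.comp (g := ((AddMonoidHom.toMultiplicative
      (AddMonoidHom.fst (ZMod 2) (ZMod 2))).comp (chi hn))) ?_
      ((sylowEquiv hf hS).surjective.comp
        (hKS.symm.QuotientMulEquiv.surjective.comp (QuotientGroup.mk'_surjective K)))
    intro v
    obtain ⟨w, hw⟩ := chi_surjective hn (Multiplicative.ofAdd (Multiplicative.toAdd v, 0))
    exact ⟨w, by rw [MonoidHom.comp_apply, hw]; rfl⟩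
  exact ⟨Φ.ker, by rw [Subgroup.index_ker, MonoidHom.range_eq_top.2 hsurj, Subgroup.card_top]; simp⟩

include hf hS in
/-- With no subgroup of index two all involutions are conjugate. -/
theorem all_conj_of_no_index_two (hn : 1 ≤ n) (h : ∀ H : Subgroup X, H.index ≠ 2) :
    ∀ a b : X, orderOf a = 2 → orderOf b = 2 → IsConj a b := by
  rw [all_conj_iff hf hS hn]
  rcases eq_or_lt_of_le hn with h1 | h2
  · have hK : IsKleinFour (S : Subgroup X) := by
      rw [← sylow_eq_map_lev hf hS h1.symm 0]; exact isKleinFour_map_lev hf hn 0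
    set c := f (r (half n)) with hc
    set a := f (sr 0) with ha
    have hmemS : ∀ x, f x ∈ (S : Subgroup X) := fun x => hS ▸ ⟨x, rfl⟩
    have hc1 : c ≠ 1 := fun e => by
      have := orderOf_half hf hn; rw [← hc, e, orderOf_one] at this; omega
    have ha1 : a ≠ 1 := fun e => by
      have h : orderOf a = 2 := by rw [ha, orderOf_injective f hf, orderOf_sr]
      rw [e, orderOf_one] at h; omega
    have hca : c ≠ a := fun e => by cases hf e
    have hcases : ∀ x, x ∈ (S : Subgroup X) → x = 1 ∨ x = c ∨ x = a ∨ x = c * a := fun x hx =>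
      klein_cases hK (hmemS _) (hmemS _) hc1 ha1 hca hx
    obtain ⟨g, hg, hgc⟩ : ∃ g ∈ Subgroup.normalizer ((S : Subgroup X) : Set X),
        g ∉ Subgroup.centralizer ((S : Subgroup X) : Set X) := by
      by_contra hno
      push Not at hno
      obtain ⟨H, hH⟩ := exists_index_two_of_complement hf hS hn
        (hasNormalPComplement_of_normalizer_le S hno)
      exact h H hH
    have hmove : ∀ x, x ∈ (S : Subgroup X) → x ≠ 1 → g * x * g⁻¹ ≠ x ∧ IsConj x (g * x * g⁻¹) ∧
        g * x * g⁻¹ ∈ (S : Subgroup X) ∧ g * x * g⁻¹ ≠ 1 := fun x hx hx1 =>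
      ⟨fun e => hgc (mem_centralizer_of_klein_fix S hK hx hx1 hg e), isConj_iff.2 ⟨g, rfl⟩,
        (Subgroup.mem_normalizer_iff.1 hg x).1 hx, fun e => hx1 (conj_eq_one_iff.1 e)⟩
    have hb : c * a ∈ (S : Subgroup X) := mul_mem (hmemS _) (hmemS _)
    have hb1 : c * a ≠ 1 := fun e => hca (by
      have h2 : a * a = 1 := by rw [ha, ← map_mul, sr_mul_self, map_one]
      exact mul_right_cancel (e.trans h2.symm))
    obtain ⟨m1, r1, s1, t1⟩ := hmove c (hmemS _) hc1
    obtain ⟨m2, r2, s2, t2⟩ := hmove a (hmemS _) ha1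
    obtain ⟨m3, r3, s3, t3⟩ := hmove _ hb hb1
    have hall : IsConj a c ∧ IsConj (c * a) c := by
      rcases hcases _ s1 with e1 | e1 | e1 | e1
      · exact absurd e1 t1
      · exact absurd e1 m1
      · rw [e1] at r1
        refine ⟨r1.symm, ?_⟩
        rcases hcases _ s3 with e | e | e | e
        · exact absurd e t3
        · rwa [e] at r3
        · rw [e] at r3; exact r3.trans r1.symm
        · exact absurd e m3
      · rw [e1] at r1
        refine ⟨?_, r1.symm⟩
        rcases hcases _ s2 with e | e | e | e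
        · exact absurd e t2
        · rwa [e] at r2
        · exact absurd e m2
        · rw [e] at r2; exact r2.trans r1.symm
    intro i
    rcases hcases _ (hmemS (sr i)) with e | e | e | e
    · rw [← map_one f] at e; cases hf e
    · rw [e]
    · rw [e]; exact hall.1
    · rw [e]; exact hall.2
  · have key : ∀ i : ZMod (2 ^ n), IsConj (f (sr i)) (f (r (half n))) := by
      intro i
      by_contra hno
      obtain ⟨H, hH⟩ := exists_index_two_of_not_conj hf hS h2 hno
      exact h H hH
    exact key

include hf hS in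
theorem isConj_half_of_three_dvd (hn : 1 ≤ n) (i : ZMod (2 ^ n))
    (h : 3 ∣ (Subgroup.centralizer (((lev 1 i).map f : Subgroup X) : Set X)).relIndex
      (Subgroup.normalizer (((lev 1 i).map f : Subgroup X) : Set X))) :
    IsConj (f (sr i)) (f (r (half n))) := by
  have _ := hS
  obtain ⟨g, -, -, -, htr⟩ := klein_exists_odd (isKleinFour_map_lev hf hn i) h
  obtain ⟨k, hk⟩ := htr (f (sr i)) (Subgroup.mem_map_of_mem f (sr_mem_lev_self 1 i))
    (f (r (half n))) (Subgroup.mem_map_of_mem f (r_half_mem_lev hn le_rfl i))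
    (fun e => by rw [← map_one f] at e; cases hf e)
    (fun e => by have := orderOf_half hf hn; rw [e, orderOf_one] at this; omega)
  exact isConj_iff.2 ⟨g ^ k, hk⟩

include hf hS in
theorem complement_of_four_normalizers (hn : 1 ≤ n)
    (h : ∀ i : ZMod (2 ^ n), Subgroup.normalizer (((lev 1 i).map f : Subgroup X) : Set X) =
      Subgroup.centralizer (((lev 1 i).map f : Subgroup X) : Set X) ⊔
        ((S : Subgroup X) ⊓ Subgroup.normalizer (((lev 1 i).map f : Subgroup X) : Set X))) :
    Cfsg.HasNormalPComplement 2 X := by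
  rcases eq_or_lt_of_le hn with h1 | h2
  · refine hasNormalPComplement_of_normalizer_le S ?_
    have h0 := h 0
    rw [sylow_eq_map_lev hf hS h1.symm 0] at h0
    rw [h0]
    refine sup_le le_rfl (inf_le_left.trans fun x hx => Subgroup.mem_centralizer_iff.2 fun y hy => ?_)
    refine klein_commute ?_ hy hx
    rw [← sylow_eq_map_lev hf hS h1.symm 0]; exact isKleinFour_map_lev hf hn 0
  · have key : ∀ i : ZMod (2 ^ n), ¬ IsConj (f (sr i)) (f (r (half n))) := by
      intro i hi
      exact not_three_dvd_relIndex S.2 (h i) (by rw [index_six_of_isConj hf hS h2 hi]; norm_num)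
    exact complement_of_not_conj hf hS h2 (key 0) (key 1)

omit hf hS S n f in
theorem complement_centralizer_of_isConj {s t : X} (h : IsConj t s)
    (hs : Cfsg.HasNormalPComplement 2 (Subgroup.centralizer ({s} : Set X))) :
    Cfsg.HasNormalPComplement 2 (Subgroup.centralizer ({t} : Set X)) := by
  obtain ⟨g, hg⟩ := isConj_iff.1 h
  let F : Subgroup.centralizer ({t} : Set X) →* Subgroup.centralizer ({s} : Set X) :=
    MonoidHom.codRestrict ((MulAut.conj g).toMonoidHom.comp (Subgroup.subtype _)) _ (by
      intro x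
      rw [Subgroup.mem_centralizer_singleton_iff, ← hg]
      show g * (x : X) * g⁻¹ * (g * t * g⁻¹) = g * t * g⁻¹ * (g * (x : X) * g⁻¹)
      calc g * (x : X) * g⁻¹ * (g * t * g⁻¹) = g * ((x : X) * t) * g⁻¹ := by group
        _ = g * (t * (x : X)) * g⁻¹ := by rw [Subgroup.mem_centralizer_singleton_iff.1 x.2]
        _ = g * t * g⁻¹ * (g * (x : X) * g⁻¹) := by group)
  exact CfsgLib.Transfer.hasNormalPComplement_of_injective F
    (fun a b e => Subtype.ext ((MulAut.conj g).injective (congrArg Subtype.val e :))) hs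

include hf hS in
theorem centralizer_complement (hn : 1 ≤ n) {t : X} (ht : orderOf t = 2) :
    Cfsg.HasNormalPComplement 2 (Subgroup.centralizer ({t} : Set X)) := by
  -- a reflection not fused to the centre
  have hrefl : 2 ≤ n → ∀ i, ¬ IsConj (f (sr i)) (f (r (half n))) →
      Cfsg.HasNormalPComplement 2 (Subgroup.centralizer ({f (sr i)} : Set X)) := by
    intro h2 i hi
    set C := Subgroup.centralizer ({f (sr i)} : Set X)
    set T := (lev 1 i).map f
    have hTC : T ≤ C := four_le_centralizer i f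
    obtain ⟨P, hP⟩ := ((isPGroup_map f (lev 1 i)).comap_of_injective C.subtype
      C.subtype_injective).exists_le_sylow
    have hTP : T ≤ (P : Subgroup C).map C.subtype := fun x hx => ⟨⟨x, hTC hx⟩, hP hx, rfl⟩
    have heq : T = (P : Subgroup C).map C.subtype := Subgroup.eq_of_le_of_card_ge hTP
      (maximal_in_centralizer hf hS h2 hi (Subgroup.map_subtype_le _) (P.2.map _) hTP)
    have hK : IsKleinFour (P : Subgroup C) := by
      have hT : IsKleinFour T := isKleinFour_map_lev hf hn i
      haveI := hT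
      let e : (P : Subgroup C) ≃* T :=
        ((P : Subgroup C).equivMapOfInjective C.subtype C.subtype_injective).trans
          (MulEquiv.subgroupCongr heq.symm)
      exact ⟨by rw [Nat.card_congr e.toEquiv, IsKleinFour.card_four],
        by rw [Monoid.exponent_eq_of_mulEquiv e, IsKleinFour.exponent_two]⟩
    obtain ⟨z, hz, hzeq⟩ := heq.le (Subgroup.mem_map_of_mem f (sr_mem_lev_self 1 i))
    refine hasNormalPComplement_klein_central P hK hz (fun e => ?_) fun g => Subtype.ext ?_
    · rw [e, map_one, ← map_one f] at hzeq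
      cases hf hzeq
    · show (g : X) * (z : X) = (z : X) * (g : X)
      have hzv : (z : X) = f (sr i) := hzeq
      rw [hzv]
      exact Subgroup.mem_centralizer_singleton_iff.1 g.2
  -- an involution central in the Sylow subgroup
  have hcen : ∀ a : DihedralGroup (2 ^ n), a * a = 1 → a ≠ 1 → (∀ b, b * a = a * b) →
      (n = 1 ∨ a = r (half n)) →
      Cfsg.HasNormalPComplement 2 (Subgroup.centralizer ({f a} : Set X)) := by
    intro a _ ha1 hac hor
    set C := Subgroup.centralizer ({f a} : Set X)
    have hSC : (S : Subgroup X) ≤ C := by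
      rw [← hS]
      rintro _ ⟨b, rfl⟩
      rw [Subgroup.mem_centralizer_singleton_iff, ← map_mul, ← map_mul, hac]
    let f' : DihedralGroup (2 ^ n) →* C := MonoidHom.codRestrict f C (fun b => hSC (hS ▸ ⟨b, rfl⟩))
    have hf' : Function.Injective f' := fun b b' e => hf (congrArg Subtype.val e :)
    have hS' : f'.range = ((S.subtype hSC : Sylow 2 C) : Subgroup C) := by
      rw [Sylow.coe_subtype]
      ext x
      rw [Subgroup.mem_subgroupOf, MonoidHom.mem_range, ← hS, MonoidHom.mem_range]
      exact exists_congr fun b => Subtype.ext_iff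
    by_cases h1 : n = 1
    · refine hasNormalPComplement_klein_central (S.subtype hSC) ?_
        (z := f' a) (hS' ▸ ⟨a, rfl⟩) (fun e => ha1 (hf' (e.trans (map_one f').symm)))
        fun g => Subtype.ext (Subgroup.mem_centralizer_singleton_iff.1 g.2)
      rw [← sylow_eq_map_lev hf' hS' h1 0]; exact isKleinFour_map_lev hf' hn 0
    · obtain rfl := hor.resolve_left h1
      have key : ∀ i, ¬ IsConj (f' (sr i)) (f' (r (half n))) := by
        intro i h
        obtain ⟨g, hg⟩ := isConj_iff.1 h.symm
        have hg' : (g : X) * f (r (half n)) * (g : X)⁻¹ = f (sr i) := congrArg Subtype.val hg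
        rw [Subgroup.mem_centralizer_singleton_iff.1 g.2, mul_inv_cancel_right] at hg'
        cases hf hg'
      exact complement_of_not_conj hf' hS' (by omega) (key 0) (key 1)
  have hhalf : Cfsg.HasNormalPComplement 2
      (Subgroup.centralizer ({f (r (half n))} : Set X)) := by
    refine hcen _ (by rw [r_mul_r, half_add_half hn]; rfl)
      (by rw [Ne, one_def, r.injEq]; exact half_ne_zero hn) (fun b => ?_) (Or.inr rfl)
    rcases b with b | b
    · rw [r_mul_r, r_mul_r, add_comm]
    · rw [sr_mul_r, r_mul_sr, sub_eq_add_neg, neg_half hn]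
  have hany : ∀ i, IsConj t (f (sr i)) →
      Cfsg.HasNormalPComplement 2 (Subgroup.centralizer ({t} : Set X)) := by
    intro i hti
    refine complement_centralizer_of_isConj hti ?_
    by_cases h1 : n = 1
    · refine hcen _ (sr_mul_self i) (fun e => by rw [one_def] at e; cases e) (fun b => ?_) (Or.inl h1)
      subst h1
      have key : ∀ (i : ZMod (2 ^ 1)) (b : DihedralGroup (2 ^ 1)), b * sr i = sr i * b := by decide
      exact key i b
    · by_cases hi : IsConj (f (sr i)) (f (r (half n)))
      · exact complement_centralizer_of_isConj hi hhalf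
      · exact hrefl (by omega) i hi
  rcases exists_conj_involution hf hS hn ht with h | h | h
  exacts [complement_centralizer_of_isConj h hhalf, hany 0 h, hany 1 h]

end CfsgLib.TwoGroups.Dihedral
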