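import Mathlib

/-!
Transporting subgroup notions along an isomorphism.
-/

set_option autoImplicit false

namespace CfsgLib.TwoGroups

variable {G G' : Type*} [Group G] [Group G'] (e : G ≃* G')

theorem equiv_map_symm_map (K : Subgroup G') :
    (K.map e.symm.toMonoidHom).map e.toMonoidHom = K := by
  ext x
  simp [Subgroup.mem_map_equiv]

theorem equiv_map_map_symm (K : Subgroup G) :
    (K.map e.toMonoidHom).map e.symm.toMonoidHom = K := by
  ext x
  simp [Subgroup.mem_map_equiv]

theorem equiv_map_inj {H K : Subgroup G} :
    H.map e.toMonoidHom = K.map e.toMonoidHom ↔ H = K :=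
  (Subgroup.map_injective (f := e.toMonoidHom) e.injective).eq_iff

theorem isKleinFour_of_equiv [IsKleinFour G] (e : G ≃* G') : IsKleinFour G' :=
  ⟨by rw [← Nat.card_congr e.toEquiv]; exact IsKleinFour.card_four,
    by rw [← Monoid.exponent_eq_of_mulEquiv e]; exact IsKleinFour.exponent_two⟩

theorem isKleinFour_equiv_map {T : Subgroup G} (hT : IsKleinFour T) :
    IsKleinFour (T.map e.toMonoidHom) :=
  haveI := hT
  isKleinFour_of_equiv (T.equivMapOfInjective e.toMonoidHom e.injective)

theorem centralizer_equiv_map (S : Subgroup G) :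
    (Subgroup.centralizer (S : Set G)).map e.toMonoidHom =
      Subgroup.centralizer ((S.map e.toMonoidHom : Subgroup G') : Set G') := by
  ext x
  rw [Subgroup.mem_map_equiv, Subgroup.mem_centralizer_iff, Subgroup.mem_centralizer_iff]
  constructor
  · rintro h _ ⟨y, hy, rfl⟩
    simpa using congrArg e (h y hy)
  · intro h y hy
    apply e.injective
    simpa using h (e y) ⟨y, hy, rfl⟩

theorem normalizer_equiv_map (S : Subgroup G) :
    (Subgroup.normalizer (S : Set G)).map e.toMonoidHom =
      Subgroup.normalizer ((S.map e.toMonoidHom : Subgroup G') : Set G') :=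
  Subgroup.map_equiv_normalizer_eq S e

theorem relIndex_equiv_map (H K : Subgroup G) :
    (H.map e.toMonoidHom).relIndex (K.map e.toMonoidHom) = H.relIndex K :=
  Subgroup.relIndex_map_map_of_injective H K e.injective

theorem relIndex_normalizer_equiv_map (S : Subgroup G) :
    (S.map e.toMonoidHom).relIndex
      (Subgroup.normalizer ((S.map e.toMonoidHom : Subgroup G') : Set G')) =
      S.relIndex (Subgroup.normalizer (S : Set G)) := by
  rw [← normalizer_equiv_map, relIndex_equiv_map]

theorem conj_equiv_map (s : G) (H : Subgroup G) :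
    (H.map (MulAut.conj s).toMonoidHom).map e.toMonoidHom =
      (H.map e.toMonoidHom).map (MulAut.conj (e s)).toMonoidHom := by
  rw [Subgroup.map_map, Subgroup.map_map]
  congr 1
  ext x
  simp

theorem center_equiv_map :
    (Subgroup.center G).map e.toMonoidHom = Subgroup.center G' := by
  ext x
  rw [Subgroup.mem_map_equiv, Subgroup.mem_center_iff, Subgroup.mem_center_iff]
  exact ⟨fun h g => e.symm.injective (by simpa using h (e.symm g)),
    fun h g => e.injective (by simpa using h (e g))⟩

theorem commutator_equiv_map : (commutator G).map e.toMonoidHom = commutator G' := by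
  rw [commutator_def, Subgroup.map_commutator, commutator_def,
    Subgroup.map_top_of_surjective e.toMonoidHom e.surjective]

theorem isCoatom_equiv_map {H : Subgroup G} :
    IsCoatom (H.map e.toMonoidHom) ↔ IsCoatom H :=
  (e.mapSubgroup).isCoatom_iff H

theorem center_subgroup_map_subtype (X : Subgroup G) :
    (Subgroup.center X).map X.subtype = X ⊓ Subgroup.centralizer (X : Set G) := by
  ext g
  constructor
  · rintro ⟨x, hx, rfl⟩
    refine ⟨x.2, Subgroup.mem_centralizer_iff.2 fun y hy => ?_⟩
    exact congrArg Subtype.val (Subgroup.mem_center_iff.1 hx ⟨y, hy⟩)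
  · rintro ⟨h1, h2⟩
    exact ⟨⟨g, h1⟩, Subgroup.mem_center_iff.2 fun y =>
      Subtype.ext (Subgroup.mem_centralizer_iff.1 h2 y y.2), rfl⟩

end CfsgLib.TwoGroups
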