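import Cfsg.Agent.S1193
import Cfsg.Agent.S1200
import Cfsg.Agent.Lib.TwoGroups.WreathedConclusions
import Cfsg.Agent.Lib.TwoGroups.SemiDihedralFusion
import Cfsg.Agent.Lib.Components.FStar
import Cfsg.Agent.Lib.Core.Cores
import Cfsg.Agent.Lib.Signalizer.Count

/-!
A group without subgroups of index 2 with quasi-dihedral or wreathed Sylow 2-subgroup has, modulo its
odd core, a simple normal subgroup of odd index.
-/

set_option autoImplicit false
set_option linter.style.haveILetI false

namespace CfsgLib.TwoGroups.QdSimple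

open scoped Pointwise

theorem isQuasiDihedral_equiv {S T : Type*} [Group S] [Group T] (e : S ≃* T)
    (h : Cfsg.IsQuasiDihedral S) : Cfsg.IsQuasiDihedral T := by
  obtain ⟨n, hn, hc, x, y, hx, hy, hxy⟩ := h
  refine ⟨n, hn, by rw [← Nat.card_congr e.toEquiv, hc], e x, e y, by rw [MulEquiv.orderOf_eq, hx],
    by rw [MulEquiv.orderOf_eq, hy], ?_⟩
  rw [← map_inv, ← map_mul, ← map_mul, hxy, map_pow]

theorem isWreathed_equiv {S T : Type*} [Group S] [Group T] (e : S ≃* T)
    (h : Cfsg.IsWreathed S) : Cfsg.IsWreathed T := by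
  obtain ⟨n, hn, hc, x, y, z, hx, hxy, hd, hz, hzx⟩ := h
  refine ⟨n, hn, by rw [← Nat.card_congr e.toEquiv, hc], e x, e y, e z,
    by rw [MulEquiv.orderOf_eq, hx], by rw [← map_mul, hxy, map_mul], ?_,
    by rw [MulEquiv.orderOf_eq, hz], by rw [← map_inv, ← map_mul, ← map_mul, hzx]⟩
  have e1 : Subgroup.zpowers (e x) = (Subgroup.zpowers x).map e.toMonoidHom :=
    (MonoidHom.map_zpowers e.toMonoidHom x).symm
  have e2 : Subgroup.zpowers (e y) = (Subgroup.zpowers y).map e.toMonoidHom :=
    (MonoidHom.map_zpowers e.toMonoidHom y).symm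
  rw [e1, e2, ← Subgroup.map_inf _ _ _ e.injective, hd, Subgroup.map_bot]

/-- The group is not commutative. -/
theorem not_comm {S : Type*} [Group S] (h : Cfsg.IsQuasiDihedral S ∨ Cfsg.IsWreathed S) :
    ¬ ∀ a b : S, a * b = b * a := by
  intro hab
  rcases h with ⟨n, hn, -, x, y, hx, -, hxy⟩ | ⟨n, hn, -, x, y, z, hx, -, hd, -, hzx⟩
  · rw [hab y x, mul_inv_cancel_right] at hxy
    have h4 : (2 : ℕ) ^ 2 ≤ 2 ^ (n - 1) := Nat.pow_le_pow_right two_pos (by omega)
    have h2n : 2 ^ n = 2 * 2 ^ (n - 1) := by rw [← pow_succ']; congr 1; omega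
    have h1 : x ^ (2 ^ (n - 1) - 2) = 1 := by
      have h3 : x * x ^ (2 ^ (n - 1) - 2) = x * 1 := by
        rw [mul_one, ← pow_succ', show 2 ^ (n - 1) - 2 + 1 = 2 ^ (n - 1) - 1 by omega, ← hxy]
      exact mul_left_cancel h3
    have := Nat.le_of_dvd (by omega) (orderOf_dvd_of_pow_eq_one h1)
    omega
  · rw [hab z x, mul_inv_cancel_right] at hzx
    rw [← hzx, inf_idem, Subgroup.zpowers_eq_bot] at hd
    rw [hd, orderOf_one] at hx
    have := Nat.one_lt_two_pow (show n ≠ 0 by omega)
    omega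

/-- The involutions generate a subgroup with cyclic quotient. -/
theorem exists_generator_mod_involutions {S : Type*} [Group S] [Finite S]
    (h : Cfsg.IsQuasiDihedral S ∨ Cfsg.IsWreathed S) :
    ∃ s : S, Subgroup.closure {x : S | orderOf x = 2} ⊔ Subgroup.zpowers s = ⊤ := by
  rcases h with h | h
  · obtain ⟨n, hn, hcard, -⟩ := id h
    obtain ⟨-, -, -, -, ⟨e⟩⟩ := Cfsg.Agent.S1193.result h n hcard
    set Ω := Subgroup.closure {x : S | orderOf x = 2}
    have hidx : Ω.index = 2 := by
      have h1 := Ω.card_mul_index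
      rw [Nat.card_congr e.toEquiv, DihedralGroup.nat_card, hcard, ← pow_succ',
        show n - 1 + 1 = n by omega, pow_succ] at h1
      exact Nat.eq_of_mul_eq_mul_left (by positivity) h1
    obtain ⟨s, -, hs⟩ := SetLike.exists_of_lt
      (lt_top_iff_ne_top.2 (fun htop => by rw [htop, Subgroup.index_top] at hidx; omega) : Ω < ⊤)
    refine ⟨s, Subgroup.index_eq_one.1 ?_⟩
    have h3 := Subgroup.index_dvd_of_le (show Ω ≤ Ω ⊔ Subgroup.zpowers s from le_sup_left)
    rw [hidx] at h3
    rcases (Nat.dvd_prime Nat.prime_two).1 h3 with h4 | h4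
    · exact h4
    · exfalso
      have h5 : Ω = Ω ⊔ Subgroup.zpowers s := by
        refine le_antisymm le_sup_left (Subgroup.relIndex_eq_one.1 ?_)
        have h6 := Subgroup.relIndex_mul_index (show Ω ≤ Ω ⊔ Subgroup.zpowers s from le_sup_left)
        rw [h4, hidx] at h6
        omega
      exact hs (h5.ge (Subgroup.mem_sup_right (Subgroup.mem_zpowers s)))
  · obtain ⟨n, hn, hcard, -⟩ := id h
    exact (Cfsg.Agent.S1200.result h n hcard).2

variable {G : Type*} [Group G] [Finite G]

theorem isConj_involutions {S : Sylow 2 G}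
    (hS : Cfsg.IsQuasiDihedral (S : Subgroup G) ∨ Cfsg.IsWreathed (S : Subgroup G))
    (hG : ∀ H : Subgroup G, H.index ≠ 2) {a b : G} (ha : orderOf a = 2) (hb : orderOf b = 2) :
    IsConj a b := by
  have h1 : Nat.card {C : ConjClasses G // ∃ t : G, orderOf t = 2 ∧ ConjClasses.mk t = C} = 1 := by
    rcases hS with h | h
    · obtain ⟨m, f, hf, hr⟩ := SemiDihedral.exists_model h
      exact SemiDihedral.classes_two_one hf hr (SemiDihedral.invFused_of_no_index_two hf hr hG)
    · obtain ⟨m, f, -, hf, hr⟩ := WreathTwo.exists_model h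
      exact WreathTwo.classes_one hf hr (WreathTwo.baseFused_of_no_index_two hf hr hG)
        (WreathTwo.outerFused_of_no_index_two hf hr hG)
  haveI := (Nat.card_eq_one_iff_unique.1 h1).1
  exact ConjClasses.mk_eq_mk_iff_isConj.1 (congrArg Subtype.val
    (Subsingleton.elim (⟨ConjClasses.mk a, a, ha, rfl⟩ :
      {C : ConjClasses G // ∃ t : G, orderOf t = 2 ∧ ConjClasses.mk t = C})
      ⟨ConjClasses.mk b, b, hb, rfl⟩))

theorem even_of_subnormal {N : Subgroup G} (hO : Cfsg.oddCore G = ⊥) (hN : N.IsSubnormal)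
    (h1 : N ≠ ⊥) : 2 ∣ Nat.card N := by
  by_contra h
  apply h1
  rw [eq_bot_iff, ← hO]
  exact Components.subnormal_coprime_le_pPrimeCore hN
    (((Nat.Prime.coprime_iff_not_dvd Nat.prime_two).2 h).symm)

theorem core_free {S : Sylow 2 G}
    (hS : Cfsg.IsQuasiDihedral (S : Subgroup G) ∨ Cfsg.IsWreathed (S : Subgroup G))
    (hG : ∀ H : Subgroup G, H.index ≠ 2) (hO : Cfsg.oddCore G = ⊥) :
    ∃ L : Subgroup G, L.Normal ∧ Odd L.index ∧ IsSimpleGroup L ∧ ¬ IsMulCommutative L := by
  haveI : Fact (Nat.Prime 2) := ⟨Nat.prime_two⟩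
  have hnc := not_comm hS
  haveI : Nontrivial G := by
    by_contra hn
    rw [not_nontrivial_iff_subsingleton] at hn
    exact hnc fun a b => Subsingleton.elim _ _
  obtain ⟨L, hLn, hL1, hmin⟩ := Components.exists_minimal_normal (G := G)
  haveI := hLn
  -- the involutions lie in `L`
  have hinv : ∀ t : G, orderOf t = 2 → t ∈ L := by
    obtain ⟨l, hl⟩ := exists_prime_orderOf_dvd_card' 2 (even_of_subnormal hO hLn.isSubnormal hL1)
    intro t ht
    obtain ⟨c, hc⟩ := isConj_iff.1
      (isConj_involutions hS hG (a := (l : G)) (by rw [Subgroup.orderOf_coe, hl]) ht)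
    rw [← hc]
    exact hLn.conj_mem _ l.2 c
  -- the index is odd
  have hodd : Odd L.index := by
    rw [← Nat.not_even_iff_odd]
    intro he
    rw [Subgroup.index_eq_card] at he
    set π := QuotientGroup.mk' L
    have hcyc : IsCyclic ((S.mapSurjective (QuotientGroup.mk'_surjective L) : Sylow 2 (G ⧸ L)) :
        Subgroup (G ⧸ L)) := by
      obtain ⟨s, hs⟩ := exists_generator_mod_involutions hS
      have hle : (S : Subgroup G).map π ≤ Subgroup.zpowers (π s) := by
        have : (⊤ : Subgroup (S : Subgroup G)) ≤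
            (Subgroup.zpowers (π s)).comap (π.comp (S : Subgroup G).subtype) := by
          rw [← hs, sup_le_iff, Subgroup.closure_le]
          refine ⟨fun x hx => ?_, Subgroup.zpowers_le.2 (Subgroup.mem_zpowers _)⟩
          rw [SetLike.mem_coe, Subgroup.mem_comap]
          rw [show (π.comp (S : Subgroup G).subtype) x = 1 from
            (QuotientGroup.eq_one_iff _).2 (hinv _ (by simpa using hx))]
          exact one_mem _
        rintro _ ⟨x, hx, rfl⟩
        exact this (Subgroup.mem_top (⟨x, hx⟩ : (S : Subgroup G)))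
      rw [Sylow.coe_mapSurjective]
      exact Subgroup.isCyclic_of_le hle
    obtain ⟨H, hH⟩ := Signalizer.index_two_of_cyclic_sylow he _ hcyc
    exact hG _ ((Subgroup.index_comap_of_surjective H (QuotientGroup.mk'_surjective L)).trans hH)
  have hSL : (S : Subgroup G) ≤ L := by
    intro x hx
    obtain ⟨k, hk⟩ := S.isPGroup' ⟨x, hx⟩
    have h1 : orderOf (QuotientGroup.mk' L x) ∣ 2 ^ k := orderOf_dvd_of_pow_eq_one (by
      rw [← map_pow, show x ^ 2 ^ k = 1 from congrArg Subtype.val hk, map_one])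
    have h2 : orderOf (QuotientGroup.mk' L x) ∣ L.index := by
      rw [Subgroup.index_eq_card]; exact orderOf_dvd_natCard _
    exact (QuotientGroup.eq_one_iff x).1 (orderOf_eq_one_iff.1
      (Nat.eq_one_of_dvd_coprimes (Nat.Coprime.pow_left k (Nat.coprime_two_left.2 hodd)) h1 h2))
  have hna : ⁅L, L⁆ ≠ ⊥ := by
    intro h
    apply hnc
    intro a b
    exact Subtype.ext (Subgroup.mem_centralizer_iff.1
      (Subgroup.commutator_eq_bot_iff_le_centralizer.1 h (hSL b.2)) a (hSL a.2))
  obtain ⟨hjoin, hsimp⟩ := Components.minimal_normal_eq_sSup_components hLn hmin hna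
  obtain ⟨K, hK, hKL⟩ : ∃ K : Subgroup G, Cfsg.IsComponent K ∧ K ≤ L := by
    by_contra hcon
    push Not at hcon
    apply hL1
    rw [hjoin, sSup_eq_bot]
    exact fun K hK => absurd hK.2 (hcon K hK.1)
  have huniq : ∀ K' : Subgroup G, Cfsg.IsComponent K' → K' ≤ L → K' = K := by
    intro K' hK' hK'L
    by_contra hne
    obtain ⟨hs1, -⟩ := hsimp K hK hKL
    obtain ⟨hs2, hn2⟩ := hsimp K' hK' hK'L
    haveI := hs1
    haveI := hs2
    obtain ⟨a, ha⟩ := exists_prime_orderOf_dvd_card' 2
      (even_of_subnormal hO hK.1 ((Subgroup.nontrivial_iff_ne_bot K).1 inferInstance))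
    obtain ⟨b, hb⟩ := exists_prime_orderOf_dvd_card' 2
      (even_of_subnormal hO hK'.1 ((Subgroup.nontrivial_iff_ne_bot K').1 inferInstance))
    have hcomm := Subgroup.commutator_eq_bot_iff_le_centralizer.1
      (Components.components_commute hK hK' (Ne.symm hne))
    have hab : Commute (a : G) (b : G) := (Subgroup.mem_centralizer_iff.1 (hcomm a.2) b b.2).symm
    have ha1 : (a : G) ≠ 1 := fun h => by
      rw [← Subgroup.orderOf_coe, h, orderOf_one] at ha; omega
    have hcenK : ∀ x : G, x ∈ K → (∀ y ∈ K, y * x = x * y) → x = 1 := by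
      intro x hx hall
      by_contra hx1
      have hnn : ¬ IsMulCommutative K := (hsimp K hK hKL).2
      rcases Subgroup.Normal.eq_bot_or_eq_top
        (inferInstance : (Subgroup.center K).Normal) with hc | hc
      · have h : (⟨x, hx⟩ : K) ∈ Subgroup.center K :=
          Subgroup.mem_center_iff.2 fun y => Subtype.ext (hall y y.2)
        rw [hc, Subgroup.mem_bot] at h
        exact hx1 (congrArg Subtype.val h)
      · exact hnn ⟨⟨fun u v => (Subgroup.mem_center_iff.1 (hc ▸ Subgroup.mem_top v) u)⟩⟩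
    have hcenK' : ∀ x : G, x ∈ K' → (∀ y ∈ K', y * x = x * y) → x = 1 := by
      intro x hx hall
      by_contra hx1
      rcases Subgroup.Normal.eq_bot_or_eq_top
        (inferInstance : (Subgroup.center K').Normal) with hc | hc
      · have h : (⟨x, hx⟩ : K') ∈ Subgroup.center K' :=
          Subgroup.mem_center_iff.2 fun y => Subtype.ext (hall y y.2)
        rw [hc, Subgroup.mem_bot] at h
        exact hx1 (congrArg Subtype.val h)
      · exact hn2 ⟨⟨fun u v => (Subgroup.mem_center_iff.1 (hc ▸ Subgroup.mem_top v) u)⟩⟩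
    have habo : orderOf ((a : G) * b) = 2 := by
      refine orderOf_eq_prime ?_ fun h1 => ?_
      · rw [hab.mul_pow]
        have h1 : (a : G) ^ 2 = 1 := by rw [← ha, ← Subgroup.orderOf_coe, pow_orderOf_eq_one]
        have h2 : (b : G) ^ 2 = 1 := by rw [← hb, ← Subgroup.orderOf_coe, pow_orderOf_eq_one]
        rw [h1, h2, one_mul]
      · refine ha1 (hcenK a a.2 fun y hy => ?_)
        rw [eq_inv_of_mul_eq_one_left h1]
        exact (Commute.inv_right (a := y) (b := (b : G))
          (Subgroup.mem_centralizer_iff.1 (hcomm hy) b b.2).symm).eq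
    obtain ⟨c, hc⟩ := isConj_iff.1
      (isConj_involutions hS hG (a := (a : G)) (by rw [Subgroup.orderOf_coe, ha]) habo)
    have hK3 : Cfsg.IsComponent (MulAut.conj c • K) := Components.isComponent_conj hK c
    have hmem : (a : G) * b ∈ MulAut.conj c • K :=
      hc ▸ Subgroup.smul_mem_pointwise_smul (a : G) (MulAut.conj c) K a.2
    by_cases h3 : MulAut.conj c • K = K
    · rw [h3, Subgroup.mul_mem_cancel_left _ a.2] at hmem
      have hb1 : (b : G) = 1 := hcenK b hmem fun y hy =>
        (Subgroup.mem_centralizer_iff.1 (hcomm hy) b b.2).symm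
      rw [← Subgroup.orderOf_coe, hb1, orderOf_one] at hb
      omega
    · refine ha1 (hcenK a a.2 fun y hy => ?_)
      have h4 := Subgroup.mem_centralizer_iff.1 (Subgroup.commutator_eq_bot_iff_le_centralizer.1
        (Components.components_commute hK hK3 (Ne.symm h3)) hy) _ hmem
      have h5 := Subgroup.mem_centralizer_iff.1 (hcomm hy) b b.2
      have h6 : (a : G) * y * b = y * a * b := by
        rw [mul_assoc, ← h5, ← mul_assoc, h4, ← mul_assoc]
      exact (mul_right_cancel h6).symm
  have hKeq : L = K := by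
    refine le_antisymm ?_ hKL
    conv_lhs => rw [hjoin]
    exact sSup_le fun K' hK' => (huniq K' hK'.1 hK'.2).le
  refine ⟨L, hLn, hodd, ?_, ?_⟩
  · rw [hKeq]; exact (hsimp K hK hKL).1
  · rw [hKeq]; exact (hsimp K hK hKL).2

theorem main {S : Sylow 2 G}
    (hS : Cfsg.IsQuasiDihedral (S : Subgroup G) ∨ Cfsg.IsWreathed (S : Subgroup G))
    (hG : ∀ H : Subgroup G, H.index ≠ 2) :
    ∃ L : Subgroup (G ⧸ Cfsg.oddCore G), L.Normal ∧ Odd L.index ∧ IsSimpleGroup L ∧
      ¬ IsMulCommutative L := by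
  haveI : Fact (Nat.Prime 2) := ⟨Nat.prime_two⟩
  haveI : (Cfsg.oddCore G).Normal := Components.pPrimeCore_normal 2
  set π := QuotientGroup.mk' (Cfsg.oddCore G)
  have hsur : Function.Surjective π := QuotientGroup.mk'_surjective _
  have hinj : Function.Injective (π.comp (S : Subgroup G).subtype) := by
    rw [injective_iff_map_eq_one]
    intro x hx
    have hxO : (x : G) ∈ Cfsg.oddCore G := (QuotientGroup.eq_one_iff _).1 hx
    obtain ⟨k, hk⟩ := S.isPGroup' x
    have h1 : orderOf (x : G) ∣ 2 ^ k := orderOf_dvd_of_pow_eq_one (congrArg Subtype.val hk)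
    have h2 : orderOf (x : G) ∣ Nat.card (Cfsg.oddCore G) := by
      rw [← Subgroup.orderOf_mk (x : G) hxO]
      exact orderOf_dvd_natCard _
    exact Subtype.ext (orderOf_eq_one_iff.1 (Nat.eq_one_of_dvd_coprimes
      (Nat.Coprime.pow_left k (Components.pPrimeCore_coprime 2).symm) h1 h2))
  let e : (S : Subgroup G) ≃* ((S.mapSurjective hsur : Sylow 2 (G ⧸ Cfsg.oddCore G)) :
      Subgroup (G ⧸ Cfsg.oddCore G)) :=
    (MonoidHom.ofInjective hinj).trans (MulEquiv.subgroupCongr (by
      rw [Sylow.coe_mapSurjective, MonoidHom.range_comp, Subgroup.range_subtype]))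
  exact core_free (S := S.mapSurjective hsur)
    (hS.imp (isQuasiDihedral_equiv e) (isWreathed_equiv e))
    (fun H hH => hG (H.comap π) ((Subgroup.index_comap_of_surjective H hsur).trans hH))
    (Core.pPrimeCore_quotient_pPrimeCore 2 G)

end CfsgLib.TwoGroups.QdSimple
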