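import Mathlib
import Cfsg.Agent.Lib.Signalizer.Embedded

/-!
The coset action of a group with a strongly embedded subgroup: every involution fixes exactly one
point, there is one class of involutions, each ordered pair of distinct points is swapped by as many
involutions as fix a point, and the stabiliser of two points is transitive on the involutions fixing
the first.
-/

set_option autoImplicit false
set_option linter.style.haveILetI false

namespace CfsgLib.TwoGroups.SE

open Subgroup CfsgLib.Signalizer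

variable {G : Type*} [Group G] [Finite G] {H : Subgroup G} (hH : Cfsg.IsStronglyEmbedded H)

omit [Finite G] in
theorem smul_mk_eq_iff (a g : G) : a • (g : G ⧸ H) = (g : G ⧸ H) ↔ g⁻¹ * a * g ∈ H := by
  rw [MulAction.Quotient.smul_mk, QuotientGroup.eq, ← inv_mem_iff]
  simp [mul_assoc]

omit [Finite G] in
theorem orderOf_conj' (g a : G) : orderOf (g⁻¹ * a * g) = orderOf a := by
  simpa using CfsgLib.Signalizer.orderOf_conj g⁻¹ a

include hH in
/-- An involution fixes at most one point. -/
theorem fixed_unique {a : G} (ha : orderOf a = 2) {x y : G ⧸ H} (hx : a • x = x)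
    (hy : a • y = y) : x = y := by
  obtain ⟨g, rfl⟩ := QuotientGroup.mk_surjective x
  obtain ⟨k, rfl⟩ := QuotientGroup.mk_surjective y
  rw [smul_mk_eq_iff] at hx hy
  have h := ((stronglyEmbedded_iff_conj H).1 hH).2.2 _ hx (by rw [orderOf_conj', ha]) (k⁻¹ * g)
    (by
      have : k⁻¹ * g * (g⁻¹ * a * g) * (k⁻¹ * g)⁻¹ = k⁻¹ * a * k := by group
      rwa [this])
  refine QuotientGroup.eq.2 ?_
  simpa using inv_mem h

include hH in
/-- An element fixing two points has odd order. -/
theorem odd_orderOf_of_fixes {d : G} {x y : G ⧸ H} (hxy : x ≠ y) (hx : d • x = x) (hy : d • y = y) :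
    Odd (orderOf d) := by
  rw [← Nat.not_even_iff_odd]
  intro he
  have h2 : orderOf (d ^ (orderOf d / 2)) = 2 := by
    rw [orderOf_pow_of_dvd (by have := orderOf_pos d; rcases he with ⟨k, hk⟩; omega)
      ⟨2, (Nat.div_mul_cancel (even_iff_two_dvd.1 he)).symm⟩]
    have := orderOf_pos d
    rcases he with ⟨k, hk⟩
    rw [show orderOf d / 2 = k by omega, hk, Nat.div_eq_of_eq_mul_left (n := k) (by omega)]
    omega
  have hfix : ∀ z : G ⧸ H, d • z = z → d ^ (orderOf d / 2) • z = z := fun z hz =>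
    MulAction.mem_stabilizer_iff.1 (pow_mem (MulAction.mem_stabilizer_iff.2 hz) _)
  exact hxy (fixed_unique hH h2 (hfix x hx) (hfix y hy))

include hH in
/-- If `a` fixes a point moved by the involution `b`, then `a * b` has odd order. -/
theorem odd_orderOf_mul {a b : G} (ha : orderOf a = 2) (hb : orderOf b = 2) {x : G ⧸ H}
    (hx : a • x = x) (hbx : b • x ≠ x) : Odd (orderOf (a * b)) := by
  rw [← Nat.not_even_iff_odd]
  intro he
  set g := a * b with hg
  set z := g ^ (orderOf g / 2) with hz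
  have hk : orderOf g = 2 * (orderOf g / 2) := by
    rcases he with ⟨k, hk⟩; omega
  have hzz : z * z = 1 := by
    rw [hz, ← pow_add, ← two_mul, ← hk, pow_orderOf_eq_one]
  have hz1 : z ≠ 1 := by
    intro h
    have := Nat.le_of_dvd (by have := orderOf_pos g; omega) (orderOf_dvd_of_pow_eq_one h)
    have := orderOf_pos g
    omega
  have hz2 : orderOf z = 2 := orderOf_eq_two_of hz1 hzz
  have hinv : ∀ c : G, orderOf c = 2 → c * g * c⁻¹ = g⁻¹ → c * z = z * c := by
    intro c hc h
    have h1 : c * z * c⁻¹ = z := by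
      rw [hz, ← conj_pow, h, inv_pow, ← hz, inv_eq_of_mul_eq_one_right hzz]
    rw [← mul_inv_eq_iff_eq_mul]
    exact h1
  have hza := hinv a ha (conj_mul_eq_inv ha hb)
  have hzb := hinv b hb (by
    rw [hg, mul_inv_rev, involution_inv ha, involution_inv hb]
    rw [mul_assoc, mul_assoc, involution_sq hb, mul_one])
  have hzx : z • x = x := fixed_unique hH ha (by rw [← mul_smul, hza, mul_smul, hx]) hx
  exact hbx (fixed_unique hH hz2 (by rw [← mul_smul, ← hzb, mul_smul, hzx]) hzx)

omit [Finite G] in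
/-- In a dihedral group of twice odd order the two generators are conjugate. -/
theorem isConj_of_odd_mul {a b : G} (ha : orderOf a = 2) (hb : orderOf b = 2)
    (ho : Odd (orderOf (a * b))) : IsConj a b := by
  obtain ⟨n, hn⟩ := ho
  refine isConj_iff.2 ⟨(a * b) ^ n, ?_⟩
  have h1 : a * ((a * b) ^ n)⁻¹ = (a * b) ^ n * a := by
    rw [← zpow_natCast, ← zpow_neg, mul_pair_zpow ha hb, neg_neg]
  rw [mul_assoc, h1, ← mul_assoc, ← pow_add]
  have h2 : (a * b) ^ (n + n) * (a * b) = 1 := by
    rw [← pow_succ, show n + n + 1 = 2 * n + 1 by ring, ← hn, pow_orderOf_eq_one]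
  rw [eq_inv_of_mul_eq_one_left h2, mul_inv_rev, involution_inv ha, involution_inv hb, mul_assoc,
    involution_sq ha, mul_one]

include hH in
/-- Every involution fixes some point. -/
theorem exists_fixed {b : G} (hb : orderOf b = 2) : ∃ x : G ⧸ H, b • x = x := by
  obtain ⟨a, haH, ha⟩ := exists_involution_of_even hH.2.1
  have hx : a • ((1 : G) : G ⧸ H) = ((1 : G) : G ⧸ H) := by rw [smul_mk_eq_iff]; simpa using haH
  by_cases hbx : b • ((1 : G) : G ⧸ H) = ((1 : G) : G ⧸ H)
  · exact ⟨_, hbx⟩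
  · obtain ⟨g, hg⟩ := isConj_iff.1 (isConj_of_odd_mul ha hb (odd_orderOf_mul hH ha hb hx hbx))
    exact ⟨g • ((1 : G) : G ⧸ H), by rw [← hg, mul_smul, mul_smul, inv_smul_smul, hx]⟩

include hH in
/-- An element of odd order inverted by `w` and centralised by an involution fixing a point moved
by `w` is trivial. -/
theorem eq_one_of_inverted {a w c : G} (ha : orderOf a = 2) (hw : orderOf w = 2) {x : G ⧸ H}
    (hax : a • x = x) (hwx : w • x ≠ x) (hca : c * a = a * c) (hwc : w * c * w⁻¹ = c⁻¹)
    (hc : Odd (orderOf c)) : c = 1 := by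
  have hg : a * w * c * (a * w)⁻¹ = c⁻¹ := by
    calc a * w * c * (a * w)⁻¹ = a * (w * c * w⁻¹) * a⁻¹ := by group
      _ = c⁻¹ := by rw [hwc, ← (Commute.inv_left hca).eq, mul_inv_cancel_right]
  have hcg : Commute c ((a * w) ^ 2) := by
    have h2 : (a * w) ^ 2 * c * ((a * w) ^ 2)⁻¹ = c := by
      calc (a * w) ^ 2 * c * ((a * w) ^ 2)⁻¹
          = a * w * (a * w * c * (a * w)⁻¹) * (a * w)⁻¹ := by simp [pow_two, mul_assoc]
        _ = c := by rw [hg, ← conj_inv, hg, inv_inv]
    exact (mul_inv_eq_iff_eq_mul.1 h2).symm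
  obtain ⟨n, hn⟩ := odd_orderOf_mul hH ha hw hax hwx
  have hpow : a * w = ((a * w) ^ 2) ^ (n + 1) := by
    rw [← pow_mul, show 2 * (n + 1) = 2 * n + 1 + 1 by ring, pow_succ, ← hn, pow_orderOf_eq_one,
      one_mul]
  have hcomm : Commute c (a * w) := hpow ▸ hcg.pow_right _
  rw [← hcomm.eq, mul_inv_cancel_right, eq_inv_iff_mul_eq_one, ← pow_two] at hg
  have hd := orderOf_dvd_of_pow_eq_one hg
  rcases (Nat.dvd_prime Nat.prime_two).1 hd with h | h
  · exact orderOf_eq_one_iff.1 h
  · rw [h] at hc; exact absurd hc (by decide)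

omit [Finite G] in
/-- The involutions fixing a point correspond to those in `H`. -/
theorem card_fixing (x : G ⧸ H) :
    Nat.card {a : G // orderOf a = 2 ∧ a • x = x} =
      Nat.card {t : G // orderOf t = 2 ∧ t ∈ H} := by
  obtain ⟨g, rfl⟩ := QuotientGroup.mk_surjective x
  refine Nat.card_congr ((MulAut.conj g⁻¹).toEquiv.subtypeEquiv fun a => ?_)
  rw [smul_mk_eq_iff]
  simp [orderOf_conj']

include hH in
theorem exists_fixing (x : G ⧸ H) : ∃ a : G, orderOf a = 2 ∧ a • x = x := by
  obtain ⟨a, haH, ha⟩ := exists_involution_of_even hH.2.1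
  have h : 0 < Nat.card {t : G // orderOf t = 2 ∧ t ∈ H} := by
    haveI : Nonempty {t : G // orderOf t = 2 ∧ t ∈ H} := ⟨⟨a, ha, haH⟩⟩
    exact Nat.card_pos
  rw [← card_fixing x] at h
  obtain ⟨⟨b, hb⟩⟩ := (Nat.card_pos_iff.1 h).1
  exact ⟨b, hb⟩

include hH in
/-- The number of involutions of `G`. -/
theorem card_involutions :
    Nat.card {a : G // orderOf a = 2} =
      Nat.card (G ⧸ H) * Nat.card {t : G // orderOf t = 2 ∧ t ∈ H} := by
  classical
  have := Fintype.ofFinite (G ⧸ H)
  let f : (Σ x : G ⧸ H, {a : G // orderOf a = 2 ∧ a • x = x}) → {a : G // orderOf a = 2} :=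
    fun p => ⟨p.2.1, p.2.2.1⟩
  have hf : Function.Bijective f := by
    constructor
    · rintro ⟨x, a, ha, hx⟩ ⟨y, b, hb, hy⟩ hab
      obtain rfl : a = b := congrArg Subtype.val hab
      obtain rfl := fixed_unique hH ha hx hy
      rfl
    · rintro ⟨a, ha⟩
      obtain ⟨x, hx⟩ := exists_fixed hH ha
      exact ⟨⟨x, a, ha, hx⟩, rfl⟩
  rw [← Nat.card_eq_of_bijective f hf, Nat.card_sigma,
    Finset.sum_congr rfl (fun x _ => card_fixing x), Finset.sum_const, smul_eq_mul,
    Finset.card_univ, ← Nat.card_eq_fintype_card]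

include hH in
theorem card_swapping_le (x y : G ⧸ H) (hxy : x ≠ y) :
    Nat.card {i : G // orderOf i = 2 ∧ i • x = y} ≤
      Nat.card {t : G // orderOf t = 2 ∧ t ∈ H} := by
  obtain ⟨a, ha, hay⟩ := exists_fixing hH y
  have hback : ∀ w : G, orderOf w = 2 → w • x = y → w • y = x := fun w hw h => by
    rw [← h, ← mul_smul, involution_sq hw, one_smul]
  rw [← card_fixing x]
  refine Nat.card_le_card_of_injective
    (fun w => (⟨w.1 * a * w.1⁻¹, (CfsgLib.Signalizer.orderOf_conj _ _).trans ha, by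
      rw [involution_inv w.2.1, mul_smul, mul_smul, w.2.2, hay, hback _ w.2.1 w.2.2]⟩ :
        {a : G // orderOf a = 2 ∧ a • x = x})) ?_
  rintro ⟨w, hw, hwx⟩ ⟨w', hw', hwx'⟩ h
  have h' : w * a * w⁻¹ = w' * a * w'⁻¹ := congrArg Subtype.val h
  refine Subtype.ext ?_
  show w = w'
  have hc : w' * w = 1 := by
    refine eq_one_of_inverted hH ha hw hay (by rw [hback w hw hwx]; exact hxy)
      ?_ ?_ (odd_orderOf_of_fixes hH hxy ?_ ?_)
    · calc w' * w * a = w' * (w * a * w⁻¹) * w := by group
        _ = w' * w' * a * w'⁻¹ * w := by rw [h']; group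
        _ = a * (w' * w) := by rw [involution_sq hw', one_mul, involution_inv hw', mul_assoc]
    · rw [mul_inv_rev, involution_inv hw, involution_inv hw', mul_assoc, mul_assoc,
        involution_sq hw, mul_one]
    · rw [mul_smul, hwx, hback w' hw' hwx']
    · rw [mul_smul, hback w hw hwx, hwx']
  rw [mul_eq_one_iff_inv_eq, involution_inv hw'] at hc
  exact hc.symm

include hH in
/-- Each ordered pair of distinct points is swapped by as many involutions as fix a point. -/
theorem card_swapping (x y : G ⧸ H) (hxy : x ≠ y) :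
    Nat.card {i : G // orderOf i = 2 ∧ i • x = y} =
      Nat.card {t : G // orderOf t = 2 ∧ t ∈ H} := by
  classical
  have := Fintype.ofFinite (G ⧸ H)
  let f : (Σ z : G ⧸ H, {i : G // orderOf i = 2 ∧ i • x = z}) ≃ {a : G // orderOf a = 2} :=
    { toFun := fun p => ⟨p.2.1, p.2.2.1⟩
      invFun := fun a => ⟨a.1 • x, a.1, a.2, rfl⟩
      left_inv := by rintro ⟨z, a, ha, rfl⟩; rfl
      right_inv := fun _ => rfl }
  have hsum := Nat.card_congr f
  rw [Nat.card_sigma, card_involutions hH, ← smul_eq_mul, Nat.card_eq_fintype_card (α := G ⧸ H),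
    ← Finset.card_univ, ← Finset.sum_const] at hsum
  have hle : ∀ z ∈ (Finset.univ : Finset (G ⧸ H)), Nat.card {i : G // orderOf i = 2 ∧ i • x = z} ≤
      Nat.card {t : G // orderOf t = 2 ∧ t ∈ H} := by
    intro z _
    rcases eq_or_ne x z with rfl | hz
    · exact (card_fixing x).le
    · exact card_swapping_le hH x z hz
  exact ((Finset.sum_eq_sum_iff_of_le hle).1 hsum) y (Finset.mem_univ _)

include hH in
/-- The stabiliser of two points is transitive on the involutions fixing the first. -/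
theorem exists_conj_fixing {x y : G ⧸ H} (hxy : x ≠ y) {s t : G} (hs : orderOf s = 2)
    (hsx : s • x = x) (ht : orderOf t = 2) (htx : t • x = x) :
    ∃ d : G, d • x = x ∧ d • y = y ∧ d * s * d⁻¹ = t := by
  haveI : Nonempty {i : G // orderOf i = 2 ∧ i • x = y} := by
    refine (Nat.card_pos_iff.1 ?_).1
    rw [card_swapping hH x y hxy, ← card_fixing x]
    haveI : Nonempty {a : G // orderOf a = 2 ∧ a • x = x} := ⟨⟨s, hs, hsx⟩⟩
    exact Nat.card_pos
  obtain ⟨w, hw, hwx⟩ := Classical.arbitrary {i : G // orderOf i = 2 ∧ i • x = y}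
  have hback : ∀ v : G, orderOf v = 2 → v • x = y → v • y = x := fun v hv h => by
    rw [← h, ← mul_smul, involution_sq hv, one_smul]
  -- the square root of `w * v`
  have root : ∀ v : {i : G // orderOf i = 2 ∧ i • x = y}, ∃ k : G, k * k = w * v.1 ∧
      k • x = x ∧ k • y = y ∧ w * k * w⁻¹ = k⁻¹ := by
    rintro ⟨v, hv, hvx⟩
    have hcx : (w * v) • x = x := by rw [mul_smul, hvx, hback w hw hwx]
    have hcy : (w * v) • y = y := by rw [mul_smul, hback v hv hvx, hwx]
    obtain ⟨n, hn⟩ := odd_orderOf_of_fixes hH hxy hcx hcy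
    refine ⟨(w * v) ^ (n + 1), ?_, ?_, ?_, ?_⟩
    · show (w * v) ^ (n + 1) * (w * v) ^ (n + 1) = w * v
      rw [← pow_add, show n + 1 + (n + 1) = 2 * n + 1 + 1 by ring, pow_succ, ← hn,
        pow_orderOf_eq_one, one_mul]
    · exact MulAction.mem_stabilizer_iff.1 (pow_mem (MulAction.mem_stabilizer_iff.2 hcx) _)
    · exact MulAction.mem_stabilizer_iff.1 (pow_mem (MulAction.mem_stabilizer_iff.2 hcy) _)
    · rw [← conj_pow, conj_mul_eq_inv hw hv, inv_pow]
  choose k hk hkx hky hkw using root
  let φ : {i : G // orderOf i = 2 ∧ i • x = y} → {a : G // orderOf a = 2 ∧ a • x = x} := fun v =>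
    ⟨k v * s * (k v)⁻¹, (CfsgLib.Signalizer.orderOf_conj _ _).trans hs, by
      rw [mul_smul, mul_smul, inv_smul_eq_iff.2 (hkx v).symm, hsx, hkx v]⟩
  have hφ : Function.Injective φ := by
    intro v v' h
    have h' : k v * s * (k v)⁻¹ = k v' * s * (k v')⁻¹ := congrArg Subtype.val h
    have hw' : w * k v' * w = (k v')⁻¹ := by rw [← hkw v', involution_inv hw]
    have hk' : w * k v * w = (k v)⁻¹ := by rw [← hkw v, involution_inv hw]
    have hd : k v * (k v')⁻¹ = 1 := by
      refine eq_one_of_inverted hH (a := k v' * s * (k v')⁻¹) (w := k v' * w) (x := x)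
        ((CfsgLib.Signalizer.orderOf_conj _ _).trans hs) (orderOf_eq_two_of ?_ ?_)
        (φ v').2.2 (by rw [mul_smul, hwx, hky v']; exact hxy.symm) ?_ ?_
        (odd_orderOf_of_fixes hH hxy ?_ ?_)
      · intro h1
        apply hxy
        have h2 := congrArg (fun g : G => g • x) h1
        simp only [mul_smul, hwx, hky v', one_smul] at h2
        exact h2.symm
      · rw [mul_assoc, ← mul_assoc w, hw', mul_inv_cancel]
      · conv_rhs => rw [← h']
        group
      · calc k v' * w * (k v * (k v')⁻¹) * (k v' * w)⁻¹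
            = k v' * ((w * k v * w⁻¹) * (w * k v' * w⁻¹)⁻¹) * (k v')⁻¹ := by group
          _ = (k v * (k v')⁻¹)⁻¹ := by rw [hkw v, hkw v']; group
      · rw [mul_smul, inv_smul_eq_iff.2 (hkx v').symm, hkx v]
      · rw [mul_smul, inv_smul_eq_iff.2 (hky v').symm, hky v]
    rw [mul_inv_eq_one] at hd
    have := hk v
    rw [hd, hk v'] at this
    exact Subtype.ext (mul_left_cancel this).symm
  obtain ⟨v, hv⟩ := (hφ.bijective_of_nat_card_le
    (by rw [card_fixing, card_swapping hH x y hxy])).2 ⟨t, ht, htx⟩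
  exact ⟨k v, hkx v, hky v, congrArg Subtype.val hv⟩

include hH in
/-- There is one class of involutions. -/
theorem isConj_involutions {a b : G} (ha : orderOf a = 2) (hb : orderOf b = 2) : IsConj a b := by
  obtain ⟨x, hx⟩ := exists_fixed hH ha
  by_cases hbx : b • x = x
  · obtain ⟨y, hy⟩ : ∃ y : G ⧸ H, x ≠ y := by
      by_contra hno
      push Not at hno
      refine hH.1 (Subgroup.index_eq_one.1 ?_)
      haveI : Subsingleton (G ⧸ H) := ⟨fun p q => (hno p).symm.trans (hno q)⟩
      exact Nat.card_unique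
    obtain ⟨d, -, -, hd⟩ := exists_conj_fixing hH hy ha hx hb hbx
    exact isConj_iff.2 ⟨d, hd⟩
  · exact isConj_of_odd_mul ha hb (odd_orderOf_mul hH ha hb hx hbx)

end CfsgLib.TwoGroups.SE
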