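import Mathlib
import Cfsg.Prelude.Def_CaseTheorems
import Cfsg.Agent.Lib.PGroups.MaxAbelian
import Cfsg.Agent.Lib.TwoGroups.Recognition
import Cfsg.Agent.Lib.TwoGroups.FourSubgroups

/-!
`p`-groups all of whose normal abelian subgroups are cyclic, by means of a self-centralizing cyclic
normal subgroup and the residue by which an element acts on it.
-/

set_option autoImplicit false
set_option linter.style.haveILetI false

namespace CfsgLib.TwoGroups.CycNA

open Subgroup

variable {p n : ℕ} [hp : Fact p.Prime]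

/-- `v` is a residue congruent to `1` modulo `p`, and modulo `4` when `p = 2`. -/
def Near (p n : ℕ) (v : ZMod (p ^ n)) : Prop :=
  ∃ t : ZMod (p ^ n), v - 1 = (p : ZMod (p ^ n)) * t ∧ (p = 2 → ∃ s, t = 2 * s)

omit hp in
theorem Near.pow {v : ZMod (p ^ n)} (hv : Near p n v) (j : ℕ) : Near p n (v ^ j) := by
  obtain ⟨t, ht, h4⟩ := hv
  refine ⟨t * ∑ i ∈ Finset.range j, v ^ i, ?_, fun h2 => ?_⟩
  · rw [← mul_geom_sum v j, ht]; ring
  · obtain ⟨s, rfl⟩ := h4 h2
    exact ⟨s * ∑ i ∈ Finset.range j, v ^ i, by ring⟩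

theorem isUnit_one_add_p_mul (x : ZMod (p ^ n)) : IsUnit (1 + (p : ZMod (p ^ n)) * x) := by
  refine IsNilpotent.isUnit_one_add ⟨n, ?_⟩
  rw [mul_pow, ← Nat.cast_pow, ZMod.natCast_self, zero_mul]

omit hp in
theorem pow_eq_linear (v : ZMod (p ^ n)) (i : ℕ) :
    ∃ r, v ^ i = 1 + (i : ZMod (p ^ n)) * (v - 1) + (v - 1) ^ 2 * r := by
  induction i with
  | zero => exact ⟨0, by simp⟩
  | succ i ih =>
    obtain ⟨r, hr⟩ := ih
    refine ⟨(i : ZMod (p ^ n)) + r * v, ?_⟩
    rw [pow_succ, hr]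
    push_cast
    ring

/-- The geometric sum of length `p` of such a residue is `p` times a unit. -/
theorem Near.geom {v : ZMod (p ^ n)} (hv : Near p n v) :
    ∃ c, IsUnit c ∧ ∑ i ∈ Finset.range p, v ^ i = (p : ZMod (p ^ n)) * c := by
  obtain ⟨t, ht, h4⟩ := hv
  rcases hp.out.eq_two_or_odd' with h2 | hodd
  · subst h2
    obtain ⟨s, rfl⟩ := h4 rfl
    refine ⟨1 + 2 * s, by simpa using isUnit_one_add_p_mul (p := 2) (n := n) s, ?_⟩
    rw [Finset.sum_range_succ, Finset.sum_range_one]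
    push_cast at ht ⊢
    linear_combination ht
  · have hsum : ∀ j : ℕ, ∃ R, ∑ i ∈ Finset.range j, v ^ i =
        (j : ZMod (p ^ n)) + ((j.choose 2 : ℕ) : ZMod (p ^ n)) * (v - 1) + (v - 1) ^ 2 * R := by
      intro j
      induction j with
      | zero => exact ⟨0, by simp⟩
      | succ j ih =>
        obtain ⟨R, hR⟩ := ih
        obtain ⟨r, hr⟩ := pow_eq_linear v j
        refine ⟨R + r, ?_⟩
        rw [Finset.sum_range_succ, hR, hr, Nat.choose_succ_succ', Nat.choose_one_right]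
        push_cast
        ring
    obtain ⟨R, hR⟩ := hsum p
    obtain ⟨q, hq⟩ : p ∣ p.choose 2 :=
      hp.out.dvd_choose_self (by norm_num) (by
        rcases hodd with ⟨k, hk⟩
        have := hp.out.two_le
        omega)
    refine ⟨1 + (p : ZMod (p ^ n)) * ((q : ZMod (p ^ n)) * t + t ^ 2 * R),
      isUnit_one_add_p_mul _, ?_⟩
    rw [hR, ht, hq]
    push_cast
    ring

theorem Near.sub_one_mul {v : ZMod (p ^ n)} (hv : Near p n v) (hp1 : v ^ p = 1) :
    (v - 1) * (p : ZMod (p ^ n)) = 0 := by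
  obtain ⟨c, hc, hg⟩ := hv.geom
  have h := mul_geom_sum v p
  rw [hg, hp1, sub_self, ← mul_assoc] at h
  exact hc.mul_left_eq_zero.1 h

theorem isUnit_or_eq_p_mul (hn : 1 ≤ n) (k : ZMod (p ^ n)) :
    IsUnit k ∨ ∃ t, k = (p : ZMod (p ^ n)) * t := by
  haveI : NeZero (p ^ n) := ⟨pow_ne_zero _ hp.out.ne_zero⟩
  by_cases h : p ∣ k.val
  · obtain ⟨q, hq⟩ := h
    refine Or.inr ⟨(q : ZMod (p ^ n)), ?_⟩
    rw [← Nat.cast_mul, ← hq, ZMod.natCast_zmod_val]
  · left
    rw [← ZMod.natCast_zmod_val k, ZMod.isUnit_iff_coprime]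
    exact ((hp.out.coprime_iff_not_dvd).2 h).symm.pow_right n

variable {P : Type*} [Group P] [Finite P] {a : P}

/-- The hypotheses on the cyclic subgroup `⟨a⟩`. -/
structure Setup (p n : ℕ) (a : P) : Prop where
  pgroup : IsPGroup p P
  cyc : ∀ E : Subgroup P, E.Normal → IsMulCommutative E → IsCyclic E
  ord : orderOf a = p ^ n
  normal : (zpowers a).Normal
  self : ∀ g : P, g * a * g⁻¹ = a → g ∈ zpowers a

namespace Setup

variable (h : Setup p n a)

include h

theorem exists_act (g : P) : ∃ k : ZMod (p ^ n), g * a * g⁻¹ = zexp a k := by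
  haveI : NeZero (p ^ n) := ⟨pow_ne_zero _ hp.out.ne_zero⟩
  have hmem := h.normal.conj_mem a (mem_zpowers a) g
  rw [← mem_powers_iff_mem_zpowers] at hmem
  obtain ⟨k, hk⟩ := hmem
  exact ⟨(k : ZMod (p ^ n)), by rw [zexp_natCast (h.ord ▸ pow_orderOf_eq_one a)]; exact hk.symm⟩

/-- The residue by which `g` acts on `⟨a⟩`. -/
noncomputable def act (g : P) : ZMod (p ^ n) := (h.exists_act g).choose

theorem act_spec (g : P) : g * a * g⁻¹ = zexp a (h.act g) := (h.exists_act g).choose_spec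

omit hp in
theorem pow_n : a ^ p ^ n = 1 := h.ord ▸ pow_orderOf_eq_one a

theorem conj_zexp (g : P) (i : ZMod (p ^ n)) :
    g * zexp a i * g⁻¹ = zexp a (h.act g * i) := by
  haveI : NeZero (p ^ n) := ⟨pow_ne_zero _ hp.out.ne_zero⟩
  have e : ((((h.act g).val * i.val : ℕ)) : ZMod (p ^ n)) = h.act g * i := by
    rw [Nat.cast_mul, ZMod.natCast_zmod_val, ZMod.natCast_zmod_val]
  rw [← e, zexp_natCast h.pow_n, pow_mul, zexp, ← conj_pow, h.act_spec g]
  rfl

theorem zexp_inj : Function.Injective (zexp a : ZMod (p ^ n) → P) :=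
  haveI : NeZero (p ^ n) := ⟨pow_ne_zero _ hp.out.ne_zero⟩
  zexp_injective h.ord

theorem zexp_one : zexp a (1 : ZMod (p ^ n)) = a := by
  haveI : NeZero (p ^ n) := ⟨pow_ne_zero _ hp.out.ne_zero⟩
  have := zexp_natCast h.pow_n 1
  rwa [Nat.cast_one, pow_one] at this

theorem act_mul (g g' : P) : h.act (g * g') = h.act g * h.act g' := by
  apply h.zexp_inj
  rw [← h.act_spec, ← h.conj_zexp g, ← h.act_spec g']
  group

theorem act_one : h.act 1 = 1 := by
  apply h.zexp_inj
  rw [← h.act_spec, h.zexp_one]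
  group

theorem act_pow (g : P) (j : ℕ) : h.act (g ^ j) = h.act g ^ j := by
  induction j with
  | zero => rw [pow_zero, pow_zero, h.act_one]
  | succ j ih => rw [pow_succ, pow_succ, h.act_mul, ih]

theorem mem_iff (g : P) : g ∈ zpowers a ↔ h.act g = 1 := by
  constructor
  · intro hg
    obtain ⟨k, rfl⟩ := mem_zpowers_iff.1 hg
    apply h.zexp_inj
    rw [← h.act_spec, h.zexp_one, ((Commute.refl a).zpow_left k).eq, mul_inv_cancel_right]
  · intro hg
    refine h.self g ?_
    rw [h.act_spec, hg, h.zexp_one]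

theorem exists_zexp {g : P} (hg : g ∈ zpowers a) : ∃ k : ZMod (p ^ n), g = zexp a k := by
  haveI : NeZero (p ^ n) := ⟨pow_ne_zero _ hp.out.ne_zero⟩
  rw [← mem_powers_iff_mem_zpowers] at hg
  obtain ⟨k, hk⟩ := hg
  exact ⟨(k : ZMod (p ^ n)), by rw [zexp_natCast h.pow_n]; exact hk.symm⟩

omit h in
theorem zexp_mem (i : ZMod (p ^ n)) : zexp a i ∈ zpowers a := pow_mem (mem_zpowers a) _

theorem act_zexp_mul (i : ZMod (p ^ n)) (b : P) : h.act (zexp a i * b) = h.act b := by
  rw [h.act_mul, (h.mem_iff _).1 (zexp_mem i), one_mul]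

theorem mul_pow_formula (b : P) (m : ZMod (p ^ n)) (j : ℕ) :
    (zexp a m * b) ^ j = zexp a (m * ∑ i ∈ Finset.range j, h.act b ^ i) * b ^ j := by
  haveI : NeZero (p ^ n) := ⟨pow_ne_zero _ hp.out.ne_zero⟩
  induction j with
  | zero => simp [zexp_zero]
  | succ j ih =>
    have hc : b ^ j * zexp a m * (b ^ j)⁻¹ = zexp a (h.act b ^ j * m) := by
      rw [h.conj_zexp, h.act_pow]
    calc (zexp a m * b) ^ (j + 1) = (zexp a m * b) ^ j * (zexp a m * b) := pow_succ _ _
      _ = zexp a (m * ∑ i ∈ Finset.range j, h.act b ^ i) * (b ^ j * zexp a m * (b ^ j)⁻¹) *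
          (b ^ j * b) := by rw [ih]; group
      _ = _ := by
        rw [hc, ← zexp_add h.pow_n, ← pow_succ, Finset.sum_range_succ]
        ring_nf

/-- No element acts on `⟨a⟩` by a nontrivial residue close to `1`. -/
theorem act_eq_one_of_near {g : P} (hg : Near p n (h.act g)) : h.act g = 1 := by
  classical
  by_contra hne
  haveI : NeZero (p ^ n) := ⟨pow_ne_zero _ hp.out.ne_zero⟩
  have hn : 1 ≤ n := by
    by_contra hn
    obtain rfl : n = 0 := by omega
    haveI : Subsingleton (ZMod (p ^ 0)) := by rw [pow_zero]; infer_instance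
    exact hne (Subsingleton.elim _ _)
  -- an element acting by a residue of order `p`
  have hex : ∃ k, h.act g ^ p ^ k = 1 := by
    obtain ⟨k, hk⟩ := h.pgroup g
    exact ⟨k, by rw [← h.act_pow, hk, h.act_one]⟩
  set k := Nat.find hex with hkdef
  have hk1 : h.act g ^ p ^ k = 1 := Nat.find_spec hex
  have hk0 : k ≠ 0 := fun e => hne (by rwa [e, pow_zero, pow_one] at hk1)
  set b₀ := g ^ p ^ (k - 1) with hb₀
  set v := h.act b₀ with hv
  have hv1 : v ≠ 1 := fun e => by
    refine Nat.find_min hex (show k - 1 < k by omega) ?_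
    rw [← h.act_pow]; exact e
  have hvp : v ^ p = 1 := by
    rw [hv, hb₀, h.act_pow, ← pow_mul, ← pow_succ, Nat.sub_add_cancel (by omega : 1 ≤ k), hk1]
  have hvn : Near p n v := by rw [hv, hb₀, h.act_pow]; exact hg.pow _
  have hv0 := hvn.sub_one_mul hvp
  -- correct `b₀` to an element of order `p`
  obtain ⟨k₁, hk₁⟩ := h.exists_zexp ((h.mem_iff (b₀ ^ p)).2 (by rw [h.act_pow]; exact hvp))
  have hfix : (v - 1) * k₁ = 0 := by
    have e : zexp a (v * k₁) = zexp a k₁ := by
      rw [hv, ← h.conj_zexp, ← hk₁]; group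
    have := h.zexp_inj e
    linear_combination this
  obtain ⟨t, ht⟩ : ∃ t, k₁ = (p : ZMod (p ^ n)) * t := by
    refine (isUnit_or_eq_p_mul hn k₁).resolve_left fun hu => ?_
    exact hv1 (sub_eq_zero.1 (hu.mul_left_eq_zero.1 hfix))
  obtain ⟨c, hc, hgeom⟩ := hvn.geom
  obtain ⟨c', hc'⟩ := hc.exists_right_inv
  set b := zexp a (-(t * c')) * b₀ with hb
  have hbv : h.act b = v := h.act_zexp_mul _ _
  have hbp : b ^ p = 1 := by
    rw [hb, h.mul_pow_formula, hk₁, ← zexp_add h.pow_n, ← hv, hgeom, ht,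
      show -(t * c') * ((p : ZMod (p ^ n)) * c) + (p : ZMod (p ^ n)) * t = 0 by
        linear_combination (-(p : ZMod (p ^ n)) * t) * hc', zexp_zero]
  -- the normal elementary abelian subgroup
  have hfix' : ∀ (j : ℕ) (i : ZMod (p ^ n)), (p : ZMod (p ^ n)) * i = 0 →
      b ^ j * zexp a i = zexp a i * b ^ j := by
    intro j i hi
    rw [← mul_inv_eq_iff_eq_mul, h.conj_zexp, h.act_pow, hbv]
    obtain ⟨s, hs, -⟩ := hvn.pow j
    congr 1
    linear_combination i * hs + s * hi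
  have hbinv : ∀ j : ℕ, (b ^ j)⁻¹ = b ^ (j * (p - 1)) := fun j => by
    refine inv_eq_of_mul_eq_one_right ?_
    rw [← pow_add, show j + j * (p - 1) = p * j by
      have := hp.out.one_le
      conv_rhs => rw [mul_comm, ← Nat.sub_add_cancel this, mul_add, mul_one, add_comm],
      pow_mul, hbp, one_pow]
  let E : Subgroup P :=
    { carrier := {x | ∃ (i : ZMod (p ^ n)) (j : ℕ), (p : ZMod (p ^ n)) * i = 0 ∧
        x = zexp a i * b ^ j}
      one_mem' := ⟨0, 0, mul_zero _, by rw [zexp_zero, pow_zero, one_mul]⟩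
      mul_mem' := by
        rintro _ _ ⟨i, j, hi, rfl⟩ ⟨i', j', hi', rfl⟩
        refine ⟨i + i', j + j', by rw [mul_add, hi, hi', add_zero], ?_⟩
        rw [zexp_add h.pow_n, pow_add, mul_assoc, ← mul_assoc (b ^ j), hfix' j i' hi']
        simp only [mul_assoc]
      inv_mem' := by
        rintro _ ⟨i, j, hi, rfl⟩
        refine ⟨-i, j * (p - 1), by rw [mul_neg, hi, neg_zero], ?_⟩
        rw [mul_inv_rev, ← zexp_neg h.pow_n, hbinv, hfix' _ (-i) (by rw [mul_neg, hi, neg_zero])] }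
  have hEpow : ∀ x ∈ E, x ^ p = 1 := by
    rintro _ ⟨i, j, hi, rfl⟩
    have hc : Commute (zexp a i) (b ^ j) := (hfix' j i hi).symm
    rw [hc.mul_pow, ← pow_mul, mul_comm j, pow_mul, hbp, one_pow, mul_one, zexp, ← pow_mul, mul_comm,
      ← zexp_natCast (N := p ^ n) h.pow_n, Nat.cast_mul, ZMod.natCast_zmod_val, hi, zexp_zero]
  have hEc : IsMulCommutative E := ⟨⟨by
    rintro ⟨_, i, j, hi, rfl⟩ ⟨_, i', j', hi', rfl⟩
    refine Subtype.ext ?_
    show zexp a i * b ^ j * (zexp a i' * b ^ j') = zexp a i' * b ^ j' * (zexp a i * b ^ j)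
    have e1 : zexp a i * b ^ j * (zexp a i' * b ^ j') = zexp a (i + i') * b ^ (j + j') := by
      rw [zexp_add h.pow_n, pow_add, mul_assoc, ← mul_assoc (b ^ j), hfix' j i' hi']
      simp only [mul_assoc]
    have e2 : zexp a i' * b ^ j' * (zexp a i * b ^ j) = zexp a (i' + i) * b ^ (j' + j) := by
      rw [zexp_add h.pow_n, pow_add, mul_assoc, ← mul_assoc (b ^ j'), hfix' j' i hi]
      simp only [mul_assoc]
    rw [e1, e2, add_comm i, add_comm j]⟩⟩
  have hEn : E.Normal := by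
    refine ⟨fun x hx g => ?_⟩
    have hpow : (g * x * g⁻¹) ^ p = 1 := by rw [conj_pow, hEpow x hx, mul_one, mul_inv_cancel]
    obtain ⟨i, j, -, rfl⟩ := hx
    set y := g * (zexp a i * b ^ j) * g⁻¹ with hy
    have hyv : h.act y = v ^ j := by
      rw [hy, h.act_mul, h.act_mul, mul_comm (h.act g), mul_assoc, ← h.act_mul g, mul_inv_cancel,
        h.act_one, mul_one, h.act_zexp_mul, h.act_pow, hbv]
    obtain ⟨k₂, hk₂⟩ := h.exists_zexp (g := y * (b ^ j)⁻¹) ((h.mem_iff _).2 (by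
      rw [hbinv, h.act_mul, h.act_pow b, hyv, hbv, ← pow_add,
        show j + j * (p - 1) = p * j by
          have := hp.out.one_le
          conv_rhs => rw [mul_comm, ← Nat.sub_add_cancel this, mul_add, mul_one, add_comm],
        pow_mul, hvp, one_pow]))
    have hy' : y = zexp a k₂ * b ^ j := by rw [← hk₂, inv_mul_cancel_right]
    refine ⟨k₂, j, ?_, hy'⟩
    rw [hy', h.mul_pow_formula, ← pow_mul, mul_comm j, pow_mul, hbp, one_pow, mul_one,
      ← zexp_zero (N := p ^ n) a] at hpow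
    obtain ⟨c₂, hc₂, hg₂⟩ := (hvn.pow j).geom
    have hz := h.zexp_inj hpow
    rw [h.act_pow, hbv, hg₂, ← mul_assoc] at hz
    rw [mul_comm]
    exact hc₂.mul_left_eq_zero.1 hz
  -- it is not cyclic
  haveI := h.cyc E hEn hEc
  obtain ⟨⟨e, he⟩, hgen⟩ := IsCyclic.exists_generator (α := E)
  have hcard : Nat.card E ≤ p := by
    rw [← orderOf_eq_card_of_forall_mem_zpowers hgen, Subgroup.orderOf_mk]
    exact Nat.le_of_dvd hp.out.pos (orderOf_dvd_of_pow_eq_one (hEpow e he))
  set z := zexp a (v - 1) with hz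
  have hzE : z ∈ E := ⟨v - 1, 0, by linear_combination hv0, by rw [pow_zero, mul_one]⟩
  have hz1 : z ≠ 1 := fun e => hv1 (sub_eq_zero.1 (h.zexp_inj (e.trans (zexp_zero a).symm)))
  have hzo : orderOf z = p := orderOf_eq_prime (hEpow z hzE) hz1
  have hEz : zpowers z = E := eq_of_le_of_card_ge (zpowers_le.2 hzE)
    (by rw [Nat.card_zpowers, hzo]; exact hcard)
  have hbA : b ∈ zpowers a := (zpowers_le.2 (zexp_mem (v - 1))) (show b ∈ zpowers z by
    rw [hEz]; exact ⟨0, 1, mul_zero _, by rw [zexp_zero, one_mul, pow_one]⟩)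
  exact hv1 (hbv ▸ (h.mem_iff b).1 hbA)

end Setup

theorem zmod_two_cases (x : ZMod 2) : x = 0 ∨ x = 1 := by
  revert x; decide

/-- The classification of non-cyclic `p`-groups with all normal abelian subgroups cyclic and some
non-cyclic abelian subgroup. -/
theorem classification {P : Type*} [Group P] [Finite P] (p : ℕ) [Fact p.Prime] (hP : IsPGroup p P)
    (hn : ∀ A : Subgroup P, A.Normal → IsMulCommutative A → IsCyclic A)
    (hm : ∃ B : Subgroup P, IsMulCommutative B ∧ ¬ IsCyclic B) :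
    p = 2 ∧ ((∃ n : ℕ, Nonempty (P ≃* QuaternionGroup n)) ∨
      (∃ n : ℕ, 8 ≤ n ∧ Nonempty (P ≃* DihedralGroup n)) ∨ Cfsg.IsQuasiDihedral P) := by
  obtain ⟨A, hAn, hAc, hAself⟩ := CfsgLib.PGroups.exists_selfCentralizing' hP
  obtain ⟨a, ha⟩ := (Subgroup.isCyclic_iff_exists_zpowers_eq_top A).1 (hn A hAn hAc)
  obtain ⟨n, hord⟩ := IsPGroup.iff_orderOf.1 hP a
  have h : Setup p n a := ⟨hP, hn, hord, ha ▸ hAn, fun g hg => by
    rw [ha, ← hAself, mem_centralizer_iff]
    intro y hy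
    rw [SetLike.mem_coe, ← ha, mem_zpowers_iff] at hy
    obtain ⟨k, rfl⟩ := hy
    exact ((Commute.zpow_right (mul_inv_eq_iff_eq_mul.1 hg : Commute g a) k)).eq.symm⟩
  obtain ⟨g₀, hg₀⟩ : ∃ g : P, g ∉ zpowers a := by
    by_contra hno
    push Not at hno
    obtain ⟨B, -, hB⟩ := hm
    haveI : IsCyclic P := ⟨⟨a, hno⟩⟩
    exact hB inferInstance
  have hact : ∀ g : P, g ∉ zpowers a → ¬ Near p n (h.act g) := fun g hg hnear =>
    hg ((h.mem_iff g).2 (h.act_eq_one_of_near hnear))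
  have hn1 : 1 ≤ n := by
    by_contra hn0
    obtain rfl : n = 0 := by omega
    haveI : Subsingleton (ZMod (p ^ 0)) := by rw [pow_zero]; infer_instance
    exact hg₀ ((h.mem_iff g₀).2 (Subsingleton.elim _ _))
  obtain rfl : p = 2 := by
    by_contra hp2
    refine hact g₀ hg₀ ?_
    rcases isUnit_or_eq_p_mul hn1 (h.act g₀ - 1) with hu | ⟨t, ht⟩
    · exfalso
      obtain ⟨k, hk⟩ := hP g₀
      have hd : p ∣ p ^ n := dvd_pow_self p (by omega)
      have hu' : IsUnit (ZMod.castHom hd (ZMod p) (h.act g₀ - 1)) := hu.map _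
      have h1 : ZMod.castHom hd (ZMod p) (h.act g₀) ^ p ^ k = 1 := by
        rw [← map_pow, ← h.act_pow, hk, h.act_one, map_one]
      rw [ZMod.pow_card_pow] at h1
      rw [map_sub, map_one, h1, sub_self] at hu'
      exact not_isUnit_zero hu'
    · exact ⟨t, ht, fun h2 => absurd h2 hp2⟩
  refine ⟨rfl, ?_⟩
  haveI : NeZero (2 ^ n) := ⟨pow_ne_zero _ two_ne_zero⟩
  have htwo : ((2 : ℕ) : ZMod (2 ^ n)) = 2 := Nat.cast_two
  -- residues of elements outside `⟨a⟩` are `3` modulo `4`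
  have hres : ∀ g : P, g ∉ zpowers a → ∃ s, h.act g = -1 + 4 * s := by
    intro g hg
    obtain ⟨k, hk⟩ := hP g
    have h1 : h.act g ^ 2 ^ k = 1 := by rw [← h.act_pow, hk, h.act_one]
    rcases isUnit_or_eq_p_mul hn1 (h.act g - 1) with hu | ⟨t, ht⟩
    · exfalso
      have hd : 2 ∣ 2 ^ n := dvd_pow_self 2 (by omega)
      have hu' : IsUnit (ZMod.castHom hd (ZMod 2) (h.act g - 1)) := hu.map _
      have h2 : ZMod.castHom hd (ZMod 2) (h.act g) ^ 2 ^ k = 1 := by rw [← map_pow, h1, map_one]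
      rw [ZMod.pow_card_pow] at h2
      rw [map_sub, map_one, h2, sub_self] at hu'
      exact not_isUnit_zero hu'
    · rw [htwo] at ht
      rcases isUnit_or_eq_p_mul hn1 (t + 1) with hu | ⟨s, hs⟩
      · exfalso
        rcases isUnit_or_eq_p_mul hn1 t with hu' | ⟨s, hs⟩
        · have hd : 2 ∣ 2 ^ n := dvd_pow_self 2 (by omega)
          have e1 := hu.map (ZMod.castHom hd (ZMod 2))
          have e2 := hu'.map (ZMod.castHom hd (ZMod 2))
          rw [map_add, map_one] at e1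
          revert e1 e2
          generalize ZMod.castHom hd (ZMod 2) t = x
          rcases zmod_two_cases x with rfl | rfl
          · exact fun _ e => not_isUnit_zero e
          · exact fun e _ => not_isUnit_zero (M₀ := ZMod 2) (by rwa [show (1 : ZMod 2) + 1 = 0 from rfl] at e)
        · exact hact g hg ⟨t, by rw [htwo]; exact ht, fun _ => ⟨s, by rw [← htwo]; exact hs⟩⟩
      · exact ⟨s, by rw [htwo] at hs; linear_combination ht + 2 * hs⟩
  have hidx : (zpowers a).index = 2 := by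
    refine Subgroup.index_eq_two_iff.2 ⟨g₀, fun g => ?_⟩
    by_cases hg : g ∈ zpowers a
    · exact Or.inr ⟨hg, fun hh => hg₀ ((mul_mem_cancel_left hg).1 hh)⟩
    · refine Or.inl ⟨?_, hg⟩
      obtain ⟨s, hs⟩ := hres g hg
      obtain ⟨s', hs'⟩ := hres g₀ hg₀
      refine (h.mem_iff _).2 (h.act_eq_one_of_near ⟨-2 * s - 2 * s' + 8 * s * s', ?_, fun _ =>
        ⟨-s - s' + 4 * s * s', by ring⟩⟩)
      rw [h.act_mul, hs, hs', Nat.cast_two]
      ring
  have hcard : Nat.card P = 2 ^ (n + 1) := by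
    rw [← card_mul_index (zpowers a), hidx, Nat.card_zpowers, hord, pow_succ]
  obtain ⟨s, hs⟩ := hres g₀ hg₀
  set v := h.act g₀ with hv
  set H2 : ZMod (2 ^ n) := ((2 ^ (n - 1) : ℕ) : ZMod (2 ^ n)) with hH2
  have hhalf : ∀ x : ZMod (2 ^ n), 2 * x = 0 → x = 0 ∨ x = H2 := by
    intro x hx
    have hd : 2 ^ n ∣ 2 * x.val := (ZMod.natCast_eq_zero_iff _ _).1 (by
      rw [Nat.cast_mul, ZMod.natCast_zmod_val, htwo]; exact hx)
    have hlt := x.val_lt
    have hpow : 2 ^ n = 2 * 2 ^ (n - 1) := by rw [← pow_succ', Nat.sub_add_cancel hn1]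
    rw [← ZMod.natCast_zmod_val x]
    generalize x.val = w at hd hlt ⊢
    rw [hpow, Nat.mul_dvd_mul_iff_left two_pos] at hd
    obtain ⟨q, hq⟩ := hd
    have hq2 : q < 2 := by
      by_contra hq2
      have : 2 ^ (n - 1) * 2 ≤ 2 ^ (n - 1) * q := Nat.mul_le_mul_left _ (by omega)
      omega
    rw [hq]
    interval_cases q
    · exact Or.inl (by simp)
    · exact Or.inr (by rw [mul_one])
  have hH22 : 2 * H2 = 0 := by
    rw [hH2, ← htwo, ← Nat.cast_mul, ← pow_succ', Nat.sub_add_cancel hn1, ZMod.natCast_self]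
  have hunit : ∀ x : ZMod (2 ^ n), IsUnit (-1 + 2 * x) := fun x => by
    have h1 := (isUnit_one_add_p_mul (p := 2) (n := n) (-x)).neg
    rw [htwo] at h1
    convert h1 using 1
    ring
  have hsq : g₀ ^ 2 ∈ zpowers a := by
    have := Subgroup.mul_self_mem_of_index_two hidx g₀
    rwa [← pow_two] at this
  have hv2 : v * v = 1 := by
    rw [← pow_two, hv, ← h.act_pow]
    exact (h.mem_iff _).1 hsq
  have h4s : 2 * (4 * s) = 0 := by
    rw [hs] at hv2
    have : (-1 + 2 * s) * (2 * (4 * s)) = 0 := by linear_combination hv2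
    exact (hunit s).mul_right_eq_zero.1 this
  obtain ⟨k, hk⟩ := h.exists_zexp hsq
  have hkfix : 2 * k = 0 := by
    have e : zexp a (v * k) = zexp a k := by rw [hv, ← h.conj_zexp, ← hk]; group
    have e' := h.zexp_inj e
    rw [hs] at e'
    have : (-1 + 2 * s) * (2 * k) = 0 := by linear_combination e'
    exact (hunit s).mul_right_eq_zero.1 this
  have hv1 : v ≠ 1 := fun e => hg₀ ((h.mem_iff g₀).2 e)
  have hn2 : 2 ≤ n := by
    by_contra hlt
    obtain rfl : n = 1 := by omega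
    apply hv1
    rw [hs]
    generalize s = x
    revert x
    decide
  have hbsq : g₀ * g₀ = zexp a k := by rw [← pow_two]; exact hk
  have hza : zexp a H2 = a ^ 2 ^ (n - 1) := zexp_natCast h.pow_n _
  rcases hhalf _ h4s with hs0 | hs0
  · -- dihedral or quaternion
    have hinv : g₀ * a * g₀⁻¹ = a⁻¹ := by
      rw [h.act_spec, ← hv, hs, hs0, add_zero, zexp_neg h.pow_n, h.zexp_one]
    rcases hhalf _ hkfix with hk0 | hk0
    · rw [hk0, zexp_zero] at hbsq
      rcases (show n = 2 ∨ 3 ≤ n by omega) with rfl | hn3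
      · exfalso
        have hz2 : a ^ 2 * a ^ 2 = 1 := by rw [← pow_add]; exact h.pow_n
        have hzc : a ^ 2 * g₀ = g₀ * a ^ 2 := by
          have e : g₀ * a ^ 2 * g₀⁻¹ = a ^ 2 := by
            rw [← conj_pow, hinv, inv_pow, inv_eq_of_mul_eq_one_left hz2]
          exact (mul_inv_eq_iff_eq_mul.1 e).symm
        have hz1 : a ^ 2 ≠ 1 := fun e => by
          have := orderOf_dvd_of_pow_eq_one e
          rw [hord] at this
          norm_num at this
        have hK := isKleinFour_fourOf hz2 hbsq hzc hz1 (fun e => hg₀ (e ▸ one_mem _))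
          (fun e => hg₀ (e ▸ pow_mem (mem_zpowers a) 2))
        have hKn : (fourOf hz2 hbsq hzc).Normal := Subgroup.normal_of_index_eq_two (by
          have := card_mul_index (fourOf hz2 hbsq hzc)
          rw [hK.card_four, hcard] at this
          omega)
        haveI := hn _ hKn (@IsKleinFour.isMulCommutative _ _ hK)
        haveI := hK
        exact IsKleinFour.not_isCyclic (G := fourOf hz2 hbsq hzc) inferInstance
      · exact Or.inr (Or.inl ⟨2 ^ n, le_trans (by norm_num)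
          (Nat.pow_le_pow_right two_pos hn3), nonempty_mulEquiv_dihedralGroup hord hbsq hg₀ hinv
            (by rw [hcard, pow_succ, mul_comm])⟩)
    · rw [hk0, hza] at hbsq
      refine Or.inl ⟨2 ^ (n - 1), nonempty_mulEquiv_quaternionGroup ?_ hbsq hg₀ hinv ?_⟩
      · rw [hord, ← pow_succ', Nat.sub_add_cancel hn1]
      · rw [hcard, show (4 : ℕ) = 2 ^ 2 by norm_num, ← pow_add, show 2 + (n - 1) = n + 1 by omega]
  · -- quasi-dihedral
    have hn3 : 3 ≤ n := by
      by_contra hlt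
      obtain rfl : n = 2 := by omega
      apply hv1
      rw [hs, hs0, hH2]
      rfl
    have hvq : v = H2 - 1 := by rw [hs, hs0]; ring
    have hconj : ∀ y : P, h.act y = v → y * a * y⁻¹ = a ^ (2 ^ (n - 1) - 1) := by
      intro y hy
      rw [h.act_spec, hy, hvq, hH2, ← Nat.cast_one (R := ZMod (2 ^ n)),
        ← Nat.cast_sub Nat.one_le_two_pow, zexp_natCast h.pow_n]
    refine Or.inr (Or.inr ?_)
    rcases hhalf _ hkfix with hk0 | hk0
    · rw [hk0, zexp_zero] at hbsq
      exact ⟨n, hn3, hcard, a, g₀, hord, orderOf_eq_prime (by rw [pow_two]; exact hbsq)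
        (fun e => hg₀ (e ▸ one_mem _)), hconj g₀ rfl⟩
    · refine ⟨n, hn3, hcard, a, zexp a (1 : ZMod (2 ^ n)) * g₀, hord, orderOf_eq_prime ?_ ?_,
        hconj _ (h.act_zexp_mul _ _)⟩
      · rw [h.mul_pow_formula, hk, ← zexp_add h.pow_n, Finset.sum_range_succ, Finset.sum_range_one,
          pow_zero, pow_one, ← hv, hvq, hk0,
          show (1 : ZMod (2 ^ n)) * (1 + (H2 - 1)) + H2 = 0 by linear_combination hH22, zexp_zero]
      · intro e
        exact hg₀ (by
          rw [show g₀ = (zexp a (1 : ZMod (2 ^ n)))⁻¹ from eq_inv_of_mul_eq_one_right e]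
          exact inv_mem (Setup.zexp_mem _))

end CfsgLib.TwoGroups.CycNA
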