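import Cfsg.Prelude.Def_CaseTheorems
import Cfsg.Agent.S0519
import Cfsg.Agent.Lib.Transfer.MaximalClass
import Cfsg.Agent.Lib.Core.Nilpotent
import Cfsg.Agent.Lib.TwoGroups.Recognition

/-!
2-groups of rank two: a normal four-group or maximal class.
-/

set_option autoImplicit false
set_option linter.style.haveILetI false

namespace CfsgLib.TwoGroups.RankTwoTypes

variable {P : Type*} [Group P] [Finite P]

/-- Dihedral or quasi-dihedral. -/
def IsDihOrQD (P : Type*) [Group P] : Prop :=
  (∃ m : ℕ, 2 ≤ m ∧ Nonempty (P ≃* DihedralGroup m)) ∨ Cfsg.IsQuasiDihedral P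

theorem isDihOrQD_of_centralizer_four (hP : IsPGroup 2 P) {z v : P} (hz : z ∈ Subgroup.center P)
    (hzo : orderOf z = 2) (hvo : orderOf v = 2) (hzv : z ≠ v)
    (hC : Nat.card (Subgroup.centralizer ({v} : Set P)) = 4) : IsDihOrQD P := by
  classical
  haveI : Fact (Nat.Prime 2) := ⟨Nat.prime_two⟩
  obtain ⟨n, hn⟩ := IsPGroup.iff_card.1 hP
  set A := Subgroup.centralizer ({v} : Set P)
  have hvA : v ∈ A := Subgroup.mem_centralizer_singleton_iff.2 rfl
  have hzA : z ∈ A :=
    Subgroup.mem_centralizer_singleton_iff.2 (Subgroup.mem_center_iff.1 hz v).symm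
  have hA2 : Nat.card A = 2 ^ 2 := by rw [hC]; norm_num
  have hAcomm := IsPGroup.commutative_of_card_eq_prime_sq hA2
  have hCA : Subgroup.centralizer (A : Set P) = A := by
    refine le_antisymm (fun x hx => Subgroup.mem_centralizer_singleton_iff.2
      (Subgroup.mem_centralizer_iff.1 hx v hvA).symm) (fun x hx => Subgroup.mem_centralizer_iff.2
      fun y hy => congrArg Subtype.val (hAcomm (⟨y, hy⟩ : A) ⟨x, hx⟩))
  have hsq : ∀ w : P, orderOf w = 2 → w * w = 1 := fun w hw => by
    rw [← pow_two, ← hw, pow_orderOf_eq_one]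
  have hz1 : z ≠ 1 := fun h => by rw [h, orderOf_one] at hzo; omega
  have hv1 : v ≠ 1 := fun h => by rw [h, orderOf_one] at hvo; omega
  have hn2 : 2 ≤ n := by
    have h := Subgroup.card_subgroup_dvd_card A
    rw [hA2, hn] at h
    exact (Nat.pow_dvd_pow_iff_le_right Nat.one_lt_two).1 h
  rcases hn2.eq_or_lt with h2 | h3
  · -- a four-group
    left
    refine ⟨2, le_rfl, CfsgLib.TwoGroups.nonempty_mulEquiv_dihedralGroup hzo (hsq v hvo) ?_ ?_ ?_⟩
    · intro h
      obtain ⟨k, rfl⟩ := Subgroup.mem_zpowers_iff.1 h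
      rcases Int.even_or_odd k with ⟨m, rfl⟩ | ⟨m, rfl⟩
      · exact hv1 (by rw [zpow_add, ← (Commute.refl z).mul_zpow, hsq z hzo, one_zpow])
      · exact hzv (by rw [zpow_add, zpow_one, two_mul, zpow_add, ← (Commute.refl z).mul_zpow,
          hsq z hzo, one_zpow, one_mul])
    · rw [Subgroup.mem_center_iff.1 hz v, mul_inv_cancel_right, inv_eq_of_mul_eq_one_right (hsq z hzo)]
    · rw [hn, ← h2]; norm_num
  have hcl := CfsgLib.Transfer.class_eq_of_self_centralizing n P hn A hA2 hCA
  obtain ⟨a, b, ha, hb, hconj, hb2⟩ := CfsgLib.Transfer.shape_of_class h3 hn hcl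
  have hcen := CfsgLib.Transfer.center_eq h3 hn ha hb hconj
  have hva : v ∉ Subgroup.zpowers a := by
    intro hv
    have hzA' : z ∈ Subgroup.zpowers a := by
      rw [hcen] at hz
      exact Subgroup.zpowers_le.2 (Subgroup.npow_mem_zpowers a _) hz
    haveI : Fintype (Subgroup.zpowers a) := Fintype.ofFinite _
    have h1 := IsCyclic.card_pow_eq_one_le (α := Subgroup.zpowers a) (n := 2) two_pos
    have h2 : ({1, ⟨z, hzA'⟩, ⟨v, hv⟩} : Finset (Subgroup.zpowers a)) ⊆
        Finset.univ.filter (fun x : Subgroup.zpowers a => x ^ 2 = 1) := by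
      intro x hx
      simp only [Finset.mem_insert, Finset.mem_singleton] at hx
      rw [Finset.mem_filter]
      refine ⟨Finset.mem_univ _, Subtype.ext ?_⟩
      rcases hx with rfl | rfl | rfl
      · simp
      · show z ^ 2 = 1; rw [pow_two]; exact hsq z hzo
      · show v ^ 2 = 1; rw [pow_two]; exact hsq v hvo
    have h3' : ({1, ⟨z, hzA'⟩, ⟨v, hv⟩} : Finset (Subgroup.zpowers a)).card = 3 := by
      rw [Finset.card_insert_of_notMem, Finset.card_pair]
      · simpa [Subtype.ext_iff] using hzv
      · simp [Subtype.ext_iff, Ne.symm hz1, Ne.symm hv1]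
    have := Finset.card_le_card h2
    omega
  obtain ⟨i, rfl | rfl⟩ := CfsgLib.Transfer.exists_pow_or (by omega) hn ha hb v
  · exact absurd (Subgroup.npow_mem_zpowers a i) hva
  -- conjugation by the outside involution
  have hconjv : (b * a ^ i) * a * (b * a ^ i)⁻¹ = b * a * b⁻¹ := by
    rw [mul_inv_rev, mul_assoc b (a ^ i) a, ((Commute.refl a).pow_left i).eq]
    group
  rcases hconj with h | ⟨h4, h⟩
  · left
    haveI : NeZero (2 ^ (n - 1)) := ⟨pow_ne_zero _ two_ne_zero⟩
    refine ⟨2 ^ (n - 1), ?_, CfsgLib.TwoGroups.nonempty_mulEquiv_dihedralGroup ha (hsq _ hvo) hva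
      (hconjv.trans h) ?_⟩
    · calc 2 = 2 ^ 1 := by norm_num
        _ ≤ 2 ^ (n - 1) := Nat.pow_le_pow_right two_pos (by omega)
    · rw [hn, ← pow_succ']; congr 1; omega
  · right
    refine ⟨n - 1, by omega, by rw [hn]; congr 1; omega, a, b * a ^ i, ha, hvo, ?_⟩
    rw [hconjv, h]
    have hw : a ^ 2 ^ (n - 2) = a ^ (2 ^ (n - 2) - 1) * a := by
      rw [← pow_succ, Nat.sub_add_cancel Nat.one_le_two_pow]
    rw [hw, mul_inv_cancel_right, show n - 1 - 1 = n - 2 by omega]

/-- A 2-group of rank exactly two is dihedral, quasi-dihedral, or has a normal four-group. -/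
theorem normal_four_or (hP : IsPGroup 2 P)
    (h2 : ∀ A : Subgroup P, IsMulCommutative A → (∀ a ∈ A, a ^ 2 = 1) → Nat.card A ≤ 4)
    {B : Subgroup P} (hBc : IsMulCommutative B) (hB : ∀ b ∈ B, b ^ 2 = 1) (hB4 : Nat.card B = 4) :
    IsDihOrQD P ∨ ∃ U : Subgroup P, U.Normal ∧ IsMulCommutative U ∧ (∀ x ∈ U, x ^ 2 = 1) ∧
      Nat.card U = 4 := by
  classical
  haveI : Fact (Nat.Prime 2) := ⟨Nat.prime_two⟩
  have hBnc : ¬ IsCyclic B := by
    intro hc
    haveI := hc
    haveI : Fintype B := Fintype.ofFinite _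
    obtain ⟨g, hg⟩ := IsCyclic.exists_ofOrder_eq_natCard (α := B)
    have h1 : orderOf g ≤ 2 := orderOf_le_of_pow_eq_one two_pos (Subtype.ext (hB g g.2))
    rw [hg, hB4] at h1
    omega
  by_cases hn : ∀ A : Subgroup P, A.Normal → IsMulCommutative A → IsCyclic A
  · rcases (Cfsg.Agent.S0519.result 2 hP hn ⟨B, hBc, hBnc⟩).2 with ⟨n, ⟨e⟩⟩ | ⟨n, hn8, he⟩ | h
    · exfalso
      -- a quaternion group has one involution
      haveI : Finite (QuaternionGroup n) := Finite.of_equiv P e.toEquiv
      have hne : n ≠ 0 := by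
        rintro rfl
        have : Finite (QuaternionGroup 0) := inferInstance
        have h1 : Finite (ZMod (2 * 0)) := Finite.of_injective QuaternionGroup.a
          fun x y h => QuaternionGroup.a.inj h
        exact @not_finite ℤ _ h1
      haveI : NeZero n := ⟨hne⟩
      have key : ∀ x : QuaternionGroup n, x ^ 2 = 1 → x = QuaternionGroup.a 0 ∨
          x = QuaternionGroup.a n := by
        intro x hx
        rcases x with i | i
        · rw [pow_two, QuaternionGroup.a_mul_a, QuaternionGroup.one_def] at hx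
          have h2i : i + i = 0 := QuaternionGroup.a.inj hx
          have h3 : 2 * n ∣ i.val + i.val := by
            rw [← ZMod.natCast_eq_zero_iff, Nat.cast_add, ZMod.natCast_zmod_val, h2i]
          have h4 : i.val < 2 * n := ZMod.val_lt i
          obtain ⟨k, hk⟩ := h3
          have hk2 : k < 2 := by
            by_contra hk2
            have := Nat.mul_le_mul (le_refl (2 * n)) (not_lt.1 hk2)
            omega
          interval_cases k
          · left
            congr 1
            rw [← ZMod.natCast_zmod_val i, show i.val = 0 by omega, Nat.cast_zero]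
          · right
            congr 1
            rw [← ZMod.natCast_zmod_val i, show i.val = n by omega]
        · exfalso
          rw [pow_two, QuaternionGroup.xa_mul_xa, QuaternionGroup.one_def] at hx
          have h := QuaternionGroup.a.inj hx
          rw [add_sub_cancel_right, ZMod.natCast_eq_zero_iff] at h
          have := Nat.le_of_dvd (Nat.pos_of_ne_zero hne) h
          omega
      let F : B → ({QuaternionGroup.a 0, QuaternionGroup.a (n : ZMod (2 * n))} :
          Finset (QuaternionGroup n)) := fun x => ⟨e x, by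
        simpa using key (e x) (by rw [← map_pow, hB x x.2, map_one])⟩
      have hle := Nat.card_le_card_of_injective F fun x y h =>
        Subtype.ext (e.injective (congrArg Subtype.val h :))
      rw [Nat.card_eq_finsetCard, hB4] at hle
      have := hle.trans (Finset.card_le_two (a := QuaternionGroup.a (0 : ZMod (2 * n))) (b := QuaternionGroup.a (n : ZMod (2 * n))))
      omega
    · exact Or.inl (Or.inl ⟨n, by omega, he⟩)
    · exact Or.inl (Or.inr h)
  · right
    push Not at hn
    obtain ⟨A, hAn, hAc, hAnc⟩ := hn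
    haveI := hAn
    haveI := hAc
    let U : Subgroup P :=
      { carrier := {x | x ∈ A ∧ x ^ 2 = 1}
        mul_mem' := fun {a b} ha hb => ⟨A.mul_mem ha.1 hb.1, by
          have hcm : Commute a b := congrArg Subtype.val (mul_comm' (⟨a, ha.1⟩ : A) ⟨b, hb.1⟩)
          rw [hcm.mul_pow, ha.2, hb.2, one_mul]⟩
        one_mem' := ⟨A.one_mem, one_pow 2⟩
        inv_mem' := fun {a} ha => ⟨A.inv_mem ha.1, by rw [inv_pow, ha.2, inv_one]⟩ }
    have hUc : IsMulCommutative U :=
      ⟨⟨fun a b => Subtype.ext (congrArg (fun w : A => (w : P)) (mul_comm' (⟨a.1, a.2.1⟩ : A) ⟨b.1, b.2.1⟩) :)⟩⟩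
    refine ⟨U, ⟨fun a ha g => ⟨hAn.conj_mem a ha.1 g, by rw [conj_pow, ha.2, mul_one, mul_inv_cancel]⟩⟩,
      hUc, fun x hx => hx.2, ?_⟩
    have hle := h2 U hUc fun x hx => hx.2
    obtain ⟨p, hp, E, hEA, hE, hE2⟩ := Core.exists_elementary_of_not_isCyclic A hAnc
    have hp2 : p = 2 := by
      haveI := Fact.mk hp
      haveI : Nontrivial E := Finite.one_lt_card_iff_nontrivial.1 (by
        have := Nat.one_lt_pow (n := 2) (by norm_num) hp.one_lt
        omega)
      obtain ⟨g, hg⟩ := exists_ne (1 : E)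
      obtain ⟨k, hk⟩ := hP (g : P)
      by_contra hne
      exact hg (Subtype.ext (orderOf_eq_one_iff.1 (Nat.eq_one_of_dvd_coprimes
        (((Nat.coprime_primes hp Nat.prime_two).2 hne).pow_right k)
        (orderOf_dvd_of_pow_eq_one (hE g g.2)) (orderOf_dvd_of_pow_eq_one hk))))
    subst hp2
    have := Subgroup.card_le_of_le (show E ≤ U from fun x hx => ⟨hEA hx, hE x hx⟩)
    omega

end CfsgLib.TwoGroups.RankTwoTypes
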