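import Cfsg.Agent.Lib.Perm.SylowFixed
import Cfsg.Agent.Lib.Perm.ZassenhausPSL
import Cfsg.Agent.Lib.Classical.SmallIsoSix
import Mathlib.GroupTheory.Transfer

/-!
Owner: helper12. A simple group of order 360 is `A₆`: it is a Zassenhaus group on its ten Sylow 3-subgroups.
-/

set_option autoImplicit false

namespace CfsgLib.TwoGroups.OrderThreeSixty

open Subgroup MulAction CfsgLib.Perm
open scoped Pointwise

variable {G : Type*} [Group G] [Finite G] [IsSimpleGroup G]

theorem not_comm (h : Nat.card G = 360) : ¬ IsMulCommutative G :=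
  CfsgLib.Perm.not_comm_of_not_prime (by rw [h]; norm_num)

theorem index_ge (h : Nat.card G = 360) (H : Subgroup G) (hH : H ≠ ⊤) : 6 ≤ H.index := by
  by_contra hlt
  have h5 := CfsgLib.Perm.two_mul_card_dvd_factorial_of_index_le (not_comm h) H hH (m := 5) (by omega)
  rw [h] at h5
  norm_num [Nat.factorial] at h5

theorem sylow_card (h : Nat.card G = 360) [Fact (Nat.Prime 3)] (P : Sylow 3 G) :
    Nat.card (P : Subgroup G) = 9 :=
  CfsgLib.Perm.sylow_card_eq P (k := 2) (m := 40) (by rw [h]; norm_num) (by norm_num)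

theorem sylow_comm (h : Nat.card G = 360) [Fact (Nat.Prime 3)] (P : Sylow 3 G) {a b : G}
    (ha : a ∈ (P : Subgroup G)) (hb : b ∈ (P : Subgroup G)) : a * b = b * a :=
  congrArg Subtype.val (IsPGroup.commutative_of_card_eq_prime_sq (p := 3)
    ((sylow_card h P).trans (by norm_num)) ⟨a, ha⟩ ⟨b, hb⟩)

theorem card_sylow_three (h : Nat.card G = 360) [Fact (Nat.Prime 3)] : Nat.card (Sylow 3 G) = 10 := by
  obtain ⟨h1, h2, h3⟩ := CfsgLib.Perm.card_sylow_mem (q := 2) (p := 3) (k := 2) (m := 40)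
    (by rw [h]; norm_num : Nat.card G = 3 ^ 2 * 40) (by norm_num) Nat.prime_two (by norm_num) (by norm_num)
  obtain ⟨P⟩ := (inferInstance : Nonempty (Sylow 3 G))
  have hN := CfsgLib.Perm.card_normalizer_mul_card_sylow P
  have hidx : (normalizer ((P : Subgroup G) : Set G)).index = Nat.card (Sylow 3 G) :=
    P.card_eq_index_normalizer.symm
  have hmem := Nat.mem_divisors.2 ⟨h1, by norm_num⟩
  rw [show (40 : ℕ).divisors = ({1, 2, 4, 5, 8, 10, 20, 40} : Finset ℕ) from by decide +kernel] at hmem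
  simp only [Finset.mem_insert, Finset.mem_singleton] at hmem
  have hne4 : Nat.card (Sylow 3 G) ≠ 4 := fun e => by
    have := index_ge h (normalizer ((P : Subgroup G) : Set G)) (fun t => by
      rw [t, index_top, e] at hidx; omega)
    omega
  have hne40 : Nat.card (Sylow 3 G) ≠ 40 := fun e => by
    refine CfsgLib.Perm.not_normalizer_le_centralizer P (by rw [h]; norm_num)
      (CfsgLib.Perm.not_isPGroup_of_dvd Nat.prime_two (by norm_num) (by rw [h]; norm_num)) ?_
    have hNP : (P : Subgroup G) = normalizer ((P : Subgroup G) : Set G) :=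
      eq_of_le_of_card_ge le_normalizer (by rw [sylow_card h P]; rw [e, h] at hN; omega)
    intro x hx
    exact mem_centralizer_iff.2 fun y hy => sylow_comm h P hy (hNP.ge hx)
  omega

theorem centralizer_ne_top (h : Nat.card G = 360) {d : G} (hd : d ≠ 1) :
    centralizer ({d} : Set G) ≠ ⊤ := fun e => by
  have hc : d ∈ center G := mem_center_iff.2 fun g =>
    mem_centralizer_singleton_iff.1 (e ▸ mem_top g)
  rcases (inferInstance : (center G).Normal).eq_bot_or_eq_top with h' | h'
  · rw [h', mem_bot] at hc; exact hd hc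
  · exact not_comm h ⟨⟨fun a b => (mem_center_iff.1 (h' ▸ mem_top b : b ∈ center G)) a⟩⟩

/-- The Sylow 3-subgroups intersect trivially. -/
theorem ti (h : Nat.card G = 360) [Fact (Nat.Prime 3)] {R S : Sylow 3 G} (hRS : R ≠ S) {d : G}
    (hdR : d ∈ (R : Subgroup G)) (hdS : d ∈ (S : Subgroup G)) : d = 1 := by
  by_contra hd
  set K := centralizer ({d} : Set G) with hK
  have hle : ∀ T : Sylow 3 G, d ∈ (T : Subgroup G) → (T : Subgroup G) ≤ K := fun T hT x hx =>
    mem_centralizer_singleton_iff.2 (sylow_comm h T hx hT)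
  have hKtop := centralizer_ne_top h hd
  let R₁ : Sylow 3 K := R.subtype (hle R hdR)
  have hn1 : 1 < Nat.card (Sylow 3 K) := Finite.one_lt_card_iff_nontrivial.2
    ⟨R₁, S.subtype (hle S hdS), fun e => hRS (Sylow.subtype_injective e)⟩
  have hmod := card_sylow_modEq_one 3 K
  unfold Nat.ModEq at hmod
  have h4 : 4 ≤ Nat.card (Sylow 3 K) := by omega
  have hR₁ : Nat.card (R₁ : Subgroup K) = 9 :=
    (Nat.card_congr (subgroupOfEquivOfLe (hle R hdR)).toEquiv).trans (sylow_card h R)
  have hN₁ : 9 ∣ Nat.card (normalizer ((R₁ : Subgroup K) : Set K)) := hR₁ ▸ card_dvd_of_le le_normalizer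
  have hKN := CfsgLib.Perm.card_normalizer_mul_card_sylow R₁
  have hKi := K.card_mul_index
  have hge := index_ge h K hKtop
  rw [h] at hKi
  have hK36 : Nat.card K = 36 ∧ Nat.card (normalizer ((R₁ : Subgroup K) : Set K)) = 9 := by
    obtain ⟨a, ha⟩ := hN₁
    have ha0 : 0 < a := Nat.pos_of_ne_zero fun e => by
      rw [e, mul_zero] at ha; exact Nat.card_pos.ne' ha
    rw [ha] at hKN ⊢
    have h1 : Nat.card (Sylow 3 K) ∣ 40 := by
      refine Dvd.intro_left (a * K.index) (Nat.eq_of_mul_eq_mul_left (show 0 < 9 by norm_num) ?_)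
      rw [show 9 * (a * K.index * Nat.card (Sylow 3 K)) = 9 * a * Nat.card (Sylow 3 K) * K.index by ring,
        hKN, hKi]
    have hle : a * Nat.card (Sylow 3 K) * 6 ≤ 40 := by
      have : 9 * a * Nat.card (Sylow 3 K) * 6 ≤ 360 := by
        rw [hKN, ← hKi]; exact Nat.mul_le_mul_left _ hge
      linarith
    have : a = 1 ∧ Nat.card (Sylow 3 K) = 4 := by
      have : a * 4 * 6 ≤ 40 := le_trans (Nat.mul_le_mul_right _ (Nat.mul_le_mul_left _ h4)) hle
      have : a = 1 := by omega
      subst this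
      have : Nat.card (Sylow 3 K) ≤ 6 := by omega
      omega
    obtain ⟨rfl, e⟩ := this
    omega
  -- a normal subgroup of order four in `K`
  have hNC : normalizer ((R₁ : Subgroup K) : Set K) ≤ centralizer ((R₁ : Subgroup K) : Set K) := by
    have e : (R₁ : Subgroup K) = normalizer ((R₁ : Subgroup K) : Set K) :=
      eq_of_le_of_card_ge le_normalizer (by rw [hR₁, hK36.2])
    intro x hx
    exact mem_centralizer_iff.2 fun y hy => Subtype.ext (sylow_comm h R hy (e.ge hx))
  have hc := MonoidHom.ker_transferSylow_isComplement' R₁ hNC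
  set V₀ := (MonoidHom.transferSylow R₁ hNC).ker with hV₀
  set V := V₀.map K.subtype with hV
  have hV4 : Nat.card V = 4 := by
    rw [hV, card_map_of_injective K.subtype_injective]
    have := hc.card_mul
    rw [hR₁, hK36.1] at this
    omega
  have hKV : K ≤ normalizer (V : Set G) := by
    intro k hk
    refine le_normalizer_map K.subtype ⟨⟨k, hk⟩, ?_, rfl⟩
    rw [normalizer_eq_top (H := V₀)]
    exact mem_top _
  have : Fact (Nat.Prime 2) := ⟨Nat.prime_two⟩
  obtain ⟨T, hT⟩ := (IsPGroup.of_card (p := 2) (n := 2) (G := V) (hV4.trans (by norm_num))).exists_le_sylow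
  have hT8 : Nat.card (T : Subgroup G) = 8 :=
    (CfsgLib.Perm.sylow_card_eq T (k := 3) (m := 45) (by rw [h]; norm_num) (by norm_num)).trans (by norm_num)
  have hVn : (V.subgroupOf (T : Subgroup G)).Normal := normal_of_index_eq_two (by
    have := (V.subgroupOf (T : Subgroup G)).card_mul_index
    rw [Nat.card_congr (subgroupOfEquivOfLe hT).toEquiv, hV4, hT8] at this
    omega)
  have hTV : (T : Subgroup G) ≤ normalizer (V : Set G) := (normal_subgroupOf_iff_le_normalizer hT).1 hVn
  have h72 : 72 ∣ Nat.card (normalizer (V : Set G)) := by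
    have h9 : 9 ∣ Nat.card (normalizer (V : Set G)) :=
      (Dvd.intro 4 (by norm_num) : 9 ∣ 36).trans (hK36.1 ▸ card_dvd_of_le hKV)
    exact Nat.Coprime.mul_dvd_of_dvd_of_dvd (m := 9) (n := 8) (by norm_num) h9 (hT8 ▸ card_dvd_of_le hTV)
  have htop : normalizer (V : Set G) = ⊤ := by
    by_contra hne
    have h6 := index_ge h _ hne
    have := (normalizer (V : Set G)).card_mul_index
    rw [h] at this
    have h72' := Nat.le_of_dvd Nat.card_pos h72
    nlinarith
  rcases (normalizer_eq_top_iff.1 htop).eq_bot_or_eq_top with e | e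
  · rw [e, card_bot] at hV4; omega
  · rw [e, card_top, h] at hV4; omega

theorem eq_of_smul (h : Nat.card G = 360) [Fact (Nat.Prime 3)] {P S : Sylow 3 G} (hPS : S ≠ P) {q : G}
    (hq : q ∈ (P : Subgroup G)) (hqS : q • S = S) : q = 1 := by
  rw [Sylow.smul_eq_iff_mem_normalizer] at hqS
  have h2 : q ∈ (P : Subgroup G) ⊓ (S : Subgroup G) := by
    rw [← P.isPGroup'.inf_normalizer_sylow S]
    exact ⟨hq, hqS⟩
  exact ti h hPS.symm h2.1 h2.2

theorem exists_smul_of_ne (h : Nat.card G = 360) [Fact (Nat.Prime 3)] {P R S : Sylow 3 G} (hR : R ≠ P)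
    (hS : S ≠ P) : ∃ q ∈ (P : Subgroup G), q • R = S := by
  classical
  let f : ↥(P : Subgroup G) → {T : Sylow 3 G // T ≠ P} := fun q => ⟨(q : G) • R, fun e => hR (by
    have := congrArg (fun T => (q : G)⁻¹ • T) e
    simpa [inv_smul_smul, smul_eq_of_mem ((P : Subgroup G).inv_mem q.2)] using this)⟩
  have hf : Function.Injective f := by
    intro a b e
    have e' : (a : G) • R = (b : G) • R := congrArg Subtype.val e
    refine (inv_mul_eq_one.mp (Subtype.ext (eq_of_smul h hR (mul_mem (inv_mem b.2) a.2) ?_) :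
      b⁻¹ * a = 1)).symm
    rw [Subgroup.coe_mul, Subgroup.coe_inv, mul_smul, e', inv_smul_smul]
  have hcard : Nat.card {T : Sylow 3 G // T ≠ P} ≤ Nat.card (P : Subgroup G) := by
    have := Fintype.ofFinite (Sylow 3 G)
    rw [sylow_card h P, Nat.card_eq_fintype_card, Fintype.card_subtype_compl, Fintype.card_subtype_eq,
      ← Nat.card_eq_fintype_card, card_sylow_three h]
  obtain ⟨q, hq⟩ := (hf.bijective_of_nat_card_le hcard).2 ⟨S, hS⟩
  exact ⟨q, q.2, congrArg Subtype.val hq⟩

theorem card_two_stabilizer (h : Nat.card G = 360) [Fact (Nat.Prime 3)] {P R : Sylow 3 G} (hR : R ≠ P) :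
    Nat.card ↥(stabilizer G P ⊓ stabilizer G R : Subgroup G) = 4 := by
  classical
  set N := stabilizer G P
  set E := (stabilizer G P ⊓ stabilizer G R : Subgroup G)
  have hN : Nat.card N = 36 := by
    have h1 : N = normalizer ((P : Subgroup G) : Set G) := Sylow.stabilizer_eq_normalizer P
    have := CfsgLib.Perm.card_normalizer_mul_card_sylow P
    rw [card_sylow_three h, h, ← h1] at this
    omega
  let f : ↥(P : Subgroup G) × ↥E → N := fun x => ⟨(x.1 : G) * (x.2 : G),
    mul_mem (show (x.1 : G) ∈ N from smul_eq_of_mem x.1.2) x.2.2.1⟩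
  have hf : Function.Bijective f := by
    refine ⟨fun a b e => ?_, fun g => ?_⟩
    · have e' : (a.1 : G) * (a.2 : G) = (b.1 : G) * (b.2 : G) := congrArg Subtype.val e
      have h1 : ((b.1 : G)⁻¹ * a.1) • R = R := by
        rw [show (b.1 : G)⁻¹ * a.1 = (b.2 : G) * (a.2 : G)⁻¹ by
          rw [eq_mul_inv_iff_mul_eq, mul_assoc, e']; group]
        exact (mul_mem b.2.2.2 (inv_mem a.2.2.2) : (b.2 : G) * (a.2 : G)⁻¹ ∈ stabilizer G R)
      have h2 := eq_of_smul h hR (mul_mem (inv_mem b.1.2) a.1.2) h1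
      have h3 : b.1 = a.1 := Subtype.ext (inv_mul_eq_one.mp h2)
      rw [h3] at e'
      exact Prod.ext h3.symm (Subtype.ext (mul_left_cancel e'))
    · have hgR : (g : G) • R ≠ P := fun e => hR (MulAction.injective (g : G) (e.trans g.2.symm))
      obtain ⟨q, hq, hqR⟩ := exists_smul_of_ne h hR hgR
      refine ⟨⟨⟨q, hq⟩, ⟨q⁻¹ * g, ?_, ?_⟩⟩, Subtype.ext (mul_inv_cancel_left q g)⟩
      · exact N.mul_mem (N.inv_mem (smul_eq_of_mem hq : q • P = P)) g.2
      · show (q⁻¹ * (g : G)) • R = R
        rw [mul_smul, ← hqR, inv_smul_smul]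
  have := Nat.card_congr (Equiv.ofBijective f hf)
  rw [Nat.card_prod, sylow_card h P, hN] at this
  omega

theorem eq_one_of_three (h : Nat.card G = 360) [Fact (Nat.Prime 3)] {g : G} {a b c : Sylow 3 G}
    (hab : a ≠ b) (hbc : b ≠ c) (hac : a ≠ c) (ha : g • a = a) (hb : g • b = b) (hc : g • c = c) : g = 1 := by
  classical
  suffices key : ∀ t : G, orderOf t = 2 → t • a = a → t • b = b → t • c = c → False by
    by_contra hg1
    have hgE : g ∈ (stabilizer G a ⊓ stabilizer G b : Subgroup G) := ⟨ha, hb⟩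
    have h4 := Subgroup.orderOf_dvd_natCard _ hgE
    rw [card_two_stabilizer h hab.symm] at h4
    obtain ⟨i, hi, hio⟩ := (Nat.dvd_prime_pow Nat.prime_two).1 (show orderOf g ∣ 2 ^ 2 from h4)
    have hi0 : i ≠ 0 := fun e => hg1 (orderOf_eq_one_iff.1 (by rw [hio, e, pow_zero]))
    have hfix : ∀ x : Sylow 3 G, g • x = x → g ^ 2 ^ (i - 1) • x = x := fun x hx =>
      (pow_mem (show g ∈ stabilizer G x from hx) _ : g ^ 2 ^ (i - 1) ∈ stabilizer G x)
    refine key _ ?_ (hfix a ha) (hfix b hb) (hfix c hc)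
    rw [orderOf_pow, hio, Nat.gcd_eq_right (pow_dvd_pow 2 (Nat.sub_le i 1)),
      Nat.pow_div (Nat.sub_le i 1) two_pos, show i - (i - 1) = 1 by omega, pow_one]
  intro t ht hta htb htc
  have htN := Sylow.smul_eq_iff_mem_normalizer.1 hta
  set C := (a : Subgroup G) ⊓ centralizer ({t} : Set G)
  -- fixed points other than `a` correspond to `C`
  let f : C → {S : fixedSylows 3 t // S.1 ≠ a} := fun q => ⟨⟨(q : G) • b, by
    rw [smul_smul, ← mem_centralizer_singleton_iff.1 q.2.2, ← smul_smul, htb]⟩, fun e => hab (by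
    have := congrArg (fun T => (q : G)⁻¹ • T) (e : (q : G) • b = a)
    simp only [inv_smul_smul, smul_eq_of_mem ((a : Subgroup G).inv_mem q.2.1)] at this
    exact this.symm)⟩
  have hf : Function.Bijective f := by
    refine ⟨fun x y e => ?_, fun S => ?_⟩
    · have e' : (x : G) • b = (y : G) • b := congrArg (fun u => u.1.1) e
      have := eq_of_smul h hab.symm (mul_mem (inv_mem y.2.1) x.2.1) (by rw [mul_smul, e', inv_smul_smul])
      exact Subtype.ext (inv_mul_eq_one.mp this).symm
    · obtain ⟨q, hq, hqS⟩ := exists_smul_of_ne h hab.symm S.2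
      refine ⟨⟨q, hq, mem_centralizer_singleton_iff.2 ?_⟩, Subtype.ext (Subtype.ext hqS)⟩
      have h1 : (q⁻¹ * (t * q * t⁻¹)) • b = b := by
        have htb' : t⁻¹ • b = b := inv_smul_eq_iff.2 htb.symm
        rw [mul_smul, mul_smul, mul_smul, htb', hqS, S.1.2, ← hqS, inv_smul_smul]
      have h2 := eq_of_smul h hab.symm (mul_mem (inv_mem hq) ((mem_normalizer_iff.1 htN q).1 hq)) h1
      have h3 : q = t * q * t⁻¹ := inv_mul_eq_one.1 h2
      conv_lhs => rw [h3]
      group
  have hsum : Nat.card {S : fixedSylows 3 t // S.1 ≠ a} + 1 = Nat.card (fixedSylows 3 t) := by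
    have := Fintype.ofFinite (fixedSylows 3 t)
    have e : Nat.card {S : fixedSylows 3 t // S.1 ≠ a} = Nat.card {S : fixedSylows 3 t // S ≠ ⟨a, hta⟩} :=
      Nat.card_congr (Equiv.subtypeEquivRight fun S => by simp [Subtype.ext_iff])
    rw [e, Nat.card_eq_fintype_card, Nat.card_eq_fintype_card, Fintype.card_subtype_compl, Fintype.card_subtype_eq]
    have : 0 < Fintype.card (fixedSylows 3 t) := Fintype.card_pos_iff.2 ⟨⟨a, hta⟩⟩
    omega
  rw [← Nat.card_congr (Equiv.ofBijective f hf)] at hsum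
  have hC9 : Nat.card C ∣ 3 ^ 2 := ((card_dvd_of_le inf_le_left).trans (sylow_card h a).dvd).trans (by norm_num)
  have ht2 : t * t = 1 := by rw [← pow_two, ← ht, pow_orderOf_eq_one]
  obtain ⟨h4, -⟩ := card_fixedSylows_four (p := 3) (not_comm h) ht2
  obtain ⟨j, hj, hjc⟩ := (Nat.dvd_prime_pow Nat.prime_three).1 hC9
  have h3F : 3 ≤ Nat.card (fixedSylows 3 t) := by
    let s : Fin 3 → fixedSylows 3 t := ![⟨a, hta⟩, ⟨b, htb⟩, ⟨c, htc⟩]
    have := Nat.card_le_card_of_injective s (by
      intro x y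
      fin_cases x <;> fin_cases y <;> simp [s, hab, hbc, hac, hab.symm, hbc.symm, hac.symm])
    rwa [Nat.card_fin] at this
  rw [card_sylow_three h] at h4
  rcases (show j = 0 ∨ j = 1 ∨ j = 2 by omega) with rfl | rfl | rfl
  · omega
  · rw [← hsum, hjc] at h4; omega
  · -- `t` fixes every point
    have hall : ∀ S : Sylow 3 G, t • S = S := by
      by_contra hne
      push Not at hne
      obtain ⟨S, hS⟩ := hne
      have := Fintype.ofFinite (Sylow 3 G)
      have : Nat.card (fixedSylows 3 t) < Nat.card (Sylow 3 G) :=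
        Finite.card_subtype_lt (p := fun R : Sylow 3 G => t • R = R) (x := S) hS
      rw [card_sylow_three h, ← hsum, hjc] at this
      norm_num at this
    have hker : t ∈ (MulAction.toPermHom G (Sylow 3 G)).ker := Equiv.ext hall
    rcases (MonoidHom.normal_ker (MulAction.toPermHom G (Sylow 3 G))).eq_bot_or_eq_top with e | e
    · rw [e, mem_bot] at hker
      rw [hker, orderOf_one] at ht
      omega
    · obtain ⟨g, hg⟩ := MulAction.exists_smul_eq G a b
      exact hab ((Equiv.ext_iff.1 (e ▸ mem_top g : g ∈ (MulAction.toPermHom G (Sylow 3 G)).ker) a).symm.trans hg)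

/-- A simple group of order 360 is `A₆`. -/
theorem nonempty_equiv (h : Nat.card G = 360) : Nonempty (G ≃* alternatingGroup (Fin 6)) := by
  classical
  have : Fact (Nat.Prime 3) := ⟨Nat.prime_three⟩
  let Ω := Sylow 3 G
  have := Fintype.ofFinite Ω
  have hn : Fintype.card Ω = 10 := by rw [← Nat.card_eq_fintype_card]; exact card_sylow_three h
  obtain ⟨P, R, hPR⟩ := (Fintype.one_lt_card_iff_nontrivial.1 (by omega : 1 < Fintype.card Ω)).exists_pair_ne
  have hker : (MulAction.toPermHom G Ω).ker = ⊥ := by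
    refine ((MonoidHom.normal_ker _).eq_bot_or_eq_top).resolve_right fun e => ?_
    obtain ⟨g, hg⟩ := MulAction.exists_smul_eq G P R
    exact hPR ((Equiv.ext_iff.1 (e ▸ mem_top g : g ∈ (MulAction.toPermHom G Ω).ker) P).symm.trans hg)
  have hZ : Cfsg.IsZassenhausGroup G Ω := by
    refine ⟨⟨fun {x y} hxy => (MonoidHom.ker_eq_bot_iff _).1 hker (Equiv.ext hxy)⟩,
      MulAction.is_two_pretransitive_iff.2 fun {a b c d} hab hcd => ?_,
      fun g a b c hab hbc hac ha hb hc => eq_one_of_three h hab hbc hac ha hb hc, ?_, fun N hN hNt => ?_⟩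
    · obtain ⟨g₁, hg₁⟩ := MulAction.exists_smul_eq G a P
      obtain ⟨g₂, hg₂⟩ := MulAction.exists_smul_eq G c P
      obtain ⟨q, hq, hqe⟩ := exists_smul_of_ne h (R := g₁ • b) (S := g₂ • d) (P := P)
        (fun e => hab (MulAction.injective g₁ (hg₁.trans e.symm)))
        (fun e => hcd (MulAction.injective g₂ (hg₂.trans e.symm)))
      refine ⟨g₂⁻¹ * q * g₁, ?_, ?_⟩
      · rw [mul_smul, mul_smul, hg₁, smul_eq_of_mem hq, ← hg₂, inv_smul_smul]
      · rw [mul_smul, mul_smul, hqe, inv_smul_smul]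
    · have h4 := card_two_stabilizer h hPR.symm
      obtain ⟨g, hg, hg1⟩ := (bot_or_exists_ne_one (stabilizer G P ⊓ stabilizer G R : Subgroup G)).resolve_left
        (fun e => by rw [e, card_bot] at h4; omega)
      exact ⟨g, hg1, P, R, hPR, hg.1, hg.2⟩
    · rcases hN.eq_bot_or_eq_top with e | e
      · subst e
        exfalso
        obtain ⟨g, hg⟩ := hNt.exists_smul_eq P R
        have hg1 : g = 1 := Subsingleton.elim g 1
        rw [hg1, one_smul] at hg
        exact hPR hg
      · subst e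
        refine ⟨P, fun hb => ?_⟩
        have h4 := card_two_stabilizer h hPR.symm
        obtain ⟨g, hg, hg1⟩ := (bot_or_exists_ne_one (stabilizer G P ⊓ stabilizer G R : Subgroup G)).resolve_left
          (fun e => by rw [e, card_bot] at h4; omega)
        have : (⟨g, mem_top g⟩ : (⊤ : Subgroup G)) ∈ stabilizer (⊤ : Subgroup G) P := hg.1
        rw [hb, mem_bot] at this
        exact hg1 (congrArg Subtype.val this)
  obtain ⟨p, f, F, _, _, -, -, hF, hΩ, ⟨e⟩⟩ := CfsgLib.Perm.iso_psl_of_half hZ hPR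
    (by rw [card_two_stabilizer h hPR.symm]; decide) (by rw [card_two_stabilizer h hPR.symm, hn])
  obtain ⟨e'⟩ := CfsgLib.Classical.nonempty_psl_nine_equiv_alt (F := F) (by omega)
  exact ⟨e.trans e'⟩

end CfsgLib.TwoGroups.OrderThreeSixty
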