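import Mathlib

/-!
The transfer into an abelian group, evaluated at an element whose powers have all their conjugates
in the subgroup mapped alike.
-/

set_option autoImplicit false

namespace CfsgLib.TwoGroups

open Subgroup MulAction

theorem transfer_eq_pow_of_controlled {G : Type*} [Group G] [Finite G] {H : Subgroup G} {A : Type*}
    [CommGroup A] (ϕ : H →* A) {g : G} (hg : g ∈ H)
    (hc : ∀ (m : ℕ) (a : G) (h : a * g ^ m * a⁻¹ ∈ H), ϕ ⟨a * g ^ m * a⁻¹, h⟩ = ϕ ⟨g, hg⟩ ^ m) :
    MonoidHom.transfer ϕ g = ϕ ⟨g, hg⟩ ^ H.index := by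
  classical
  have := Fintype.ofFinite (G ⧸ H)
  have : Fintype (Quotient (orbitRel (zpowers g) (G ⧸ H))) := Fintype.ofFinite _
  rw [MonoidHom.transfer_eq_prod_quotient_orbitRel_zpowers_quot, index_eq_sum_minimalPeriod H g,
    ← Finset.prod_pow_eq_pow_sum]
  refine Finset.prod_congr rfl fun q _ => ?_
  have hmem := QuotientGroup.out_conj_pow_minimalPeriod_mem H g q.out
  rw [← hc (Function.minimalPeriod (g • ·) q.out) q.out.out⁻¹ (by rw [inv_inv]; exact hmem)]
  congr 1
  exact Subtype.ext (by simp only [inv_inv])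

theorem eq_one_of_pow_coprime {A : Type*} [Group A] {x : A} {p n : ℕ} (hn : Nat.Coprime p n)
    (hx : ∃ k, x ^ p ^ k = 1) (h : x ^ n = 1) : x = 1 := by
  obtain ⟨k, hk⟩ := hx
  exact orderOf_eq_one_iff.1 (Nat.eq_one_of_dvd_coprimes (hn.pow_left k)
    (orderOf_dvd_of_pow_eq_one hk) (orderOf_dvd_of_pow_eq_one h))

end CfsgLib.TwoGroups
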