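import Cfsg.Agent.Lib.TwoGroups.AnisotropicQuad
import Cfsg.Agent.Lib.Transfer.CoprimeAut
import Cfsg.Agent.Lib.Recog.Zassenhaus.Perfect

/-!
The automorphism group of a `2`-group with three involutions is solvable.
-/

set_option autoImplicit false
set_option linter.style.haveILetI false
set_option maxHeartbeats 1000000

namespace CfsgLib.ThreeInvolutions

open Subgroup

/-- Restriction of automorphisms to a characteristic subgroup. -/
def restrictAut {G : Type*} [Group G] (H : Subgroup G) [hH : H.Characteristic] :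
    MulAut G →* MulAut H where
  toFun a :=
    { toFun := fun x => ⟨a x, characteristic_iff_le_comap.1 hH a x.2⟩
      invFun := fun x => ⟨a.symm x, characteristic_iff_le_comap.1 hH a.symm x.2⟩
      left_inv := fun x => Subtype.ext (a.symm_apply_apply _)
      right_inv := fun x => Subtype.ext (a.apply_symm_apply _)
      map_mul' := fun x y => Subtype.ext (map_mul a (x : G) y) }
  map_one' := rfl
  map_mul' _ _ := rfl

/-- A finite group in which every element of odd prime order is trivial is solvable. -/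
theorem isSolvable_of_no_odd {K : Type*} [Group K] [Finite K]
    (h : ∀ k : K, ∀ p : ℕ, p.Prime → p ≠ 2 → k ^ p = 1 → k = 1) : Group.IsSolvable K := by
  haveI := Fact.mk Nat.prime_two
  have hP : IsPGroup 2 K := IsPGroup.of_card (n := (Nat.card K).primeFactorsList.length) (by
    refine Nat.eq_prime_pow_of_unique_prime_dvd (Nat.card_pos (α := K)).ne' fun {d} hd hdvd => ?_
    by_contra hd2
    haveI := Fact.mk hd
    obtain ⟨k, hk⟩ := exists_prime_orderOf_dvd_card' d hdvd
    rw [h k d hd hd2 (by rw [← hk]; exact pow_orderOf_eq_one k), orderOf_one] at hk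
    exact hd.ne_one hk.symm)
  haveI : Group.IsNilpotent K := hP.isNilpotent
  infer_instance

/-- Reduction to a self-centralizing characteristic subgroup. -/
theorem isSolvable_of_char {G : Type*} [Group G] [Finite G] (hG : IsPGroup 2 G) (H : Subgroup G)
    [H.Characteristic] (hC : centralizer (H : Set G) ≤ H) [Group.IsSolvable (MulAut H)] :
    Group.IsSolvable (MulAut G) := by
  haveI : Finite (MulAut G) := Finite.of_injective _ MulEquiv.toEquiv_injective
  haveI : Group.IsSolvable (restrictAut H).ker := by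
    refine isSolvable_of_no_odd fun k p hp hp2 hk => Subtype.ext ?_
    refine CfsgLib.Transfer.eq_one_of_fixes_centralizer_le hG (k : MulAut G) (m := p)
      ((Nat.coprime_primes hp Nat.prime_two).2 hp2) (congrArg Subtype.val hk) hC fun x hx => ?_
    exact congrArg Subtype.val (DFunLike.congr_fun k.2 (⟨x, hx⟩ : H))
  exact Group.isSolvable_of_ker_le_range (restrictAut H).ker.subtype (restrictAut H)
    (by rw [Subgroup.range_subtype])

section ClassTwo

variable {C : Type*} [Group C] [Finite C]

/-- Squares of central elements. -/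
def sqHom (C : Type*) [Group C] : center C →* center C where
  toFun z := z ^ 2
  map_one' := one_pow 2
  map_mul' a b := (show Commute a b from Subtype.ext (mem_center_iff.1 b.2 a)).mul_pow 2

theorem isSolvable_mulAut (hC : IsPGroup 2 C) (hsq : ∀ x : C, x ^ 2 ∈ center C)
    (hinv : ∀ x : C, x ^ 2 = 1 → x ∈ center C) (h4 : Nat.card {x : C // x ^ 2 = 1} ≤ 4) :
    Group.IsSolvable (MulAut C) := by
  classical
  haveI : Finite (MulAut C) := Finite.of_injective _ MulEquiv.toEquiv_injective
  set Z := center C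
  set Z2 := (sqHom C).range with hZ2
  have hexp : ∀ x : C ⧸ Z, x ^ 2 = 1 := by
    intro x
    obtain ⟨y, rfl⟩ := QuotientGroup.mk'_surjective Z x
    rw [← map_pow]
    exact (QuotientGroup.eq_one_iff _).2 (hsq y)
  have hcomm : ∀ x y : C ⧸ Z, x * y = y * x := fun x y => by
    have h1 : ∀ z : C ⧸ Z, z⁻¹ = z := fun z => inv_eq_of_mul_eq_one_right (by rw [← pow_two, hexp])
    calc x * y = (x * y)⁻¹ := (h1 _).symm
      _ = y⁻¹ * x⁻¹ := mul_inv_rev _ _
      _ = y * x := by rw [h1, h1]
  letI : CommGroup (C ⧸ Z) := { (inferInstance : Group (C ⧸ Z)) with mul_comm := hcomm }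
  let sq : C → Z ⧸ Z2 := fun x => QuotientGroup.mk' Z2 ⟨x ^ 2, hsq x⟩
  have hzc : ∀ z ∈ Z, ∀ x : C, Commute x z := fun z hz x => (mem_center_iff.1 hz x)
  have hZcomm : ∀ a b : Z ⧸ Z2, a * b = b * a := fun a b => by
    obtain ⟨a, rfl⟩ := QuotientGroup.mk'_surjective Z2 a
    obtain ⟨b, rfl⟩ := QuotientGroup.mk'_surjective Z2 b
    rw [← map_mul, ← map_mul, show a * b = b * a from Subtype.ext (mem_center_iff.1 b.2 a)]
  letI : CommGroup (Z ⧸ Z2) := { (inferInstance : Group (Z ⧸ Z2)) with mul_comm := hZcomm }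
  have hW2 : ∀ w : Z ⧸ Z2, w * w = 1 := by
    intro w
    obtain ⟨z, rfl⟩ := QuotientGroup.mk'_surjective Z2 w
    rw [← map_mul]
    exact (QuotientGroup.eq_one_iff _).2 ⟨z, show z ^ 2 = z * z from pow_two z⟩
  have hsqz : ∀ x z : C, z ∈ Z → sq (x * z) = sq x := by
    intro x z hz
    refine QuotientGroup.eq.2 ⟨(⟨z⁻¹, inv_mem hz⟩ : Z), Subtype.ext ?_⟩
    show (z⁻¹ : C) ^ 2 = ((x * z) ^ 2)⁻¹ * x ^ 2
    rw [(hzc z hz x).mul_pow, mul_inv_rev, inv_pow, inv_mul_cancel_right]
  let q' : C ⧸ Z → Z ⧸ Z2 := fun v => Quotient.liftOn' v sq fun a b h => by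
    rw [QuotientGroup.leftRel_apply] at h
    rw [← hsqz a _ h, mul_inv_cancel_left]
  have hq' : ∀ x : C, q' (QuotientGroup.mk x) = sq x := fun x => rfl
  -- the polarization
  let k : C → C → C := fun x y => x⁻¹ * y * x * y⁻¹
  have hk : ∀ x y, k x y ∈ Z := fun x y => by
    rw [← QuotientGroup.eq_one_iff]
    show QuotientGroup.mk' Z (k x y) = 1
    simp only [k, map_mul, map_inv]
    rw [hcomm ((QuotientGroup.mk' Z x)⁻¹)]
    group
  have hsqmul : ∀ x y : C, sq (x * y) = sq x * sq y * QuotientGroup.mk' Z2 ⟨k x y, hk x y⟩ := by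
    intro x y
    simp only [sq, ← map_mul]
    congr 1
    refine Subtype.ext ?_
    show (x * y) ^ 2 = x ^ 2 * y ^ 2 * k x y
    rw [mul_assoc (x ^ 2), ← (hzc _ (hk x y) (y ^ 2)).symm.eq]
    simp only [k, pow_two]
    group
  have hkadd : ∀ x y z : C, k x (y * z) = k x y * k x z := by
    intro x y z
    calc k x (y * z) = x⁻¹ * y * x * k x z * y⁻¹ := by simp only [k]; group
      _ = x⁻¹ * y * x * y⁻¹ * k x z := by
          rw [mul_assoc _ (k x z), ← (hzc _ (hk x z) y⁻¹).eq]
          simp only [mul_assoc]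
      _ = k x y * k x z := rfl
  letI : AddCommGroup (Additive (C ⧸ Z)) := inferInstance
  let V := Additive (C ⧸ Z)
  let W := Additive (Z ⧸ Z2)
  let q : V → W := fun v => Additive.ofMul (q' v.toMul)
  have hV : ∀ v : V, v + v = 0 := fun v =>
    congrArg Additive.ofMul ((pow_two v.toMul).symm.trans (hexp v.toMul))
  have hW : ∀ w : W, w + w = 0 := fun w => congrArg Additive.ofMul (hW2 w.toMul)
  have hWcard : Nat.card W ≤ 4 := by
    show Nat.card (Z ⧸ Z2) ≤ 4
    have h1 : Nat.card (Z ⧸ Z2) * Nat.card Z2 = Nat.card Z :=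
      (Subgroup.card_eq_card_quotient_mul_card_subgroup Z2).symm
    have h2 : Nat.card (sqHom C).ker * Nat.card Z2 = Nat.card Z := by
      rw [mul_comm, hZ2, ← Nat.card_congr (QuotientGroup.quotientKerEquivRange (sqHom C)).toEquiv,
        ← Subgroup.card_eq_card_quotient_mul_card_subgroup]
    have h3 : Nat.card (sqHom C).ker ≤ 4 := le_trans (Nat.card_le_card_of_injective
      (fun z : (sqHom C).ker => (⟨((z : Z) : C), congrArg Subtype.val z.2⟩ : {x : C // x ^ 2 = 1}))
      fun a b h => Subtype.ext (Subtype.ext (congrArg (fun t : {x : C // x ^ 2 = 1} => (t : C)) h))) h4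
    rw [Nat.eq_of_mul_eq_mul_right Nat.card_pos (h1.trans h2.symm)]
    exact h3
  have hpol : ∀ (x : C) (y : C),
      sq (x * y) * sq x * sq y = QuotientGroup.mk' Z2 ⟨k x y, hk x y⟩ := by
    intro x y
    rw [hsqmul]
    calc sq x * sq y * QuotientGroup.mk' Z2 ⟨k x y, hk x y⟩ * sq x * sq y
        = (sq x * sq x) * (sq y * sq y) * QuotientGroup.mk' Z2 ⟨k x y, hk x y⟩ := by
          simp only [mul_comm, mul_left_comm]
      _ = _ := by rw [hW2, hW2, one_mul, one_mul]
  have hDm : ∀ a b c : C, sq (a * (b * c)) * sq a * sq (b * c) =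
      (sq (a * b) * sq a * sq b) * (sq (a * c) * sq a * sq c) := by
    intro a b c
    rw [hpol, hpol, hpol, ← map_mul]
    exact congrArg _ (Subtype.ext (hkadd a b c))
  have hD : ∀ x y z : V, (q (x + (y + z)) + q x + q (y + z)) =
      (q (x + y) + q x + q y) + (q (x + z) + q x + q z) := by
    intro x y z
    obtain ⟨a, rfl⟩ : ∃ a : C, Additive.ofMul (QuotientGroup.mk a : C ⧸ Z) = x :=
      let ⟨a, ha⟩ := QuotientGroup.mk_surjective x.toMul; ⟨a, congrArg Additive.ofMul ha⟩
    obtain ⟨b, rfl⟩ : ∃ b : C, Additive.ofMul (QuotientGroup.mk b : C ⧸ Z) = y :=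
      let ⟨b, hb⟩ := QuotientGroup.mk_surjective y.toMul; ⟨b, congrArg Additive.ofMul hb⟩
    obtain ⟨c, rfl⟩ : ∃ c : C, Additive.ofMul (QuotientGroup.mk c : C ⧸ Z) = z :=
      let ⟨c, hc⟩ := QuotientGroup.mk_surjective z.toMul; ⟨c, congrArg Additive.ofMul hc⟩
    exact congrArg Additive.ofMul (hDm a b c)
  have hq : ∀ v : V, v ≠ 0 → q v ≠ 0 := by
    intro v hv h
    obtain ⟨x, hx⟩ := QuotientGroup.mk_surjective v.toMul
    have h1 : sq x = 1 := by
      rw [← hq', hx]
      exact congrArg Additive.toMul h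
    obtain ⟨w, hw⟩ := (QuotientGroup.eq_one_iff _).1 h1
    have hw' : (w : C) ^ 2 = x ^ 2 := congrArg Subtype.val hw
    refine hv (Additive.toMul.injective ?_)
    show v.toMul = 1
    rw [← hx, QuotientGroup.eq_one_iff]
    have h2 : x * (w : C)⁻¹ ∈ Z := hinv _ (by
      rw [(hzc _ (inv_mem w.2) x).mul_pow, inv_pow, hw', mul_inv_cancel])
    simpa using mul_mem h2 w.2
  -- automorphisms act on both quotients
  have hZa : ∀ (a : MulAut C) (z : C), z ∈ Z → a z ∈ Z := fun a z hz =>
    characteristic_iff_le_comap.1 (inferInstance : (center C).Characteristic) a hz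
  have hZ2a : ∀ (a : MulAut C) (z : Z), z ∈ Z2 → restrictAut Z a z ∈ Z2 := by
    rintro a _ ⟨w, rfl⟩
    exact ⟨restrictAut Z a w, (map_pow (restrictAut Z a) w 2).symm⟩
  let fW : MulAut C → Z ⧸ Z2 → Z ⧸ Z2 := fun a =>
    QuotientGroup.map Z2 Z2 (restrictAut Z a).toMonoidHom (hZ2a a)
  have hfW : ∀ a (z : Z), fW a (QuotientGroup.mk' Z2 z) = QuotientGroup.mk' Z2 (restrictAut Z a z) :=
    fun a z => rfl
  let π₁ : MulAut C →* Equiv.Perm (Z ⧸ Z2) := MonoidHom.toHomPerm
    { toFun := fW
      map_one' := funext fun w => by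
        obtain ⟨z, rfl⟩ := QuotientGroup.mk'_surjective Z2 w
        rfl
      map_mul' := fun a b => funext fun w => by
        obtain ⟨z, rfl⟩ := QuotientGroup.mk'_surjective Z2 w
        rfl }
  haveI : Group.IsSolvable (Equiv.Perm (Z ⧸ Z2)) :=
    CfsgLib.Recog.Zassenhaus.isSolvable_perm_of_le_four hWcard
  set K := π₁.ker
  let fV : MulAut C → C ⧸ Z →* C ⧸ Z := fun a =>
    QuotientGroup.map Z Z a.toMonoidHom (hZa a)
  letI : DistribMulAction K V :=
    { smul := fun a v => Additive.ofMul (fV (a : MulAut C) v.toMul)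
      one_smul := fun v => by
        refine Additive.toMul.injective ?_
        obtain ⟨x, hx⟩ := QuotientGroup.mk'_surjective Z v.toMul
        show fV 1 v.toMul = v.toMul
        rw [← hx]; rfl
      mul_smul := fun a b v => by
        refine Additive.toMul.injective ?_
        obtain ⟨x, hx⟩ := QuotientGroup.mk'_surjective Z v.toMul
        show fV ((a : MulAut C) * (b : MulAut C)) v.toMul = fV a (fV b v.toMul)
        rw [← hx]; rfl
      smul_zero := fun a => congrArg Additive.ofMul (map_one (fV (a : MulAut C)))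
      smul_add := fun a v w => congrArg Additive.ofMul (map_mul (fV (a : MulAut C)) v.toMul w.toMul) }
  have hqinv : ∀ (a : K) (v : V), q (a • v) = q v := by
    intro a v
    obtain ⟨x, hx⟩ := QuotientGroup.mk'_surjective Z v.toMul
    show Additive.ofMul (q' (fV (a : MulAut C) v.toMul)) = Additive.ofMul (q' v.toMul)
    rw [← hx]
    refine congrArg Additive.ofMul ?_
    show sq ((a : MulAut C) x) = sq x
    have h1 : fW (a : MulAut C) (sq x) = sq x := Equiv.Perm.ext_iff.1 (MonoidHom.mem_ker.1 a.2) (sq x)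
    refine Eq.trans ?_ h1
    simp only [sq]
    rw [hfW]
    exact congrArg _ (Subtype.ext (map_pow (a : MulAut C) x 2).symm)
  haveI : Group.IsSolvable (MulAction.toPermHom K V).range := by
    haveI : Group.IsSolvable (K ⧸ (MulAction.toPermHom K V).ker) := by
      let N := (MulAction.toPermHom K V).ker
      letI : DistribMulAction (K ⧸ N) V :=
        { smul := fun a v => Quotient.liftOn' a (fun b => b • v) fun b c h => by
            rw [QuotientGroup.leftRel_apply] at h
            have h1 : (b⁻¹ * c) • v = v := Equiv.Perm.ext_iff.1 (MonoidHom.mem_ker.1 h) v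
            rw [mul_smul] at h1
            exact ((inv_smul_eq_iff.1 h1)).symm
          one_smul := fun v => one_smul K v
          mul_smul := fun a b v => Quotient.inductionOn₂' a b fun a b => mul_smul a b v
          smul_zero := fun a => Quotient.inductionOn' a fun a => smul_zero a
          smul_add := fun a v w => Quotient.inductionOn' a fun a => smul_add a v w }
      haveI : FaithfulSMul (K ⧸ N) V := ⟨fun {a b} => Quotient.inductionOn₂' a b fun a b h => by
        refine QuotientGroup.eq.2 (MonoidHom.mem_ker.2 (Equiv.Perm.ext fun v => ?_))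
        show (a⁻¹ * b) • v = v
        rw [mul_smul, inv_smul_eq_iff]
        exact (h v).symm⟩
      exact CfsgLib.AnisotropicQuad.isSolvable q hV hW hWcard hD hq
        fun g v => Quotient.inductionOn' g fun a => hqinv a v
    exact Group.isSolvable_of_surjective
      (f := (QuotientGroup.quotientKerEquivRange (MulAction.toPermHom K V)).toMonoidHom)
      (QuotientGroup.quotientKerEquivRange _).surjective
  haveI : Group.IsSolvable (MulAction.toPermHom K V).ker := by
    refine isSolvable_of_no_odd fun a p hp hp2 hap => Subtype.ext (Subtype.ext ?_)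
    set α : MulAut C := ((a : K) : MulAut C) with hα
    have hcop : Nat.Coprime p 2 := (Nat.coprime_primes hp Nat.prime_two).2 hp2
    have hαp : α ^ p = 1 := congrArg (fun t : (MulAction.toPermHom K V).ker => ((t : K) : MulAut C)) hap
    have hmodV : ∀ x : C, x⁻¹ * α x ∈ Z := by
      intro x
      have h1 : Additive.ofMul (fV α (QuotientGroup.mk' Z x)) = Additive.ofMul (QuotientGroup.mk' Z x) :=
        Equiv.Perm.ext_iff.1 (MonoidHom.mem_ker.1 a.2) (Additive.ofMul (QuotientGroup.mk' Z x))
      exact QuotientGroup.eq.1 (Additive.ofMul.injective h1).symm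
    have hmodW : ∀ z : C, z ∈ Z → ∃ w ∈ Z, α z = z * w ^ 2 := by
      intro z hz
      have h1 : fW α (QuotientGroup.mk' Z2 ⟨z, hz⟩) = QuotientGroup.mk' Z2 ⟨z, hz⟩ :=
        Equiv.Perm.ext_iff.1 (MonoidHom.mem_ker.1 (a : K).2) (QuotientGroup.mk' Z2 (⟨z, hz⟩ : Z))
      obtain ⟨w, hw⟩ := QuotientGroup.eq.1 h1.symm
      refine ⟨w, w.2, ?_⟩
      have h2 : (w : C) ^ 2 = z⁻¹ * α z := congrArg Subtype.val hw
      rw [h2, mul_inv_cancel_left]
    -- `α` fixes every element of the centre
    have hdown : ∀ n i : ℕ, (∀ z ∈ Z, α (z ^ 2 ^ (i + n)) = z ^ 2 ^ (i + n)) →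
        ∀ z ∈ Z, α (z ^ 2 ^ i) = z ^ 2 ^ i := by
      intro n
      induction n with
      | zero => intro i h; simpa using h
      | succ n ih =>
        intro i h z hz
        have h' := ih (i + 1) (by rw [show i + 1 + n = i + (n + 1) by omega]; exact h)
        obtain ⟨w, hw, hzw⟩ := hmodW z hz
        refine CfsgLib.Transfer.eq_of_fixed_diff hC α hcop hαp ?_
        have h1 : (z ^ 2 ^ i)⁻¹ * α (z ^ 2 ^ i) = w ^ 2 ^ (i + 1) := by
          rw [map_pow, hzw, (hzc _ (pow_mem hw 2) z).mul_pow, inv_mul_cancel_left, ← pow_mul,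
            ← pow_succ']
        rw [h1, h' w hw]
    haveI := Fact.mk Nat.prime_two
    obtain ⟨N, hN⟩ := IsPGroup.iff_card.1 hC
    have hZfix : ∀ z ∈ Z, α z = z := fun z hz => by
      have h := hdown N 0 (fun y _ => by
        rw [Nat.zero_add, ← hN, pow_card_eq_one', map_one]) z hz
      simpa using h
    refine MulEquiv.ext fun x => ?_
    exact CfsgLib.Transfer.eq_of_fixed_diff hC α hcop hαp (hZfix _ (hmodV x))
  haveI : Group.IsSolvable K :=
    Group.isSolvable_of_ker_le_range (MulAction.toPermHom K V).ker.subtype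
      (MulAction.toPermHom K V).rangeRestrict (by rw [Subgroup.range_subtype, MonoidHom.ker_rangeRestrict])
  exact Group.isSolvable_of_ker_le_range K.subtype π₁ (by rw [Subgroup.range_subtype])

end ClassTwo

end CfsgLib.ThreeInvolutions
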