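import Cfsg.Agent.Lib.TwoGroups.TauTwoComplement

/-!
Owner: helper12. Nilpotent `σ(M)'`-subgroups and `τ₂`-elements.
-/

set_option autoImplicit false
set_option linter.unusedSectionVars false

namespace CfsgLib.TwoGroups.TauTwo

open Subgroup

variable {G : Type*} [Group G] [Finite G] {p r : ℕ} [Fact p.Prime] [Fact r.Prime] {M A E : Subgroup G}

/-- A Sylow subgroup of a complement is one of `M`. -/
theorem complement_sylow (hG : Cfsg.IsMinSimpleOddOrder G) (hM : IsCoatom M)
    (hE : Cfsg.IsComplIn E (Cfsg.sigmaCore M) M) (hr : r ∉ Cfsg.sigma M) (S : Sylow r E) :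
    ∃ T : Sylow r M, (T : Subgroup M).map M.subtype = (S : Subgroup E).map E.subtype := by
  set Y := (S : Subgroup E).map E.subtype with hY
  have hYM : Y ≤ M := (map_subtype_le _).trans hE.1
  have hiM : ¬ r ∣ (Y.subgroupOf M).index := by
    show ¬ r ∣ Y.relIndex M
    rw [← relIndex_mul_relIndex Y E M (map_subtype_le _) hE.1, (Fact.out : r.Prime).dvd_mul]
    push Not
    refine ⟨?_, fun hd => hr ?_⟩
    · rw [relIndex, subgroupOf, hY, comap_map_eq_self_of_injective E.subtype_injective]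
      exact S.not_dvd_index
    · rw [OddLocal.IsComplIn_relIndex_left hE] at hd
      exact mem_sigma_of_dvd Fact.out hd hG hM
  exact ⟨((S.2.map E.subtype).comap_subtype (K := M)).toSylow hiM, map_subgroupOf_eq_of_le hYM⟩

/-- A pair inside a given complement. -/
theorem exists_pair_complement (hG : Cfsg.IsMinSimpleOddOrder G) (hM : IsCoatom M)
    (hE : Cfsg.IsComplIn E (Cfsg.sigmaCore M) M) (hp : p ∈ Cfsg.tau2 M) :
    ∃ A : Subgroup G, IsPair p A ∧ A ≤ E := by
  obtain ⟨B, hB, hBM⟩ := exists_isPair hp.2.2.2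
  obtain ⟨S⟩ : Nonempty (Sylow p E) := inferInstance
  obtain ⟨T, hT⟩ := complement_sylow hG hM hE hp.2.1 S
  obtain ⟨P, hP⟩ := (hB.isPGroup.comap_subtype (K := M)).exists_le_sylow
  obtain ⟨m, hm⟩ := MulAction.exists_smul_eq M P T
  refine ⟨B.map (MulAut.conj (m : G)).toMonoidHom, ⟨TwoColours.elementary_map_conj hB.1 _, by
    rw [Transfer.card_map_conj, hB.2]⟩, le_trans ?_ (map_subtype_le (S : Subgroup E))⟩
  rw [← hT]
  rintro _ ⟨b, hb, rfl⟩
  refine mem_map.mpr ⟨m * ⟨b, hBM hb⟩ * m⁻¹, ?_, rfl⟩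
  rw [← hm, Transfer.mem_sylow_smul]
  simpa [mul_assoc] using hP (mem_comap.mpr hb)

/-- S1420 (1). -/
theorem nilpotent_commutative (hG : Cfsg.IsMinSimpleOddOrder G) (hM : IsCoatom M) {N : Subgroup G}
    (hN : N ≤ M) (hn : Group.IsNilpotent N) (hσ : ∀ s : ℕ, s.Prime → s ∣ Nat.card N → s ∉ Cfsg.sigma M) :
    IsMulCommutative N := by
  suffices h : center N = ⊤ from ⟨⟨fun a b => mem_center_iff.mp (h.ge (mem_top b)) a⟩⟩
  refine CfsgLib.Core.eq_top_of_forall_exists_sylow_le _ fun s hs hsd => ?_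
  have := Fact.mk hs
  obtain ⟨S⟩ : Nonempty (Sylow s N) := inferInstance
  have hsN : ∀ (t : ℕ) [Fact t.Prime] (T : Sylow t N), (T : Subgroup N).Normal := fun t _ T =>
    ((Group.isNilpotent_of_finite_tfae (G := N)).out 0 3 rfl rfl).mp hn t ‹_› T
  refine ⟨S, fun x hx => mem_center_iff.mpr fun y => ?_⟩
  suffices hle : (⊤ : Subgroup N) ≤ centralizer ({x} : Set N) from
    mem_centralizer_singleton_iff.mp (hle (mem_top y))
  rw [top_le_iff]
  refine CfsgLib.Core.eq_top_of_forall_exists_sylow_le _ fun t ht htd => ?_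
  have := Fact.mk ht
  obtain ⟨T⟩ : Nonempty (Sylow t N) := inferInstance
  refine ⟨T, fun z hz => mem_centralizer_singleton_iff.mpr ?_⟩
  by_cases hts : t = s
  · subst hts
    have := (S : Sylow t N).unique_of_normal (hsN t S)
    rw [Subsingleton.elim T S] at hz
    obtain ⟨R, hR⟩ := ((S.2.map N.subtype).comap_subtype (K := M)).exists_le_sylow
    have hc := sylow_commutative hG hM (hσ t ht hsd) R
    have hmem : ∀ u : N, u ∈ (S : Subgroup N) → (u : G) ∈ (R : Subgroup M).map M.subtype := fun u hu =>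
      mem_map.mpr ⟨⟨u, hN u.2⟩, hR (mem_comap.mpr (mem_map.mpr ⟨u, hu, rfl⟩)), rfl⟩
    have h := congrArg Subtype.val (hc.is_comm.comm
      (⟨(z : G), hmem z hz⟩ : (R : Subgroup M).map M.subtype) ⟨x, hmem x hx⟩)
    exact Subtype.ext h
  · have hd : Disjoint (T : Subgroup N) (S : Subgroup N) := by
      rw [disjoint_iff]
      exact inf_eq_bot_pGroups hts T.2 S.2
    exact (Subgroup.commute_of_normal_of_disjoint _ _ (hsN t T) (hsN s S) hd z x hz hx).eq

/-- S1420 (3). -/
theorem normalizer_le_of_noncyclic (hG : Cfsg.IsMinSimpleOddOrder G) (hM : IsCoatom M) (hp : p ∈ Cfsg.sigma M)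
    {P : Subgroup G} (hP : IsPGroup p P) (hPM : P ≤ M) (hnc : ¬ IsCyclic P) :
    normalizer (P : Set G) ≤ M := by
  have hPb : P ≠ ⊥ := fun h => hnc (h ▸ inferInstance)
  obtain ⟨A, hAP, hA, hA2⟩ := exists_pair hG hP hnc
  by_cases hU : Cfsg.InUniqueMaximal A
  · exact Uniqueness.le_of_inUniqueMaximal hU hM (hAP.trans hPM)
      (TransitivityHyp.normalizer_ne_top hG hPb (Uniqueness.ne_top_of_pGroup hG hP))
      (hAP.trans le_normalizer)
  · rw [(SigmaTrans.factor_conj hG hM hp hP hPb hPM).2]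
    exact sup_le inf_le_left
      ((Subgroup.centralizer_le hAP).trans (centralizer_le hG hM ⟨hA, hA2⟩ (hAP.trans hPM)))

/-- S1420 (4). -/
theorem centralizer_tau2_element (hG : Cfsg.IsMinSimpleOddOrder G) (hM : IsCoatom M) {x : G} (hxM : x ∈ M)
    (hx1 : x ≠ 1) (hτ : ∀ s : ℕ, s.Prime → s ∣ orderOf x → s ∈ Cfsg.tau2 M) (hσ : x ∈ Cfsg.sigmaHat M) :
    centralizer ({x} : Set G) ≤ M ∧
      ∀ L : Subgroup G, IsCoatom L → centralizer ({x} : Set G) ≤ L → L = M := by
  obtain ⟨-, y, hy, hy1, hxy⟩ := hσ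
  set p := (orderOf x).minFac with hp
  have hpp : p.Prime := Nat.minFac_prime (fun h => hx1 (orderOf_eq_one_iff.mp h))
  have hpd : p ∣ orderOf x := Nat.minFac_dvd _
  have := Fact.mk hpp
  have hpτ := hτ p hpp hpd
  obtain ⟨E, hE, hxE⟩ := exists_complement_ge hG hM (zpowers_le.mpr hxM) fun s hs hd => by
    rw [Nat.card_zpowers] at hd
    exact (hτ s hs hd).2.1
  obtain ⟨A, hA, hAE⟩ := exists_pair_complement hG hM hE hpτ
  have hAM : A ≤ M := hAE.trans hE.1
  have hpσ := hpτ.2.1
  obtain ⟨hEA, hΩ, -⟩ := le_normalizer_pair hG hM hA hpσ hE hAE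
  have hC := sigma_inf_centralizer hG hM hA hAM hpσ
  have hU := not_inUniqueMaximal hG hM hA hAM hpσ
  -- `x` centralises `A`
  have hxA : zpowers x ≤ centralizer (A : Set G) := by
    rw [← subgroupOf_eq_top]
    refine CfsgLib.Core.eq_top_of_forall_exists_sylow_le _ fun s hs hsd => ?_
    have := Fact.mk hs
    obtain ⟨T⟩ : Nonempty (Sylow s (zpowers x)) := inferInstance
    refine ⟨T, fun t ht => ?_⟩
    show (t : G) ∈ centralizer (A : Set G)
    have hTp : IsPGroup s ((T : Subgroup (zpowers x)).map (zpowers x).subtype) := T.2.map _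
    set T' := (T : Subgroup (zpowers x)).map (zpowers x).subtype with hT'
    have hT'E : T' ≤ E := (map_subtype_le _).trans hxE
    suffices h : T' ≤ centralizer (A : Set G) from h ⟨t, ht, rfl⟩
    rw [Nat.card_zpowers] at hsd
    by_cases hsp : s = p
    · subst hsp
      have hsup : IsPGroup p ↥(A ⊔ T') := by
        obtain ⟨a, ha⟩ := IsPGroup.iff_card.mp hA.isPGroup
        obtain ⟨b, hb⟩ := IsPGroup.iff_card.mp hTp
        have hd := Core.card_sup_dvd T' A (hT'E.trans hEA)
        rw [hb, ha, ← pow_add, sup_comm] at hd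
        obtain ⟨j, -, hj⟩ := (Nat.dvd_prime_pow hpp).mp hd
        exact IsPGroup.of_card hj
      obtain ⟨P, hP⟩ := (hsup.comap_subtype (K := M)).exists_le_sylow
      have hle : A ⊔ T' ≤ (P : Subgroup M).map M.subtype := fun z hz =>
        mem_map.mpr ⟨⟨z, (sup_le hAM (hT'E.trans hE.1)) hz⟩, hP (mem_comap.mpr hz), rfl⟩
      have hc := sylow_commutative hG hM hpσ P
      intro z hz
      exact mem_centralizer_iff.mpr fun a ha => congrArg Subtype.val (hc.is_comm.comm
        (⟨a, hle (mem_sup_left ha)⟩ : (P : Subgroup M).map M.subtype) ⟨z, hle (mem_sup_right hz)⟩)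
    · have hps : p < s := lt_of_le_of_ne (Nat.minFac_le_of_dvd hs.two_le hsd) (Ne.symm hsp)
      have hsτ := hτ s hs hsd
      obtain ⟨R, -, hAR⟩ := exists_invariant_sylow_gt hG hM hA hU hAM hps (X := ⊥) IsPGroup.of_bot bot_le
        (fun z _ => mem_normalizer_iff.mpr fun w => by simp)
      set R' := (R : Subgroup M).map M.subtype with hR'
      have hRC : R' ≤ centralizer (A : Set G) :=
        le_centralizer_iff.mp (centralizes_sylow hG hM hA hAM hpσ hsτ.2.1 hsp R hAR)
      have hRE : R' ≤ E := (le_inf (map_subtype_le _) hRC).trans (centralizer_le_complement hC hE hAE)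
      have hi : ¬ s ∣ (R'.subgroupOf E).index := by
        intro hd
        refine R.not_dvd_index ?_
        have h1 : R'.relIndex M = (R : Subgroup M).index := by
          rw [relIndex, subgroupOf, hR', comap_map_eq_self_of_injective M.subtype_injective]
        rw [← h1, ← relIndex_mul_relIndex R' E M hRE hE.1]
        exact Dvd.dvd.mul_right hd _
      obtain ⟨S, hS⟩ := (hTp.comap_subtype (K := E)).exists_le_sylow
      obtain ⟨e, he⟩ := MulAction.exists_smul_eq E ((((R.2.map M.subtype).comap_subtype (K := E))).toSylow hi) S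
      intro z hz
      have h1 : (⟨z, hT'E hz⟩ : E) ∈ (S : Subgroup E) := hS (mem_comap.mpr hz)
      rw [← he, Transfer.mem_sylow_smul] at h1
      have h2 : (e : G)⁻¹ * z * e ∈ centralizer (A : Set G) := hRC h1
      refine mem_centralizer_iff.mpr fun a ha => ?_
      have h3 := mem_centralizer_iff.mp h2 _ ((mem_normalizer_iff''.mp (hEA e.2) a).mp ha)
      calc a * z = (e : G) * (((e : G)⁻¹ * a * e) * ((e : G)⁻¹ * z * e)) * (e : G)⁻¹ := by group
        _ = (e : G) * (((e : G)⁻¹ * z * e) * ((e : G)⁻¹ * a * e)) * (e : G)⁻¹ := by rw [h3]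
        _ = z * a := by group
  have hAC : A ≤ centralizer ({x} : Set G) := fun a ha => mem_centralizer_singleton_iff.mpr
    (mem_centralizer_iff.mp (hxA (mem_zpowers x)) a ha)
  have hyC : y ∈ centralizer ({x} : Set G) := mem_centralizer_singleton_iff.mpr hxy.symm
  have key : ∀ L : Subgroup G, IsCoatom L → centralizer ({x} : Set G) ≤ L → L = M := by
    intro L hL hle
    by_contra hne
    have h1 : y ∈ Cfsg.sigmaCore M ⊓ L := ⟨hy, hle hyC⟩
    rw [sigmaCore_inf_eq_bot hG hM hA hAM hpσ hL hne (hAC.trans hle), mem_bot] at h1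
    exact hy1 h1
  obtain ⟨L, hL, hle⟩ := (eq_top_or_exists_le_coatom _).resolve_left
    (TransitivityHyp.centralizer_singleton_ne_top hG hx1)
  exact ⟨key L hL hle ▸ hle, key⟩

end CfsgLib.TwoGroups.TauTwo
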