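import Cfsg.Agent.Lib.TwoGroups.NormalRankTwoCoord
import Cfsg.Prelude.Def_CaseTheorems

/-!
MacWilliams: a 2-group without normal elementary abelian subgroups of order 8 has sectional rank at
most four.
-/

set_option autoImplicit false
set_option linter.style.haveILetI false
set_option linter.unusedSectionVars false

namespace CfsgLib.TwoGroups.NormalRankTwo

open QuadF2

variable {P : Type*} [Group P] [Finite P] {W : Subgroup P}

theorem relIndex_pow_two (hP : IsPGroup 2 P) (A B : Subgroup P) : ∃ k, A.relIndex B = 2 ^ k := by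
  haveI : Fact (Nat.Prime 2) := ⟨Nat.prime_two⟩
  exact (hP.to_subgroup B).index (A.subgroupOf B)

theorem relIndex_pos (A B : Subgroup P) : 0 < A.relIndex B :=
  Nat.pos_of_ne_zero Subgroup.index_ne_zero_of_finite

theorem count (hP : IsPGroup 2 P) (hW : Max W) (H : Subgroup P) :
    ∃ s t q : ℕ, 1 ≤ t ∧ s ≤ Nat.card (omega hW.comm) ∧
      (sq H).relIndex H * t = s * q ∧
      s = (H ⊓ Subgroup.centralizer (W : Set P) ⊓ sq H).relIndex (H ⊓ Subgroup.centralizer (W : Set P)) ∧
      q = (H ⊓ Subgroup.centralizer (W : Set P)).relIndex H ∧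
      (t = 1 → sq H ≤ H ⊓ Subgroup.centralizer (W : Set P)) := by
  set M := H ⊓ Subgroup.centralizer (W : Set P)
  set D := M ⊓ sq H
  refine ⟨_, D.relIndex (sq H), _, ?_, ?_, ?_, rfl, rfl, ?_⟩
  · exact relIndex_pos _ _
  · refine le_trans (Nat.le_of_dvd ?_ (Subgroup.relIndex_dvd_of_le_left _ (le_inf (sq_le M) (sq_mono inf_le_left))))
      (relIndex_sq_le hP hW inf_le_right)
    exact relIndex_pos _ _
  · rw [mul_comm, Subgroup.relIndex_mul_relIndex D (sq H) H inf_le_right (sq_le H),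
      Subgroup.relIndex_mul_relIndex D M H inf_le_left inf_le_left]
  · intro h
    exact (Subgroup.relIndex_eq_one.1 h).trans inf_le_left

namespace Coord

variable {hW : Max W}

theorem relIndex_sq_le_sixteen (K : Coord hW) (H : Subgroup P) : (sq H).relIndex H ≤ 16 := by
  classical
  obtain ⟨s, t, q, ht, hs, hR, hs_eq, hq_eq, ht1⟩ := count K.isP hW H
  rw [K.card_omega] at hs
  set C := Subgroup.centralizer (W : Set P)
  set M := H ⊓ C
  set H0 := H ⊓ K.P0
  have hMH0 : M ≤ H0 := inf_le_inf_left H K.centralizer_le_P0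
  choose act hact using fun g : H0 => K.acts_exists g.2.2
  let φ : H0 →* Multiplicative Quad :=
    MonoidHom.mk' (fun g => Multiplicative.ofAdd (act g)) fun a b => by
      rw [← ofAdd_add]
      exact congrArg Multiplicative.ofAdd (K.acts_unique (hact (a * b)) (K.acts_mul a.2.2 (hact a) (hact b)))
  have hker : φ.ker = M.subgroupOf H0 := by
    ext g
    rw [MonoidHom.mem_ker, Subgroup.mem_subgroupOf]
    constructor
    · intro h
      have h' : act g = 0 := Multiplicative.ofAdd.injective h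
      exact ⟨g.2.1, K.mem_centralizer_of_acts (h' ▸ hact g)⟩
    · intro h
      exact congrArg Multiplicative.ofAdd (K.acts_unique (hact g) (K.acts_zero h.2))
  set V := φ.range
  have hV : M.relIndex H0 = Nat.card V := by
    rw [Subgroup.relIndex, ← hker, Subgroup.index_ker]
  have hmem : ∀ N : Quad, Multiplicative.ofAdd N ∈ V → ∃ g ∈ H0, K.Acts g N := by
    rintro N ⟨g, hg⟩
    exact ⟨g, g.2, Multiplicative.ofAdd.injective hg ▸ hact g⟩
  have hcardQ : Nat.card (Multiplicative Quad) = 16 := by simp [Nat.card_eq_fintype_card]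
  have hV8 : Nat.card V ≤ 8 := by
    have hd := Subgroup.card_subgroup_dvd_card V
    rw [hcardQ] at hd
    by_contra hcon
    have h16 : Nat.card V = 16 := by
      have hle := Nat.le_of_dvd (by norm_num) hd
      interval_cases h : Nat.card V <;> omega
    have htop : V = ⊤ := Subgroup.eq_top_of_card_eq _ (by rw [h16, hcardQ])
    refine K.not_full fun N => ?_
    obtain ⟨g, hg, hgN⟩ := hmem N (htop ▸ Subgroup.mem_top _)
    exact ⟨g, hg.2, hgN⟩
  have hk : H0.relIndex H ≤ 2 ∧ (H0.relIndex H ≠ 1 → ∃ p ∈ H, p ∉ K.P0) := by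
    have e : H0.relIndex H = K.P0.relIndex H := by
      rw [show H0 = K.P0 ⊓ H from inf_comm _ _, Subgroup.inf_relIndex_right]
    rw [e]
    by_cases hHP : H ≤ K.P0
    · rw [Subgroup.relIndex_eq_one.2 hHP]
      exact ⟨by norm_num, fun h => absurd rfl h⟩
    obtain ⟨p, hpH, hp⟩ := SetLike.not_le_iff_exists.1 hHP
    refine ⟨le_of_eq ?_, fun _ => ⟨p, hpH, hp⟩⟩
    rw [Subgroup.relIndex, Subgroup.index_eq_two_iff]
    refine ⟨⟨p, hpH⟩, fun b => ?_⟩
    show Xor ((b : P) * p ∈ K.P0) ((b : P) ∈ K.P0)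
    by_cases hb : (b : P) ∈ K.P0
    · exact Or.inr ⟨hb, fun h => hp ((Subgroup.mul_mem_cancel_left _ hb).1 h)⟩
    · exact Or.inl ⟨K.mul_mem_P0 hb hp, hb⟩
  have hq : q = Nat.card V * H0.relIndex H := by
    rw [hq_eq, ← hV, Subgroup.relIndex_mul_relIndex M H0 H hMH0 inf_le_left]
  by_contra hcon
  have hR32 : 32 ≤ (sq H).relIndex H := by
    obtain ⟨j, hj⟩ := relIndex_pow_two K.isP (sq H) H
    rw [hj] at hcon ⊢
    have : 5 ≤ j := by
      by_contra h5
      have := Nat.pow_le_pow_right two_pos (show j ≤ 4 by omega)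
      omega
    calc 32 = 2 ^ 5 := by norm_num
      _ ≤ 2 ^ j := Nat.pow_le_pow_right two_pos this
  have hq16 : q ≤ 16 := by rw [hq]; nlinarith [hk.1]
  have hbound : 32 * t ≤ s * q := by rw [← hR]; exact Nat.mul_le_mul_right t hR32
  have hVs : ∃ j, Nat.card V = 2 ^ j := by rw [← hV]; exact relIndex_pow_two K.isP _ _
  have hsp : ∃ j, s = 2 ^ j := by rw [hs_eq]; exact relIndex_pow_two K.isP _ _
  -- all of `V` is fixed when squares of `H` centralize `W`
  have hfix : t = 1 → H0.relIndex H = 2 → ∀ N : Quad, Multiplicative.ofAdd N ∈ V → tq N = N := by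
    intro h1 h2 N hN
    obtain ⟨g, hg, hgN⟩ := hmem N hN
    obtain ⟨p, hpH, hp⟩ := hk.2 (by omega)
    have hc : p * g * p⁻¹ * g⁻¹ ∈ C := (ht1 h1 (commutator_mem_sq hpH hg.1)).2
    have h := K.acts_mul (K.centralizer_le_P0 hc) (K.acts_zero hc) hgN
    rw [zero_add, inv_mul_cancel_right] at h
    exact K.acts_unique ((K.acts_conj hgN).2 hp) h
  have hfixcard : (∀ N : Quad, Multiplicative.ofAdd N ∈ V → tq N = N) →
      Nat.card V ≤ 4 ∧ (Nat.card V = 4 → Multiplicative.ofAdd n0 ∈ V) := by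
    intro h
    let F : Finset (Multiplicative Quad) := Finset.image Multiplicative.ofAdd
      ({0, n0, (1, 0, 0, 1), (1, 1, 0, 1)} : Finset Quad)
    have hsub : ∀ x : V, (x : Multiplicative Quad) ∈ F := fun x => by
      refine Finset.mem_image.2 ⟨Multiplicative.toAdd (x : Multiplicative Quad), ?_, rfl⟩
      simp only [Finset.mem_insert, Finset.mem_singleton]
      exact (tq_fixed _).1 (h _ x.2)
    have hinj : Function.Injective (fun x : V => (⟨(x : Multiplicative Quad), hsub x⟩ : F)) :=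
      fun a b e => Subtype.ext (congrArg (fun w : F => (w : Multiplicative Quad)) e)
    have hF : Nat.card F = 4 := by rw [Nat.card_eq_finsetCard]; decide
    refine ⟨hF ▸ Nat.card_le_card_of_injective _ hinj, fun h4 => ?_⟩
    obtain ⟨x, hx⟩ := ((Nat.bijective_iff_injective_and_card _).2 ⟨hinj, by rw [h4, hF]⟩).2
      ⟨Multiplicative.ofAdd n0, Finset.mem_image.2 ⟨n0, by simp, rfl⟩⟩
    have hx' : (x : Multiplicative Quad) = Multiplicative.ofAdd n0 := congrArg Subtype.val hx
    exact hx' ▸ x.2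
  by_cases hs4 : s = 4
  swap
  · obtain ⟨j, hj⟩ := hsp
    have hj1 : j ≤ 1 := by
      by_contra hlt
      have := Nat.pow_le_pow_right two_pos (show 2 ≤ j by omega)
      omega
    have hs2 : s ≤ 2 := by rw [hj]; exact (Nat.pow_le_pow_right two_pos hj1).trans (by norm_num)
    have ht1' : t = 1 := by nlinarith
    have hq16' : q = 16 := by nlinarith
    have hk2 : H0.relIndex H = 2 := by nlinarith [hk.1]
    have := (hfixcard (hfix ht1' hk2)).1
    nlinarith
  have hsqM : H ⊓ C ⊓ sq H ≤ sq M ∧ (sq M).relIndex M = 4 := by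
    have hle : sq M ≤ M ⊓ sq H := le_inf (sq_le M) (sq_mono inf_le_left)
    have h1 := Subgroup.relIndex_mul_relIndex (sq M) (M ⊓ sq H) M hle inf_le_left
    rw [← hs_eq, hs4] at h1
    have h4 := relIndex_sq_le K.isP hW (M := M) inf_le_right
    rw [K.card_omega] at h4
    have hpos := relIndex_pos (sq M) (M ⊓ sq H)
    have hone : (sq M).relIndex (M ⊓ sq H) = 1 := by
      rw [← h1] at h4
      omega
    exact ⟨Subgroup.relIndex_eq_one.1 hone, by rw [← h1, hone, one_mul]⟩
  have hsquare : ∀ g ∈ H0, ∀ N, K.Acts g N → g ^ 2 ∈ sq M := fun g hg N hgN =>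
    hsqM.1 ⟨⟨H.pow_mem hg.1 2, K.sq_mem_centralizer hg.2 hgN⟩, sq_mem hg.1⟩
  have hinvol : ∀ N : Quad, YT N → Multiplicative.ofAdd N ∈ V → ∃ y ∈ H0, y ^ 2 = 1 ∧ K.Acts y N := by
    intro N hY hN
    obtain ⟨g, hg, hgN⟩ := hmem N hN
    have hact' : ∀ m ∈ M, K.Acts (g * m) N := fun m hm => by
      have := K.acts_mul hg.2 hgN (K.acts_zero hm.2)
      rwa [add_zero] at this
    obtain ⟨m, hm, hm2⟩ := K.exists_involution hgN hY (M := M) (S := sq M) inf_le_right
      (fun m hm => hsquare _ (H0.mul_mem hg (hMH0 hm)) N (hact' m hm)) (by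
        have h := Subgroup.relIndex_mul_relIndex ⊥ (sq M) M bot_le (sq_le M)
        rw [hsqM.2, Subgroup.relIndex_bot_left, Subgroup.relIndex_bot_left] at h
        omega)
    exact ⟨g * m, H0.mul_mem hg (hMH0 hm), hm2, hact' m hm⟩
  by_cases hV4 : Nat.card V ≤ 4
  · have hk2 : H0.relIndex H = 2 := by nlinarith [hk.1]
    have hVeq : Nat.card V = 4 := by nlinarith
    have ht1' : t = 1 := by nlinarith
    obtain ⟨y, hy, hy2, hyN⟩ := hinvol n0 yt_n0 ((hfixcard (hfix ht1' hk2)).2 hVeq)
    exact K.false_of_fixed hy.2 hy2 hyN (by decide) yt_n0 fun _ _ => tq_n0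
  have hV8' : Nat.card V = 8 := by
    obtain ⟨j, hj⟩ := hVs
    have : j = 3 := by
      rw [hj] at hV4 hV8
      have h1 : ¬ j ≤ 2 := fun h => hV4 ((Nat.pow_le_pow_right two_pos h).trans (by norm_num))
      have h2 : ¬ 4 ≤ j := fun h => by
        have := (Nat.pow_le_pow_right two_pos h).trans hV8
        omega
      omega
    rw [hj, this]; norm_num
  have hVi : V.index = 2 := by
    have h := V.card_mul_index
    rw [hV8', hcardQ] at h
    omega
  let χ : Quad → ZMod 2 := fun N => if Multiplicative.ofAdd N ∈ V then 0 else 1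
  have hχ : ∀ a b, χ (a + b) = χ a + χ b := fun a b => by
    simp only [χ, ofAdd_add, Subgroup.mul_mem_iff_of_index_two hVi]
    by_cases h1 : Multiplicative.ofAdd a ∈ V <;> by_cases h2 : Multiplicative.ofAdd b ∈ V <;>
      simp [h1, h2] <;> rfl
  set f : Quad := (χ (1, 0, 0, 0), χ (0, 1, 0, 0), χ (0, 0, 1, 0), χ (0, 0, 0, 1))
  have hVmem : ∀ N, dot f N = 0 → Multiplicative.ofAdd N ∈ V := fun N h => by
    rw [← eq_form χ hχ N] at h
    by_contra hn
    simp [χ, hn] at h
  obtain ⟨N, hN, hN0, hY, hcase⟩ := hyperplane f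
  obtain ⟨y, hy, hy2, hyN⟩ := hinvol N hY (hVmem N hN)
  by_cases hfx : ∀ p, p ∉ K.P0 → tq N = N
  · exact K.false_of_fixed hy.2 hy2 hyN hN0 hY hfx
  push Not at hfx
  obtain ⟨p, hp, hne⟩ := hfx
  obtain ⟨-, hv⟩ := hcase.resolve_left hne
  have hCW : C ≤ W := K.centralizer_le_of_moved hy.2 hy2 hyN hY hp hne
  obtain ⟨k, hkH, hkN⟩ := hmem _ (hVmem _ hv)
  have hk2 : k ^ 2 ∈ omega hW.comm := by
    refine (Subgroup.closure_le (omega hW.comm)).2 ?_ (hsquare k hkH _ hkN)
    rintro _ ⟨m, hm, rfl⟩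
    exact sq_mem_omega hW (hCW hm.2)
  have hY' : YT (tq N) := by
    revert hY; clear * - N; revert N; decide +kernel
  have hy' : p * y * p⁻¹ ∈ K.P0 := K.P0_normal.conj_mem y hy.2 p
  have hy'2 : (p * y * p⁻¹) ^ 2 = 1 := by rw [conj_pow, hy2, mul_one, mul_inv_cancel]
  have hy'N := (K.acts_conj hyN).2 hp
  refine K.false_of_n0 (K.P0.mul_mem hy' hkH.2) ?_
    (mul_sq_mem (hW := hW) (by rw [hy'2]; exact one_mem _) hk2
      (by simpa [mul_assoc] using K.commutator_mem hy' hy'2 hy'N hY' hkH.2))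
  have := K.acts_mul hy' hy'N hkN
  rwa [(show ∀ a b : Quad, a + (b + a) = b by decide +kernel) (tq N) n0] at this

end Coord

/-- The case `|W| ≤ 8`. -/
theorem relIndex_sq_le_sixteen_small (hP : IsPGroup 2 P) (hW : Max W) (hr : SmallNormal P)
    (h8 : Nat.card W ≤ 8) (H : Subgroup P) : (sq H).relIndex H ≤ 16 := by
  classical
  obtain ⟨s, t, q, ht, hs, hR, -, hq_eq, ht1⟩ := count hP hW H
  have hs4 : s ≤ 4 := hs.trans (card_omega_le hW hr)
  set C := Subgroup.centralizer (W : Set P)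
  set M := H ⊓ C
  have hcoset : ∀ {α : Type _} (F : H → α), (∀ a b : H, F a = F b → ((a : P)⁻¹ * b) ∈ C) → [Finite α] →
      q ≤ Nat.card α := by
    intro α F hF _
    rw [hq_eq, Subgroup.relIndex, Subgroup.index]
    refine Nat.card_le_card_of_injective (fun x : H ⧸ M.subgroupOf H => F x.out) fun x y e => ?_
    rw [← QuotientGroup.out_eq' x, ← QuotientGroup.out_eq' y, QuotientGroup.eq, Subgroup.mem_subgroupOf]
    exact ⟨(x.out⁻¹ * y.out).2, hF _ _ e⟩
  have hclassify : q ≤ 8 ∧ (q = 8 → ¬ sq H ≤ M) := by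
    by_cases hW4 : Nat.card W ≤ 4
    · have hq6 : q ≤ 6 := by
        haveI := hW.normal
        let X := {w : W // w ≠ 1}
        let F : H → Equiv.Perm X := fun h => (MulAut.conjNormal (h : P) : W ≃* W).toEquiv.subtypeEquiv
          fun w => by simp
        refine (hcoset F ?_).trans ?_
        · intro a b e
          refine Subgroup.mem_centralizer_iff.2 fun w hw => ?_
          rcases eq_or_ne w 1 with rfl | hw1
          · simp
          have h := congrArg (fun σ : Equiv.Perm X => ((σ ⟨⟨w, hw⟩, fun h => hw1 (congrArg Subtype.val h)⟩ : X) : W)) e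
          have h' : (a : P) * w * (a : P)⁻¹ = (b : P) * w * (b : P)⁻¹ :=
            (MulAut.conjNormal_apply (a : P) ⟨w, hw⟩).symm.trans
              ((congrArg Subtype.val h).trans (MulAut.conjNormal_apply (b : P) ⟨w, hw⟩))
          calc w * ((a : P)⁻¹ * b) = (a : P)⁻¹ * (((a : P) * w * (a : P)⁻¹) * b) := by group
            _ = (a : P)⁻¹ * b * w := by rw [h']; group
        · rw [Nat.card_perm]
          haveI : Fintype W := Fintype.ofFinite _
          have hX : Nat.card X ≤ 3 := by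
            rw [Nat.card_eq_fintype_card, Fintype.card_subtype_compl, Fintype.card_subtype_eq,
              ← Nat.card_eq_fintype_card]
            omega
          exact (Nat.factorial_le hX).trans (by decide)
      exact ⟨by omega, fun h => by omega⟩
    -- `W` has order 8
    have hWp : Nat.card W = 8 := by
      obtain ⟨j, hj⟩ := IsPGroup.iff_card.1 (hP.to_subgroup W)
      rw [hj] at hW4 h8 ⊢
      have h1 : ¬ j ≤ 2 := fun h => hW4 ((Nat.pow_le_pow_right two_pos h).trans (by norm_num))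
      have h2 : ¬ 4 ≤ j := fun h => by
        have := (Nat.pow_le_pow_right two_pos h).trans h8
        omega
      rw [show j = 3 by omega]; norm_num
    set E := omega hW.comm
    have hE4 : Nat.card E ≤ 4 := card_omega_le hW hr
    obtain ⟨a, haW, ha2⟩ : ∃ a ∈ W, a ^ 2 ≠ 1 := by
      by_contra hcon
      push Not at hcon
      have := Subgroup.card_le_of_le (show W ≤ E from fun w hw => ⟨hw, hcon w hw⟩)
      omega
    have ha4 : a ^ 4 = 1 := hW.exp4 a haW
    have hao : orderOf a = 4 := orderOf_eq_prime_pow (p := 2) (n := 1) (by simpa using ha2) ha4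
    have hA4 : Nat.card (Subgroup.zpowers a) = 4 := by rw [Nat.card_zpowers, hao]
    obtain ⟨b, hbE, hbA⟩ : ∃ b ∈ E, b ∉ Subgroup.zpowers a := by
      by_contra hcon
      push Not at hcon
      set S : Set P := {x | ∃ w ∈ W, w ^ 2 = x}
      have hle := card_le_omega_mul hP hW (g := 1) (noInv_of_mem_centralizer (one_mem _))
        (le_centralizer hW) S fun m hm => ⟨m, hm, by rw [one_mul]⟩
      have hEA : ∀ x ∈ E, x = 1 ∨ x = a ^ 2 := by
        intro x hx
        obtain ⟨i, rfl⟩ := (Subgroup.mem_zpowers_iff.1 (hcon x hx))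
        have h2' : (a ^ i) ^ 2 = 1 := hx.2
        rw [← zpow_natCast, ← zpow_mul, ← orderOf_dvd_iff_zpow_eq_one, hao] at h2'
        obtain ⟨j, rfl⟩ : (2 : ℤ) ∣ i := by omega
        rcases Int.even_or_odd j with ⟨l, rfl⟩ | ⟨l, rfl⟩
        · left
          rw [← orderOf_dvd_iff_zpow_eq_one, hao]
          exact ⟨l, by push_cast; ring⟩
        · right
          rw [show 2 * (2 * l + 1) = 4 * l + 2 by ring, zpow_add, zpow_mul,
            show a ^ (4 : ℤ) = 1 by exact_mod_cast ha4, one_zpow, one_mul]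
          norm_cast
      have hE2 : Nat.card E ≤ 2 := by
        refine (Nat.card_le_card_of_injective (fun x : E => (⟨(x : P), by
          rcases hEA x x.2 with h | h <;> simp [h]⟩ : ({1, a ^ 2} : Finset P))) fun x y e =>
          Subtype.ext (congrArg (fun w : ({1, a ^ 2} : Finset P) => (w : P)) e)).trans ?_
        rw [Nat.card_eq_finsetCard]; exact Finset.card_le_two
      have hS2 : Nat.card S ≤ Nat.card E := Nat.card_mono (Set.toFinite _)
        fun x ⟨w, hw, e⟩ => e ▸ sq_mem_omega hW hw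
      nlinarith
    have hab : ∀ w ∈ W, ∃ i j : ℤ, a ^ i * b ^ j = w := by
      set A := Subgroup.zpowers a ⊔ Subgroup.zpowers b
      have hAW : A ≤ W := sup_le (Subgroup.zpowers_le.2 haW) (Subgroup.zpowers_le.2 hbE.1)
      have hlt : Nat.card (Subgroup.zpowers a) < Nat.card A :=
        lt_of_le_of_ne (Subgroup.card_le_of_le le_sup_left) fun e => hbA
          ((Subgroup.eq_of_le_of_card_ge le_sup_left e.ge).symm ▸
            Subgroup.mem_sup_right (Subgroup.mem_zpowers b) : b ∈ Subgroup.zpowers a)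
      obtain ⟨j, hj⟩ := IsPGroup.iff_card.1 (hP.to_subgroup A)
      have h8' : 8 ≤ Nat.card A := by
        rw [hA4, hj] at hlt
        rw [hj]
        have : 3 ≤ j := by
          by_contra h3
          have := Nat.pow_le_pow_right two_pos (show j ≤ 2 by omega)
          omega
        exact le_trans (by norm_num) (Nat.pow_le_pow_right two_pos this)
      intro w hw
      have hwA : w ∈ A := (Subgroup.eq_of_le_of_card_ge hAW (by omega)).symm ▸ hw
      have hsc : A ≤ (Subgroup.zpowers a ⊔ Subgroup.zpowers b) := le_rfl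
      obtain ⟨x, hx, y, hy, rfl⟩ : ∃ x ∈ Subgroup.zpowers a, ∃ y ∈ Subgroup.zpowers b, x * y = w := by
        have hn : Subgroup.zpowers b ≤ Subgroup.normalizer (Subgroup.zpowers a : Set P) := by
          refine Subgroup.zpowers_le.2 (Subgroup.centralizer_le_normalizer _
            (Subgroup.mem_centralizer_iff.2 fun x hx => ?_))
          exact hW.comm x (Subgroup.zpowers_le.2 haW hx) b hbE.1
        have h' : w ∈ ((Subgroup.zpowers a ⊔ Subgroup.zpowers b : Subgroup P) : Set P) := hsc hwA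
        rw [Subgroup.coe_mul_of_right_le_normalizer_left _ _ hn] at h'
        exact h'
      obtain ⟨i, rfl⟩ := Subgroup.mem_zpowers_iff.1 hx
      obtain ⟨j, rfl⟩ := Subgroup.mem_zpowers_iff.1 hy
      exact ⟨i, j, rfl⟩
    have hsqW : ∀ w ∈ W, w ^ 2 = 1 ∨ w ^ 2 = a ^ 2 := by
      intro w hw
      obtain ⟨i, j, rfl⟩ := hab w hw
      rw [((show Commute a b from hW.comm a haW b hbE.1).zpow_zpow i j).mul_pow,
        show (b ^ j) ^ 2 = 1 by rw [← zpow_natCast, ← zpow_mul, mul_comm, zpow_mul, zpow_natCast, hbE.2, one_zpow],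
        mul_one]
      rcases Int.even_or_odd i with ⟨l, rfl⟩ | ⟨l, rfl⟩
      · left
        rw [← zpow_natCast, ← zpow_mul, show (l + l) * ((2 : ℕ) : ℤ) = 4 * l by push_cast; ring, zpow_mul,
          show a ^ (4 : ℤ) = 1 by exact_mod_cast ha4, one_zpow]
      · right
        rw [← zpow_natCast, ← zpow_mul, show (2 * l + 1) * ((2 : ℕ) : ℤ) = 4 * l + 2 by push_cast; ring,
          zpow_add, zpow_mul, show a ^ (4 : ℤ) = 1 by exact_mod_cast ha4, one_zpow, one_mul]
        norm_cast
    let A' := {w : W // (w : P) ^ 2 ≠ 1}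
    let B' := {w : E // (w : P) ≠ 1 ∧ (w : P) ≠ a ^ 2}
    have hconjW : ∀ (h : H) (w : P), w ∈ W → (h : P) * w * (h : P)⁻¹ ∈ W := fun h w hw =>
      hW.normal.conj_mem w hw h
    have hfixa : ∀ h : H, (h : P) * a ^ 2 * (h : P)⁻¹ = a ^ 2 := by
      intro h
      rw [← conj_pow]
      refine (hsqW _ (hconjW h a haW)).resolve_left fun e => ha2 ?_
      rw [conj_pow] at e
      exact conj_eq_one_iff.1 e
    let F : H → A' × B' := fun h =>
      (⟨⟨(h : P) * a * (h : P)⁻¹, hconjW h a haW⟩, by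
        rw [conj_pow, hfixa h]; exact ha2⟩,
      ⟨⟨(h : P) * b * (h : P)⁻¹, (omega_normal hW).conj_mem b hbE h⟩, fun e => hbA (by
        rw [conj_eq_one_iff.1 e]; exact one_mem _), fun e => hbA (by
        rw [(MulAut.conj (h : P)).injective (e.trans (hfixa h).symm)]
        exact Subgroup.pow_mem _ (Subgroup.mem_zpowers a) 2)⟩)
    have hFinj : ∀ x y : H, F x = F y → (x : P)⁻¹ * y ∈ C := by
      intro x y e
      have h1 : (x : P) * a * (x : P)⁻¹ = y * a * (y : P)⁻¹ := congrArg (fun z : A' × B' => ((z.1 : W) : P)) e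
      have h2 : (x : P) * b * (x : P)⁻¹ = y * b * (y : P)⁻¹ := congrArg (fun z : A' × B' => ((z.2 : E) : P)) e
      refine Subgroup.mem_centralizer_iff.2 fun w hw => ?_
      obtain ⟨i, j, rfl⟩ := hab w hw
      have h3 : (x : P) * (a ^ i * b ^ j) * (x : P)⁻¹ = y * (a ^ i * b ^ j) * (y : P)⁻¹ := by
        rw [← conj_mul, ← conj_zpow, ← conj_zpow, h1, h2, conj_zpow, conj_zpow, conj_mul]
      calc a ^ i * b ^ j * ((x : P)⁻¹ * y)
          = (x : P)⁻¹ * (((x : P) * (a ^ i * b ^ j) * (x : P)⁻¹) * y) := by group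
        _ = (x : P)⁻¹ * y * (a ^ i * b ^ j) := by rw [h3]; group
    haveI : Fintype W := Fintype.ofFinite _
    haveI : Fintype E := Fintype.ofFinite _
    have hb1 : b ≠ 1 := fun h => hbA (h ▸ one_mem _)
    have hba : b ≠ a ^ 2 := fun h => hbA (h ▸ Subgroup.pow_mem _ (Subgroup.mem_zpowers a) 2)
    have ha2E : a ^ 2 ∈ E := sq_mem_omega hW haW
    have hEeq : Nat.card E = 4 := by
      let u1 : E := ⟨a ^ 2, ha2E⟩
      let u2 : E := ⟨b, hbE⟩
      have h3 : ({1, u1, u2} : Finset E).card = 3 := by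
        simp [u1, u2, Subtype.ext_iff, Ne.symm hb1, Ne.symm hba, Ne.symm ha2]
      have h3' := h3 ▸ Finset.card_le_univ ({1, u1, u2} : Finset E)
      rw [← Nat.card_eq_fintype_card] at h3'
      obtain ⟨j, hj⟩ := IsPGroup.iff_card.1 (hP.to_subgroup E)
      rw [hj] at h3' hE4 ⊢
      have : 2 ≤ j := by
        by_contra h2
        have := Nat.pow_le_pow_right two_pos (show j ≤ 1 by omega)
        omega
      have := Nat.pow_le_pow_right two_pos this
      omega
    have hA'card : Nat.card A' = 4 := by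
      have e : {w : W // (w : P) ^ 2 = 1} ≃ E :=
        ⟨fun w => ⟨(w.1 : P), w.1.2, w.2⟩, fun x => ⟨⟨(x : P), x.2.1⟩, x.2.2⟩, fun _ => rfl, fun _ => rfl⟩
      have h1 := Nat.card_congr e
      rw [Nat.card_eq_fintype_card, hEeq] at h1
      rw [Nat.card_eq_fintype_card, Fintype.card_subtype_compl, h1, ← Nat.card_eq_fintype_card, hWp]
    have hB'card : Nat.card B' ≤ 2 := by
      have hle : (Finset.univ.filter fun w : E => (w : P) ≠ 1 ∧ (w : P) ≠ a ^ 2) ⊆
          Finset.univ \ {1, ⟨a ^ 2, ha2E⟩} := by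
        intro w hw
        simp only [Finset.mem_filter] at hw
        simp [Subtype.ext_iff, hw.2.1, hw.2.2]
      rw [Nat.card_eq_fintype_card, Fintype.card_subtype]
      refine (Finset.card_le_card hle).trans ?_
      rw [Finset.card_univ_sdiff, Finset.card_pair (fun h => ha2 (congrArg Subtype.val h).symm),
        ← Nat.card_eq_fintype_card, hEeq]
    have hprod : Nat.card (A' × B') ≤ 8 := by rw [Nat.card_prod, hA'card]; omega
    refine ⟨(hcoset F hFinj).trans hprod, fun hq8 hsq => ?_⟩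
    let G : H ⧸ M.subgroupOf H → A' × B' := fun x => F x.out
    have hGinj : Function.Injective G := fun x y e => by
      rw [← QuotientGroup.out_eq' x, ← QuotientGroup.out_eq' y, QuotientGroup.eq, Subgroup.mem_subgroupOf]
      exact ⟨(x.out⁻¹ * y.out).2, hFinj _ _ e⟩
    have hGsurj := ((Nat.bijective_iff_injective_and_card G).2 ⟨hGinj, by
      have hle := Nat.card_le_card_of_injective G hGinj
      have : Nat.card (H ⧸ M.subgroupOf H) = 8 := by
        rw [← Subgroup.index, ← Subgroup.relIndex, ← hq_eq, hq8]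
      omega⟩).2
    have hcab : Commute a b := hW.comm a haW b hbE.1
    have hca2b : Commute (a ^ 2) b := hcab.pow_left 2
    obtain ⟨x, hx⟩ := hGsurj (⟨⟨a * b, W.mul_mem haW hbE.1⟩, by rw [hcab.mul_pow, hbE.2, mul_one]; exact ha2⟩,
      ⟨⟨b, hbE⟩, hb1, hba⟩)
    obtain ⟨y, hy⟩ := hGsurj (⟨⟨a, haW⟩, ha2⟩, ⟨⟨a ^ 2 * b, E.mul_mem ha2E hbE⟩,
      fun h => hba (by
        have h' : b = (a ^ 2)⁻¹ := eq_inv_of_mul_eq_one_right h
        rw [h', inv_eq_of_mul_eq_one_right (by rw [← pow_two, ha2E.2])]),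
      fun h => hb1 (mul_eq_left.1 h)⟩)
    set g := (x.out : P)
    set k := (y.out : P)
    have hg1 : g * a * g⁻¹ = a * b := congrArg (fun z : A' × B' => ((z.1 : W) : P)) hx
    have hg2 : g * b * g⁻¹ = b := congrArg (fun z : A' × B' => ((z.2 : E) : P)) hx
    have hk1 : k * a * k⁻¹ = a := congrArg (fun z : A' × B' => ((z.1 : W) : P)) hy
    have hk2 : k * b * k⁻¹ = a ^ 2 * b := congrArg (fun z : A' × B' => ((z.2 : E) : P)) hy
    have hc := Subgroup.mem_centralizer_iff.1 (hsq (commutator_mem_sq x.out.2 y.out.2)).2 (k * (g * a * g⁻¹) * k⁻¹)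
      (hconjW y.out _ (hconjW x.out a haW))
    have e1 : g * (k * a * k⁻¹) * g⁻¹ = a * b := by rw [hk1, hg1]
    have e2 : k * (g * a * g⁻¹) * k⁻¹ = a * (a ^ 2 * b) := by
      rw [hg1]
      calc k * (a * b) * k⁻¹ = (k * a * k⁻¹) * (k * b * k⁻¹) := by group
        _ = _ := by rw [hk1, hk2]
    have e3 : g * (k * a * k⁻¹) * g⁻¹ = k * (g * a * g⁻¹) * k⁻¹ := by
      calc g * (k * a * k⁻¹) * g⁻¹
          = (g * k * g⁻¹ * k⁻¹) * (k * (g * a * g⁻¹) * k⁻¹) * (g * k * g⁻¹ * k⁻¹)⁻¹ := by group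
        _ = k * (g * a * g⁻¹) * k⁻¹ := by rw [← hc, mul_inv_cancel_right]
    rw [e1, e2] at e3
    exact ha2 (mul_eq_right.1 (mul_left_cancel e3).symm)
  by_contra hcon
  have hR32 : 32 ≤ (sq H).relIndex H := by
    obtain ⟨j, hj⟩ := relIndex_pow_two hP (sq H) H
    rw [hj] at hcon ⊢
    have : 5 ≤ j := by
      by_contra h5
      have := Nat.pow_le_pow_right two_pos (show j ≤ 4 by omega)
      omega
    calc 32 = 2 ^ 5 := by norm_num
      _ ≤ 2 ^ j := Nat.pow_le_pow_right two_pos this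
  have hbound : 32 * t ≤ s * q := by rw [← hR]; exact Nat.mul_le_mul_right t hR32
  have hq8 : q = 8 := by nlinarith [hclassify.1]
  exact hclassify.2 hq8 (ht1 (by nlinarith))

theorem relIndex_sq_le_sixteen (hP : IsPGroup 2 P) (hr : SmallNormal P) (H : Subgroup P) :
    (sq H).relIndex H ≤ 16 := by
  obtain ⟨W, hW⟩ := exists_max (P := P)
  by_cases h8 : Nat.card W ≤ 8
  · exact relIndex_sq_le_sixteen_small hP hW hr h8 H
  obtain ⟨j, hj⟩ := IsPGroup.iff_card.1 (hP.to_subgroup W)
  have h16 : 16 ≤ Nat.card W := by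
    rw [hj] at h8 ⊢
    have : 4 ≤ j := by
      by_contra h3
      exact h8 ((Nat.pow_le_pow_right two_pos (show j ≤ 3 by omega)).trans (by norm_num))
    exact le_trans (by norm_num) (Nat.pow_le_pow_right two_pos this)
  exact (Classical.choice (exists_coord hP hW hr h16)).relIndex_sq_le_sixteen H

/-- MacWilliams' theorem. -/
theorem sectional_rank_le_four (hP : IsPGroup 2 P) (hr : SmallNormal P) : Cfsg.SectionalPRankLE 2 4 P := by
  intro H N _ A _ hA2
  set K₀ := A.comap (QuotientGroup.mk' N)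
  set K := K₀.map H.subtype
  set L := N.map H.subtype
  have hle : sq K ≤ L := by
    refine (Subgroup.closure_le L).2 ?_
    rintro _ ⟨_, ⟨k, hk, rfl⟩, rfl⟩
    refine ⟨k ^ 2, ?_, map_pow _ k 2⟩
    exact (QuotientGroup.eq_one_iff _).1 (by rw [QuotientGroup.mk_pow]; exact hA2 _ hk)
  have hcard : L.relIndex K = Nat.card A := by
    have e : N = (⊥ : Subgroup (H ⧸ N)).comap (QuotientGroup.mk' N) := by
      rw [MonoidHom.comap_bot, QuotientGroup.ker_mk']
    refine (Subgroup.relIndex_map_map_of_injective _ _ (Subgroup.subtype_injective H)).trans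
      ((congrArg (fun M : Subgroup H => M.relIndex K₀) e).trans ?_)
    rw [Subgroup.relIndex_comap,
      Subgroup.map_comap_eq_self_of_surjective (QuotientGroup.mk'_surjective N),
      Subgroup.relIndex_bot_left]
  rw [← hcard]
  exact (Nat.le_of_dvd (relIndex_pos _ _)
    (Subgroup.relIndex_dvd_of_le_left _ hle)).trans (relIndex_sq_le_sixteen hP hr K)

end CfsgLib.TwoGroups.NormalRankTwo
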