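import Mathlib
import Cfsg.Agent.S1226
import Cfsg.Agent.Lib.TwoGroups.StrongEmbedding
import Cfsg.Agent.Lib.TwoGroups.LocalSylow
import Cfsg.Agent.Lib.TwoGroups.FourSubgroups

/-!
Groups in which the centralizer of every involution is an elementary abelian 2-group: the action on
the cosets of the normalizer of a Sylow 2-subgroup `T` is sharply triply transitive on `|T| + 1`
points.
-/

set_option autoImplicit false
set_option linter.style.haveILetI false

namespace CfsgLib.TwoGroups

open Subgroup MulAction CfsgLib.Signalizer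

variable {G : Type*} [Group G] [Finite G]

/-- The hypotheses: a Sylow 2-subgroup that is neither cyclic nor normal, and elementary abelian
centralizers of involutions. -/
structure ElemCent (T : Sylow 2 G) : Prop where
  nc : ¬ IsCyclic (T : Subgroup G)
  nn : ¬ (T : Subgroup G).Normal
  hC : ∀ t : G, orderOf t = 2 → IsMulCommutative (Subgroup.centralizer ({t} : Set G)) ∧
    ∀ c ∈ Subgroup.centralizer ({t} : Set G), c ^ 2 = 1

namespace ElemCent

local notation "N[" T "]" => Subgroup.normalizer (SetLike.coe (Sylow.toSubgroup T))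

variable {T : Sylow 2 G} (h : ElemCent T)

/-- The stabiliser of two points. -/
abbrev pairStab (x y : G ⧸ N[T]) : Subgroup G := stabilizer G x ⊓ stabilizer G y

omit [Finite G] in
theorem mem_pairStab {x y : G ⧸ N[T]} {d : G} :
    d ∈ pairStab x y ↔ d • x = x ∧ d • y = y := Iff.rfl

include h

theorem stronglyEmbedded : Cfsg.IsStronglyEmbedded N[T] :=
  Cfsg.Agent.S1226.result T h.nc h.nn h.hC

/-- An element of odd order commuting with an involution is trivial. -/
theorem eq_one_of_comm {a c : G} (ha : orderOf a = 2) (hca : c * a = a * c)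
    (hc : Odd (orderOf c)) : c = 1 := by
  have h2 := orderOf_dvd_of_pow_eq_one
    ((h.hC a ha).2 c (mem_centralizer_singleton_iff.2 hca))
  rcases (Nat.dvd_prime Nat.prime_two).1 h2 with h1 | h1
  · exact orderOf_eq_one_iff.1 h1
  · rw [h1] at hc; exact absurd hc (by decide)

theorem sq_eq_one {t : G} (ht : t ∈ (T : Subgroup G)) : t ^ 2 = 1 := by
  haveI : Fact (Nat.Prime 2) := ⟨Nat.prime_two⟩
  have hne : (T : Subgroup G) ≠ ⊥ := fun e => h.nc (e ▸ inferInstance)
  haveI : Nontrivial (T : Subgroup G) := (T : Subgroup G).nontrivial_iff_ne_bot.2 hne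
  haveI : Nontrivial (center (T : Subgroup G)) := T.2.center_nontrivial
  have hzne : (center (T : Subgroup G)).map (T : Subgroup G).subtype ≠ ⊥ := by
    rw [Ne, map_eq_bot_iff_of_injective _ (T : Subgroup G).subtype_injective]
    exact (nontrivial_iff_ne_bot _).1 inferInstance
  obtain ⟨z, ⟨z', hz'c, rfl⟩, hz2⟩ :=
    exists_involution_of_two_group ((T.2.to_subgroup _).map _) hzne
  exact (h.hC _ hz2).2 t (mem_centralizer_singleton_iff.2
    (congrArg Subtype.val (mem_center_iff.1 hz'c ⟨t, ht⟩)))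

theorem mem_sylow_of_involution {a : G} (ha : orderOf a = 2) (haH : a ∈ N[T]) :
    a ∈ (T : Subgroup G) :=
  haveI : Fact (Nat.Prime 2) := ⟨Nat.prime_two⟩
  mem_sylow_of_mem_normalizer T haH ⟨1, by rw [pow_one, ← ha, pow_orderOf_eq_one]⟩

/-- Two involutions fixing the same point commute. -/
theorem comm_of_fixes {a b : G} (ha : orderOf a = 2) (hb : orderOf b = 2) {x : G ⧸ N[T]}
    (hax : a • x = x) (hbx : b • x = x) : a * b = b * a := by
  obtain ⟨g, rfl⟩ := QuotientGroup.mk_surjective x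
  rw [SE.smul_mk_eq_iff] at hax hbx
  have key := CfsgLib.TwoGroups.mul_comm_of_mul_self (A := (T : Subgroup G))
    (fun t ht => by rw [← pow_two]; exact h.sq_eq_one ht)
    (h.mem_sylow_of_involution (by rw [SE.orderOf_conj', ha]) hax)
    (h.mem_sylow_of_involution (by rw [SE.orderOf_conj', hb]) hbx)
  calc a * b = g * (g⁻¹ * a * g * (g⁻¹ * b * g)) * g⁻¹ := by group
    _ = g * (g⁻¹ * b * g * (g⁻¹ * a * g)) * g⁻¹ := by rw [key]
    _ = b * a := by group

theorem four_le_card : 4 ≤ Nat.card (T : Subgroup G) := by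
  haveI : Fact (Nat.Prime 2) := ⟨Nat.prime_two⟩
  obtain ⟨k, hk⟩ := IsPGroup.iff_card.1 T.2
  rcases Nat.lt_or_ge k 2 with hk2 | hk2
  · exfalso
    interval_cases k
    · have hb : (T : Subgroup G) = ⊥ := card_eq_one.1 (by rw [hk, pow_zero])
      exact h.nc (hb ▸ inferInstance)
    · exact h.nc (isCyclic_of_prime_card (by simpa using hk))
  · calc 4 = 2 ^ 2 := rfl
      _ ≤ 2 ^ k := Nat.pow_le_pow_right (by omega) hk2
      _ = _ := hk.symm

theorem card_involutions_in :
    Nat.card {t : G // orderOf t = 2 ∧ t ∈ N[T]} = Nat.card (T : Subgroup G) - 1 := by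
  have e : {t : G // orderOf t = 2 ∧ t ∈ N[T]} ≃ ↥(({1} : Set (T : Subgroup G))ᶜ) :=
    { toFun := fun t => ⟨⟨t.1, h.mem_sylow_of_involution t.2.1 t.2.2⟩, fun e =>
        CfsgLib.Signalizer.involution_ne_one t.2.1 (congrArg Subtype.val e)⟩
      invFun := fun t => ⟨t.1.1, orderOf_eq_two_of (fun e => t.2 (Subtype.ext e))
        (by rw [← pow_two]; exact h.sq_eq_one t.1.2), le_normalizer t.1.2⟩
      left_inv := fun _ => rfl
      right_inv := fun _ => rfl }
  rw [Nat.card_congr e, Nat.card_coe_set_eq, Set.ncard_compl, Set.ncard_singleton]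

theorem card_fixing (x : G ⧸ N[T]) :
    Nat.card {a : G // orderOf a = 2 ∧ a • x = x} = Nat.card (T : Subgroup G) - 1 := by
  rw [SE.card_fixing, h.card_involutions_in]

theorem odd_orderOf {x y : G ⧸ N[T]} (hxy : x ≠ y) {d : G} (hd : d ∈ pairStab x y) :
    Odd (orderOf d) :=
  SE.odd_orderOf_of_fixes h.stronglyEmbedded hxy hd.1 hd.2

theorem card_pairStab {x y : G ⧸ N[T]} (hxy : x ≠ y) :
    Nat.card (pairStab x y) = Nat.card (T : Subgroup G) - 1 := by
  obtain ⟨a, ha, hax⟩ := SE.exists_fixing h.stronglyEmbedded x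
  rw [← h.card_fixing x]
  refine Nat.card_eq_of_bijective
    (fun d => (⟨d.1 * a * d.1⁻¹, (CfsgLib.Signalizer.orderOf_conj _ _).trans ha, by
      rw [mul_smul, mul_smul, inv_smul_eq_iff.2 d.2.1.symm, hax, d.2.1]⟩ :
        {a : G // orderOf a = 2 ∧ a • x = x})) ⟨?_, ?_⟩
  · rintro ⟨d, hd⟩ ⟨d', hd'⟩ he
    have he' : d * a * d⁻¹ = d' * a * d'⁻¹ := congrArg Subtype.val he
    refine Subtype.ext (inv_mul_eq_one.1 (h.eq_one_of_comm ha ?_
      (h.odd_orderOf hxy (mul_mem (inv_mem hd') hd)))).symm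
    calc d'⁻¹ * d * a = d'⁻¹ * (d * a * d⁻¹) * d := by group
      _ = a * (d'⁻¹ * d) := by rw [he']; group
  · rintro ⟨b, hb, hbx⟩
    obtain ⟨d, hd1, hd2, hd⟩ := SE.exists_conj_fixing h.stronglyEmbedded hxy ha hax hb hbx
    exact ⟨⟨d, hd1, hd2⟩, Subtype.ext hd⟩

/-- An involution swapping two points inverts their stabiliser. -/
theorem conj_eq_inv {x y : G ⧸ N[T]} (hxy : x ≠ y) {w : G} (hw : orderOf w = 2) (hwx : w • x = y)
    {d : G} (hd : d ∈ pairStab x y) : w * d * w⁻¹ = d⁻¹ := by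
  have hwy : w • y = x := by rw [← hwx, ← mul_smul, involution_sq hw, one_smul]
  have key : ∀ i : G, orderOf i = 2 → ∀ z, i • x = z → i • z = x := fun i hi z hz => by
    rw [← hz, ← mul_smul, involution_sq hi, one_smul]
  let f : {i : G // orderOf i = 2 ∧ i • x = y} → pairStab x y := fun v => ⟨w * v.1, by
    rw [mem_pairStab]
    constructor
    · rw [mul_smul, v.2.2, hwy]
    · rw [mul_smul, key v.1 v.2.1 y v.2.2, hwx]⟩
  have hf : Function.Injective f := fun v v' e =>
    Subtype.ext (mul_left_cancel (congrArg Subtype.val e))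
  obtain ⟨v, hv⟩ := (hf.bijective_of_nat_card_le (by
    rw [SE.card_swapping h.stronglyEmbedded x y hxy, h.card_involutions_in,
      h.card_pairStab hxy])).2 ⟨d, hd⟩
  obtain rfl : w * v.1 = d := congrArg Subtype.val hv
  exact conj_mul_eq_inv hw v.2.1

theorem exists_swap {x y : G ⧸ N[T]} (hxy : x ≠ y) :
    ∃ w : G, orderOf w = 2 ∧ w • x = y := by
  have h4 := h.four_le_card
  have : 0 < Nat.card {i : G // orderOf i = 2 ∧ i • x = y} := by
    rw [SE.card_swapping h.stronglyEmbedded x y hxy, h.card_involutions_in]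
    omega
  obtain ⟨⟨w, hw⟩⟩ := (Nat.card_pos_iff.1 this).1
  exact ⟨w, hw⟩

/-- Whatever commutes with a nontrivial element fixing two points fixes these points. -/
theorem comm_fixes {x y : G ⧸ N[T]} (hxy : x ≠ y) {d : G} (hd : d ∈ pairStab x y) (hd1 : d ≠ 1)
    {m : G} (hm : m * d = d * m) : m • x = x := by
  by_contra hne
  have hdm : d ∈ pairStab x (m • x) :=
    ⟨hd.1, by show d • m • x = m • x; rw [← mul_smul, ← hm, mul_smul, hd.1]⟩
  obtain ⟨w, hw, hwx⟩ := h.exists_swap (Ne.symm hne)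
  have hwd := h.conj_eq_inv (Ne.symm hne) hw hwx hdm
  -- `w` inverts the centraliser of `d`
  have hsw : ∀ c : G, c * d = d * c → (w * c * w⁻¹) * d = d * (w * c * w⁻¹) := by
    intro c hc
    have hd' : d = w * d⁻¹ * w⁻¹ := by rw [← conj_inv, hwd, inv_inv]
    calc w * c * w⁻¹ * d = w * c * w⁻¹ * (w * d⁻¹ * w⁻¹) := by rw [← hd']
      _ = w * (c * d⁻¹) * w⁻¹ := by group
      _ = w * (d⁻¹ * c) * w⁻¹ := by rw [(Commute.inv_right hc).eq]
      _ = w * d⁻¹ * w⁻¹ * (w * c * w⁻¹) := by group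
      _ = d * (w * c * w⁻¹) := by rw [← hd']
  let C := Subgroup.centralizer ({d} : Set G)
  let φ : C →* C :=
    { toFun := fun c => ⟨w * c * w⁻¹,
        mem_centralizer_singleton_iff.2 (hsw c (mem_centralizer_singleton_iff.1 c.2))⟩
      map_one' := Subtype.ext (by simp)
      map_mul' := fun a b => Subtype.ext (by simp [mul_assoc]) }
  have hfpf : MonoidHom.FixedPointFree φ := by
    intro c hc
    have hc' : w * (c : G) * w⁻¹ = c := congrArg Subtype.val hc
    have hcd := mem_centralizer_singleton_iff.1 c.2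
    refine Subtype.ext (h.eq_one_of_comm hw (mul_inv_eq_iff_eq_mul.1 hc').symm ?_)
    rw [← Nat.not_even_iff_odd]
    intro he
    obtain ⟨k, hk⟩ := he
    have hk0 : orderOf (c : G) ≠ 0 := (orderOf_pos _).ne'
    have h2 : orderOf ((c : G) ^ k) = 2 := by
      rw [orderOf_pow_of_dvd (by omega) ⟨2, by omega⟩, hk,
        Nat.div_eq_of_eq_mul_left (n := k) (by omega)]
      omega
    exact hd1 (h.eq_one_of_comm h2 ((Commute.pow_left hcd k).eq).symm (h.odd_orderOf hxy hd))
  have hinvol : Function.Involutive φ := fun c => Subtype.ext (by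
    show w * (w * (c : G) * w⁻¹) * w⁻¹ = c
    rw [involution_inv hw]
    simp only [mul_assoc, involution_sq hw, mul_one]
    rw [← mul_assoc, involution_sq hw, one_mul])
  have hwm : w * m * w⁻¹ = m⁻¹ := congrArg Subtype.val (congrFun (hfpf.coe_eq_inv_of_involutive hinvol)
    (⟨m, mem_centralizer_singleton_iff.2 hm⟩ : C))
  -- `m⁻¹ * w` is an involution fixing `x` and inverting `d`
  set a := m⁻¹ * w with ha_def
  have hax : a • x = x := by rw [ha_def, mul_smul, hwx, inv_smul_smul]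
  have had : a * d * a⁻¹ = d⁻¹ := by
    calc a * d * a⁻¹ = m⁻¹ * (w * d * w⁻¹) * m := by rw [ha_def]; group
      _ = d⁻¹ := by rw [hwd, (Commute.inv_inv (hm : Commute m d)).eq, inv_mul_cancel_right]
  have ha2 : a * a = 1 := by
    calc a * a = m⁻¹ * (w * m * w⁻¹)⁻¹ * (w * w) := by rw [ha_def]; group
      _ = 1 := by rw [hwm, inv_inv, inv_mul_cancel, involution_sq hw, one_mul]
  have ha1 : a ≠ 1 := fun e => by
    rw [e, one_mul, inv_one, mul_one] at had
    have h2 := orderOf_dvd_of_pow_eq_one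
      (show d ^ 2 = 1 by rw [pow_two]; exact eq_inv_iff_mul_eq_one.1 had)
    rcases (Nat.dvd_prime Nat.prime_two).1 h2 with h3 | h3
    · exact hd1 (orderOf_eq_one_iff.1 h3)
    · exact absurd (h.odd_orderOf hxy hd) (by rw [h3]; decide)
  have ha : orderOf a = 2 := orderOf_eq_two_of ha1 ha2
  have hbx : (d * a * d⁻¹) • x = x := by
    rw [mul_smul, mul_smul, inv_smul_eq_iff.2 hd.1.symm, hax, hd.1]
  have hcomm := h.comm_of_fixes ((CfsgLib.Signalizer.orderOf_conj d a).trans ha) ha hbx hax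
  have hd2 : d * d = d * a * d⁻¹ * a := by
    calc d * d = d * (a * d * a⁻¹)⁻¹ := by rw [had, inv_inv]
      _ = d * a * d⁻¹ * a⁻¹ := by group
      _ = d * a * d⁻¹ * a := by rw [involution_inv ha]
  have hca : d * d * a = a * (d * d) := by
    rw [hd2]
    nth_rewrite 1 [hcomm]
    group
  have hodd : Odd (orderOf (d * d)) := h.odd_orderOf hxy (mul_mem hd hd)
  have h1 := h.eq_one_of_comm ha hca hodd
  rw [← pow_two] at h1
  rcases (Nat.dvd_prime Nat.prime_two).1 (orderOf_dvd_of_pow_eq_one h1) with h3 | h3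
  · exact hd1 (orderOf_eq_one_iff.1 h3)
  · exact absurd (h.odd_orderOf hxy hd) (by rw [h3]; decide)

/-- A nontrivial element fixes at most two points. -/
theorem eq_or_eq {x y y' : G ⧸ N[T]} (hxy : x ≠ y) {d : G} (hd : d ∈ pairStab x y) (hd1 : d ≠ 1)
    (hy' : d • y' = y') : y' = x ∨ y' = y := by
  by_contra hno
  push Not at hno
  obtain ⟨w, hw, hwx⟩ := h.exists_swap hxy
  obtain ⟨v, hv, hvx⟩ := h.exists_swap hno.1.symm
  have hwd := h.conj_eq_inv hxy hw hwx hd
  have hvd := h.conj_eq_inv hno.1.symm hv hvx ⟨hd.1, hy'⟩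
  have hm : v * w * d = d * (v * w) := by
    have e : v * w * d * (v * w)⁻¹ = d := by
      calc v * w * d * (v * w)⁻¹ = v * (w * d * w⁻¹) * v⁻¹ := by group
        _ = d := by rw [hwd, ← conj_inv, hvd, inv_inv]
    exact mul_inv_eq_iff_eq_mul.1 e
  have hfix := h.comm_fixes hxy.symm (show d ∈ pairStab y x from ⟨hd.2, hd.1⟩) hd1 hm
  have hwy : w • y = x := by rw [← hwx, ← mul_smul, involution_sq hw, one_smul]
  rw [mul_smul, hwy, hvx] at hfix
  exact hno.2 hfix

theorem two_le_card_pairStab {x y : G ⧸ N[T]} (hxy : x ≠ y) :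
    ∃ d ∈ pairStab x y, d ≠ 1 := by
  refine exists_ne_one_of_two_le ?_
  rw [h.card_pairStab hxy]
  have := h.four_le_card
  omega

omit h in
/-- The base point. -/
abbrev base (T : Sylow 2 G) : G ⧸ N[T] := ((1 : G) : G ⧸ N[T])

omit h [Finite G] in
theorem smul_base_iff {g : G} : g • base T = base T ↔ g ∈ N[T] := by
  rw [SE.smul_mk_eq_iff]; simp

omit h [Finite G] in
theorem fixes_base {t : G} (ht : t ∈ (T : Subgroup G)) : t • base T = base T :=
  smul_base_iff.2 (le_normalizer ht)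

/-- `T` acts freely away from the base point. -/
theorem free {t : G} (ht : t ∈ (T : Subgroup G)) {y : G ⧸ N[T]} (hy : y ≠ base T)
    (hfix : t • y = y) : t = 1 := by
  by_contra hne
  exact hy (SE.fixed_unique h.stronglyEmbedded
    (orderOf_eq_two_of hne (by rw [← pow_two]; exact h.sq_eq_one ht)) hfix (fixes_base ht))

theorem exists_ne_base : ∃ y : G ⧸ N[T], y ≠ base T := by
  by_contra hno
  push Not at hno
  refine h.stronglyEmbedded.1 (Subgroup.index_eq_one.1 ?_)
  haveI : Subsingleton (G ⧸ N[T]) := ⟨fun p q => (hno p).trans (hno q).symm⟩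
  exact Nat.card_unique

/-- The two-point stabiliser is a complement of `T`. -/
theorem isComplement {y : G ⧸ N[T]} (hy : y ≠ base T) :
    IsComplement' ((pairStab (base T) y).subgroupOf N[T]) ((T : Subgroup G).subgroupOf N[T]) := by
  refine isComplement'_of_disjoint_and_mul_eq_univ ?_ ?_
  · rw [disjoint_def]
    intro g hg hg'
    exact Subtype.ext (h.free hg' hy hg.2)
  · refine Set.eq_univ_of_forall fun g => ?_
    obtain ⟨a, ha, hax⟩ := SE.exists_fixing h.stronglyEmbedded (base T)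
    have hgb : (g : G) • base T = base T := smul_base_iff.2 g.2
    obtain ⟨d, hd1, hd2, hd⟩ := SE.exists_conj_fixing h.stronglyEmbedded hy.symm ha hax
      ((CfsgLib.Signalizer.orderOf_conj (g : G) a).trans ha)
      (by rw [mul_smul, mul_smul, inv_smul_eq_iff.2 hgb.symm, hax, hgb])
    have hdN : d ∈ N[T] := smul_base_iff.1 hd1
    refine ⟨⟨d, hdN⟩, ⟨hd1, hd2⟩, ⟨d⁻¹ * g, mul_mem (inv_mem hdN) g.2⟩, ?_, ?_⟩
    · show d⁻¹ * (g : G) ∈ (T : Subgroup G)
      have hc : d⁻¹ * (g : G) ∈ centralizer ({a} : Set G) := by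
        rw [mem_centralizer_singleton_iff]
        calc d⁻¹ * (g : G) * a = d⁻¹ * ((g : G) * a * (g : G)⁻¹) * g := by group
          _ = a * (d⁻¹ * g) := by rw [← hd]; group
      rcases eq_or_ne (d⁻¹ * (g : G)) 1 with e | e
      · rw [e]; exact one_mem _
      · exact h.mem_sylow_of_involution (orderOf_eq_two_of e (by rw [← pow_two]; exact (h.hC a ha).2 _ hc))
          (mul_mem (inv_mem hdN) g.2)
    · exact Subtype.ext (mul_inv_cancel_left d g)

theorem card_normalizer :
    Nat.card N[T] = Nat.card (T : Subgroup G) * (Nat.card (T : Subgroup G) - 1) := by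
  obtain ⟨y, hy⟩ := h.exists_ne_base
  have hle : pairStab (base T) y ≤ N[T] := fun d hd => smul_base_iff.1 hd.1
  rw [← (h.isComplement hy).card_mul_card, Nat.card_congr (subgroupOfEquivOfLe hle).toEquiv,
    Nat.card_congr (subgroupOfEquivOfLe le_normalizer).toEquiv, h.card_pairStab hy.symm, mul_comm]

/-- `T` is regular away from the base point. -/
theorem regular {x y : G ⧸ N[T]} (hx : x ≠ base T) (hy : y ≠ base T) :
    ∃! t : G, t ∈ (T : Subgroup G) ∧ t • x = y := by
  have huniq : ∀ t t' : G, t ∈ (T : Subgroup G) → t' ∈ (T : Subgroup G) → t • x = t' • x → t = t' :=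
    fun t t' ht ht' e => inv_mul_eq_one.1 (h.free (mul_mem (inv_mem ht) ht') hx
      (by rw [mul_smul, ← e, inv_smul_smul]))
  -- the number of points other than the base point is at most `|T|`
  have hP : Nat.card {y : G ⧸ N[T] // y ≠ base T} ≤ Nat.card (T : Subgroup G) := by
    classical
    have := Fintype.ofFinite (G ⧸ N[T])
    let f : (Σ y : {y : G ⧸ N[T] // y ≠ base T},
        {d : pairStab (base T) y.1 // d ≠ 1}) → {g : N[T] // (g : G) ∉ (T : Subgroup G)} :=
      fun p => ⟨⟨p.2.1, smul_base_iff.1 p.2.1.2.1⟩, fun ht =>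
        p.2.2 (Subtype.ext (h.free ht p.1.2 p.2.1.2.2))⟩
    have hf : Function.Injective f := by
      rintro ⟨⟨a, ha⟩, ⟨d, hd⟩, hd1⟩ ⟨⟨b, hb⟩, ⟨d', hd'⟩, hd1'⟩ e
      obtain rfl : d = d' := congrArg (fun q => ((q : {g : N[T] // (g : G) ∉ (T : Subgroup G)}).1 : G)) e
      obtain rfl : b = a :=
        (h.eq_or_eq ha.symm hd (fun e => hd1 (Subtype.ext e)) hd'.2).resolve_left hb
      rfl
    have hle := Nat.card_le_card_of_injective f hf
    rw [Nat.card_sigma] at hle
    have hterm : ∀ a : {y : G ⧸ N[T] // y ≠ base T},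
        Nat.card {d : pairStab (base T) a.1 // d ≠ 1} = Nat.card (T : Subgroup G) - 1 - 1 := by
      intro a
      rw [show {d : pairStab (base T) a.1 // d ≠ 1} = ↥(({1} : Set (pairStab (base T) a.1))ᶜ) from rfl,
        Nat.card_coe_set_eq, Set.ncard_compl, Set.ncard_singleton, h.card_pairStab a.2.symm]
    have htgt : Nat.card {g : N[T] // (g : G) ∉ (T : Subgroup G)} =
        Nat.card N[T] - Nat.card (T : Subgroup G) := by
      rw [show {g : N[T] // (g : G) ∉ (T : Subgroup G)} =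
          ↥((((T : Subgroup G).subgroupOf N[T] : Subgroup N[T]) : Set N[T])ᶜ) from rfl,
        Nat.card_coe_set_eq, Set.ncard_compl]
      congr 1
      rw [← Nat.card_coe_set_eq]
      exact Nat.card_congr (subgroupOfEquivOfLe le_normalizer).toEquiv
    rw [Finset.sum_congr rfl fun a _ => hterm a, Finset.sum_const, smul_eq_mul, Finset.card_univ,
      ← Nat.card_eq_fintype_card, htgt, h.card_normalizer] at hle
    have h4 := h.four_le_card
    have e : Nat.card (T : Subgroup G) * (Nat.card (T : Subgroup G) - 1) - Nat.card (T : Subgroup G) =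
        Nat.card (T : Subgroup G) * (Nat.card (T : Subgroup G) - 1 - 1) := by
      rw [Nat.mul_sub _ (Nat.card (T : Subgroup G) - 1) 1, mul_one]
    rw [e] at hle
    exact Nat.le_of_mul_le_mul_right hle (by omega)
  let g : ↥(T : Subgroup G) → {y : G ⧸ N[T] // y ≠ base T} := fun t => ⟨(t : G) • x, fun e =>
    hx (smul_left_cancel (t : G) (e.trans (fixes_base t.2).symm))⟩
  have hg : Function.Injective g := fun t t' e =>
    Subtype.ext (huniq t t' t.2 t'.2 (congrArg Subtype.val e))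
  obtain ⟨⟨t, ht⟩, e⟩ := (hg.bijective_of_nat_card_le hP).2 ⟨y, hy⟩
  have e' : t • x = y := congrArg Subtype.val e
  exact ⟨t, ⟨ht, e'⟩, fun t' ht' => huniq t' t ht'.1 ht (ht'.2.trans e'.symm)⟩

theorem card_points : Nat.card (G ⧸ N[T]) = Nat.card (T : Subgroup G) + 1 := by
  obtain ⟨y, hy⟩ := h.exists_ne_base
  let f : Option (T : Subgroup G) → G ⧸ N[T] := fun o => o.elim (base T) fun t => (t : G) • y
  have hne : ∀ t : (T : Subgroup G), (t : G) • y ≠ base T := fun t e =>
    hy (smul_left_cancel (t : G) (e.trans (fixes_base t.2).symm))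
  have hf : Function.Bijective f := by
    constructor
    · rintro (_ | a) (_ | b) e
      · rfl
      · exact absurd e.symm (hne b)
      · exact absurd e (hne a)
      · congr 1
        refine Subtype.ext ?_
        exact inv_mul_eq_one.1 (h.free (mul_mem (inv_mem a.2) b.2) hy
          (by rw [mul_smul, ← show (a : G) • y = (b : G) • y from e, inv_smul_smul]))
    · intro z
      by_cases hz : z = base T
      · exact ⟨none, hz.symm⟩
      · obtain ⟨t, ⟨ht, e⟩, -⟩ := h.regular hy hz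
        exact ⟨some ⟨t, ht⟩, e⟩
  rw [← Nat.card_eq_of_bijective f hf, Finite.card_option]

/-- Sharp triple transitivity, the transitive half. -/
theorem exists_map_triple {x₁ x₂ x₃ y₁ y₂ y₃ : G ⧸ N[T]} (h12 : x₁ ≠ x₂) (h13 : x₁ ≠ x₃)
    (h23 : x₂ ≠ x₃) (k12 : y₁ ≠ y₂) (k13 : y₁ ≠ y₃) (k23 : y₂ ≠ y₃) :
    ∃ g : G, g • x₁ = y₁ ∧ g • x₂ = y₂ ∧ g • x₃ = y₃ := by
  obtain ⟨a, ha⟩ := MulAction.exists_smul_eq G x₁ (base T)
  obtain ⟨b, hb⟩ := MulAction.exists_smul_eq G y₁ (base T)
  have n1 : ∀ {c : G} {p q : G ⧸ N[T]}, c • p = base T → p ≠ q → c • q ≠ base T :=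
    fun hc hne e => hne (smul_left_cancel _ (hc.trans e.symm))
  obtain ⟨t, ⟨ht, hte⟩, -⟩ := h.regular (n1 ha h12) (n1 hb k12)
  set p := t • a • x₃ with hp
  set q := b • y₃ with hq
  have hy2 : b • y₂ ≠ base T := n1 hb k12
  have hp1 : p ≠ base T := fun e => n1 ha h13 (smul_left_cancel t (e.trans (fixes_base ht).symm))
  have hp2 : p ≠ b • y₂ := fun e =>
    h23 (smul_left_cancel a (smul_left_cancel t (e.trans hte.symm))).symm
  have hq1 : q ≠ base T := n1 hb k13
  have hq2 : q ≠ b • y₂ := fun e => k23 (smul_left_cancel b e).symm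
  let F : pairStab (base T) (b • y₂) → {r : G ⧸ N[T] // r ≠ base T ∧ r ≠ b • y₂} := fun d =>
    ⟨(d : G) • p, fun e => hp1 (smul_left_cancel (d : G) (e.trans d.2.1.symm)),
      fun e => hp2 (smul_left_cancel (d : G) (e.trans d.2.2.symm))⟩
  have hF : Function.Injective F := by
    rintro ⟨d, hd⟩ ⟨d', hd'⟩ e
    have e' : d • p = d' • p := congrArg Subtype.val e
    refine Subtype.ext ?_
    by_contra hne
    have h1 : d⁻¹ * d' ≠ 1 := fun h => hne (inv_mul_eq_one.1 h)
    rcases h.eq_or_eq hy2.symm (mul_mem (inv_mem hd) hd') h1 (y' := p)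
      (by rw [mul_smul, ← e', inv_smul_smul]) with h2 | h2
    · exact hp1 h2
    · exact hp2 h2
  have hcard : Nat.card {r : G ⧸ N[T] // r ≠ base T ∧ r ≠ b • y₂} ≤
      Nat.card (pairStab (base T) (b • y₂)) := by
    rw [h.card_pairStab hy2.symm, show {r : G ⧸ N[T] // r ≠ base T ∧ r ≠ b • y₂} =
      ↥({r : G ⧸ N[T] | r ≠ base T ∧ r ≠ b • y₂}) from rfl, Nat.card_coe_set_eq,
      show {r : G ⧸ N[T] | r ≠ base T ∧ r ≠ b • y₂} = ({base T, b • y₂} : Set (G ⧸ N[T]))ᶜ from by
        ext r; simp, Set.ncard_compl, Set.ncard_pair hy2.symm, h.card_points]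
    omega
  obtain ⟨d, hd⟩ := (hF.bijective_of_nat_card_le hcard).2 ⟨q, hq1, hq2⟩
  have hd' : (d : G) • p = q := congrArg Subtype.val hd
  refine ⟨b⁻¹ * d * t * a, ?_, ?_, ?_⟩
  · rw [mul_smul, ha, mul_smul, fixes_base ht, mul_smul, d.2.1, ← hb, inv_smul_smul]
  · rw [mul_smul, mul_smul, hte, mul_smul, d.2.2, inv_smul_smul]
  · rw [mul_smul, mul_smul, mul_smul, ← hp, hd', hq, inv_smul_smul]

theorem eq_one_of_three {g : G} {x₁ x₂ x₃ : G ⧸ N[T]} (h12 : x₁ ≠ x₂) (h13 : x₁ ≠ x₃)
    (h23 : x₂ ≠ x₃) (g1 : g • x₁ = x₁) (g2 : g • x₂ = x₂) (g3 : g • x₃ = x₃) : g = 1 := by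
  by_contra hne
  rcases h.eq_or_eq h12 ⟨g1, g2⟩ hne g3 with e | e
  · exact h13 e.symm
  · exact h23 e.symm

omit h [Finite G] in
theorem inter_eq_pairStab {u : G} :
    N[T] ⊓ (N[T]).map (MulAut.conj u).toMonoidHom = pairStab (base T) (u • base T) := by
  ext d
  rw [mem_inf, mem_pairStab, smul_base_iff]
  refine and_congr_right fun _ => ?_
  rw [mem_map_conj, ← smul_base_iff (T := T), mul_smul, mul_smul, inv_smul_eq_iff]

end ElemCent

end CfsgLib.TwoGroups
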