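import Cfsg.Agent.Lib.TwoGroups.Bender
import Cfsg.Agent.Lib.OddLocal.OddStable

/-!
Owner: helper12. A maximal subgroup whose Fitting subgroup has two prime divisors is determined by
its Fitting subgroup.
-/

set_option autoImplicit false

namespace CfsgLib.TwoGroups.Bender

open Subgroup
open scoped commutatorElement

variable {G : Type*} [Group G] [Finite G]

/-- A subgroup of `F(H)` lies in `J` as soon as its parts do. -/
theorem le_of_parts {H X J : Subgroup G} (hX : X ≤ Cfsg.fittingOf H)
    (h : ∀ r : ℕ, r.Prime → r ∣ Nat.card X → part r H ⊓ X ≤ J) : X ≤ J := by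
  suffices hi : (J.subgroupOf X).index = 1 by
    rw [index_eq_one, subgroupOf_eq_top] at hi
    exact hi
  by_contra hne
  obtain ⟨r, hr, hrd⟩ := Nat.exists_prime_and_dvd hne
  have := Fact.mk hr
  obtain ⟨T⟩ : Nonempty (Sylow r X) := inferInstance
  have hT : (T : Subgroup X) ≤ J.subgroupOf X := by
    intro t ht
    obtain ⟨k, hk⟩ := T.2 ⟨t, ht⟩
    obtain ⟨j, -, hj⟩ := (Nat.dvd_prime_pow hr).mp
      (orderOf_dvd_of_pow_eq_one (congrArg Subtype.val hk : t ^ r ^ k = 1))
    exact h r hr (hrd.trans (index_dvd_card _))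
      ⟨mem_part_of_mem (hX t.2) ((orderOf_coe t).trans hj), t.2⟩
  exact T.not_dvd_index (hrd.trans (index_dvd_of_le hT))

/-- The centres of the parts of `F(H)` centralise the other parts of `F(L)`, which lie in `H`. -/
theorem cross {p s : ℕ} [Fact p.Prime] [Fact s.Prime] (hsp : s ≠ p) {H L : Subgroup G}
    (hCp : centralizer (zPart p H : Set G) ≤ H) (hCs : centralizer (zPart s H : Set G) ≤ H)
    (hp : zPart p H ≤ normalizer (part s L : Set G))
    (hs : zPart s H ≤ normalizer (part s L : Set G)) :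
    zPart p H ≤ centralizer (part s L : Set G) ∧ part s L ≤ H := by
  have hpH : IsPGroup p (zPart p H) := isPGroup_zPart p H
  have hle : zPart p H ≤ centralizer (part s L : Set G) := by
    intro x hx
    refine LocalEvenB.mem_centralizer_of_axb (B := zPart s H) (R := part s L) ?_ (isPGroup_part s L)
      (isPGroup_zPart s H) hs (hp hx) ?_ ?_
    · obtain ⟨k, hk⟩ := hpH ⟨x, hx⟩
      exact ((Nat.coprime_primes Fact.out Fact.out).mpr (Ne.symm hsp)).pow_left k |>.coprime_dvd_left
        (orderOf_dvd_of_pow_eq_one (congrArg Subtype.val hk : x ^ p ^ k = 1))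
    · exact mem_centralizer_iff.mpr fun z hz => mem_centralizer_iff.mp hx.1.2 z hz.1.1
    · refine mem_centralizer_iff.mpr fun t ht => ?_
      have htH : t ∈ H := hCs ht.2
      have hc : t * x * t⁻¹ * x⁻¹ ∈ part s L ⊓ zPart p H := by
        refine ⟨?_, Subgroup.mul_mem _ ((mem_normalizer_iff.mp (le_normalizer_zPart p H htH) x).mp hx)
          (inv_mem hx)⟩
        rw [show t * x * t⁻¹ * x⁻¹ = t * (x * t⁻¹ * x⁻¹) by group]
        exact Subgroup.mul_mem _ ht.1 ((mem_normalizer_iff.mp (hp hx) _).mp (inv_mem ht.1))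
      have hd : part s L ⊓ zPart p H = ⊥ := by
        obtain ⟨i, hi⟩ := IsPGroup.iff_card.mp (isPGroup_part s L)
        obtain ⟨j, hj⟩ := IsPGroup.iff_card.mp hpH
        exact (disjoint_of_coprime_natCard (by
          rw [hi, hj]; exact Nat.coprime_pow_primes i j Fact.out Fact.out hsp)).eq_bot
      rw [hd, mem_bot, mul_inv_eq_one, mul_inv_eq_iff_eq_mul] at hc
      exact hc
  exact ⟨hle, (le_centralizer_iff.mp hle).trans hCp⟩

/-- The comparison of the `p`-parts. -/
theorem part_le_part (hG : Cfsg.IsMinSimpleOddOrder G) {p : ℕ} [Fact p.Prime] (hp2 : p ≠ 2)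
    {H L : Subgroup G} (hH : H ≠ ⊤) (hpL : part p L ≤ H)
    (hHL : ∀ s : ℕ, s.Prime → s ∣ Nat.card (Cfsg.fittingOf H) → part s H ≤ L)
    (hZ : ∀ r : ℕ, r.Prime → r ∣ Nat.card (Cfsg.fittingOf H) → zPart r L ≤ H ∧
      (∀ s : ℕ, s.Prime → s ∣ Nat.card (Cfsg.fittingOf H) → s ≠ r →
        zPart r L ≤ centralizer (part s H : Set G)) ∧
      centralizer (zPart r L : Set G) ≤ L)
    (hpF : p ∣ Nat.card (Cfsg.fittingOf H))
    (hF2 : 2 ≤ (Nat.card (Cfsg.fittingOf H)).primeFactors.card) :
    part p L ≤ part p H := by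
  have hsolH : Group.IsSolvable H := hG.2.2.2 H hH
  -- step one: `zPart r L ≤ part r H`
  have key : ∀ r : ℕ, r.Prime → r ∣ Nat.card (Cfsg.fittingOf H) → r ≠ 2 →
      (zPart r L ≤ part r H) ∧
      ∀ X : Subgroup G, X ≤ H → IsPGroup r X →
        (∀ s : ℕ, s.Prime → s ∣ Nat.card (Cfsg.fittingOf H) → s ≠ r →
          X ≤ centralizer (part s H : Set G)) →
        H ⊓ (⨅ s : {s : ℕ // s ∈ (Nat.card (Cfsg.fittingOf H)).primeFactors ∧ s ≠ r},
          centralizer (part (s : ℕ) H : Set G)) ≤ normalizer (X : Set G) → X ≤ part r H := by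
    intro r hr hrF hr2
    have := Fact.mk hr
    set F := Cfsg.fittingOf H with hF
    set C := H ⊓ (⨅ s : {s : ℕ // s ∈ (Nat.card F).primeFactors ∧ s ≠ r},
      centralizer (part (s : ℕ) H : Set G)) with hC
    have hCH : C ≤ H := inf_le_left
    have hmemC : ∀ X : Subgroup G, X ≤ H →
        (∀ s : ℕ, s.Prime → s ∣ Nat.card F → s ≠ r → X ≤ centralizer (part s H : Set G)) → X ≤ C := by
      intro X hX h
      refine le_inf hX (le_iInf ?_)
      rintro ⟨s, hs, hsr⟩
      obtain ⟨hsp, hsF, -⟩ := Nat.mem_primeFactors.mp hs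
      exact h s hsp hsF hsr
    have hCs : ∀ s : ℕ, s.Prime → s ∣ Nat.card F → s ≠ r → C ≤ centralizer (part s H : Set G) :=
      fun s hs hsF hsr => inf_le_right.trans (iInf_le
        (fun s : {s : ℕ // s ∈ (Nat.card F).primeFactors ∧ s ≠ r} =>
          centralizer (part (s : ℕ) H : Set G))
        ⟨s, Nat.mem_primeFactors.mpr ⟨hs, hsF, Nat.card_pos.ne'⟩, hsr⟩)
    have hCn : H ≤ normalizer (C : Set G) := by
      have key : ∀ g ∈ H, ∀ x ∈ C, g * x * g⁻¹ ∈ C := by
        intro g hg x hx
        refine hmemC (C.map (MulAut.conj g).toMonoidHom) ?_ ?_ ⟨x, hx, rfl⟩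
        · rintro _ ⟨y, hy, rfl⟩
          exact H.mul_mem (H.mul_mem hg (hCH hy)) (inv_mem hg)
        · intro s hs hsF hsr
          have := Fact.mk hs
          rintro _ ⟨y, hy, rfl⟩
          exact (mem_normalizer_iff.mp (Transfer.normalizer_le_normalizer_centralizer _
            (le_normalizer_part s H hg)) y).mp (hCs s hs hsF hsr hy)
      intro g hg
      rw [mem_normalizer_iff]
      exact fun x => ⟨key g hg x, fun hx => by simpa [mul_assoc] using key g⁻¹ (inv_mem hg) _ hx⟩
    -- normal nilpotent subgroups of `C` invariant under `H` lie in `F`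
    have hnil : ∀ N : Subgroup ↥C, N.Characteristic → Group.IsNilpotent N → N.map C.subtype ≤ F := by
      intro N hN hNn
      have hCn' : (C.subgroupOf H).Normal := normal_subgroupOf_of_le_normalizer hCn
      let e := (subgroupOfEquivOfLe hCH).symm
      have hN' : (N.map e.toMonoidHom).Characteristic := by
        rw [characteristic_iff_map_eq]
        intro φ
        have := characteristic_iff_map_eq.mp hN ((e.trans φ).trans e.symm)
        rw [Subgroup.map_map]
        apply map_injective (f := e.symm.toMonoidHom) e.symm.injective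
        rw [Subgroup.map_map, Subgroup.map_map]
        conv_rhs => rw [show (e.symm.toMonoidHom).comp e.toMonoidHom = MonoidHom.id _ from
          MonoidHom.ext fun x => e.symm_apply_apply x, Subgroup.map_id, ← this]
        rfl
      have hnilp : Group.IsNilpotent ↥((N.map e.toMonoidHom).map (C.subgroupOf H).subtype) :=
        Group.nilpotent_of_surjective ((N.equivMapOfInjective e.toMonoidHom e.injective).trans
          ((N.map e.toMonoidHom).equivMapOfInjective _ (subtype_injective _))).toMonoidHom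
          (MulEquiv.surjective _)
      have h := Components.le_fitting (inferInstance :
        ((N.map e.toMonoidHom).map (C.subgroupOf H).subtype).Normal) hnilp
      rintro _ ⟨x, hx, rfl⟩
      exact ⟨⟨x, hCH x.2⟩, h ⟨e x, ⟨x, hx, rfl⟩, rfl⟩, rfl⟩
    -- second claim
    have hX2 : ∀ X : Subgroup G, X ≤ H → IsPGroup r X →
        (∀ s : ℕ, s.Prime → s ∣ Nat.card F → s ≠ r → X ≤ centralizer (part s H : Set G)) →
        C ≤ normalizer (X : Set G) → X ≤ part r H := by
      intro X hXH hX hXc hCX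
      have hXC := hmemC X hXH hXc
      have hXn : (X.subgroupOf C).Normal := normal_subgroupOf_of_le_normalizer hCX
      have hle : X.subgroupOf C ≤ Cfsg.pCore r ↥C := Core.le_pCore hX.comap_subtype
      have hnc := hnil _ (Components.pCore_characteristic r) (Core.isPGroup_pCore r _).isNilpotent
      intro x hx
      obtain ⟨k, hk⟩ := hX ⟨x, hx⟩
      obtain ⟨j, -, hj⟩ := (Nat.dvd_prime_pow hr).mp
        (orderOf_dvd_of_pow_eq_one (congrArg Subtype.val hk : x ^ r ^ k = 1))
      exact mem_part_of_mem (hnc ⟨⟨x, hXC hx⟩, hle hx, rfl⟩) hj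
    refine ⟨?_, hX2⟩
    -- `z` acts quadratically
    intro z hz
    obtain ⟨hzH, hzc, -⟩ := hZ r hr hrF
    have hzC : z ∈ C := hmemC (zPart r L) hzH hzc hz
    set O := Cfsg.pPrimeCore r ↥C with hO
    have hOc : (Nat.card O).Coprime r := Core.coprime_card_pPrimeCore r ↥C
    have hOH : H ≤ normalizer (O.map C.subtype : Set G) := by
      intro g hg
      let e : ↥C ≃* ↥C :=
        (C.equivMapOfInjective (MulAut.conj g).toMonoidHom (MulAut.conj g).injective).trans
          (MulEquiv.subgroupCongr (mem_normalizer_iff_map_conj_eq.mp (hCn hg)))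
      have he := Components.pPrimeCore_map_equiv r e
      rw [mem_normalizer_iff_map_conj_eq]
      conv_rhs => rw [hO, ← he]
      rw [Subgroup.map_map, Subgroup.map_map]
      rfl
    set O' := O.map C.subtype with hO'
    have hO'C : O' ≤ C := map_subtype_le _
    have hO'r : part r H ⊓ O' = ⊥ := by
      obtain ⟨i, hi⟩ := IsPGroup.iff_card.mp (isPGroup_part r H)
      refine (disjoint_of_coprime_natCard ?_).eq_bot
      rw [hi, hO', card_map_of_injective C.subtype_injective]
      exact hOc.symm.pow_left i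
    -- `O'` centralises `F`, so lies in it
    have hO'F : O' ≤ F := by
      intro o ho
      have hoH : o ∈ H := hCH (hO'C ho)
      have hF' : F ≤ centralizer ({o} : Set G) := by
        refine le_of_parts le_rfl fun s hs hsF t ht => ?_
        have := Fact.mk hs
        by_cases hsr : s = r
        · subst hsr
          have hc : t * o * t⁻¹ * o⁻¹ ∈ part s H ⊓ O' := by
            refine ⟨?_, O'.mul_mem ((mem_normalizer_iff.mp (hOH (part_le s H ht.1)) o).mp ho)
              (inv_mem ho)⟩
            rw [show t * o * t⁻¹ * o⁻¹ = t * (o * t⁻¹ * o⁻¹) by group]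
            exact Subgroup.mul_mem _ ht.1
              ((mem_normalizer_iff.mp (le_normalizer_part s H hoH) _).mp (inv_mem ht.1))
          rw [hO'r, mem_bot, mul_inv_eq_one, mul_inv_eq_iff_eq_mul] at hc
          exact mem_centralizer_singleton_iff.mpr hc
        · exact mem_centralizer_singleton_iff.mpr
            (mem_centralizer_iff.mp (hCs s hs hsF hsr (hO'C ho)) t ht.1)
      refine ⟨⟨o, hoH⟩, Components.centralizer_fitting_le_of_isSolvable
        (mem_centralizer_iff.mpr fun y hy => Subtype.ext ?_), rfl⟩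
      exact mem_centralizer_singleton_iff.mp (hF' ⟨y, hy, rfl⟩)
    have hOcen : O ≤ center ↥C := by
      intro o ho
      refine mem_center_iff.mpr fun c => Subtype.ext ?_
      have h : O' ≤ centralizer ({(c : G)} : Set G) := by
        refine le_of_parts hO'F fun s hs hsO t ht => ?_
        by_cases hsr : s = r
        · subst hsr
          rw [hO'r, mem_bot] at ht
          rw [ht]; exact one_mem _
        · exact mem_centralizer_singleton_iff.mpr (mem_centralizer_iff.mp
            (hCs s hs (hsO.trans (card_dvd_of_le hO'F)) hsr c.2) t ht.1)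
      exact (mem_centralizer_singleton_iff.mp (h ⟨o, ho, rfl⟩)).symm
    set W := Cfsg.pPrimePCore r ↥C with hW
    have hWc : W.Characteristic := by
      rw [characteristic_iff_le_comap]
      intro φ x hx
      have hOφ : O ≤ O.comap φ.toMonoidHom :=
        characteristic_iff_le_comap.mp (Components.pPrimeCore_characteristic r) φ
      rw [mem_comap, hW, Cfsg.pPrimePCore, mem_comap]
      have hOφ' : O.map φ.toMonoidHom = O :=
        characteristic_iff_map_eq.mp (Components.pPrimeCore_characteristic r) φ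
      let ψ := QuotientGroup.congr O O φ hOφ'
      rw [← Components.pCore_map_equiv r ψ]
      exact ⟨_, hx, rfl⟩
    have hWn : Group.IsNilpotent W := by
      let f := (QuotientGroup.mk' O).comp W.subtype
      have hrange : IsPGroup r f.range := by
        refine (Core.isPGroup_pCore r (↥C ⧸ O)).to_le ?_
        rintro _ ⟨w, rfl⟩
        exact w.2
      have := hrange.isNilpotent
      refine Subgroup.isNilpotent_of_ker_le_center f.rangeRestrict ?_
      rw [MonoidHom.ker_rangeRestrict]
      intro w hw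
      refine mem_center_iff.mpr fun y => Subtype.ext ?_
      exact mem_center_iff.mp (hOcen ((QuotientGroup.eq_one_iff _).mp hw)) y
    have hWF : W.map C.subtype ≤ F := hnil W hWc hWn
    have hWK : ∀ w ∈ W, ∃ a : ↥C, (a : G) ∈ part r H ∧ QuotientGroup.mk' O a = QuotientGroup.mk' O w := by
      intro w hw
      obtain ⟨e, he⟩ := Core.isPGroup_pCore r (↥C ⧸ O) ⟨_, hw⟩
      have he' : QuotientGroup.mk' O w ^ r ^ e = 1 := congrArg Subtype.val he
      have hwO : w ^ r ^ e ∈ O := (QuotientGroup.eq_one_iff _).mp ((map_pow _ w _).trans he')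
      have h1 : (w ^ Nat.card O) ^ r ^ e = 1 := by
        rw [← pow_mul, mul_comm, pow_mul]
        exact orderOf_dvd_iff_pow_eq_one.mp (Subgroup.orderOf_dvd_natCard _ hwO)
      obtain ⟨j, -, hj⟩ := (Nat.dvd_prime_pow hr).mp (orderOf_dvd_of_pow_eq_one h1)
      have h2 : ((w ^ Nat.card O : ↥C) : G) ∈ part r H :=
        mem_part_of_mem (hWF ⟨_, pow_mem hw _, rfl⟩) ((orderOf_coe _).trans hj)
      obtain ⟨k, hk⟩ := exists_pow_eq_self_of_coprime (x := QuotientGroup.mk' O w) (n := Nat.card O)
        ((hOc.pow_right e).coprime_dvd_right (orderOf_dvd_of_pow_eq_one he'))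
      refine ⟨(w ^ Nat.card O) ^ k, ?_, ?_⟩
      · rw [SubmonoidClass.coe_pow]; exact pow_mem h2 k
      · rw [map_pow, map_pow, hk]
    have hsolC : Group.IsSolvable C := Core.isSolvable_of_le hsolH hCH
    have hodd : Odd (Nat.card (↥C ⧸ O)) :=
      (hG.1.of_dvd_nat C.card_subgroup_dvd_card).of_dvd_nat (card_quotient_dvd_card O)
    have hzq : ⁅⁅Cfsg.pCore r (↥C ⧸ O), zpowers (QuotientGroup.mk' O ⟨z, hzC⟩)⁆,
        zpowers (QuotientGroup.mk' O ⟨z, hzC⟩)⁆ = ⊥ := by
      rw [commutator_eq_bot_iff_le_centralizer, commutator_le]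
      intro x hx y hy
      obtain ⟨w, rfl⟩ := QuotientGroup.mk'_surjective O x
      obtain ⟨i, rfl⟩ := mem_zpowers_iff.mp hy
      obtain ⟨a, haK, hae⟩ := hWK w hx
      rw [← hae, ← map_zpow, ← map_commutatorElement, ← MonoidHom.map_zpowers]
      refine mem_centralizer_iff.mpr ?_
      rintro _ ⟨u, hu, rfl⟩
      obtain ⟨j, rfl⟩ := mem_zpowers_iff.mp hu
      rw [← map_mul, ← map_mul]
      refine congrArg _ (Subtype.ext ?_)
      have hzi : (z : G) ^ i ∈ zPart r L := zpow_mem hz i
      have hc : (a : G) * z ^ i * (a : G)⁻¹ * (z ^ i)⁻¹ ∈ zPart r L :=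
        Subgroup.mul_mem _ ((mem_normalizer_iff.mp
          (le_normalizer_zPart r L (hHL r hr hrF haK)) _).mp hzi) (inv_mem hzi)
      have hab := mem_centralizer_iff.mp hc.1.2 (z ^ j) (zpow_mem hz j).1.1
      simpa [commutatorElement_def] using hab
    have hmem := OddLocal.mem_pCore_of_quadratic hodd hr2
      (Core.pPrimeCore_quotient_pPrimeCore r ↥C) hzq
    obtain ⟨k, hk⟩ := isPGroup_zPart r L ⟨z, hz⟩
    obtain ⟨j, -, hj⟩ := (Nat.dvd_prime_pow hr).mp
      (orderOf_dvd_of_pow_eq_one (congrArg Subtype.val hk : z ^ r ^ k = 1))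
    exact mem_part_of_mem (hWF ⟨⟨z, hzC⟩, hmem, rfl⟩) hj
  have hodd2 : ∀ r : ℕ, r ∣ Nat.card (Cfsg.fittingOf H) → r ≠ 2 := fun r hr =>
    Uniqueness.odd_prime hG (hr.trans (card_subgroup_dvd_card _))
  refine (key p Fact.out hpF hp2).2 _ hpL (isPGroup_part p L) ?_ ?_
  · intro s hs hsF hsp
    have := Fact.mk hs
    intro x hx
    refine mem_centralizer_iff.mpr fun t ht => ?_
    have hc : t * x * t⁻¹ * x⁻¹ ∈ part s H ⊓ part p L := by
      refine ⟨?_, Subgroup.mul_mem _ ((mem_normalizer_iff.mp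
        (le_normalizer_part p L (hHL s hs hsF ht)) x).mp hx) (inv_mem hx)⟩
      rw [show t * x * t⁻¹ * x⁻¹ = t * (x * t⁻¹ * x⁻¹) by group]
      exact Subgroup.mul_mem _ ht
        ((mem_normalizer_iff.mp (le_normalizer_part s H (hpL hx)) _).mp (inv_mem ht))
    have hd : part s H ⊓ part p L = ⊥ := by
      obtain ⟨i, hi⟩ := IsPGroup.iff_card.mp (isPGroup_part s H)
      obtain ⟨j, hj⟩ := IsPGroup.iff_card.mp (isPGroup_part p L)
      exact (disjoint_of_coprime_natCard (by
        rw [hi, hj]; exact Nat.coprime_pow_primes i j Fact.out Fact.out hsp)).eq_bot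
    rw [hd, mem_bot, mul_inv_eq_one, mul_inv_eq_iff_eq_mul] at hc
    exact hc
  · obtain ⟨s, hs, hsp⟩ := Finset.exists_mem_ne
      (by omega : 1 < (Nat.card (Cfsg.fittingOf H)).primeFactors.card) p
    obtain ⟨hss, hsF, -⟩ := Nat.mem_primeFactors.mp hs
    refine le_trans ?_ (le_normalizer_part p L)
    refine le_trans ?_ (hZ s hss hsF).2.2
    refine le_trans ?_ (centralizer_le fun x hx => (key s hss hsF (hodd2 s hsF)).1 hx)
    exact inf_le_right.trans (iInf_le
      (fun s : {s : ℕ // s ∈ (Nat.card (Cfsg.fittingOf H)).primeFactors ∧ s ≠ p} =>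
        centralizer (part (s : ℕ) H : Set G)) ⟨s, hs, hsp⟩)

theorem centralizer_zPart_le (hG : Cfsg.IsMinSimpleOddOrder G) {H : Subgroup G} (hH : IsCoatom H)
    {r : ℕ} [Fact r.Prime] (hd : r ∣ Nat.card (Cfsg.fittingOf H)) :
    normalizer (zPart r H : Set G) ≤ H ∧ centralizer (zPart r H : Set G) ≤ H := by
  have hN : normalizer (zPart r H : Set G) ≤ H := by
    rcases (le_normalizer_zPart r H).lt_or_eq with h | h
    · exact absurd (hH.2 _ h) (TransitivityHyp.normalizer_ne_top hG (zPart_ne_bot hd)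
        fun ht => hH.1 (top_le_iff.mp (ht ▸ (inf_le_right.trans (part_le r H)))))
    · exact h.ge
  exact ⟨hN, (centralizer_le_normalizer _).trans hN⟩

theorem dvd_of_part_ne_bot {r : ℕ} [Fact r.Prime] {H : Subgroup G} (h : part r H ≠ ⊥) :
    r ∣ Nat.card (Cfsg.fittingOf H) := by
  obtain ⟨i, hi⟩ := IsPGroup.iff_card.mp (isPGroup_part r H)
  have hi0 : i ≠ 0 := by
    rintro rfl
    exact h (eq_bot_of_card_eq _ (by simpa using hi))
  exact ((dvd_pow_self r hi0).trans hi.symm.dvd).trans (card_dvd_of_le (part_le_fittingOf r H))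

/-- The uniqueness lemma. -/
theorem eq_of_invariant (hG : Cfsg.IsMinSimpleOddOrder G) {H : Subgroup G} (hH : IsCoatom H)
    (hF2 : 2 ≤ (Nat.card (Cfsg.fittingOf H)).primeFactors.card)
    {M : Subgroup G}
    (hZM : Cfsg.fittingOf H ⊓ centralizer (Cfsg.fittingOf H : Set G) ≤ M)
    (hinv : ∀ Y ∈ Cfsg.invSubgroups ⊤ M (Cfsg.primesNotDvd (Nat.card (Cfsg.fittingOf H))), Y = ⊥)
    {L : Subgroup G} (hL : IsCoatom L) (hML : M ≤ L) : L = H := by
  set F := Cfsg.fittingOf H
  set FL := Cfsg.fittingOf L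
  have hzL : ∀ r : ℕ, zPart r H ≤ L := fun r =>
    (inf_le_left.trans hZM).trans hML
  have hFLπ : ∀ r : ℕ, r.Prime → r ∣ Nat.card FL → r ∣ Nat.card F := by
    intro r hr hd
    by_contra hrF
    have := Fact.mk hr
    refine zPart_ne_bot hd ?_
    refine le_bot_iff.mp ((inf_le_right : zPart r L ≤ part r L).trans (le_bot_iff.mpr (hinv _ ⟨le_top, ?_, ?_⟩)))
    · intro t ht htd
      obtain ⟨i, hi⟩ := IsPGroup.iff_card.mp (isPGroup_part r L)
      rw [hi] at htd
      rw [(Nat.prime_dvd_prime_iff_eq ht hr).mp (ht.dvd_of_dvd_pow htd)]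
      exact ⟨hr, hrF⟩
    · exact hML.trans (le_normalizer_part r L)
  have hex : ∀ r : ℕ, ∃ s, s.Prime ∧ s ∣ Nat.card F ∧ s ≠ r := fun r => by
    obtain ⟨s, hs, hsr⟩ := Finset.exists_mem_ne
      (by omega : 1 < (Nat.card F).primeFactors.card) r
    exact ⟨s, (Nat.mem_primeFactors.mp hs).1, (Nat.mem_primeFactors.mp hs).2.1, hsr⟩
  have hcross : ∀ s : ℕ, s.Prime → s ∣ Nat.card F → part s L ≤ H ∧
      ∀ p : ℕ, p.Prime → p ∣ Nat.card F → s ≠ p → zPart p H ≤ centralizer (part s L : Set G) := by
    intro s hs hsF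
    have := Fact.mk hs
    have key : ∀ p : ℕ, p.Prime → p ∣ Nat.card F → s ≠ p →
        zPart p H ≤ centralizer (part s L : Set G) ∧ part s L ≤ H := by
      intro p hp hpF hsp
      have := Fact.mk hp
      exact cross hsp (centralizer_zPart_le hG hH hpF).2 (centralizer_zPart_le hG hH hsF).2
        ((hzL p).trans (le_normalizer_part s L)) ((hzL s).trans (le_normalizer_part s L))
    obtain ⟨p, hp, hpF, hps⟩ := hex s
    exact ⟨(key p hp hpF (Ne.symm hps)).2, fun t ht htF hst => (key t ht htF hst).1⟩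
  -- the prime sets agree
  have hπ : ∀ s : ℕ, s.Prime → s ∣ Nat.card F → s ∣ Nat.card FL := by
    intro s hs hsF
    by_contra hsL
    have := Fact.mk hs
    have hc : FL ≤ centralizer (zPart s H : Set G) := by
      refine le_of_parts le_rfl fun r hr hrL t ht => ?_
      have hrs : r ≠ s := fun e => hsL (e ▸ hrL)
      exact mem_centralizer_iff.mpr fun z hz =>
        (mem_centralizer_iff.mp ((hcross r hr (hFLπ r hr hrL)).2 s hs hsF hrs hz) t ht.1).symm
    have hsol : Group.IsSolvable L := hG.2.2.2 L hL.1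
    have hle : zPart s H ≤ FL := fun z hz => ⟨⟨z, hzL s hz⟩,
      Components.centralizer_fitting_le_of_isSolvable (mem_centralizer_iff.mpr fun y hy =>
        Subtype.ext (mem_centralizer_iff.mp (hc ⟨y, hy, rfl⟩) z hz).symm), rfl⟩
    obtain ⟨i, hi⟩ := IsPGroup.iff_card.mp (isPGroup_zPart s H)
    have hi0 : i ≠ 0 := by
      rintro rfl
      exact zPart_ne_bot hsF (eq_bot_of_card_eq _ (by simpa using hi))
    exact hsL (((dvd_pow_self s hi0).trans hi.symm.dvd).trans (card_dvd_of_le hle))
  have hsets : (Nat.card FL).primeFactors = (Nat.card F).primeFactors := by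
    ext r
    simp only [Nat.mem_primeFactors]
    exact ⟨fun h => ⟨h.1, hFLπ r h.1 h.2.1, Nat.card_pos.ne'⟩,
      fun h => ⟨h.1, hπ r h.1 h.2.1, Nat.card_pos.ne'⟩⟩
  have hcross' : ∀ s : ℕ, s.Prime → s ∣ Nat.card F → part s H ≤ L ∧
      ∀ p : ℕ, p.Prime → p ∣ Nat.card F → s ≠ p → zPart p L ≤ centralizer (part s H : Set G) := by
    intro s hs hsF
    have := Fact.mk hs
    have key : ∀ p : ℕ, p.Prime → p ∣ Nat.card F → s ≠ p →
        zPart p L ≤ centralizer (part s H : Set G) ∧ part s H ≤ L := by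
      intro p hp hpF hsp
      have := Fact.mk hp
      exact cross hsp (centralizer_zPart_le hG hL (hπ p hp hpF)).2
        (centralizer_zPart_le hG hL (hπ s hs hsF)).2
        ((inf_le_right.trans (hcross p hp hpF).1).trans (le_normalizer_part s H))
        ((inf_le_right.trans (hcross s hs hsF).1).trans (le_normalizer_part s H))
    obtain ⟨p, hp, hpF, hps⟩ := hex s
    exact ⟨(key p hp hpF (Ne.symm hps)).2, fun t ht htF hst => (key t ht htF hst).1⟩
  obtain ⟨p, hp, hpF, -⟩ := hex 0
  have := Fact.mk hp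
  have hp2 : p ≠ 2 := Uniqueness.odd_prime hG (hpF.trans (card_subgroup_dvd_card _))
  have hle1 : part p L ≤ part p H := part_le_part hG hp2 hH.1 (hcross p hp hpF).1
    (fun s hs hsF => (hcross' s hs hsF).1)
    (fun r hr hrF => by
      have := Fact.mk hr
      exact ⟨inf_le_right.trans (hcross r hr hrF).1,
        fun s hs hsF hsr => (hcross' s hs hsF).2 r hr hrF hsr,
        (centralizer_zPart_le hG hL (hπ r hr hrF)).2⟩) hpF hF2
  have hle2 : part p H ≤ part p L := part_le_part hG hp2 hL.1 (hcross' p hp hpF).1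
    (fun s hs hsL => (hcross s hs (hFLπ s hs hsL)).1)
    (fun r hr hrL => by
      have := Fact.mk hr
      have hrF := hFLπ r hr hrL
      exact ⟨inf_le_right.trans (hcross' r hr hrF).1,
        fun s hs hsL hsr => (hcross s hs (hFLπ s hs hsL)).2 r hr hrF hsr,
        (centralizer_zPart_le hG hH hrF).2⟩) (hπ p hp hpF) (hsets.symm ▸ hF2)
  have heq : part p L = part p H := le_antisymm hle1 hle2
  have hne : part p H ≠ ⊥ := fun e => zPart_ne_bot hpF (le_bot_iff.mp (e ▸ inf_le_right))
  have hnt : normalizer (part p H : Set G) ≠ ⊤ := TransitivityHyp.normalizer_ne_top hG hne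
    fun ht => hH.1 (top_le_iff.mp (ht ▸ part_le p H))
  obtain ⟨D, hD, hND⟩ := (eq_top_or_exists_le_coatom (normalizer (part p H : Set G))).resolve_left hnt
  have h1 : H ≤ D := (le_normalizer_part p H).trans hND
  have h2 : L ≤ D := (heq ▸ le_normalizer_part p L).trans hND
  rcases h1.lt_or_eq with h | h
  · exact absurd (hH.2 _ h) hD.1
  · rcases h2.lt_or_eq with h' | h'
    · exact absurd (hL.2 _ h') hD.1
    · exact h'.trans h.symm

end CfsgLib.TwoGroups.Bender
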