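import Mathlib

/-!
A group of type U₃(4) has no automorphism inducing a transvection on its centre, if its three
involutions are permuted transitively.
-/

set_option autoImplicit false
set_option linter.style.haveILetI false

namespace CfsgLib.TwoGroups.RankTwoTypes

open scoped commutatorElement

theorem no_transvection {T : Type*} [Group T] [Finite T] (U : Subgroup T)
    (hUc : U ≤ Subgroup.center T) (hT : Nat.card T = 64) (hU : Nat.card U = 4)
    (hinv : ∀ x : T, x ^ 2 = 1 ↔ x ∈ U) (hsq : ∀ x : T, x ^ 2 ∈ U)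
    (hcomm : ∀ x y : T, ⁅x, y⁆ ∈ U) (φ : MulAut T)
    (hφ : ∀ a b : T, orderOf a = 2 → orderOf b = 2 → ∃ k : ℕ, (φ ^ k) a = b)
    (σ : MulAut T) (z u : T) (hz : z ∈ U) (hu : u ∈ U) (hz1 : z ≠ 1) (hu1 : u ≠ 1) (huz : u ≠ z)
    (hσz : σ z = z) (hσu : σ u = z * u) (hσσ : ∀ x : T, x⁻¹ * σ (σ x) ∈ U) : False := by
  classical
  haveI : Fintype T := Fintype.ofFinite T
  have hcen : ∀ a ∈ U, ∀ x : T, x * a = a * x := fun a ha x => Subgroup.mem_center_iff.1 (hUc ha) x
  haveI : U.Normal := ⟨fun a ha g => by rw [hcen a ha, mul_inv_cancel_right]; exact ha⟩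
  have hUσ : ∀ a ∈ U, σ a ∈ U := fun a ha => (hinv _).1 (by rw [← map_pow, (hinv a).2 ha, map_one])
  -- the four elements of `U`
  have hU4 : ∀ a ∈ U, a = 1 ∨ a = z ∨ a = u ∨ a = z * u := by
    intro a ha
    by_contra hcon
    push Not at hcon
    obtain ⟨h1, h2, h3, h4⟩ := hcon
    have hzu1 : z * u ≠ 1 := fun h => huz (by
      rw [eq_inv_of_mul_eq_one_right h]
      exact inv_eq_of_mul_eq_one_right (by rw [← pow_two, (hinv z).2 hz]))
    have hzuz : z * u ≠ z := fun h => hu1 (mul_eq_left.1 h)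
    have hzuu : z * u ≠ u := fun h => hz1 (mul_eq_right.1 h)
    have h5 : ({1, z, u, z * u, a} : Finset T).card = 5 := by
      simp [Ne.symm h1, Ne.symm h2, Ne.symm h3, Ne.symm h4, hz1.symm, hu1.symm, hzu1.symm, huz.symm,
        hzuz.symm, hzuu.symm]
    have h6 : ({1, z, u, z * u, a} : Finset T).card ≤ Nat.card U := by
      rw [Nat.card_eq_fintype_card, Fintype.card_subtype]
      refine Finset.card_le_card fun x hx => ?_
      simp only [Finset.mem_insert, Finset.mem_singleton] at hx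
      rw [Finset.mem_filter]
      refine ⟨Finset.mem_univ x, ?_⟩
      rcases hx with rfl | rfl | rfl | rfl | rfl
      exacts [U.one_mem, hz, hu, U.mul_mem hz hu, ha]
    omega
  have hzz : z * z = 1 := by rw [← pow_two, (hinv z).2 hz]
  have hfix : ∀ a ∈ U, σ a = a → a = 1 ∨ a = z := by
    intro a ha h
    rcases hU4 a ha with rfl | rfl | rfl | rfl
    · exact Or.inl rfl
    · exact Or.inr rfl
    · rw [hσu] at h
      exact absurd (mul_eq_right.1 h) hz1
    · rw [map_mul, hσz, hσu, ← mul_assoc, hzz, one_mul] at h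
      exact absurd (mul_eq_right.1 h.symm) hz1
  -- `x ↦ x⁻¹ σ(x)` modulo `U`
  set π := QuotientGroup.mk' U
  have hab : ∀ a b : T ⧸ U, a * b = b * a := by
    intro a b
    obtain ⟨x, rfl⟩ := QuotientGroup.mk'_surjective U a
    obtain ⟨y, rfl⟩ := QuotientGroup.mk'_surjective U b
    rw [← commutatorElement_eq_one_iff_mul_comm, ← map_commutatorElement]
    exact (QuotientGroup.eq_one_iff _).2 (hcomm x y)
  letI : CommGroup (T ⧸ U) := { (inferInstance : Group (T ⧸ U)) with mul_comm := hab }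
  let τ : T →* T ⧸ U :=
    { toFun := fun x => (π x)⁻¹ * π (σ x)
      map_one' := by simp
      map_mul' := fun x y => by
        rw [map_mul, map_mul, map_mul, mul_inv, mul_mul_mul_comm] }
  have hτ : ∀ x, x ∈ τ.ker ↔ x⁻¹ * σ x ∈ U := fun x => by
    rw [MonoidHom.mem_ker, ← QuotientGroup.eq_one_iff]
    show (π x)⁻¹ * π (σ x) = 1 ↔ π (x⁻¹ * σ x) = 1
    rw [map_mul, map_inv]
  set K := τ.ker
  have hUK : U ≤ K := fun a ha => (hτ a).2 (U.mul_mem (U.inv_mem ha) (hUσ a ha))
  have hKsq : ∀ x ∈ K, x ^ 2 = 1 ∨ x ^ 2 = z := by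
    intro x hx
    refine hfix _ (hsq x) ?_
    have hc := (hτ x).1 hx
    have e : σ x = x * (x⁻¹ * σ x) := by group
    have hcm : Commute x (x⁻¹ * σ x) := hcen _ hc x
    rw [map_pow, e, hcm.mul_pow, (hinv _).2 hc, mul_one]
  have hmulsq : ∀ x y : T, (x * y) ^ 2 = x ^ 2 * y ^ 2 * ⁅y⁻¹, x⁻¹⁆ := fun x y => by
    rw [mul_assoc (x ^ 2), hcen _ (hcomm y⁻¹ x⁻¹) (y ^ 2)]
    have e : ⁅y⁻¹, x⁻¹⁆ = y⁻¹ * ⁅y⁻¹, x⁻¹⁆ * y := by
      rw [mul_assoc, ← hcen _ (hcomm y⁻¹ x⁻¹) y, inv_mul_cancel_left]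
    rw [← hcen _ (hcomm y⁻¹ x⁻¹) (y ^ 2), e, commutatorElement_def, pow_two (x * y)]
    group
  -- `|K| ≤ 16`
  have hK16 : Nat.card K ≤ 16 := by
    by_contra hgt
    obtain ⟨a, haK, haU⟩ : ∃ a ∈ K, a ∉ U := by
      by_contra h
      push Not at h
      have := Subgroup.card_le_of_le (show K ≤ U from h)
      omega
    have hsqz : ∀ x ∈ K, x ∉ U → x ^ 2 = z := fun x hx hxU =>
      (hKsq x hx).resolve_left fun h => hxU ((hinv x).1 h)
    have hcz : ∀ x ∈ K, ∀ y ∈ K, ⁅x, y⁆ = 1 ∨ ⁅x, y⁆ = z := by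
      intro x hx y hy
      have h1 := hmulsq y⁻¹ x⁻¹
      rw [inv_inv, inv_inv] at h1
      have h2 := hKsq _ (K.mul_mem (K.inv_mem hy) (K.inv_mem hx))
      have h3 := hKsq _ (K.inv_mem hy)
      have h4 := hKsq _ (K.inv_mem hx)
      rcases h2 with h2 | h2 <;> rcases h3 with h3 | h3 <;> rcases h4 with h4 | h4 <;>
        rw [h2, h3, h4] at h1 <;> simp [hzz] at h1 <;>
        first
          | exact Or.inl h1.symm
          | exact Or.inl h1
          | exact Or.inr h1.symm
          | exact Or.inr h1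
          | exact Or.inr (by
              have h5 : z * z = z * ⁅x, y⁆ := by rw [hzz, ← h1]
              exact (mul_left_cancel h5).symm)
    let χ : K →* T :=
      { toFun := fun b => ⁅a, (b : T)⁆
        map_one' := by simp
        map_mul' := fun b c => by
          show ⁅a, (b : T) * (c : T)⁆ = ⁅a, (b : T)⁆ * ⁅a, (c : T)⁆
          rw [commutatorElement_mul_right_eq_mul_conj]
          simp [mul_assoc, hcen _ (hcomm a c) (b : T)] }
    have hrange : Nat.card χ.range ≤ 2 := by
      have hsub : (χ.range : Set T) ⊆ ↑({1, z} : Finset T) := by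
        rintro x ⟨b, rfl⟩
        show ⁅a, (b : T)⁆ ∈ ↑({1, z} : Finset T)
        simpa using hcz a haK b b.2
      calc Nat.card χ.range = (χ.range : Set T).ncard := (Nat.card_coe_set_eq _)
        _ ≤ (↑({1, z} : Finset T) : Set T).ncard := Set.ncard_le_ncard hsub (Set.toFinite _)
        _ ≤ 2 := by rw [Set.ncard_coe_finset]; exact Finset.card_le_two
    set D := U ⊔ Subgroup.zpowers a
    have hD : Nat.card D ≤ 8 := by
      have h2 : ∀ x ∈ D, x ∈ U ∨ a⁻¹ * x ∈ U := by
        intro x hx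
        obtain ⟨c, hc, d, hd, rfl⟩ := Subgroup.mem_sup_of_normal_left.1 hx
        obtain ⟨k, rfl⟩ := Subgroup.mem_zpowers_iff.1 hd
        have hak : ∀ m : ℤ, a ^ (2 * m) ∈ U := fun m => by
          rw [zpow_mul]; exact Subgroup.zpow_mem _ (by simpa using hsq a) m
        rcases Int.even_or_odd k with ⟨m, rfl⟩ | ⟨m, rfl⟩
        · left; rw [← two_mul]; exact U.mul_mem hc (hak m)
        · right
          rw [← hcen c hc, zpow_add, zpow_one, ← mul_assoc, ← mul_assoc]
          refine U.mul_mem ?_ hc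
          have e : a⁻¹ * a ^ (2 * m) * a = a ^ (2 * m) := by group
          rw [e]; exact hak m
      let F : D → U ⊕ U := fun x => if h : (x : T) ∈ U then Sum.inl ⟨x, h⟩ else
        Sum.inr ⟨a⁻¹ * x, (h2 x x.2).resolve_left h⟩
      have hF : Function.Injective F := by
        intro x y h
        simp only [F] at h
        split_ifs at h <;> simp at h <;> exact h
      have := Nat.card_le_card_of_injective F hF
      rw [Nat.card_sum, hU] at this
      exact this
    obtain ⟨b, hb, hbD⟩ : ∃ b : K, b ∈ χ.ker ∧ (b : T) ∉ D := by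
      by_contra h
      push Not at h
      have h3 := Nat.card_le_card_of_injective
        (fun b : χ.ker => (⟨((b : K) : T), h b b.2⟩ : D))
        (fun x y hxy => Subtype.ext (Subtype.ext (congrArg (fun w : D => (w : T)) hxy)))
      have h4 := χ.ker.card_mul_index
      rw [Subgroup.index_ker] at h4
      have : Nat.card K ≤ 8 * 2 := h4 ▸ Nat.mul_le_mul (h3.trans hD) hrange
      omega
    have hbU : (b : T) ∉ U := fun h => hbD (Subgroup.mem_sup_left h)
    have hcab : Commute a (b : T) := commutatorElement_eq_one_iff_mul_comm.1 hb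
    have habU : a * b ∈ U := (hinv _).1 (by
      rw [hcab.mul_pow, hsqz a haK haU, hsqz b b.2 hbU, hzz])
    refine hbD ?_
    have := D.mul_mem (D.inv_mem (Subgroup.mem_sup_right (Subgroup.mem_zpowers a)))
      (Subgroup.mem_sup_left habU)
    simpa [← mul_assoc] using this
  -- the image of `τ` lies in `K / U`
  have hrange : τ.range ≤ K.map π := by
    rintro _ ⟨x, rfl⟩
    refine ⟨x⁻¹ * σ x, (hτ _).2 ?_, by show π (x⁻¹ * σ x) = (π x)⁻¹ * π (σ x); rw [map_mul, map_inv]⟩
    rw [← QuotientGroup.eq_one_iff]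
    show π ((x⁻¹ * σ x)⁻¹ * σ (x⁻¹ * σ x)) = 1
    have h1 : π (σ (σ x)) = π x := (QuotientGroup.eq.2 (hσσ x)).symm
    have h2 : ∀ y : T, π y * π y = 1 := fun y => by
      rw [← map_mul, ← pow_two]; exact (QuotientGroup.eq_one_iff _).2 (hsq y)
    have h3 : ∀ y : T, (π y)⁻¹ = π y := fun y => inv_eq_of_mul_eq_one_right (h2 y)
    rw [map_mul, map_inv, map_mul, map_inv, map_mul, map_inv, map_mul, map_inv, h1, h3, h3, mul_inv, h3,
      h3, mul_comm (π (σ x)) (π x), mul_mul_mul_comm, h2, h2, mul_one]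
  have hKU : Nat.card (K.map π) * 4 = Nat.card K := by
    have h := (π.comp K.subtype).ker.card_mul_index
    rw [Subgroup.index_ker, MonoidHom.range_comp, Subgroup.range_subtype] at h
    have h2 : Nat.card (π.comp K.subtype).ker = 4 := by
      rw [← hU, MonoidHom.ker, ← MonoidHom.ker, show (π.comp K.subtype).ker = U.subgroupOf K from by
        ext x; exact QuotientGroup.eq_one_iff _]
      exact Nat.card_congr (Subgroup.subgroupOfEquivOfLe hUK).toEquiv
    rw [h2] at h
    omega
  have hK : Nat.card K = 16 := by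
    have h := τ.ker.card_mul_index
    rw [Subgroup.index_ker, hT] at h
    change Nat.card K * Nat.card τ.range = 64 at h
    have h3 : Nat.card τ.range ≤ Nat.card (K.map π) := Subgroup.card_le_of_le hrange
    have h4 : Nat.card K * (Nat.card τ.range * 4) ≤ 16 * 16 :=
      Nat.mul_le_mul hK16 (by omega)
    have h5 : Nat.card K * Nat.card τ.range * 4 = 256 := by omega
    by_contra hne
    have h6 : Nat.card K * (Nat.card τ.range * 4) ≤ Nat.card K * Nat.card K :=
      Nat.mul_le_mul le_rfl (by omega)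
    have h7 : Nat.card K * Nat.card K < 16 * 16 :=
      Nat.mul_self_lt_mul_self (lt_of_le_of_ne hK16 hne)
    rw [← mul_assoc] at h6
    omega
  -- squares
  set P : T → Prop := fun x => x ^ 2 = 1 ∨ x ^ 2 = z
  have hfib : ∀ a b : T, orderOf a = 2 → orderOf b = 2 →
      (Finset.univ.filter fun x : T => x ^ 2 = a).card = (Finset.univ.filter fun x : T => x ^ 2 = b).card := by
    intro a b ha hb
    obtain ⟨k, hk⟩ := hφ a b ha hb
    refine Finset.card_equiv (φ ^ k).toEquiv fun x => ?_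
    simp only [Finset.mem_filter, Finset.mem_univ, true_and]
    show x ^ 2 = a ↔ ((φ ^ k) x) ^ 2 = b
    rw [← map_pow, ← hk, EmbeddingLike.apply_eq_iff_eq]
  have hzu1 : z * u ≠ 1 := fun h => huz (by
    rw [eq_inv_of_mul_eq_one_right h]; exact inv_eq_of_mul_eq_one_right hzz)
  have ho : ∀ a ∈ U, a ≠ 1 → orderOf a = 2 := fun a ha h => orderOf_eq_prime ((hinv a).2 ha) h
  have hc1 : (Finset.univ.filter fun x : T => x ^ 2 = 1).card = 4 := by
    rw [← hU, Nat.card_eq_fintype_card, Fintype.card_subtype]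
    exact congrArg Finset.card (Finset.filter_congr fun x _ => hinv x)
  have hcz : (Finset.univ.filter fun x : T => x ^ 2 = z).card = 20 := by
    have h1 := hfib z u (ho z hz hz1) (ho u hu hu1)
    have h2 := hfib z (z * u) (ho z hz hz1) (ho _ (U.mul_mem hz hu) hzu1)
    have hsum := Finset.card_eq_sum_card_fiberwise (s := (Finset.univ : Finset T)) (f := fun x => x ^ 2)
      (t := ({1, z, u, z * u} : Finset T)) (fun x _ => by
        simpa using hU4 _ (hsq x))
    rw [Finset.card_univ, ← Nat.card_eq_fintype_card, hT] at hsum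
    rw [Finset.sum_insert, Finset.sum_insert, Finset.sum_insert, Finset.sum_singleton, hc1, ← h1, ← h2]
      at hsum
    · omega
    · simp only [Finset.mem_singleton]; exact fun h => hz1 (mul_eq_right.1 h.symm)
    · simp only [Finset.mem_insert, Finset.mem_singleton, not_or]
      exact ⟨huz.symm, fun h => hu1 (mul_eq_left.1 h.symm)⟩
    · simp only [Finset.mem_insert, Finset.mem_singleton, not_or]
      exact ⟨hz1.symm, hu1.symm, hzu1.symm⟩
  have hP24 : (Finset.univ.filter P).card = 24 := by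
    rw [Finset.filter_or, Finset.card_union_of_disjoint (Finset.disjoint_filter.2 fun x _ h1 h2 =>
      hz1 (h2.symm.trans h1)), hc1, hcz]
  -- modulo `z`
  haveI : (Subgroup.zpowers z).Normal :=
    ⟨fun a ha g => by
      rw [hcen a ((Subgroup.zpowers_le.2 hz) ha), mul_inv_cancel_right]; exact ha⟩
  set ρ := QuotientGroup.mk' (Subgroup.zpowers z)
  have hρ : ∀ a, ρ a = 1 ↔ a = 1 ∨ a = z := by
    intro a
    rw [show ρ a = 1 ↔ a ∈ Subgroup.zpowers z from QuotientGroup.eq_one_iff a, Subgroup.mem_zpowers_iff]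
    constructor
    · rintro ⟨k, rfl⟩
      rcases Int.even_or_odd k with ⟨m, rfl⟩ | ⟨m, rfl⟩
      · left; rw [zpow_add, ← (Commute.refl z).mul_zpow, hzz, one_zpow]
      · right; rw [zpow_add, zpow_one, two_mul, zpow_add, ← (Commute.refl z).mul_zpow, hzz, one_zpow, one_mul]
    · rintro (rfl | rfl)
      · exact ⟨0, zpow_zero z⟩
      · exact ⟨1, zpow_one a⟩
  have hρU : ∀ a ∈ U, ∀ b ∈ U, ρ a ≠ 1 → ρ b ≠ 1 → ρ a * ρ b = 1 := by
    intro a ha b hb hna hnb
    rw [ne_eq, hρ] at hna hnb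
    rw [← map_mul, hρ]
    have huu : u * u = 1 := by rw [← pow_two, (hinv u).2 hu]
    have huzc : u * z = z * u := hcen z hz u
    rcases hU4 a ha with rfl | rfl | rfl | rfl
    · simp at hna
    · simp at hna
    all_goals rcases hU4 b hb with rfl | rfl | rfl | rfl
    all_goals first
      | (simp at hnb; done)
      | (left; exact huu)
      | (right; rw [← mul_assoc, huzc, mul_assoc, huu, mul_one])
      | (right; rw [mul_assoc, huu, mul_one])
      | (left; rw [mul_assoc, ← mul_assoc u z u, huzc, mul_assoc z u u, huu, mul_one, hzz])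
  have hPρ : ∀ x : T, P x ↔ ρ (x ^ 2) = 1 := fun x => (hρ _).symm
  have hexp : ∀ x y : T, ρ ((x * y) ^ 2) = ρ (x ^ 2) * ρ (y ^ 2) * ρ ⁅y⁻¹, x⁻¹⁆ := fun x y => by
    rw [hmulsq, map_mul, map_mul]
  have hKP : ∀ k ∈ K, P k := hKsq
  -- an element outside `K` with square in `⟨z⟩`
  obtain ⟨a, haP, haK⟩ : ∃ a, P a ∧ a ∉ K := by
    by_contra h
    push Not at h
    have h1 : (Finset.univ.filter P).card ≤ Nat.card K := by
      rw [Nat.card_eq_fintype_card, Fintype.card_subtype]
      exact Finset.card_le_card fun x hx => by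
        rw [Finset.mem_filter] at hx ⊢
        exact ⟨hx.1, h x hx.2⟩
    omega
  -- a coset `c K` missing those elements commutes with `K` modulo `z`
  have hcoset : ∀ c : T, (∀ k ∈ K, ¬ P (c * k)) → ∀ k ∈ K, ρ ⁅k⁻¹, c⁻¹⁆ = 1 := by
    intro c hc k hk
    by_contra hne
    have h1 : ρ (c ^ 2) ≠ 1 := by
      rw [ne_eq, ← hPρ]; simpa using hc 1 K.one_mem
    refine hc k hk ((hPρ _).2 ?_)
    rw [hexp, (hPρ k).1 (hKP k hk), mul_one]
    exact hρU _ (hsq c) _ (hcomm _ _) h1 hne
  have hak : ∀ k ∈ K, (P (a * k) ↔ ρ ⁅k⁻¹, a⁻¹⁆ = 1) := by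
    intro k hk
    rw [hPρ, hexp, (hPρ k).1 (hKP k hk), (hPρ a).1 haP, one_mul, one_mul]
  -- half of `a K` has square in `⟨z⟩`
  let γ : K →* T ⧸ Subgroup.zpowers z :=
    { toFun := fun k => ρ ⁅(k : T)⁻¹, a⁻¹⁆
      map_one' := by simp
      map_mul' := fun k l => by
        rw [← map_mul]
        congr 1
        rw [Subgroup.coe_mul, mul_inv_rev, commutatorElement_mul_left_eq_conj_mul,
          hcen _ (hcomm _ _) (l : T)⁻¹, mul_inv_cancel_right] }
  have hγr : Nat.card γ.range ≤ 2 := by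
    have hsub : (γ.range : Set (T ⧸ Subgroup.zpowers z)) ⊆ {1, ρ u} := by
      rintro x ⟨k, rfl⟩
      show ρ _ ∈ _
      rcases hU4 _ (hcomm (k : T)⁻¹ a⁻¹) with h | h | h | h <;> rw [h]
      · left; exact map_one ρ
      · left; exact (hρ z).2 (Or.inr rfl)
      · right; exact rfl
      · right; rw [map_mul, (hρ z).2 (Or.inr rfl), one_mul]; exact rfl
    calc Nat.card γ.range = (γ.range : Set (T ⧸ Subgroup.zpowers z)).ncard := (Nat.card_coe_set_eq _)
      _ ≤ ({1, ρ u} : Set (T ⧸ Subgroup.zpowers z)).ncard := Set.ncard_le_ncard hsub (Set.toFinite _)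
      _ ≤ 2 := by
        refine (Set.ncard_insert_le _ _).trans ?_
        rw [Set.ncard_singleton]
  have hker8 : 8 ≤ Nat.card γ.ker := by
    have h := γ.ker.card_mul_index
    rw [Subgroup.index_ker, hK] at h
    have := Nat.mul_le_mul (le_refl (Nat.card γ.ker)) hγr
    omega
  let S1 : Finset T := Finset.univ.filter fun x => P x ∧ x ∉ K
  have hS1 : S1.card = 8 := by
    have h1 := Finset.card_filter_add_card_filter_not (s := Finset.univ.filter P) (fun x => x ∈ K)
    rw [hP24, Finset.filter_filter, Finset.filter_filter] at h1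
    have h2 : (Finset.univ.filter fun x => P x ∧ x ∈ K).card = 16 := by
      rw [← hK, Nat.card_eq_fintype_card, Fintype.card_subtype]
      exact congrArg Finset.card (Finset.filter_congr fun x _ => ⟨fun h => h.2, fun h => ⟨hKP x h, h⟩⟩)
    show (Finset.univ.filter fun x => P x ∧ x ∉ K).card = 8
    omega
  let g2 : γ.ker → T := fun k => a * (((k : K)) : T)
  let S2 : Finset T := (Finset.univ : Finset γ.ker).image g2
  have hS2 : Nat.card γ.ker = S2.card := by
    show _ = ((Finset.univ : Finset γ.ker).image g2).card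
    rw [Finset.card_image_of_injective _ (fun k l h => Subtype.ext (Subtype.ext (mul_left_cancel h)) :
      Function.Injective g2), Finset.card_univ, Nat.card_eq_fintype_card]
  have hS21 : S2 ⊆ S1 := by
    intro x hx
    obtain ⟨k, -, rfl⟩ := Finset.mem_image.1 hx
    refine Finset.mem_filter.2 ⟨Finset.mem_univ _, (hak _ (k : K).2).2 k.2, fun h => haK ?_⟩
    exact (Subgroup.mul_mem_cancel_right _ (k : K).2).1 h
  have hEq : S2 = S1 := Finset.eq_of_subset_of_card_le hS21 (by omega)
  have hγne : ∃ k : K, k ∉ γ.ker := by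
    by_contra h
    push Not at h
    have : γ.ker = ⊤ := top_unique fun k _ => h k
    have h9 := hS2
    rw [this, Subgroup.card_top, hK, hEq] at h9
    omega
  obtain ⟨k0, hk0⟩ := hγne
  -- a coset distinct from `K` and `a K`
  obtain ⟨c, hcK, hcaK⟩ : ∃ c, c ∉ K ∧ a⁻¹ * c ∉ K := by
    by_contra h
    push Not at h
    have hle : (Finset.univ : Finset T).card ≤
        (Finset.univ.filter (fun x => x ∈ K)).card + (Finset.univ.filter (fun x => a⁻¹ * x ∈ K)).card := by
      refine le_trans (Finset.card_le_card fun x _ => ?_) (Finset.card_union_le _ _)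
      rw [Finset.mem_union, Finset.mem_filter, Finset.mem_filter]
      by_cases hx : x ∈ K
      · exact Or.inl ⟨Finset.mem_univ x, hx⟩
      · exact Or.inr ⟨Finset.mem_univ x, h x hx⟩
    have e : (Finset.univ.filter (fun x => a⁻¹ * x ∈ K)).card =
        (Finset.univ.filter (fun x => x ∈ K)).card :=
      Finset.card_equiv (Equiv.mulLeft a⁻¹) fun x => by simp
    rw [e, Finset.card_univ, ← Nat.card_eq_fintype_card, hT, ← Fintype.card_subtype,
      ← Nat.card_eq_fintype_card] at hle
    change 64 ≤ Nat.card K + Nat.card K at hle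
    omega
  have hout : ∀ c' : T, c' ∉ K → a⁻¹ * c' ∉ K → ∀ k ∈ K, ¬ P (c' * k) := by
    intro c' h1 h2 k hk hP
    have hmem : c' * k ∈ S2 := by
      rw [hEq]
      exact Finset.mem_filter.2 ⟨Finset.mem_univ _, hP, fun h => h1 ((Subgroup.mul_mem_cancel_right _ hk).1 h)⟩
    obtain ⟨l, -, hl⟩ := Finset.mem_image.1 hmem
    apply h2
    have : a⁻¹ * c' = ((l : K) : T) * k⁻¹ := by
      rw [eq_mul_inv_iff_mul_eq, mul_assoc, ← hl, inv_mul_cancel_left]
    rw [this]
    exact K.mul_mem (l : K).2 (K.inv_mem hk)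
  have hτπ : ∀ x, x ∈ K ↔ τ x = 1 := fun x => Iff.rfl
  have hτsq : ∀ x, τ x * τ x = 1 := fun x => by
    rw [← map_mul, ← pow_two, ← hτπ]; exact hUK (hsq x)
  have hacK : a * c ∉ K := fun h => hcaK (by
    rw [hτπ, map_mul] at h
    rw [hτπ, map_mul, map_inv, inv_eq_of_mul_eq_one_right (hτsq a)]
    exact h)
  have hb1 := hcoset c (hout c hcK hcaK) k0 k0.2
  have hb2 := hcoset (a * c) (hout (a * c) hacK (by rw [inv_mul_cancel_left]; exact hcK)) k0 k0.2
  rw [mul_inv_rev, commutatorElement_mul_right_eq_mul_conj, mul_assoc ⁅(k0 : T)⁻¹, c⁻¹⁆ c⁻¹,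
    mul_assoc ⁅(k0 : T)⁻¹, c⁻¹⁆, hcen _ (hcomm _ _) c⁻¹, mul_inv_cancel_right, map_mul, hb1,
    one_mul] at hb2
  exact hk0 hb2

end CfsgLib.TwoGroups.RankTwoTypes
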