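import Cfsg.Prelude.Def_TwoFusion
import Cfsg.Agent.S1237
import Cfsg.Agent.S1248
import Cfsg.Agent.Lib.TwoGroups.MapEquiv
import Cfsg.Agent.Lib.TwoGroups.RankTwoExtension
import Cfsg.Agent.Lib.TwoGroups.RankTwoMaxClass

/-!
Alperin: the Sylow 2-subgroups of a group of 2-rank two without isolated involutions.
-/

set_option autoImplicit false
set_option linter.style.haveILetI false

namespace CfsgLib.TwoGroups.RankTwoTypes

open scoped commutatorElement

theorem exists_zmod_root {n : ℕ} (hn : 1 ≤ n) (x : ZMod (2 ^ n)) (hx : 2 • x = 0) :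
    ∃ y : ZMod (2 ^ n), 2 ^ (n - 1) • y = x := by
  haveI : NeZero (2 ^ n) := ⟨pow_ne_zero _ two_ne_zero⟩
  have h1 : 2 ^ n ∣ 2 * x.val := by
    rw [← ZMod.natCast_eq_zero_iff, Nat.cast_mul, ZMod.natCast_zmod_val, Nat.cast_ofNat, two_mul,
      ← two_nsmul]
    exact hx
  have h2 : 2 * 2 ^ (n - 1) = 2 ^ n := by rw [← pow_succ']; congr 1; omega
  obtain ⟨k, hk⟩ := Nat.dvd_of_mul_dvd_mul_left two_pos (h2.dvd.trans h1)
  refine ⟨(k : ZMod (2 ^ n)), ?_⟩
  rw [nsmul_eq_mul, ← Nat.cast_mul, ← hk, ZMod.natCast_zmod_val]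

variable {G : Type*} [Group G]

theorem cycle_transitive {U : Subgroup G} {n a b c : G}
    (hall : ∀ x ∈ U, x ≠ 1 → x = a ∨ x = b ∨ x = c) (hab : n * a * n⁻¹ = b) (hbc : n * b * n⁻¹ = c)
    (hca : n * c * n⁻¹ = a) :
    ∀ x ∈ U, x ≠ 1 → ∀ y ∈ U, y ≠ 1 → ∃ k : ℕ, n ^ k * x * (n ^ k)⁻¹ = y := by
  have hstep : ∀ x y : G, n * x * n⁻¹ = y → ∀ w : G, n * y * n⁻¹ = w →
      n ^ 2 * x * (n ^ 2)⁻¹ = w := by
    intro x y h1 w h2
    calc n ^ 2 * x * (n ^ 2)⁻¹ = n * (n * x * n⁻¹) * n⁻¹ := by rw [pow_two]; group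
      _ = w := by rw [h1, h2]
  have h0 : ∀ x : G, n ^ 0 * x * (n ^ 0)⁻¹ = x := fun x => by simp
  have h1 : ∀ x y : G, n * x * n⁻¹ = y → n ^ 1 * x * (n ^ 1)⁻¹ = y := fun x y h => by simpa using h
  intro x hx hx1 y hy hy1
  rcases hall x hx hx1 with rfl | rfl | rfl <;> rcases hall y hy hy1 with rfl | rfl | rfl
  exacts [⟨0, h0 _⟩, ⟨1, h1 _ _ hab⟩, ⟨2, hstep _ _ hab _ hbc⟩, ⟨2, hstep _ _ hbc _ hca⟩, ⟨0, h0 _⟩,
    ⟨1, h1 _ _ hbc⟩, ⟨1, h1 _ _ hca⟩, ⟨2, hstep _ _ hca _ hab⟩, ⟨0, h0 _⟩]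

variable [Finite G]

theorem four_cases {U : Subgroup G} (hU2 : ∀ x ∈ U, x ^ 2 = 1) (hU4 : Nat.card U = 4) {a b : G}
    (ha : a ∈ U) (hb : b ∈ U) (ha1 : a ≠ 1) (hb1 : b ≠ 1) (hab : a ≠ b) :
    ∀ x ∈ U, x ≠ 1 → x = a ∨ x = b ∨ x = a * b := by
  classical
  intro x hx hx1
  by_contra hcon
  push Not at hcon
  obtain ⟨h1, h2, h3⟩ := hcon
  have hab1 : a * b ≠ 1 := fun h => hab (by
    rw [eq_inv_of_mul_eq_one_left h]
    exact inv_eq_of_mul_eq_one_right (by rw [← pow_two]; exact hU2 b hb))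
  haveI : Fintype U := Fintype.ofFinite _
  have h5 : ({1, ⟨a, ha⟩, ⟨b, hb⟩, ⟨a * b, U.mul_mem ha hb⟩, ⟨x, hx⟩} : Finset U).card = 5 := by
    simp [Subtype.ext_iff, ha1.symm, hb1.symm, hab1.symm, hx1.symm, hab, Ne.symm h1, Ne.symm h2,
      Ne.symm h3, ha1, hb1]
  have h6 := Finset.card_le_univ ({1, ⟨a, ha⟩, ⟨b, hb⟩, ⟨a * b, U.mul_mem ha hb⟩, ⟨x, hx⟩} : Finset U)
  rw [h5, ← Nat.card_eq_fintype_card, hU4] at h6
  omega

/-- A 2-subgroup of `C(z)` can be moved into a Sylow subgroup centralizing `z`. -/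
theorem exists_conj_le_sylow (S : Sylow 2 G) {K : Subgroup G} (hSK : (S : Subgroup G) ≤ K)
    {R : Subgroup G} (hR : IsPGroup 2 R) (hRK : R ≤ K) :
    ∃ c ∈ K, ∀ r ∈ R, c * r * c⁻¹ ∈ (S : Subgroup G) := by
  haveI : Fact (Nat.Prime 2) := ⟨Nat.prime_two⟩
  obtain ⟨Q, hQ⟩ := (hR.comap_of_injective K.subtype K.subtype_injective).exists_le_sylow
  obtain ⟨c, hc⟩ := MulAction.exists_smul_eq K Q (S.subtype hSK)
  refine ⟨c, c.2, fun r hr => ?_⟩
  have h1 : MulAut.conj c (⟨r, hRK hr⟩ : K) ∈ ((c • Q : Sylow 2 K) : Subgroup K) := by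
    rw [Sylow.coe_subgroup_smul]
    exact Subgroup.smul_mem_pointwise_smul _ (MulAut.conj c) _ (hQ hr)
  rw [hc] at h1
  exact h1

/-- An element permuting the involutions of a normal four-group transitively and normalizing
`S ∩ C(U)`. -/
theorem exists_normalizing_cycle (S : Sylow 2 G) {U : Subgroup G}
    (hUn : (S : Subgroup G) ≤ Subgroup.normalizer (U : Set G)) {n : G}
    (hn : n ∈ Subgroup.normalizer (U : Set G)) :
    ∃ m ∈ Subgroup.normalizer (((S : Subgroup G) ⊓ Subgroup.centralizer (U : Set G) : Subgroup G) : Set G),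
      ∀ x ∈ U, m * x * m⁻¹ = n * x * n⁻¹ := by
  haveI : Fact (Nat.Prime 2) := ⟨Nat.prime_two⟩
  set C := Subgroup.centralizer (U : Set G)
  set T := (S : Subgroup G) ⊓ C
  set N := Subgroup.normalizer (U : Set G)
  have hCN : C ≤ N := Subgroup.centralizer_le_normalizer _
  have hconjC : ∀ g ∈ N, ∀ c ∈ C, g * c * g⁻¹ ∈ C := by
    intro g hg c hc
    refine Subgroup.mem_centralizer_iff.2 fun x hx => ?_
    have hx' : g⁻¹ * x * g ∈ U := by simpa using (Subgroup.mem_normalizer_iff.1 (N.inv_mem hg) x).1 hx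
    have h := Subgroup.mem_centralizer_iff.1 hc _ hx'
    calc x * (g * c * g⁻¹) = g * ((g⁻¹ * x * g) * c) * g⁻¹ := by group
      _ = g * (c * (g⁻¹ * x * g)) * g⁻¹ := by rw [h]
      _ = g * c * g⁻¹ * x := by group
  have hTp : IsPGroup 2 T := S.isPGroup'.to_le inf_le_left
  -- `T` is a Sylow subgroup of `C`
  have hmax : ∀ R : Subgroup G, IsPGroup 2 R → R ≤ C → Nat.card R ≤ Nat.card T := by
    intro R hR hRC
    obtain ⟨c, hc, hcR⟩ := exists_conj_le_sylow S hUn hR (hRC.trans hCN)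
    calc Nat.card R = Nat.card (R.map (MulAut.conj c).toMonoidHom) :=
          (Subgroup.card_map_of_injective (MulAut.conj c).injective).symm
      _ ≤ Nat.card T := Subgroup.card_le_of_le (by
          rintro _ ⟨r, hr, rfl⟩
          exact ⟨hcR r hr, hconjC c hc r (hRC hr)⟩)
  set R := T.map (MulAut.conj n).toMonoidHom
  have hRC : R ≤ C := by
    rintro _ ⟨t, ht, rfl⟩
    exact hconjC n hn t ht.2
  obtain ⟨PT, hPT⟩ := (hTp.comap_of_injective C.subtype C.subtype_injective).exists_le_sylow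
  obtain ⟨PR, hPR⟩ := ((hTp.map (MulAut.conj n).toMonoidHom).comap_of_injective C.subtype
    C.subtype_injective).exists_le_sylow
  obtain ⟨c, hc⟩ := MulAction.exists_smul_eq C PR PT
  have hPTeq : (PT : Subgroup C).map C.subtype = T := by
    refine (Subgroup.eq_of_le_of_card_ge (fun t ht => ?_) ?_).symm
    · exact ⟨⟨t, ht.2⟩, hPT (show (⟨t, ht.2⟩ : C) ∈ T.comap C.subtype from ht), rfl⟩
    · exact hmax _ (PT.isPGroup'.map _) (Subgroup.map_subtype_le _)
  refine ⟨(c : G) * n, Subgroup.mem_normalizer_iff_map_conj_eq.2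
    (Subgroup.eq_of_le_of_card_ge ?_ ?_), fun x hx => ?_⟩
  · rintro _ ⟨t, ht, rfl⟩
    have hrR : n * t * n⁻¹ ∈ R := ⟨t, ht, rfl⟩
    have h1 : MulAut.conj c (⟨n * t * n⁻¹, hRC hrR⟩ : C) ∈ ((c • PR : Sylow 2 C) : Subgroup C) := by
      rw [Sylow.coe_subgroup_smul]
      exact Subgroup.smul_mem_pointwise_smul _ (MulAut.conj c) _ (hPR hrR)
    rw [hc] at h1
    have h2 : (c : G) * (n * t * n⁻¹) * (c : G)⁻¹ ∈ T := hPTeq ▸ ⟨_, h1, rfl⟩
    show (c : G) * n * t * ((c : G) * n)⁻¹ ∈ T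
    simpa [mul_assoc] using h2
  · rw [Subgroup.card_map_of_injective (MulAut.conj ((c : G) * n)).injective]
  · have h1 := Subgroup.mem_centralizer_iff.1 c.2 (n * x * n⁻¹) ((Subgroup.mem_normalizer_iff.1 hn x).1 hx)
    calc (c : G) * n * x * ((c : G) * n)⁻¹ = ((c : G) * (n * x * n⁻¹)) * (c : G)⁻¹ := by group
      _ = n * x * n⁻¹ := by rw [← h1, mul_inv_cancel_right]

universe u v

/-- The conclusion of Alperin's theorem. -/
def Types (S : Type u) [Group S] (Q : Type v) [Group Q] : Prop :=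
  (∃ m : ℕ, 2 ≤ m ∧ Nonempty (S ≃* DihedralGroup m)) ∨ Cfsg.IsQuasiDihedral S ∨ Cfsg.IsWreathed S ∨
    (∃ n : ℕ, 2 ≤ n ∧ Nonempty (S ≃* Multiplicative (ZMod (2 ^ n) × ZMod (2 ^ n)))) ∨ Nonempty (S ≃* Q)

theorem types_of_dihOrQD {S : Type u} [Group S] {Q : Type v} [Group Q] (h : IsDihOrQD S) :
    Types S Q :=
  h.elim Or.inl fun h => Or.inr (Or.inl h)

theorem klein_dihedral {K : Type*} [Group K] [Finite K] (e : K ≃* Multiplicative (ZMod 2 × ZMod 2)) :
    Nonempty (K ≃* DihedralGroup 2) := by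
  haveI : IsKleinFour (Multiplicative (ZMod 2 × ZMod 2)) :=
    ⟨by simp [Nat.card_prod], by
      rw [Monoid.exponent_multiplicative, AddMonoid.exponent_prod, ZMod.exponent]; rfl⟩
  haveI : IsKleinFour K := CfsgLib.TwoGroups.isKleinFour_of_equiv e.symm
  exact IsKleinFour.nonempty_mulEquiv

section Main

variable {F : Type*} [Field F] [Fintype F]

theorem main (h2 : Cfsg.PRankLE 2 2 G) (h1 : ¬ Cfsg.PRankLE 2 1 G)
    (hiso : ∀ z : G, ¬ Cfsg.IsIsolatedInvolution z) (S : Sylow 2 G) (hF : Fintype.card F = 16)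
    (P : Sylow 2 (Cfsg.PSU 3 F 4)) :
    Types (S : Subgroup G) (P : Subgroup (Cfsg.PSU 3 F 4)) := by
  classical
  haveI : Fact (Nat.Prime 2) := ⟨Nat.prime_two⟩
  -- `S` has rank two
  unfold Cfsg.PRankLE at h1
  push Not at h1
  obtain ⟨A, hAc, hA2, hA4⟩ := h1
  obtain ⟨S', hAS'⟩ := (show IsPGroup 2 A from fun a => ⟨1, Subtype.ext (by
    rw [pow_one]; exact hA2 a a.2)⟩).exists_le_sylow
  obtain ⟨g0, hg0⟩ := MulAction.exists_smul_eq G S' S
  let f : A →* (S : Subgroup G) :=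
    ((MulAut.conj g0).toMonoidHom.comp A.subtype).codRestrict (S : Subgroup G) fun a => by
      rw [← hg0, Sylow.coe_subgroup_smul]
      exact Subgroup.smul_mem_pointwise_smul _ (MulAut.conj g0) _ (hAS' a.2)
  have hf : Function.Injective f := fun a b h =>
    Subtype.ext ((MulAut.conj g0).injective (congrArg Subtype.val h))
  haveI := hAc
  have hrankS : ∀ B : Subgroup (S : Subgroup G), IsMulCommutative B → (∀ b ∈ B, b ^ 2 = 1) →
      Nat.card B ≤ 4 := by
    intro B hBc hB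
    rw [Nat.card_congr (B.equivMapOfInjective _ (Subgroup.subtype_injective _)).toEquiv]
    haveI := hBc
    refine h2 _ inferInstance ?_
    rintro _ ⟨b, hb, rfl⟩
    exact congrArg Subtype.val (hB b hb)
  have hfc : Nat.card f.range = 4 := by
    have hle : Nat.card f.range ≤ 4 := hrankS _ inferInstance (by
      rintro _ ⟨a, rfl⟩; rw [← map_pow, show a ^ 2 = 1 from Subtype.ext (hA2 a a.2), map_one])
    have hc : Nat.card A = Nat.card f.range := Nat.card_congr (MonoidHom.ofInjective hf).toEquiv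
    obtain ⟨k, hk⟩ := IsPGroup.iff_card.1 (S.isPGroup'.to_subgroup f.range)
    rw [← hc] at hle ⊢
    rw [← hc] at hk
    rw [hk] at hA4 ⊢ hle
    have hk2 : 2 ≤ k := by
      by_contra hlt
      have := Nat.pow_le_pow_right two_pos (show k ≤ 1 by omega)
      omega
    have := Nat.pow_le_pow_right two_pos hk2
    omega
  rcases normal_four_or S.isPGroup' hrankS (B := f.range) inferInstance (by
      rintro _ ⟨a, rfl⟩; rw [← map_pow, show a ^ 2 = 1 from Subtype.ext (hA2 a a.2), map_one]) hfc with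
    h | ⟨U₀, hU₀n, hU₀c, hU₀2, hU₀4⟩
  · exact types_of_dihOrQD h
  set U : Subgroup G := U₀.map (S : Subgroup G).subtype
  have hUS : U ≤ (S : Subgroup G) := Subgroup.map_subtype_le _
  haveI := hU₀c
  haveI hUc : IsMulCommutative U := inferInstance
  have hU4 : Nat.card U = 4 := by
    rw [← Nat.card_congr (U₀.equivMapOfInjective _ (Subgroup.subtype_injective _)).toEquiv, hU₀4]
  have hU2 : ∀ x ∈ U, x ^ 2 = 1 := by
    rintro _ ⟨a, ha, rfl⟩; exact congrArg Subtype.val (hU₀2 a ha)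
  have hsq : ∀ x : G, x ^ 2 = 1 → x * x = 1 := fun x hx => by rw [← pow_two, hx]
  have hUn : (S : Subgroup G) ≤ Subgroup.normalizer (U : Set G) := by
    intro s hs
    refine Subgroup.mem_normalizer_iff.2 fun y => ⟨?_, fun hy => ?_⟩
    · rintro ⟨a, ha, rfl⟩
      exact ⟨⟨s, hs⟩ * a * ⟨s, hs⟩⁻¹, hU₀n.conj_mem a ha _, rfl⟩
    · obtain ⟨a, ha, hay⟩ := hy
      refine ⟨⟨s, hs⟩⁻¹ * a * ⟨s, hs⟩⁻¹⁻¹, hU₀n.conj_mem a ha _, ?_⟩
      show s⁻¹ * ((S : Subgroup G).subtype a) * s⁻¹⁻¹ = y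
      rw [hay]; group
  -- a central involution `z` in `U`
  obtain ⟨z, hzU, hz1, hzS⟩ : ∃ z ∈ U, z ≠ 1 ∧ ∀ s ∈ (S : Subgroup G), s * z = z * s := by
    haveI := S.isPGroup'.isNilpotent
    haveI := hU₀n
    have hne : U₀ ≠ ⊥ := fun h => by rw [h, Subgroup.card_bot] at hU₀4; omega
    have h := Core.inf_center_ne_bot_of_isNilpotent U₀ hne
    rw [Ne, Subgroup.eq_bot_iff_forall] at h
    push Not at h
    obtain ⟨a, ha, ha1⟩ := h
    exact ⟨a, ⟨a, ha.1, rfl⟩, fun hh => ha1 (Subtype.ext hh),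
      fun s hs => congrArg Subtype.val (Subgroup.mem_center_iff.1 ha.2 ⟨s, hs⟩)⟩
  have hzo : orderOf z = 2 := orderOf_eq_prime (hU2 z hzU) hz1
  have hzi : z * z = 1 := hsq z (hU2 z hzU)
  set T : Subgroup G := (S : Subgroup G) ⊓ Subgroup.centralizer (U : Set G) with hTdef
  have hUT : U ≤ T := le_inf hUS (Subgroup.le_centralizer_iff_isMulCommutative.2 hUc)
  have hTinv : ∀ x ∈ T, x ^ 2 = 1 → x ∈ U := by
    intro x hx hx2
    set E := U ⊔ Subgroup.zpowers x
    have hxU : Subgroup.zpowers x ≤ Subgroup.centralizer (U : Set G) := Subgroup.zpowers_le.2 hx.2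
    haveI hEc : IsMulCommutative E := by
      rw [← Subgroup.le_centralizer_iff_isMulCommutative]
      have a1 : U ⊔ Subgroup.zpowers x ≤ Subgroup.centralizer (U : Set G) :=
        sup_le (Subgroup.le_centralizer_iff_isMulCommutative.2 hUc) hxU
      have a2 : U ⊔ Subgroup.zpowers x ≤ Subgroup.centralizer (Subgroup.zpowers x : Set G) :=
        sup_le (Subgroup.le_centralizer_iff.1 hxU)
          (Subgroup.le_centralizer_iff_isMulCommutative.2 inferInstance)
      exact sup_le (Subgroup.le_centralizer_iff.1 a1) (Subgroup.le_centralizer_iff.1 a2)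
    have hxxE : ∀ a ∈ E, ∀ b ∈ E, Commute a b := fun a ha b hb =>
      congrArg (fun w : E => (w : G)) (mul_comm' (⟨a, ha⟩ : E) ⟨b, hb⟩)
    have hE2 : ∀ a ∈ E, a ^ 2 = 1 := by
      let W : Subgroup G :=
        { carrier := {a | a ∈ E ∧ a ^ 2 = 1}
          mul_mem' := fun {a b} ha hb => ⟨E.mul_mem ha.1 hb.1, by
            rw [(hxxE a ha.1 b hb.1).mul_pow, ha.2, hb.2, one_mul]⟩
          one_mem' := ⟨E.one_mem, one_pow 2⟩
          inv_mem' := fun {a} ha => ⟨E.inv_mem ha.1, by rw [inv_pow, ha.2, inv_one]⟩ }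
      have hle : E ≤ W := sup_le (fun a ha => ⟨Subgroup.mem_sup_left ha, hU2 a ha⟩)
        (Subgroup.zpowers_le.2 ⟨Subgroup.mem_sup_right (Subgroup.mem_zpowers x), hx2⟩)
      exact fun a ha => (hle ha).2
    have hUE : U = E := Subgroup.eq_of_le_of_card_ge le_sup_left (by
      rw [hU4]; exact h2 E hEc hE2)
    rw [hUE]
    exact Subgroup.mem_sup_right (Subgroup.mem_zpowers x)
  -- a conjugate of `z` in `S`
  obtain ⟨x, hxS, hxz, hxc, hx2⟩ : ∃ x ∈ (S : Subgroup G), x ≠ z ∧ IsConj z x ∧ x ^ 2 = 1 := by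
    have hnot := hiso z
    unfold Cfsg.IsIsolatedInvolution at hnot
    push Not at hnot
    obtain ⟨g, hg1, hg2⟩ := hnot hzo
    set x := g * z * g⁻¹
    have hxo : x ^ 2 = 1 := by rw [conj_pow, hU2 z hzU, mul_one, mul_inv_cancel]
    obtain ⟨c, hc, hcx⟩ := exists_conj_le_sylow S (K := Subgroup.centralizer ({z} : Set G))
      (fun s hs => Subgroup.mem_centralizer_singleton_iff.2 (hzS s hs))
      (R := Subgroup.zpowers x) (fun a => ⟨1, Subtype.ext (by
        obtain ⟨k, hk⟩ := Subgroup.mem_zpowers_iff.1 a.2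
        rw [pow_one, Subgroup.coe_pow, ← hk, ← zpow_natCast, ← zpow_mul, mul_comm, zpow_mul,
          zpow_natCast, hxo, one_zpow, Subgroup.coe_one])⟩)
      (Subgroup.zpowers_le.2 (Subgroup.mem_centralizer_singleton_iff.2 hg1.eq.symm))
    have hcz := Subgroup.mem_centralizer_singleton_iff.1 hc
    refine ⟨c * x * c⁻¹, hcx x (Subgroup.mem_zpowers x), fun h => hg2 ?_,
      (isConj_iff.2 ⟨g, rfl⟩).trans (isConj_iff.2 ⟨c, rfl⟩), by rw [conj_pow, hxo, mul_one, mul_inv_cancel]⟩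
    have h' : c * x * c⁻¹ = c * z * c⁻¹ := by rw [h, hcz, mul_inv_cancel_right]
    exact (MulAut.conj c).injective h'
  have hx1 : x ≠ 1 := fun h => hz1 (isConj_one_left.1 (h ▸ hxc))
  -- the automorphism of `T`
  have hTrank : Cfsg.PRankLE 2 2 T ∧ ¬ Cfsg.PRankLE 2 1 T := by
    refine ⟨fun B hBc hB => ?_, fun h => ?_⟩
    · rw [Nat.card_congr (B.equivMapOfInjective _ (Subgroup.subtype_injective _)).toEquiv]
      haveI := hBc
      refine h2 _ inferInstance ?_
      rintro _ ⟨b, hb, rfl⟩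
      exact congrArg Subtype.val (hB b hb)
    · have := h (U.subgroupOf T) ⟨⟨fun a b => Subtype.ext (Subtype.ext (congrArg (fun w : U => (w : G))
        (mul_comm' (⟨a.1.1, a.2⟩ : U) ⟨b.1.1, b.2⟩) :))⟩⟩ (fun a ha => Subtype.ext (hU2 a ha))
      rw [Nat.card_congr (Subgroup.subgroupOfEquivOfLe hUT).toEquiv, hU4] at this
      omega
  have haut : ∀ n : G, n ∈ Subgroup.normalizer (U : Set G) →
      (∀ a ∈ U, a ≠ 1 → ∀ b ∈ U, b ≠ 1 → ∃ k : ℕ, n ^ k * a * (n ^ k)⁻¹ = b) →
      ∃ φ : MulAut T, ∀ a b : T, orderOf a = 2 → orderOf b = 2 → ∃ k : ℕ, (φ ^ k) a = b := by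
    intro n hn htr
    obtain ⟨m, hm, hmn⟩ := exists_normalizing_cycle S hUn hn
    refine ⟨Subgroup.normalizerMonoidHom T ⟨m, hm⟩, fun a b ha hb => ?_⟩
    have hmem : ∀ c : T, orderOf c = 2 → (c : G) ∈ U ∧ (c : G) ≠ 1 := fun c hc => by
      refine ⟨hTinv c c.2 ?_, fun h => ?_⟩
      · rw [← Subgroup.coe_pow, ← hc, pow_orderOf_eq_one, Subgroup.coe_one]
      · rw [← Subgroup.orderOf_coe, h, orderOf_one] at hc; omega
    obtain ⟨k, hk⟩ := htr a (hmem a ha).1 (hmem a ha).2 b (hmem b hb).1 (hmem b hb).2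
    refine ⟨k, ?_⟩
    have key : ∀ j : ℕ, (((Subgroup.normalizerMonoidHom T ⟨m, hm⟩) ^ j) a : G) =
          n ^ j * a * (n ^ j)⁻¹ ∧ n ^ j * (a : G) * (n ^ j)⁻¹ ∈ U := by
      intro j
      induction j with
      | zero => simpa using (hmem a ha).1
      | succ j ih =>
        have e : n ^ (j + 1) * (a : G) * (n ^ (j + 1))⁻¹ = n * (n ^ j * a * (n ^ j)⁻¹) * n⁻¹ := by
          rw [pow_succ']; group
        refine ⟨?_, e ▸ (Subgroup.mem_normalizer_iff.1 hn _).1 ih.2⟩
        rw [e, pow_succ', MulAut.mul_apply, ← hmn _ ih.2, ← ih.1]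
        rfl
    exact Subtype.ext ((key k).1.trans hk)
  by_cases hTS : (S : Subgroup G) ≤ Subgroup.centralizer (U : Set G)
  · -- `S` centralizes `U`
    have hTeq : T = (S : Subgroup G) := inf_eq_left.2 hTS
    have hxU : x ∈ U := hTinv x ⟨hxS, hTS hxS⟩ hx2
    obtain ⟨g, hg⟩ := isConj_iff.1 hxc
    have hcS : ∀ y ∈ U, y ∈ Subgroup.centralizer ((S : Subgroup G) : Set G) := fun y hy =>
      Subgroup.mem_centralizer_iff.2 fun s hs =>
        (Subgroup.mem_centralizer_iff.1 (hTS hs) y hy).symm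
    obtain ⟨m, hm, hmz⟩ := Sylow.conj_eq_normalizer_conj_of_mem_centralizer S z g⁻¹ (hcS z hzU)
      (by rw [inv_inv, hg]; exact hcS x hxU)
    rw [inv_inv, hg] at hmz
    set n := m⁻¹
    have hnS : n ∈ Subgroup.normalizer ((S : Subgroup G) : Set G) := Subgroup.inv_mem _ hm
    have hnz : n * z * n⁻¹ = x := by rw [hmz]; simp [n]
    have hnU : ∀ y ∈ U, n * y * n⁻¹ ∈ U := fun y hy => by
      have h := (Subgroup.mem_normalizer_iff.1 hnS y).1 (hUS hy)
      exact hTinv _ ⟨h, hTS h⟩ (by rw [conj_pow, hU2 y hy, mul_one, mul_inv_cancel])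
    have hnN : n ∈ Subgroup.normalizer (U : Set G) := by
      refine Subgroup.mem_normalizer_iff_map_conj_eq.2 (Subgroup.eq_of_le_of_card_ge ?_ ?_)
      · rintro _ ⟨y, hy, rfl⟩; exact hnU y hy
      · exact le_of_eq (Nat.card_congr
          (U.equivMapOfInjective (MulAut.conj n).toMonoidHom (MulAut.conj n).injective).toEquiv)
    have hinj : ∀ a b : G, n * a * n⁻¹ = n * b * n⁻¹ → a = b := fun a b h =>
      (MulAut.conj n).injective h
    set y := n * x * n⁻¹
    have hyU : y ∈ U := hnU x hxU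
    have hy1 : y ≠ 1 := fun h => hx1 (hinj x 1 (h.trans (by simp)))
    have hyx : y ≠ x := fun h => hxz (hinj x z (h.trans hnz.symm))
    have hyz : y ≠ z := by
      intro hyz
      obtain ⟨a, b, hb, hab⟩ := Nat.exists_eq_two_pow_mul_odd (orderOf_pos n).ne'
      have hswap : ∀ j : ℕ, n ^ (2 * j + 1) * z * (n ^ (2 * j + 1))⁻¹ = x := by
        intro j
        induction j with
        | zero => simpa using hnz
        | succ j ih =>
          calc n ^ (2 * (j + 1) + 1) * z * (n ^ (2 * (j + 1) + 1))⁻¹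
              = n * (n * (n ^ (2 * j + 1) * z * (n ^ (2 * j + 1))⁻¹) * n⁻¹) * n⁻¹ := by
                rw [show 2 * (j + 1) + 1 = 2 * j + 1 + 1 + 1 by ring, pow_succ' n (2 * j + 1 + 1),
                  pow_succ' n (2 * j + 1)]
                group
            _ = n * y * n⁻¹ := by rw [ih]
            _ = x := by rw [hyz]; exact hnz
      have hbS : n ^ b ∈ (S : Subgroup G) := by
        have hp : IsPGroup 2 (Subgroup.zpowers (n ^ b)) := by
          obtain ⟨i, -, hi⟩ := (Nat.dvd_prime_pow Nat.prime_two).1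
            (orderOf_dvd_of_pow_eq_one (x := n ^ b) (n := 2 ^ a) (by
              rw [← pow_mul, mul_comm, ← hab, pow_orderOf_eq_one]))
          exact IsPGroup.of_card (n := i) (by rw [Nat.card_zpowers, hi])
        have hsup := IsPGroup.to_sup_of_normal_left' S.isPGroup' hp
          (Subgroup.zpowers_le.2 (Subgroup.pow_mem _ hnS b))
        exact (S.is_maximal' hsup le_sup_left).le (Subgroup.mem_sup_right (Subgroup.mem_zpowers _))
      obtain ⟨j, rfl⟩ := hb
      have := hswap j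
      rw [hzS _ hbS, mul_inv_cancel_right] at this
      exact hxz this.symm
    have hall := four_cases hU2 hU4 hzU hxU hz1 hx1 (Ne.symm hxz)
    have hzx : y = z * x := ((hall y hyU hy1).resolve_left hyz).resolve_left hyx
    have hny : n * y * n⁻¹ = z := by
      rw [hzx]
      calc n * (z * x) * n⁻¹ = (n * z * n⁻¹) * (n * x * n⁻¹) := by group
        _ = x * y := by rw [hnz]
        _ = z := by
          rw [hzx, ← mul_assoc, show x * z = z * x from hzS x hxS,
            mul_assoc, hsq x hx2, mul_one]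
    obtain ⟨φ, hφ⟩ := haut n hnN (cycle_transitive
      (fun w hw hw1 => by
        rcases hall w hw hw1 with h | h | h
        exacts [Or.inl h, Or.inr (Or.inl h), Or.inr (Or.inr (h.trans hzx.symm))]) hnz rfl hny)
    rcases Cfsg.Agent.S1237.result (S.isPGroup'.to_le inf_le_left) hTrank.1 hTrank.2 φ hφ hF P with
      ⟨k, hk1, ⟨e⟩⟩ | he
    · let e' : (S : Subgroup G) ≃* Multiplicative (ZMod (2 ^ k) × ZMod (2 ^ k)) :=
        (MulEquiv.subgroupCongr hTeq.symm).trans e
      rcases hk1.eq_or_lt with rfl | hk2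
      · exact Or.inl ⟨2, le_rfl, klein_dihedral e'⟩
      · exact Or.inr (Or.inr (Or.inr (Or.inl ⟨k, hk2, ⟨e'⟩⟩)))
    · obtain ⟨e⟩ := he
      exact Or.inr (Or.inr (Or.inr (Or.inr ⟨(MulEquiv.subgroupCongr hTeq.symm).trans e⟩)))
  -- `S` induces a transvection on `U`
  obtain ⟨s, hsS, hsC⟩ := SetLike.not_le_iff_exists.1 hTS
  obtain ⟨u, huU, hu1, huz⟩ : ∃ u ∈ U, u ≠ 1 ∧ u ≠ z := by
    by_contra h
    push Not at h
    apply hsC
    refine Subgroup.mem_centralizer_iff.2 fun y hy => ?_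
    rcases eq_or_ne y 1 with rfl | hy1
    · simp
    · rw [h y hy hy1]; exact (hzS s hsS).symm
  have hall := four_cases hU2 hU4 hzU huU hz1 hu1 (Ne.symm huz)
  have hui : u * u = 1 := hsq u (hU2 u huU)
  have hcu : Commute z u := (hzS u (hUS huU)).symm
  have hmove : ∀ w ∈ (S : Subgroup G), w ∈ T ↔ w * u * w⁻¹ = u := by
    intro w hw
    constructor
    · intro h
      rw [← Subgroup.mem_centralizer_iff.1 h.2 u huU, mul_inv_cancel_right]
    · intro h
      refine ⟨hw, Subgroup.mem_centralizer_iff.2 fun y hy => ?_⟩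
      rcases eq_or_ne y 1 with rfl | hy1
      · simp
      have hwu : u * w = w * u := by rw [mul_inv_eq_iff_eq_mul] at h; exact h.symm
      rcases hall y hy hy1 with rfl | rfl | rfl
      · exact (hzS w hw).symm
      · exact hwu
      · rw [mul_assoc, hwu, ← mul_assoc, ← hzS w hw, mul_assoc]
  have htransv : ∀ w ∈ (S : Subgroup G), w ∉ T → w * u * w⁻¹ = z * u := by
    intro w hw hwT
    have hmem : w * u * w⁻¹ ∈ U := (Subgroup.mem_normalizer_iff.1 (hUn hw) u).1 huU
    have hne : w * u * w⁻¹ ≠ 1 := fun h => hu1 (by simpa using h)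
    rcases hall _ hmem hne with h | h | h
    · exfalso
      refine huz ((MulAut.conj w).injective ?_)
      show w * u * w⁻¹ = w * z * w⁻¹
      rw [h, hzS w hw, mul_inv_cancel_right]
    · exact absurd ((hmove w hw).2 h) hwT
    · exact h
  have hsT : s ∉ T := fun h => hsC h.2
  have hidx : ∀ a ∈ (S : Subgroup G), ∀ b ∈ (S : Subgroup G), a ∉ T → b ∉ T → a * b ∈ T := by
    intro a ha b hb haT hbT
    refine (hmove _ (Subgroup.mul_mem _ ha hb)).2 ?_
    calc a * b * u * (a * b)⁻¹ = a * (b * u * b⁻¹) * a⁻¹ := by group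
      _ = (a * z * a⁻¹) * (a * u * a⁻¹) := by rw [htransv b hb hbT]; group
      _ = u := by rw [htransv a ha haT, hzS a ha, mul_inv_cancel_right, ← mul_assoc, hzi, one_mul]
  have hsqT : ∀ a ∈ (S : Subgroup G), a ^ 2 ∈ T := by
    intro a ha
    rw [pow_two]
    by_cases haT : a ∈ T
    · exact T.mul_mem haT haT
    · exact hidx a ha a ha haT haT
  have hcardST : Nat.card (S : Subgroup G) = 2 * Nat.card T := by
    have hi : (T.subgroupOf (S : Subgroup G)).index = 2 := by
      rw [Subgroup.index_eq_two_iff]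
      refine ⟨⟨s, hsS⟩, fun b => ?_⟩
      show Xor ((b : G) * s ∈ T) ((b : G) ∈ T)
      by_cases hb : (b : G) ∈ T
      · exact Or.inr ⟨hb, fun h => hsT ((T.mul_mem_cancel_left hb).1 h)⟩
      · exact Or.inl ⟨hidx b b.2 s hsS hb hsT, hb⟩
    have h := (T.subgroupOf (S : Subgroup G)).card_mul_index
    have hc : Nat.card (T.subgroupOf (S : Subgroup G)) = Nat.card T :=
      Nat.card_congr (Subgroup.subgroupOfEquivOfLe (inf_le_left : T ≤ (S : Subgroup G))).toEquiv
    rw [hi, hc] at h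
    omega
  by_cases hDQ : IsDihOrQD (S : Subgroup G)
  · exact types_of_dihOrQD hDQ
  -- `z` is a square in `T ∩ C(v)` for every outside involution `v`
  have hbig : ∀ v ∈ (S : Subgroup G), v ∉ T → v ^ 2 = 1 →
      ∃ r ∈ T, r * v = v * r ∧ r ^ 2 = z := by
    intro v hvS hvT hv2
    have hv1 : v ≠ 1 := fun h => hvT (h ▸ T.one_mem)
    have hvz : z ≠ v := fun h => hvT (h ▸ hUT hzU)
    by_contra hcon
    push Not at hcon
    apply hDQ
    refine isDihOrQD_of_centralizer_four S.isPGroup' (z := (⟨z, hUS hzU⟩ : (S : Subgroup G)))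
      (v := ⟨v, hvS⟩) (Subgroup.mem_center_iff.2 fun w => Subtype.ext (hzS w w.2))
      (by rw [Subgroup.orderOf_mk, hzo]) (by rw [Subgroup.orderOf_mk, orderOf_eq_prime hv2 hv1])
      (fun h => hvz (congrArg Subtype.val h)) ?_
    have hsmall : ∀ r ∈ T, r * v = v * r → r = 1 ∨ r = z := by
      intro r hr hrv
      by_cases hr2 : r ^ 2 = 1
      · rcases eq_or_ne r 1 with rfl | hr1
        · exact Or.inl rfl
        rcases hall r (hTinv r hr hr2) hr1 with h | h | h
        · exact Or.inr h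
        · exfalso
          apply hvT
          refine (hmove v hvS).2 ?_
          rw [← h, ← hrv, mul_inv_cancel_right]
        · exfalso
          apply hvT
          refine (hmove v hvS).2 ?_
          have h1 : v * (z * u) * v⁻¹ = z * u := by rw [← h, ← hrv, mul_inv_cancel_right]
          have h2' : (v * z * v⁻¹) * (v * u * v⁻¹) = z * u := by rw [← h1]; group
          rw [hzS v hvS, mul_inv_cancel_right] at h2'
          exact mul_left_cancel h2'
      · exfalso
        obtain ⟨k, hk⟩ := S.isPGroup' ⟨r, hr.1⟩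
        obtain ⟨j, -, hj⟩ := (Nat.dvd_prime_pow Nat.prime_two).1
          (orderOf_dvd_of_pow_eq_one (show r ^ 2 ^ k = 1 from congrArg Subtype.val hk))
        have hj2 : 2 ≤ j := by
          by_contra hlt
          apply hr2
          refine orderOf_dvd_iff_pow_eq_one.1 ?_
          rw [hj]
          exact pow_dvd_pow 2 (show j ≤ 1 by omega) |>.trans (by norm_num)
        have hcv : Commute (r ^ 2 ^ (j - 2)) v := Commute.pow_left hrv _
        refine hcon (r ^ 2 ^ (j - 2)) (T.pow_mem hr _) hcv.eq ?_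
        have hne : (r ^ 2 ^ (j - 2)) ^ 2 ≠ 1 := by
          intro h
          rw [← pow_mul, ← pow_succ] at h
          have h' := orderOf_dvd_of_pow_eq_one h
          rw [hj, Nat.pow_dvd_pow_iff_le_right Nat.one_lt_two] at h'
          omega
        have hmem : (r ^ 2 ^ (j - 2)) ^ 2 ∈ U := hTinv _ (T.pow_mem (T.pow_mem hr _) 2) (by
          rw [← pow_mul, ← pow_mul, ← mul_assoc, ← pow_succ, ← pow_succ,
            show j - 2 + 1 + 1 = j by omega, ← hj, pow_orderOf_eq_one])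
        have hcv2 : Commute ((r ^ 2 ^ (j - 2)) ^ 2) v := hcv.pow_left 2
        rcases hall _ hmem hne with h | h | h
        · exact h
        · exfalso
          apply hvT
          refine (hmove v hvS).2 ?_
          rw [← h, ← hcv2.eq, mul_inv_cancel_right]
        · exfalso
          apply hvT
          refine (hmove v hvS).2 ?_
          have h1 : v * (z * u) * v⁻¹ = z * u := by rw [← h, ← hcv2.eq, mul_inv_cancel_right]
          have h2' : (v * z * v⁻¹) * (v * u * v⁻¹) = z * u := by rw [← h1]; group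
          rw [hzS v hvS, mul_inv_cancel_right] at h2'
          exact mul_left_cancel h2'
    refine le_antisymm ?_ ?_
    · have hsub : ∀ w : Subgroup.centralizer ({(⟨v, hvS⟩ : (S : Subgroup G))} : Set (S : Subgroup G)),
          ((w : (S : Subgroup G)) : G) ∈ ({1, z, v, z * v} : Finset G) := by
        intro w
        have hwv : ((w : (S : Subgroup G)) : G) * v = v * ((w : (S : Subgroup G)) : G) :=
          congrArg Subtype.val (Subgroup.mem_centralizer_singleton_iff.1 w.2)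
        simp only [Finset.mem_insert, Finset.mem_singleton]
        by_cases hwT : ((w : (S : Subgroup G)) : G) ∈ T
        · rcases hsmall _ hwT hwv with h | h
          · exact Or.inl h
          · exact Or.inr (Or.inl h)
        · have h := hidx _ (w : (S : Subgroup G)).2 v hvS hwT hvT
          rcases hsmall _ h (by rw [mul_assoc, ← mul_assoc v, ← hwv, mul_assoc]) with h' | h'
          · refine Or.inr (Or.inr (Or.inl ?_))
            rw [eq_inv_of_mul_eq_one_left h', inv_eq_of_mul_eq_one_right (hsq v hv2)]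
          · refine Or.inr (Or.inr (Or.inr ?_))
            rw [← h', mul_assoc, hsq v hv2, mul_one]
      refine (Nat.card_le_card_of_injective (fun w => (⟨_, hsub w⟩ : ({1, z, v, z * v} : Finset G)))
        fun a b h => Subtype.ext (Subtype.ext (congrArg Subtype.val h :))).trans ?_
      rw [Nat.card_eq_finsetCard]
      exact Finset.card_le_four
    · set C := Subgroup.centralizer ({(⟨v, hvS⟩ : (S : Subgroup G))} : Set (S : Subgroup G))
      let z' : C := ⟨⟨z, hUS hzU⟩, Subgroup.mem_centralizer_singleton_iff.2 (Subtype.ext (hzS v hvS).symm)⟩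
      let v' : C := ⟨⟨v, hvS⟩, Subgroup.mem_centralizer_singleton_iff.2 rfl⟩
      haveI : Fintype C := Fintype.ofFinite _
      have hzv1 : z * v ≠ 1 := fun h => hvT (by
        rw [eq_inv_of_mul_eq_one_right h]; exact T.inv_mem (hUT hzU))
      have h4 : ({1, z', v', z' * v'} : Finset C).card = 4 := by
        simp [z', v', Subtype.ext_iff, hz1.symm, hv1.symm, hzv1.symm, hvz, hz1, hv1]
      rw [Nat.card_eq_fintype_card]
      exact h4 ▸ Finset.card_le_univ _
  -- `u` may be taken conjugate to `z`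
  obtain ⟨y, hyU, hy1, hyz, hyc⟩ : ∃ y ∈ U, y ≠ 1 ∧ y ≠ z ∧ IsConj z y := by
    by_cases hxT : x ∈ T
    · exact ⟨x, hTinv x hxT hx2, hx1, hxz, hxc⟩
    obtain ⟨g, hg⟩ := isConj_iff.1 hxc.symm
    set R := (S : Subgroup G) ⊓ Subgroup.centralizer ({x} : Set G)
    obtain ⟨c, hc, hcR⟩ := exists_conj_le_sylow S (K := Subgroup.centralizer ({z} : Set G))
      (fun w hw => Subgroup.mem_centralizer_singleton_iff.2 (hzS w hw))
      (R := R.map (MulAut.conj g).toMonoidHom) ((S.isPGroup'.to_le inf_le_left).map _) (by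
        rintro _ ⟨w, hw, rfl⟩
        refine Subgroup.mem_centralizer_singleton_iff.2 ?_
        rw [← hg]
        exact (congrArg (MulAut.conj g) (Subgroup.mem_centralizer_singleton_iff.1 hw.2)).trans
          (map_mul _ _ _) |> fun h => (map_mul (MulAut.conj g) w x).symm.trans h)
    have hcz := Subgroup.mem_centralizer_singleton_iff.1 hc
    set h := c * g
    have hhx : h * x * h⁻¹ = z := by
      calc h * x * h⁻¹ = c * (g * x * g⁻¹) * c⁻¹ := by simp only [h]; group
        _ = z := by rw [hg, hcz, mul_inv_cancel_right]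
    obtain ⟨r, hrT, hrx, hr2⟩ := hbig x hxS hxT hx2
    have hrS : h * r * h⁻¹ ∈ (S : Subgroup G) := by
      have := hcR _ ⟨r, ⟨hrT.1, Subgroup.mem_centralizer_singleton_iff.2 hrx⟩, rfl⟩
      show c * g * r * (c * g)⁻¹ ∈ _
      simpa [mul_assoc] using this
    have he : h * z * h⁻¹ = (h * r * h⁻¹) ^ 2 := by rw [conj_pow, hr2]
    have hmem : h * z * h⁻¹ ∈ T := he ▸ hsqT _ hrS
    refine ⟨h * z * h⁻¹, hTinv _ hmem (by rw [conj_pow, hU2 z hzU, mul_one, mul_inv_cancel]),
      fun h' => hz1 (by simpa using h'), fun h' => hxz ?_, isConj_iff.2 ⟨h, rfl⟩⟩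
    exact (MulAut.conj h).injective (hhx.trans h'.symm)
  obtain ⟨n, hnN, hncyc⟩ : ∃ n ∈ Subgroup.normalizer (U : Set G),
      ∀ a ∈ U, a ≠ 1 → ∀ b ∈ U, b ≠ 1 → ∃ k : ℕ, n ^ k * a * (n ^ k)⁻¹ = b := by
    have hally := four_cases hU2 hU4 hzU hyU hz1 hy1 (Ne.symm hyz)
    obtain ⟨g, hg⟩ := isConj_iff.1 hyc.symm
    obtain ⟨c, hc, hcR⟩ := exists_conj_le_sylow S (K := Subgroup.centralizer ({z} : Set G))
      (fun w hw => Subgroup.mem_centralizer_singleton_iff.2 (hzS w hw))
      (R := T.map (MulAut.conj g).toMonoidHom) ((S.isPGroup'.to_le inf_le_left).map _) (by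
        rintro _ ⟨w, hw, rfl⟩
        refine Subgroup.mem_centralizer_singleton_iff.2 ?_
        rw [← hg]
        exact (map_mul (MulAut.conj g) w y).symm.trans ((congrArg (MulAut.conj g)
          (Subgroup.mem_centralizer_iff.1 hw.2 y hyU).symm).trans (map_mul _ _ _)))
    have hcz := Subgroup.mem_centralizer_singleton_iff.1 hc
    set h := c * g
    have hhy : h * y * h⁻¹ = z := by
      calc h * y * h⁻¹ = c * (g * y * g⁻¹) * c⁻¹ := by simp only [h]; group
        _ = z := by rw [hg, hcz, mul_inv_cancel_right]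
    have hhT : ∀ w ∈ T, h * w * h⁻¹ ∈ (S : Subgroup G) := fun w hw => by
      show c * g * w * (c * g)⁻¹ ∈ _
      simpa [mul_assoc] using hcR _ ⟨w, hw, rfl⟩
    set y' := h * z * h⁻¹
    have hy'2 : y' ^ 2 = 1 := by rw [conj_pow, hU2 z hzU, mul_one, mul_inv_cancel]
    have hy'T : y' ∈ T := by
      by_contra hn
      obtain ⟨r, hrT, -, hr2⟩ := hbig y' (hhT z (hUT hzU)) hn hy'2
      apply hn
      have he : y' = (h * r * h⁻¹) ^ 2 := by rw [conj_pow, hr2]
      rw [he]
      exact hsqT _ (hhT r hrT)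
    have hy'U : y' ∈ U := hTinv _ hy'T hy'2
    have hy'1 : y' ≠ 1 := fun h' => hz1 (by simpa [y'] using h')
    have hy'z : y' ≠ z := fun h' => hyz ((MulAut.conj h).injective (hhy.trans h'.symm))
    have hcy : Commute z y := (hzS y (hUS hyU)).symm
    have hyy : y * y = 1 := hsq y (hU2 y hyU)
    have hNof : ∀ m : G, m * z * m⁻¹ ∈ U → m * y * m⁻¹ ∈ U →
        m ∈ Subgroup.normalizer (U : Set G) := by
      intro m h1 h2
      refine Subgroup.mem_normalizer_iff_map_conj_eq.2 (Subgroup.eq_of_le_of_card_ge ?_ ?_)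
      · rintro _ ⟨w, hw, rfl⟩
        show m * w * m⁻¹ ∈ U
        rcases eq_or_ne w 1 with rfl | hw1
        · simp
        rcases hally w hw hw1 with rfl | rfl | rfl
        · exact h1
        · exact h2
        · have e : m * (z * y) * m⁻¹ = (m * z * m⁻¹) * (m * y * m⁻¹) := by group
          rw [e]; exact U.mul_mem h1 h2
      · exact le_of_eq (Nat.card_congr
          (U.equivMapOfInjective (MulAut.conj m).toMonoidHom (MulAut.conj m).injective).toEquiv)
    rcases hally y' hy'U hy'1 with hy'e | hy'e | hy'e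
    · exact absurd hy'e hy'z
    · -- `h` swaps `z` and `y`
      set m := h * s
      have hsy : s * y * s⁻¹ = z * y := by
        rcases hall y hyU hy1 with h' | h' | h'
        · exact absurd h' hyz
        · rw [h']; exact htransv s hsS hsT
        · rw [h']
          calc s * (z * u) * s⁻¹ = (s * z * s⁻¹) * (s * u * s⁻¹) := by group
            _ = z * (z * u) := by rw [hzS s hsS, mul_inv_cancel_right, htransv s hsS hsT]
      have hmz : m * z * m⁻¹ = y := by
        calc m * z * m⁻¹ = h * (s * z * s⁻¹) * h⁻¹ := by simp only [m]; group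
          _ = y := by rw [hzS s hsS, mul_inv_cancel_right]; exact hy'e
      have hmy : m * y * m⁻¹ = z * y := by
        calc m * y * m⁻¹ = h * (s * y * s⁻¹) * h⁻¹ := by simp only [m]; group
          _ = (h * z * h⁻¹) * (h * y * h⁻¹) := by rw [hsy]; group
          _ = z * y := by rw [show h * z * h⁻¹ = y from hy'e, hhy, hcy.eq]
      have hmzy : m * (z * y) * m⁻¹ = z := by
        calc m * (z * y) * m⁻¹ = (m * z * m⁻¹) * (m * y * m⁻¹) := by group
          _ = z := by rw [hmz, hmy, hcy.eq, ← mul_assoc, hyy, one_mul]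
      exact ⟨m, hNof m (hmz ▸ hyU) (hmy ▸ U.mul_mem hzU hyU), cycle_transitive hally hmz hmy hmzy⟩
    · have hzy : h * (z * y) * h⁻¹ = y := by
        calc h * (z * y) * h⁻¹ = (h * z * h⁻¹) * (h * y * h⁻¹) := by group
          _ = y := by rw [show h * z * h⁻¹ = z * y from hy'e, hhy, hcy.eq, mul_assoc, hzi, mul_one]
      refine ⟨h, hNof h (by rw [show h * z * h⁻¹ = z * y from hy'e]; exact U.mul_mem hzU hyU) (hhy ▸ hzU), cycle_transitive (a := y) (b := z)
        (c := z * y) (fun w hw hw1 => ?_) hhy hy'e hzy⟩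
      rcases hally w hw hw1 with h' | h' | h'
      exacts [Or.inr (Or.inl h'), Or.inl h', Or.inr (Or.inr h')]
  obtain ⟨φ, hφ⟩ := haut n hnN hncyc
  have hzT : z ∈ T := hUT hzU
  have huT : u ∈ T := hUT huU
  rcases Cfsg.Agent.S1237.result (S.isPGroup'.to_le inf_le_left) hTrank.1 hTrank.2 φ hφ hF P with
    ⟨k, hk1, ⟨e⟩⟩ | he
  · -- homocyclic
    have hexp : ∀ a : T, a ^ 2 ^ k = 1 := fun a => by
      apply e.injective
      rw [map_pow, map_one]
      refine Multiplicative.toAdd.injective ?_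
      rw [toAdd_pow, toAdd_one]
      generalize Multiplicative.toAdd (e a) = q
      ext
      · exact (nsmul_eq_mul _ q.1).trans (by rw [ZMod.natCast_self, zero_mul]; rfl)
      · exact (nsmul_eq_mul _ q.2).trans (by rw [ZMod.natCast_self, zero_mul]; rfl)
    have hTc : ∀ a ∈ T, ∀ b ∈ T, a * b = b * a := fun a ha b hb => by
      have h : (⟨a, ha⟩ : T) * ⟨b, hb⟩ = ⟨b, hb⟩ * ⟨a, ha⟩ := e.injective (by
        rw [map_mul, map_mul, mul_comm])
      exact congrArg Subtype.val h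
    have hTcard : Nat.card T = 2 ^ (2 * k) := by
      rw [Nat.card_congr e.toEquiv, Nat.card_congr Multiplicative.toAdd, Nat.card_prod, Nat.card_zmod,
        ← pow_add, two_mul]
    obtain ⟨w0, hw0⟩ : ∃ w : T, (w : G) ^ 2 ^ (k - 1) = u := by
      have h2u : 2 • Multiplicative.toAdd (e ⟨u, huT⟩) = 0 := by
        rw [← toAdd_pow, ← map_pow, show (⟨u, huT⟩ : T) ^ 2 = 1 from Subtype.ext (hU2 u huU), map_one,
          toAdd_one]
      obtain ⟨a, ha⟩ := exists_zmod_root hk1 (Multiplicative.toAdd (e ⟨u, huT⟩)).1 (congrArg Prod.fst h2u)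
      obtain ⟨b, hb⟩ := exists_zmod_root hk1 (Multiplicative.toAdd (e ⟨u, huT⟩)).2 (congrArg Prod.snd h2u)
      refine ⟨e.symm (Multiplicative.ofAdd (a, b)), ?_⟩
      rw [← Subgroup.coe_pow, ← map_pow, ← ofAdd_nsmul]
      have : (2 ^ (k - 1) • (a, b) : ZMod (2 ^ k) × ZMod (2 ^ k)) = Multiplicative.toAdd (e ⟨u, huT⟩) :=
        Prod.ext ha hb
      rw [this, ofAdd_toAdd, e.symm_apply_apply]
    set w : G := (w0 : G)
    have hwT : w ∈ T := w0.2
    have hwo : orderOf w = 2 ^ k := by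
      have h := orderOf_eq_prime_pow (x := w) (p := 2) (n := k - 1) (by rw [hw0]; exact hu1)
        (by rw [show k - 1 + 1 = k by omega, ← Subgroup.coe_pow, hexp, Subgroup.coe_one])
      rwa [show k - 1 + 1 = k by omega] at h
    set w' := s * w * s⁻¹
    have hw'T : w' ∈ T := by
      by_contra h
      have h2' := hidx w' (Subgroup.mul_mem _ (Subgroup.mul_mem _ hsS hwT.1) (Subgroup.inv_mem _ hsS))
        s hsS h hsT
      rw [inv_mul_cancel_right] at h2'
      exact hsT ((T.mul_mem_cancel_right hwT).1 h2')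
    have hw'o : orderOf w' = 2 ^ k := (MulEquiv.orderOf_eq (MulAut.conj s) w).trans hwo
    have hw'u : w' ^ 2 ^ (k - 1) = z * u := by rw [conj_pow, hw0, htransv s hsS hsT]
    have hdisj : Subgroup.zpowers w ⊓ Subgroup.zpowers w' = ⊥ := by
      rw [Subgroup.eq_bot_iff_forall]
      intro a ha
      by_contra ha1
      obtain ⟨i, hi'⟩ := mem_powers_iff_mem_zpowers.2 ha.1
      obtain ⟨j, hj'⟩ := mem_powers_iff_mem_zpowers.2 ha.2
      have hak : a ^ 2 ^ k = 1 := by
        rw [← hi', ← pow_mul, mul_comm, pow_mul, ← hwo, pow_orderOf_eq_one, one_pow]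
      obtain ⟨p, hp, hpd⟩ := (Nat.dvd_prime_pow Nat.prime_two).1 (orderOf_dvd_of_pow_eq_one hak)
      have hp1 : 1 ≤ p := by
        by_contra h0
        rw [show p = 0 by omega, pow_zero, orderOf_eq_one_iff] at hpd
        exact ha1 hpd
      set b := a ^ 2 ^ (p - 1)
      have hb1 : b ≠ 1 := fun h => by
        have := orderOf_dvd_of_pow_eq_one h
        rw [hpd, Nat.pow_dvd_pow_iff_le_right Nat.one_lt_two] at this
        omega
      have hb2 : b ^ 2 = 1 := by
        rw [← pow_mul, ← pow_succ, show p - 1 + 1 = p by omega, ← hpd, pow_orderOf_eq_one]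
      have huniq : ∀ (c : G) (i : ℕ), orderOf c = 2 ^ k → b = c ^ i → b = c ^ 2 ^ (k - 1) := by
        intro c i hc hbc
        have h2k : 2 ^ k = 2 ^ (k - 1) * 2 := by rw [← pow_succ]; congr 1; omega
        have hd : 2 ^ (k - 1) * 2 ∣ i * 2 := by
          rw [← h2k, ← hc]
          exact orderOf_dvd_of_pow_eq_one (by rw [pow_mul, ← hbc, hb2])
        obtain ⟨q, rfl⟩ := Nat.dvd_of_mul_dvd_mul_right two_pos hd
        rcases Nat.even_or_odd q with ⟨r, rfl⟩ | ⟨r, rfl⟩
        · exfalso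
          apply hb1
          rw [hbc, show 2 ^ (k - 1) * (r + r) = 2 ^ (k - 1) * 2 * r by ring, pow_mul, ← h2k, ← hc,
            pow_orderOf_eq_one, one_pow]
        · rw [hbc, show 2 ^ (k - 1) * (2 * r + 1) = 2 ^ (k - 1) * 2 * r + 2 ^ (k - 1) by ring, pow_add,
            pow_mul, ← h2k, ← hc, pow_orderOf_eq_one, one_pow, one_mul]
      have h1' := huniq w (i * 2 ^ (p - 1)) hwo (by rw [pow_mul, show w ^ i = a from hi'])
      have h2' := huniq w' (j * 2 ^ (p - 1)) hw'o (by rw [pow_mul, show w' ^ j = a from hj'])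
      rw [hw0] at h1'
      rw [hw'u] at h2'
      exact hz1 (mul_eq_right.1 (h2'.symm.trans h1'))
    set A1 := Subgroup.zpowers w
    set A2 := Subgroup.zpowers w'
    have hA1T : A1 ≤ T := Subgroup.zpowers_le.2 hwT
    have hA2T : A2 ≤ T := Subgroup.zpowers_le.2 hw'T
    obtain ⟨ai, aj, hs2⟩ : ∃ i j : ℤ, s ^ 2 = w ^ i * w' ^ j := by
      let M : A1 × A2 → T := fun q => ⟨(q.1 : G) * q.2, T.mul_mem (hA1T q.1.2) (hA2T q.2.2)⟩
      have hM : Function.Injective M := by
        rintro ⟨a, b⟩ ⟨c, d⟩ h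
        have h' : (a : G) * b = c * d := congrArg Subtype.val h
        have hl : (c : G)⁻¹ * a = d * (b : G)⁻¹ := by
          rw [inv_mul_eq_iff_eq_mul, ← mul_assoc, eq_mul_inv_iff_mul_eq, h']
        have hmem : (c : G)⁻¹ * a ∈ A1 ⊓ A2 :=
          ⟨A1.mul_mem (A1.inv_mem c.2) a.2, hl ▸ A2.mul_mem d.2 (A2.inv_mem b.2)⟩
        rw [hdisj, Subgroup.mem_bot, inv_mul_eq_one] at hmem
        have hbd : (b : G) = d := mul_left_cancel (hmem ▸ h' : (a : G) * b = a * d)
        exact Prod.ext (Subtype.ext hmem.symm) (Subtype.ext hbd)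
      have hMs := ((Nat.bijective_iff_injective_and_card M).2 ⟨hM, by
        rw [Nat.card_prod, Nat.card_zpowers, Nat.card_zpowers, hwo, hw'o, hTcard, ← pow_add, two_mul]⟩).2
      obtain ⟨⟨⟨a, ha⟩, ⟨b, hb⟩⟩, hab⟩ := hMs ⟨s ^ 2, hsqT s hsS⟩
      obtain ⟨i, hi⟩ := Subgroup.mem_zpowers_iff.1 ha
      obtain ⟨j, hj⟩ := Subgroup.mem_zpowers_iff.1 hb
      exact ⟨i, j, by rw [hi, hj]; exact (congrArg Subtype.val hab).symm⟩
    have hsw' : s * w' * s⁻¹ = w := by
      have h := hTc _ (hsqT s hsS) w hwT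
      calc s * w' * s⁻¹ = s ^ 2 * w * (s ^ 2)⁻¹ := by simp only [w', pow_two]; group
        _ = w := by rw [h, mul_inv_cancel_right]
    have hij : w ^ ai = w ^ aj := by
      have hfix : w' ^ ai * w ^ aj = w ^ ai * w' ^ aj := by
        rw [← hs2]
        have e1 : s * (w ^ ai * w' ^ aj) * s⁻¹ = w' ^ ai * w ^ aj := by
          calc s * (w ^ ai * w' ^ aj) * s⁻¹ = (s * w ^ ai * s⁻¹) * (s * w' ^ aj * s⁻¹) := by group
            _ = w' ^ ai * w ^ aj := by rw [← conj_zpow, ← conj_zpow, hsw']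
        rw [← e1, ← hs2]; group
      have hmem : w ^ (ai - aj) ∈ A1 ⊓ A2 := by
        refine ⟨Subgroup.zpow_mem _ (Subgroup.mem_zpowers w) _, ?_⟩
        have e : w ^ (ai - aj) = w' ^ (ai - aj) := by
          have hc' : Commute (w' ^ ai) (w ^ aj) :=
            hTc _ (T.zpow_mem hw'T _) _ (T.zpow_mem hwT _)
          rw [hc'.eq] at hfix
          calc w ^ (ai - aj) = (w ^ aj)⁻¹ * (w ^ ai * w' ^ aj) * (w' ^ aj)⁻¹ := by group
            _ = w' ^ (ai - aj) := by rw [← hfix]; group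
        rw [e]
        exact Subgroup.zpow_mem _ (Subgroup.mem_zpowers w') _
      rw [hdisj, Subgroup.mem_bot, zpow_sub, mul_inv_eq_one] at hmem
      exact hmem
    set v := s * (w ^ ai)⁻¹
    have hvS : v ∈ (S : Subgroup G) :=
      Subgroup.mul_mem _ hsS (Subgroup.inv_mem _ (Subgroup.zpow_mem _ hwT.1 _))
    have hvT : v ∉ T := fun h => hsT ((T.mul_mem_cancel_right (T.inv_mem (T.zpow_mem hwT _))).1 h)
    have hv2 : v ^ 2 = 1 := by
      have hc' : Commute (w ^ ai) (w' ^ aj) := hTc _ (T.zpow_mem hwT _) _ (T.zpow_mem hw'T _)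
      calc v ^ 2 = (s * (w ^ ai)⁻¹ * s⁻¹) * s ^ 2 * (w ^ ai)⁻¹ := by simp only [v, pow_two]; group
        _ = (w' ^ ai)⁻¹ * (w ^ ai * w' ^ aj) * (w ^ ai)⁻¹ := by
          rw [hs2, show s * (w ^ ai)⁻¹ * s⁻¹ = (w' ^ ai)⁻¹ by simp only [w']; rw [conj_zpow]; group]
        _ = (w' ^ ai)⁻¹ * w' ^ aj := by rw [hc'.eq]; group
        _ = 1 := by
          rw [show w' ^ aj = w' ^ ai by simp only [w']; rw [conj_zpow, conj_zpow, hij], inv_mul_cancel]
    have hv1 : v ≠ 1 := fun h => hvT (h ▸ T.one_mem)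
    rcases hk1.eq_or_lt with rfl | hk2
    · exfalso
      obtain ⟨r, hr, -, hr2⟩ := hbig v hvS hvT hv2
      have := hexp ⟨r, hr⟩
      rw [pow_one] at this
      exact hz1 (hr2.symm.trans (congrArg Subtype.val this))
    refine Or.inr (Or.inr (Or.inl ⟨k, hk2, by rw [hcardST, hTcard, ← pow_succ'],
      ⟨w, hwT.1⟩, ⟨w', hw'T.1⟩, ⟨v, hvS⟩, by rw [Subgroup.orderOf_mk, hwo],
      Subtype.ext (hTc w hwT w' hw'T), ?_, by rw [Subgroup.orderOf_mk, orderOf_eq_prime hv2 hv1], ?_⟩))
    · rw [← Subgroup.map_eq_bot_iff_of_injective _ (Subgroup.subtype_injective _),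
        Subgroup.map_inf _ _ _ (Subgroup.subtype_injective _), MonoidHom.map_zpowers,
        MonoidHom.map_zpowers]
      exact hdisj
    · refine Subtype.ext ?_
      show v * w * v⁻¹ = w'
      simp only [v, w']
      group
  · -- the U₃(4) type is impossible
    exfalso
    obtain ⟨e⟩ := he
    obtain ⟨h64, hK, hZinv, hZc, -, hZsq⟩ := Cfsg.Agent.S1248.result hF P
    set Z := Subgroup.center (P : Subgroup (Cfsg.PSU 3 F 4))
    haveI := hK
    have hinvZ : ∀ a : T, a ^ 2 = 1 → e a ∈ Z := by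
      intro a ha
      by_cases ha1 : a = 1
      · rw [ha1, map_one]; exact Z.one_mem
      · rw [hZinv]
        exact Subgroup.subset_closure
          (show orderOf (e a) = 2 by rw [MulEquiv.orderOf_eq, orderOf_eq_prime ha ha1])
    set U' := U.subgroupOf T
    have hU'Z : U'.map e.toMonoidHom = Z := Subgroup.eq_of_le_of_card_ge (by
        rintro _ ⟨a, ha, rfl⟩; exact hinvZ a (Subtype.ext (hU2 a ha)))
      (by rw [IsKleinFour.card_four, Subgroup.card_map_of_injective e.injective,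
        Nat.card_congr (Subgroup.subgroupOfEquivOfLe hUT).toEquiv, hU4])
    have hmem : ∀ a : T, e a ∈ Z → a ∈ U' := fun a ha => by
      rw [← hU'Z] at ha
      obtain ⟨b, hb, hba⟩ := ha
      exact e.injective hba ▸ hb
    have hconj : s ∈ Subgroup.normalizer (T : Set G) := by
      have key : ∀ a ∈ (S : Subgroup G), ∀ t ∈ T, a * t * a⁻¹ ∈ T := fun a ha t ht => by
        refine ⟨Subgroup.mul_mem _ (Subgroup.mul_mem _ ha ht.1) (Subgroup.inv_mem _ ha),
          Subgroup.mem_centralizer_iff.2 fun q hq => ?_⟩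
        have hq' : a⁻¹ * q * a ∈ U := by
          simpa using (Subgroup.mem_normalizer_iff.1 (hUn (Subgroup.inv_mem _ ha)) q).1 hq
        calc q * (a * t * a⁻¹) = a * ((a⁻¹ * q * a) * t) * a⁻¹ := by group
          _ = a * (t * (a⁻¹ * q * a)) * a⁻¹ := by rw [Subgroup.mem_centralizer_iff.1 ht.2 _ hq']
          _ = a * t * a⁻¹ * q := by group
      refine Subgroup.mem_normalizer_iff.2 fun t => ⟨key s hsS t, fun h => ?_⟩
      simpa [mul_assoc] using key s⁻¹ (Subgroup.inv_mem _ hsS) _ h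
    refine no_transvection U' (fun a ha => Subgroup.mem_center_iff.2 fun b => Subtype.ext
      (Subgroup.mem_centralizer_iff.1 b.2.2 _ ha).symm) ?_ ?_ ?_ ?_ ?_ φ hφ
      (Subgroup.normalizerMonoidHom T ⟨s, hconj⟩) ⟨z, hzT⟩ ⟨u, huT⟩ hzU huU
      (fun h => hz1 (congrArg Subtype.val h)) (fun h => hu1 (congrArg Subtype.val h))
      (fun h => huz (congrArg Subtype.val h)) ?_ ?_ ?_
    · rw [Nat.card_congr e.toEquiv, h64]
    · rw [Nat.card_congr (Subgroup.subgroupOfEquivOfLe hUT).toEquiv, hU4]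
    · exact fun a => ⟨fun h => hmem a (hinvZ a h), fun h => Subtype.ext (hU2 a h)⟩
    · intro a
      refine hmem _ ?_
      rw [← QuotientGroup.eq_one_iff, map_pow, QuotientGroup.mk_pow, hZsq]
    · intro a b
      refine hmem _ ?_
      rw [hZc, map_commutatorElement, commutator_def]
      exact Subgroup.commutator_mem_commutator (Subgroup.mem_top _) (Subgroup.mem_top _)
    · exact Subtype.ext (show s * z * s⁻¹ = z by rw [hzS s hsS, mul_inv_cancel_right])
    · exact Subtype.ext (show s * u * s⁻¹ = z * u from htransv s hsS hsT)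
    · intro a
      refine hmem _ ?_
      rw [hZc, commutator_def]
      have hbase : a⁻¹ * (Subgroup.normalizerMonoidHom T ⟨s, hconj⟩
          (Subgroup.normalizerMonoidHom T ⟨s, hconj⟩ a)) = ⁅a⁻¹, (⟨s ^ 2, hsqT s hsS⟩ : T)⁆ :=
        Subtype.ext (by
          show (a : G)⁻¹ * (s * (s * a * s⁻¹) * s⁻¹) =
            (a : G)⁻¹ * s ^ 2 * ((a : G)⁻¹)⁻¹ * (s ^ 2)⁻¹
          rw [pow_two]; group)
      rw [hbase, map_commutatorElement]
      exact Subgroup.commutator_mem_commutator (Subgroup.mem_top _) (Subgroup.mem_top _)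

end Main

end CfsgLib.TwoGroups.RankTwoTypes
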