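import Mathlib
import Cfsg.Agent.Lib.TwoGroups.ElemCentralizers
import Cfsg.Agent.Lib.Classical.SL2Sylow

/-!
Groups with elementary abelian involution centralizers are `PSL(2, F)`: the Sylow 2-subgroup carries
a field structure on which the two-point stabiliser acts by multiplication, and the group is the
group of Moebius transformations of the projective line over that field.
-/

set_option autoImplicit false
set_option linter.style.haveILetI false

namespace CfsgLib.TwoGroups.ElemCent

open Subgroup MulAction CfsgLib.Signalizer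
open scoped MatrixGroups

universe u

variable {G : Type u} [Group G] [Finite G]

local notation "N[" T "]" => Subgroup.normalizer (SetLike.coe (Sylow.toSubgroup T))

variable {T : Sylow 2 G} (h : ElemCent T) {y : G ⧸ N[T]} (hy : y ≠ base T)

include h hy

/-- The Sylow subgroup is the additive group of a field in which the two-point stabiliser acts as
the multiplicative group. -/
theorem exists_coords : ∃ (F : Type) (_ : Field F) (_ : Fintype F) (τ : F → G),
    Fintype.card F = Nat.card (T : Subgroup G) ∧ Function.Injective τ ∧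
    (∀ g : G, g ∈ (T : Subgroup G) ↔ ∃ a, τ a = g) ∧ (∀ a b, τ (a + b) = τ a * τ b) ∧
    (∀ d ∈ pairStab (base T) y, ∃ μ : F, μ ≠ 0 ∧ ∀ a, d * τ a * d⁻¹ = τ (μ * a)) ∧
    (∀ μ : F, μ ≠ 0 → ∃ d ∈ pairStab (base T) y, ∀ a, d * τ a * d⁻¹ = τ (μ * a)) := by
  classical
  set D := pairStab (base T) y with hD
  letI : CommGroup (T : Subgroup G) :=
    { (inferInstance : Group (T : Subgroup G)) with
      mul_comm := fun a b => Subtype.ext (mul_comm_of_mul_self
        (fun t ht => by rw [← pow_two]; exact h.sq_eq_one ht) a.2 b.2) }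
  have hDN : ∀ d : D, (d : G) ∈ N[T] := fun d => smul_base_iff.1 d.2.1
  have hconj : ∀ (d : D) (t : (T : Subgroup G)), (d : G) * t * (d : G)⁻¹ ∈ (T : Subgroup G) :=
    fun d t => (Subgroup.mem_normalizer_iff.1 (hDN d) (t : G)).1 t.2
  -- the action of `D` by endomorphisms of `T`
  let φ : D → AddMonoid.End (Additive (T : Subgroup G)) := fun d =>
    AddMonoidHom.mk' (fun v => Additive.ofMul ⟨_, hconj d (Additive.toMul v)⟩) fun v v' =>
      congrArg Additive.ofMul (Subtype.ext (by simp [mul_assoc]))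
  have hφ : ∀ (d : D) (v : Additive (T : Subgroup G)),
      ((Additive.toMul (φ d v) : (T : Subgroup G)) : G) =
        (d : G) * ((Additive.toMul v : (T : Subgroup G)) : G) * (d : G)⁻¹ := fun _ _ => rfl
  have hφmul : ∀ d d' : D, φ (d * d') = φ d * φ d' := fun d d' => by
    refine DFunLike.ext _ _ fun v => ?_
    apply Additive.toMul.injective
    apply Subtype.ext
    show _ = ((Additive.toMul (φ d (φ d' v)) : (T : Subgroup G)) : G)
    rw [hφ, hφ, hφ]
    simp [mul_assoc]
  have hDc : ∀ d d' : D, d * d' = d' * d := by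
    intro d d'
    obtain ⟨w, hw, hwy⟩ := h.exists_swap hy.symm
    have hinv : ∀ e : D, w * (e : G) * w⁻¹ = (e : G)⁻¹ := fun e => h.conj_eq_inv hy.symm hw hwy e.2
    have e1 := hinv (d * d')
    apply Subtype.ext
    apply inv_injective
    rw [← e1]
    calc w * ((d : G) * d') * w⁻¹ = (w * d * w⁻¹) * (w * d' * w⁻¹) := by group
      _ = ((d' : G) * d)⁻¹ := by rw [hinv, hinv, mul_inv_rev]
  obtain ⟨e, he1⟩ : ∃ e : Additive (T : Subgroup G), e ≠ 0 := by
    obtain ⟨t, htT, ht⟩ := exists_ne_one_of_two_le (A := (T : Subgroup G))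
      (by have := h.four_le_card; omega)
    exact ⟨Additive.ofMul ⟨t, htT⟩, fun hh => ht (congrArg Subtype.val (congrArg Additive.toMul hh))⟩
  have hinvol : ∀ v : Additive (T : Subgroup G), v ≠ 0 →
      orderOf ((Additive.toMul v : (T : Subgroup G)) : G) = 2 := fun v hv => by
    refine orderOf_eq_two_of (fun hh => hv (Additive.toMul.injective (Subtype.ext hh))) ?_
    rw [← pow_two]
    exact h.sq_eq_one (Additive.toMul v).2
  have htrans : ∀ v : Additive (T : Subgroup G), v ≠ 0 → ∃ d : D, φ d e = v := by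
    intro v hv
    obtain ⟨d, hd1, hd2, hd⟩ := SE.exists_conj_fixing h.stronglyEmbedded hy.symm (hinvol e he1)
      (fixes_base (Additive.toMul e).2) (hinvol v hv) (fixes_base (Additive.toMul v).2)
    exact ⟨⟨d, hd1, hd2⟩, Additive.toMul.injective (Subtype.ext hd)⟩
  -- the field
  let K : Subring (AddMonoid.End (Additive (T : Subgroup G))) := Subring.centralizer (Set.range φ)
  have hφK : ∀ d, φ d ∈ K := fun d => Subring.mem_centralizer_iff.2 (by
    rintro _ ⟨d', rfl⟩
    rw [← hφmul, ← hφmul, hDc])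
  have hinjK : ∀ f g : K, f.1 e = g.1 e → f = g := by
    intro f g hfg
    refine Subtype.ext (DFunLike.ext _ _ fun v => ?_)
    rcases eq_or_ne v 0 with rfl | hv
    · rw [map_zero, map_zero]
    obtain ⟨d, rfl⟩ := htrans v hv
    show (f.1 * φ d) e = (g.1 * φ d) e
    rw [← Subring.mem_centralizer_iff.1 f.2 _ ⟨d, rfl⟩,
      ← Subring.mem_centralizer_iff.1 g.2 _ ⟨d, rfl⟩]
    exact congrArg (φ d) hfg
  have hcases : ∀ f : K, f = 0 ∨ ∃ d : D, f.1 = φ d := by
    intro f
    rcases eq_or_ne (f.1 e) 0 with hf | hf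
    · exact Or.inl (hinjK f 0 (by rw [hf]; rfl))
    · obtain ⟨d, hd⟩ := htrans _ hf
      exact Or.inr ⟨d, congrArg Subtype.val (hinjK f ⟨_, hφK d⟩ hd.symm)⟩
  letI : CommRing K :=
    { (inferInstance : Ring K) with
      mul_comm := fun f g => by
        rcases hcases f with rfl | ⟨d, hd⟩
        · rw [zero_mul, mul_zero]
        rcases hcases g with rfl | ⟨d', hd'⟩
        · rw [zero_mul, mul_zero]
        refine Subtype.ext ?_
        show f.1 * g.1 = g.1 * f.1
        rw [hd, hd', ← hφmul, ← hφmul, hDc] }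
  have hone : φ 1 = 1 := by
    refine DFunLike.ext _ _ fun v => ?_
    apply Additive.toMul.injective
    apply Subtype.ext
    rw [hφ]
    simp
  haveI : Nontrivial K := ⟨⟨0, 1, fun hh => he1
    (DFunLike.congr_fun (congrArg Subtype.val hh) e).symm⟩⟩
  letI : Field K := Field.ofIsUnitOrEqZero fun f => by
    rcases hcases f with hf | ⟨d, hd⟩
    · exact Or.inr hf
    · refine Or.inl (IsUnit.of_mul_eq_one ⟨φ d⁻¹, hφK _⟩ (Subtype.ext ?_))
      show f.1 * φ d⁻¹ = 1
      rw [hd, ← hφmul, mul_inv_cancel, hone]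
  let θ : K ≃ (T : Subgroup G) := Equiv.ofBijective
    (fun f : K => Additive.toMul (f.1 e))
    ⟨fun f g hfg => hinjK f g (Additive.toMul.injective hfg), fun t => by
      rcases eq_or_ne (Additive.ofMul t) 0 with ht | ht
      · refine ⟨0, ?_⟩
        show Additive.toMul (0 : Additive (T : Subgroup G)) = t
        rw [← ht, toMul_ofMul]
      · obtain ⟨d, hd⟩ := htrans _ ht
        exact ⟨⟨φ d, hφK d⟩, by
          show Additive.toMul (φ d e) = t
          rw [hd, toMul_ofMul]⟩⟩
  haveI : Finite K := Finite.of_equiv _ θ.symm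
  haveI : Small.{0} K := small_of_injective (Finite.equivFin K).injective
  let ε : Shrink.{0} K ≃+* K := Shrink.ringEquiv K
  haveI : Finite (Shrink.{0} K) := Finite.of_equiv _ (equivShrink K)
  have hτmul : ∀ (d : D) (a : Shrink.{0} K) (μ : Shrink.{0} K),
      (ε μ).1 = φ d →
      (d : G) * ((θ (ε a) : (T : Subgroup G)) : G) * (d : G)⁻¹ = θ (ε (μ * a)) := by
    intro d a μ hμ
    rw [map_mul]
    show _ = ((Additive.toMul ((ε μ).1
      ((ε a).1 e)) : (T : Subgroup G)) : G)
    rw [hμ, hφ]
    rfl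
  letI : Fintype (Shrink.{0} K) := Fintype.ofFinite _
  refine ⟨Shrink.{0} K, inferInstance, inferInstance, fun a => θ (ε a), ?_, ?_, ?_, ?_, ?_, ?_⟩
  · rw [← Nat.card_eq_fintype_card]
    exact Nat.card_congr (ε.toEquiv.trans θ)
  · exact fun a b hab => ε.injective (θ.injective (Subtype.ext hab))
  · refine fun g => ⟨fun hg => ⟨ε.symm (θ.symm ⟨g, hg⟩), by simp⟩, ?_⟩
    rintro ⟨a, rfl⟩
    exact (θ (ε a)).2
  · intro a b
    show ((θ (ε (a + b)) : (T : Subgroup G)) : G) = _
    rw [map_add]
    show ((Additive.toMul ((ε a).1 e + (ε b).1 e) :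
      (T : Subgroup G)) : G) = _
    rfl
  · intro d hd
    refine ⟨ε.symm ⟨φ ⟨d, hd⟩, hφK _⟩, fun hh => ?_,
      fun a => hτmul ⟨d, hd⟩ a _ (by rw [RingEquiv.apply_symm_apply])⟩
    have hz : φ ⟨d, hd⟩ * φ (⟨d, hd⟩ : D)⁻¹ = 0 := by
      have h0 : φ ⟨d, hd⟩ = 0 := by
        have := congrArg ε hh
        rw [RingEquiv.apply_symm_apply, map_zero] at this
        exact congrArg Subtype.val this
      rw [h0, zero_mul]
    rw [← hφmul, mul_inv_cancel, hone] at hz
    exact he1 (DFunLike.congr_fun hz e)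
  · intro μ hμ
    rcases hcases (ε μ) with h0 | ⟨d, hd⟩
    · exact absurd (ε.injective (h0.trans (map_zero ε).symm)) hμ
    · exact ⟨d, d.2, fun a => hτmul d a μ hd⟩

end CfsgLib.TwoGroups.ElemCent
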