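import Mathlib
import Cfsg.Agent.Lib.TwoGroups.ElemCentField

/-!
A group with elementary abelian involution centralizers is the group of Moebius transformations
of the projective line over a field with `|T|` elements, hence `PSL(2, F)`.
-/

set_option autoImplicit false
set_option linter.style.haveILetI false

namespace CfsgLib.TwoGroups.ElemCent

open Subgroup MulAction CfsgLib.Signalizer OnePoint
open scoped MatrixGroups

universe u

variable {F : Type} [Field F] [DecidableEq F]

/-- The Moebius action of `SL(2, F)` on the projective line. -/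
def moebius (F : Type) [Field F] [DecidableEq F] : SL(2, F) →* Equiv.Perm (OnePoint F) :=
  (MulAction.toPermHom (GL (Fin 2) F) (OnePoint F)).comp Matrix.SpecialLinearGroup.toGL

theorem moebius_apply (A : SL(2, F)) (x : OnePoint F) :
    moebius F A x = (Matrix.SpecialLinearGroup.toGL A : GL (Fin 2) F) • x := rfl

theorem moebius_infty (A : SL(2, F)) :
    moebius F A ∞ = if A 1 0 = 0 then ∞ else ((A 0 0 / A 1 0 : F) : OnePoint F) := by
  rw [moebius_apply, smul_infty_eq_ite]; rfl

theorem moebius_some (A : SL(2, F)) (k : F) :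
    moebius F A (k : OnePoint F) = if A 1 0 * k + A 1 1 = 0 then ∞
      else (((A 0 0 * k + A 0 1) / (A 1 0 * k + A 1 1) : F) : OnePoint F) := by
  rw [moebius_apply, smul_some_eq_ite]; rfl

theorem moebius_mk_infty (M : Matrix (Fin 2) (Fin 2) F) (hM : M.det = 1) :
    moebius F ⟨M, hM⟩ ∞ = if M 1 0 = 0 then ∞ else ((M 0 0 / M 1 0 : F) : OnePoint F) :=
  moebius_infty ⟨M, hM⟩

theorem moebius_mk_some (M : Matrix (Fin 2) (Fin 2) F) (hM : M.det = 1) (k : F) :
    moebius F ⟨M, hM⟩ (k : OnePoint F) = if M 1 0 * k + M 1 1 = 0 then ∞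
      else (((M 0 0 * k + M 0 1) / (M 1 0 * k + M 1 1) : F) : OnePoint F) :=
  moebius_some ⟨M, hM⟩ k

theorem moebius_injective (h2 : (2 : F) = 0) : Function.Injective (moebius F) := by
  rw [← MonoidHom.ker_eq_bot_iff, eq_bot_iff]
  intro A hA
  rw [MonoidHom.mem_ker] at hA
  have e : ∀ x, moebius F A x = x := fun x => by rw [hA]; rfl
  have h10 : A 1 0 = 0 := by
    have := e ∞
    rw [moebius_infty] at this
    by_contra hne
    rw [if_neg hne] at this
    exact OnePoint.coe_ne_infty _ this
  have hdet : A 0 0 * A 1 1 = 1 := by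
    have := A.2
    rw [Matrix.det_fin_two] at this
    simpa [h10] using this
  have h11 : A 1 1 ≠ 0 := fun e => by simp [e] at hdet
  have hk : ∀ k : F, (A 0 0 * k + A 0 1) / A 1 1 = k := fun k => by
    have := e (k : OnePoint F)
    rw [moebius_some, h10, zero_mul, zero_add, if_neg h11] at this
    exact OnePoint.coe_injective this
  have h01 : A 0 1 = 0 := by
    have := hk 0
    simpa [h11] using this
  have hab : A 0 0 = A 1 1 := by
    have := hk 1
    rwa [mul_one, h01, add_zero, div_eq_one_iff_eq h11] at this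
  have h00 : A 0 0 = 1 := by
    have hsq : (A 0 0 - 1) * (A 0 0 - 1) = 0 := by
      rw [← hab] at hdet
      linear_combination hdet + (1 - A 0 0) * h2
    exact sub_eq_zero.1 (mul_self_eq_zero.1 hsq)
  rw [Subgroup.mem_bot]
  apply Subtype.ext
  ext i j
  fin_cases i <;> fin_cases j <;> simp [h10, h01, h00, hab.symm]

variable {G : Type u} [Group G] [Finite G]

local notation "N[" T "]" => Subgroup.normalizer (SetLike.coe (Sylow.toSubgroup T))

theorem exists_mulEquiv_psl {T : Sylow 2 G} (h : ElemCent T) :
    ∃ (F : Type) (_ : Field F) (_ : Fintype F), Fintype.card F = Nat.card (T : Subgroup G) ∧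
      Nonempty (G ≃* Matrix.ProjectiveSpecialLinearGroup (Fin 2) F) := by
  classical
  obtain ⟨y, hy⟩ := h.exists_ne_base
  obtain ⟨F, iF, iFt, τ, hcard, hτi, hτT, hτadd, hD1, hD2⟩ := h.exists_coords hy
  refine ⟨F, iF, iFt, hcard, ?_⟩
  have hτmem : ∀ a, τ a ∈ (T : Subgroup G) := fun a => (hτT _).2 ⟨a, rfl⟩
  have hτ0 : τ 0 = 1 := left_eq_mul.1 ((congrArg τ (add_zero (0 : F)).symm).trans (hτadd 0 0))
  have h2 : (2 : F) = 0 := by
    apply hτi
    rw [hτ0, ← one_add_one_eq_two, hτadd, ← pow_two]
    exact h.sq_eq_one (hτmem 1)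
  -- the coordinates on the points
  let P : OnePoint F → G ⧸ N[T] := fun o => o.elim (base T) fun a => τ a • y
  have hPinf : P ∞ = base T := rfl
  have hPsome : ∀ a : F, P (a : OnePoint F) = τ a • y := fun _ => rfl
  have hPne : ∀ a : F, τ a • y ≠ base T := fun a e =>
    hy (smul_left_cancel (τ a) (e.trans (fixes_base (hτmem a)).symm))
  have hP : Function.Bijective P := by
    constructor
    · intro o o' e
      cases o with
      | infty =>
        cases o' with
        | infty => rfl
        | coe b => exact absurd e.symm (hPne b)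
      | coe a =>
        cases o' with
        | infty => exact absurd e (hPne a)
        | coe b =>
          obtain ⟨t, -, huniq⟩ := h.regular hy (hPne a)
          exact congrArg _ (hτi ((huniq _ ⟨hτmem a, rfl⟩).trans
            (huniq _ ⟨hτmem b, e.symm⟩).symm))
    · intro z
      by_cases hz : z = base T
      · exact ⟨∞, hz.symm⟩
      · obtain ⟨t, ⟨ht, e⟩, -⟩ := h.regular hy hz
        obtain ⟨a, rfl⟩ := (hτT t).1 ht
        exact ⟨(a : OnePoint F), e⟩
  let Pe : OnePoint F ≃ G ⧸ N[T] := Equiv.ofBijective P hP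
  let ρ : G →* Equiv.Perm (OnePoint F) :=
    { toFun := fun g => Pe.trans ((MulAction.toPerm g).trans Pe.symm)
      map_one' := by ext o; simp
      map_mul' := fun a b => by ext o; simp [mul_smul] }
  have hρ : ∀ g o, ρ g o = Pe.symm (g • P o) := fun _ _ => rfl
  have hρeq : ∀ g o o', g • P o = P o' → ρ g o = o' := fun g o o' e => by
    rw [hρ, e]; exact Pe.symm_apply_apply o'
  have hρinj : Function.Injective ρ := by
    rw [← MonoidHom.ker_eq_bot_iff, eq_bot_iff]
    intro g hg
    rw [MonoidHom.mem_ker] at hg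
    have hfix : ∀ o, g • P o = P o := fun o => by
      have := congrArg Pe (show ρ g o = o by rw [hg]; rfl)
      rw [hρ, Pe.apply_symm_apply] at this
      exact this
    rw [Subgroup.mem_bot]
    exact h.eq_one_of_three (x₁ := P ∞) (x₂ := P (0 : F)) (x₃ := P (1 : F))
      (fun e => OnePoint.infty_ne_coe _ (hP.1 e)) (fun e => OnePoint.infty_ne_coe _ (hP.1 e))
      (fun e => zero_ne_one (OnePoint.coe_injective (hP.1 e))) (hfix _) (hfix _) (hfix _)
  -- translations
  have htr : ∀ b, ρ (τ b) ∈ (moebius F).range := by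
    intro b
    refine ⟨⟨!![1, b; 0, 1], by simp [Matrix.det_fin_two]⟩, Equiv.ext fun o => (hρeq _ _ _ ?_).symm⟩
    cases o with
    | infty => rw [moebius_mk_infty]; simp [hPinf, fixes_base (hτmem b)]
    | coe a => rw [moebius_mk_some]; simp [hPsome, ← mul_smul, ← hτadd, add_comm]
  -- dilations
  have hsqrt : ∀ μ : F, ∃ s, s * s = μ := fun μ => by
    have hinj : Function.Injective (fun s : F => s * s) := fun s s' e => by
      have : (s + s') * (s + s') = 0 := by linear_combination (s * s' + s' * s') * h2 + e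
      exact sub_eq_zero.1 (by linear_combination (mul_self_eq_zero.1 this) - s' * h2)
    exact (Finite.injective_iff_surjective.1 hinj) μ
  have hdil : ∀ d ∈ pairStab (base T) y, ρ d ∈ (moebius F).range := by
    intro d hd
    have hd1 : d • base T = base T := hd.1
    have hd2 : d • y = y := hd.2
    obtain ⟨μ, hμ, hμd⟩ := hD1 d hd
    obtain ⟨s, hs⟩ := hsqrt μ
    have hs0 : s ≠ 0 := fun e => hμ (by rw [← hs, e, zero_mul])
    refine ⟨⟨!![s, 0; 0, s⁻¹], by simp [Matrix.det_fin_two, mul_inv_cancel₀ hs0]⟩,
      Equiv.ext fun o => (hρeq _ _ _ ?_).symm⟩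
    cases o with
    | infty => rw [moebius_mk_infty]; simp [hPinf, hd1]
    | coe a =>
      rw [moebius_mk_some]
      have e : s * a * s = μ * a := by rw [← hs]; ring
      simp [hPsome, hs0, e, ← hμd, mul_smul, inv_smul_eq_iff.2 hd2.symm]
  -- the inversion
  obtain ⟨u, hu, huy, hu1⟩ : ∃ u : G, orderOf u = 2 ∧ u • base T = y ∧ u • τ 1 • y = τ 1 • y := by
    obtain ⟨w, hw, hwy⟩ := h.exists_swap hy.symm
    have hwy' : w • y = base T := by rw [← hwy, ← mul_smul, involution_sq hw, one_smul]
    obtain ⟨o, ho⟩ := hP.2 (w • τ 1 • y)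
    cases o with
    | infty =>
      exfalso
      have e : τ 1 • y = y := smul_left_cancel w ((ho.symm.trans hPinf).trans hwy'.symm)
      have := h.free (hτmem 1) hy e
      exact one_ne_zero (hτi (this.trans hτ0.symm))
    | coe m =>
      have hm : m ≠ 0 := fun e => by
        rw [hPsome, e, hτ0, one_smul] at ho
        exact hPne 1 (smul_left_cancel w (ho.symm.trans hwy.symm))
      obtain ⟨d, hd, hdm⟩ := hD2 m⁻¹ (inv_ne_zero hm)
      have hd2 : d • y = y := hd.2
      refine ⟨d * w, orderOf_eq_two_of (fun e => ?_) ?_, ?_, ?_⟩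
      · have := congrArg (fun g : G => g • base T) e
        simp only [mul_smul, hwy, hd2, one_smul] at this
        exact hy this
      · have hi := h.conj_eq_inv hy.symm hw hwy hd
        calc d * w * (d * w) = d * (w * d * w⁻¹) * (w * w) := by group
          _ = 1 := by rw [hi, mul_inv_cancel, involution_sq hw, one_mul]
      · rw [mul_smul, hwy, hd2]
      · rw [mul_smul, ← ho, hPsome]
        have := hdm m
        rw [inv_mul_cancel₀ hm] at this
        rw [← this, mul_smul, mul_smul, inv_smul_eq_iff.2 hd2.symm]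
  have huy' : u • y = base T := by rw [← huy, ← mul_smul, involution_sq hu, one_smul]
  have hinv : ρ u ∈ (moebius F).range := by
    refine ⟨⟨!![0, 1; 1, 0], by simp [Matrix.det_fin_two]; linear_combination -h2⟩,
      Equiv.ext fun o => (hρeq _ _ _ ?_).symm⟩
    cases o with
    | infty => rw [moebius_mk_infty]; simp [hPinf, hPsome, huy, hτ0]
    | coe a =>
      rw [moebius_mk_some]
      by_cases ha : a = 0
      · simp [ha, hPinf, hPsome, huy', hτ0]
      · obtain ⟨d, hd, hda⟩ := hD2 a ha
        have hd2 : d • y = y := hd.2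
        have hdi : d⁻¹ * τ 1 * d = τ a⁻¹ := by
          have := hda a⁻¹
          rw [mul_inv_cancel₀ ha] at this
          rw [← this]; group
        have hud : u * d = d⁻¹ * u := mul_inv_eq_iff_eq_mul.1 (h.conj_eq_inv hy.symm hu huy hd)
        have h1 := hda 1
        rw [mul_one] at h1
        simp only [hPsome, ← h1, mul_smul, inv_smul_eq_iff.2 hd2.symm]
        rw [← mul_smul u d, hud, mul_smul, hu1]
        simp [ha, hPsome, ← hdi, mul_smul, hd2]
  -- generation
  have hgen : ∀ g, ρ g ∈ (moebius F).range := by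
    have hfix : ∀ g : G, g • base T = base T → ρ g ∈ (moebius F).range := by
      intro g hg
      have hgy : g • y ≠ base T := fun e => hy (smul_left_cancel g (e.trans hg.symm))
      obtain ⟨t, ⟨ht, e⟩, -⟩ := h.regular hy hgy
      obtain ⟨a, rfl⟩ := (hτT t).1 ht
      have hmem : (τ a)⁻¹ * g ∈ pairStab (base T) y := by
        refine ⟨?_, ?_⟩
        · show ((τ a)⁻¹ * g) • base T = base T
          rw [mul_smul, hg, inv_smul_eq_iff, fixes_base (hτmem a)]
        · show ((τ a)⁻¹ * g) • y = y
          rw [mul_smul, inv_smul_eq_iff, e]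
      have := mul_mem (htr a) (hdil _ hmem)
      rwa [← map_mul, mul_inv_cancel_left] at this
    intro g
    by_cases hg : g • base T = base T
    · exact hfix g hg
    · obtain ⟨t, ⟨ht, e⟩, -⟩ := h.regular hy hg
      obtain ⟨a, rfl⟩ := (hτT t).1 ht
      have := mul_mem (mul_mem (htr a) hinv) (hfix ((τ a * u)⁻¹ * g) (by
        rw [mul_smul, inv_smul_eq_iff, mul_smul, huy, e]))
      rwa [← map_mul, ← map_mul, mul_inv_cancel_left] at this
  -- conclusion
  have hG : Nat.card G = Fintype.card F * (Fintype.card F ^ 2 - 1) := by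
    have hN : Nat.card N[T] = Fintype.card F * (Fintype.card F - 1) := by
      rw [h.card_normalizer, hcard]
    rw [← Subgroup.index_mul_card N[T], hN, show (N[T]).index = Fintype.card F + 1 by
      rw [hcard]; exact h.card_points]
    have : Fintype.card F ^ 2 - 1 = (Fintype.card F + 1) * (Fintype.card F - 1) := by
      simpa using Nat.sq_sub_sq (Fintype.card F) 1
    rw [this]; ring
  have hrange : ρ.range = (moebius F).range := by
    refine Subgroup.eq_of_le_of_card_ge (fun _ ⟨g, hg⟩ => hg ▸ hgen g) ?_
    rw [← Nat.card_congr (MonoidHom.ofInjective hρinj).toEquiv, hG,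
      ← Nat.card_congr (MonoidHom.ofInjective (moebius_injective h2)).toEquiv,
      CfsgLib.Classical.Two.card_SL_two]
  let e : G ≃* SL(2, F) := (MonoidHom.ofInjective hρinj).trans
    ((MulEquiv.subgroupCongr hrange).trans (MonoidHom.ofInjective (moebius_injective h2)).symm)
  have hcenter : Subgroup.center SL(2, F) = ⊥ := by
    rw [eq_bot_iff]
    intro z hz
    rw [Subgroup.mem_bot]
    have hzc : e.symm z ∈ Subgroup.center G := Subgroup.mem_center_iff.2 fun g => by
      apply e.injective
      simpa using Subgroup.mem_center_iff.1 hz (e g)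
    obtain ⟨a, ha, -⟩ := SE.exists_fixing h.stronglyEmbedded (base T)
    by_contra hne
    have hsq : (e.symm z) ^ 2 = 1 := (h.hC a ha).2 _
      (mem_centralizer_singleton_iff.2 (Subgroup.mem_center_iff.1 hzc a).symm)
    have hz2 : orderOf (e.symm z) = 2 := orderOf_eq_prime hsq fun hh => hne (by
      simpa using congrArg e hh)
    refine SE.fixed_unique h.stronglyEmbedded hz2 (x := base T) (y := y) ?_ ?_ |>.symm |> hy
    · obtain ⟨x, hx⟩ := SE.exists_fixed h.stronglyEmbedded hz2
      obtain ⟨g, hg⟩ := MulAction.exists_smul_eq G x (base T)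
      rw [← hg, ← mul_smul, ← Subgroup.mem_center_iff.1 hzc g, mul_smul, hx]
    · obtain ⟨x, hx⟩ := SE.exists_fixed h.stronglyEmbedded hz2
      obtain ⟨g, hg⟩ := MulAction.exists_smul_eq G x y
      rw [← hg, ← mul_smul, ← Subgroup.mem_center_iff.1 hzc g, mul_smul, hx]
  exact ⟨e.trans (QuotientGroup.quotientBot.symm.trans
    (QuotientGroup.quotientMulEquivOfEq hcenter.symm))⟩

end CfsgLib.TwoGroups.ElemCent
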