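import Cfsg.Agent.Lib.TwoGroups.NonTIKappa

/-!
Owner: helper12. Bender–Glauberman 15.7 (c)(3): `|K| ∣ p - 1`, or `|P| = p³` and `|K| ∣ p + 1`.
-/

set_option autoImplicit false
set_option linter.unusedSectionVars false

namespace CfsgLib.TwoGroups.NonTI

open Subgroup
open scoped Pointwise
open scoped commutatorElement

variable {G : Type*} [Group G] [Finite G] {M N A K P Z : Subgroup G} {x g : G} {p : ℕ}

/-- The elements of `P` central and of order dividing `p` modulo a central subgroup `Z` of `P`. -/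
def layer (P Z : Subgroup G) (p : ℕ) (hZP : Z ≤ P) (hc : P ≤ centralizer (Z : Set G)) : Subgroup G where
  carrier := {a | a ∈ P ∧ a ^ p ∈ Z ∧ ∀ u ∈ P, a * u * a⁻¹ * u⁻¹ ∈ Z}
  one_mem' := ⟨one_mem _, by rw [one_pow]; exact one_mem _, fun u _ => by simp⟩
  mul_mem' := by
    rintro a b ⟨ha, hap, hau⟩ ⟨hb, hbp, hbu⟩
    have hfix : ∀ w ∈ P, ∀ z ∈ Z, w * z = z * w := fun w hw z hz => (mem_centralizer_iff.mp (hc hw) z hz).symm
    refine ⟨mul_mem ha hb, ?_, fun u hu => ?_⟩
    · have hcZ := hbu a ha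
      rw [pow_mul_moved (c := b * a * b⁻¹ * a⁻¹) (by group) (hfix a ha _ hcZ) (hfix b hb _ hcZ)]
      exact mul_mem (pow_mem hcZ _) (mul_mem hap hbp)
    · have h1 := hbu u hu
      have e : a * b * u * (a * b)⁻¹ * u⁻¹ = (a * (b * u * b⁻¹ * u⁻¹)) * a⁻¹ * (a * u * a⁻¹ * u⁻¹) := by group
      rw [e, hfix a ha _ h1, mul_inv_cancel_right]
      exact mul_mem h1 (hau u hu)
  inv_mem' := by
    rintro a ⟨ha, hap, hau⟩
    refine ⟨inv_mem ha, by rw [inv_pow]; exact inv_mem hap, fun u hu => ?_⟩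
    have h1 := inv_mem (hau u hu)
    have e : a⁻¹ * u * a⁻¹⁻¹ * u⁻¹ = a⁻¹ * (a * u * a⁻¹ * u⁻¹)⁻¹ * a := by group
    rw [e, (mem_centralizer_iff.mp (hc (inv_mem ha)) _ h1).symm, inv_mul_cancel_right]
    exact h1

theorem mem_layer {hZP : Z ≤ P} {hc : P ≤ centralizer (Z : Set G)} {a : G} :
    a ∈ layer P Z p hZP hc ↔ a ∈ P ∧ a ^ p ∈ Z ∧ ∀ u ∈ P, a * u * a⁻¹ * u⁻¹ ∈ Z :=
  Iff.rfl

namespace KData

variable (d : KData M N A K x g p P Z)
include d

theorem Z_fixed {k z : G} (hk : k ∈ K) (hz : z ∈ Z) : k * z * k⁻¹ = z := by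
  rw [mem_centralizer_iff.mp ((d.Zeq.le.trans inf_le_right) hz) k hk, mul_inv_cancel_right]

theorem layer_normalized (hc : P ≤ centralizer (Z : Set G)) :
    K ≤ normalizer (layer P Z p d.ZP hc : Set G) := by
  intro k hk
  rw [Core.mem_normalizer_iff_conj_smul_eq, Core.conj_smul_eq_map]
  refine eq_of_le_of_card_ge ?_ (by rw [card_map_of_injective (MulAut.conj k).injective])
  rintro _ ⟨a, ⟨ha, hap, hau⟩, rfl⟩
  show k * a * k⁻¹ ∈ layer P Z p d.ZP hc
  refine ⟨(mem_normalizer_iff.mp (d.K_le_normalizer hk) a).mp ha, ?_, fun u hu => ?_⟩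
  · rw [conj_pow, d.Z_fixed hk hap]; exact hap
  · have h1 := hau _ ((mem_normalizer_iff''.mp (d.K_le_normalizer hk) u).mp hu)
    have e : k * a * k⁻¹ * u * (k * a * k⁻¹)⁻¹ * u⁻¹ = k * (a * (k⁻¹ * u * k) * a⁻¹ * (k⁻¹ * u * k)⁻¹) * k⁻¹ := by
      group
    rw [e, d.Z_fixed hk h1]
    exact h1

/-- The layer strictly contains `Z`. -/
theorem exists_layer (hc : P ≤ centralizer (Z : Set G)) : ∃ a ∈ layer P Z p d.ZP hc, a ∉ Z := by
  have := d.c.fact
  have hPn : P ≤ normalizer (Z : Set G) := hc.trans (Subgroup.centralizer_le_normalizer _)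
  set Z' := Z.subgroupOf P with hZ'
  have : Z'.Normal := (normal_subgroupOf_iff_le_normalizer d.ZP).mpr hPn
  have hq : IsPGroup p (P ⧸ Z') := d.Pp.to_quotient Z'
  have : Nontrivial (P ⧸ Z') := by
    rw [QuotientGroup.nontrivial_iff]
    intro e
    refine d.Pnab ⟨⟨fun u v => Subtype.ext ?_⟩⟩
    have hu : (v : G) ∈ Z := (e ▸ mem_top v : v ∈ Z')
    exact (mem_centralizer_iff.mp (hc u.2) _ hu).symm
  have := hq.center_nontrivial
  obtain ⟨C₀, hC₀, hC₀c⟩ := OddLocal.FixedTauOne.exists_line (hq.to_subgroup (Subgroup.center (P ⧸ Z')))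
    ((Subgroup.nontrivial_iff_ne_bot _).mp this)
  obtain ⟨⟨q, hq'⟩, hq1⟩ := C₀.ne_bot_iff_exists_ne_one.mp (OddLocal.FixedTauOne.ne_bot_of_card_eq hC₀)
  obtain ⟨a, rfl⟩ := QuotientGroup.mk_surjective q
  refine ⟨a, ⟨a.2, ?_, fun u hu => ?_⟩, fun haZ => hq1 (Subtype.ext ((QuotientGroup.eq_one_iff a).mpr haZ))⟩
  · have h1 := pow_card_eq_one' (G := C₀) (x := ⟨_, hq'⟩)
    rw [hC₀] at h1
    have h2 : ((a ^ p : P) : P ⧸ Z') = 1 := congrArg Subtype.val h1
    exact mem_subgroupOf.mp ((QuotientGroup.eq_one_iff (N := Z') _).mp h2)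
  · have h1 := mem_center_iff.mp (hC₀c hq') ((⟨u, hu⟩ : P) : P ⧸ Z')
    have h2 : ((a * ⟨u, hu⟩ * a⁻¹ * (⟨u, hu⟩ : P)⁻¹ : P) : P ⧸ Z') = 1 := by
      rw [QuotientGroup.mk_mul, QuotientGroup.mk_mul, QuotientGroup.mk_mul, QuotientGroup.mk_inv,
        QuotientGroup.mk_inv, ← h1]
      group
    exact mem_subgroupOf.mp ((QuotientGroup.eq_one_iff (N := Z') _).mp h2)

/-- The layer has exponent `p`. -/
theorem layer_pow (hc : P ≤ centralizer (Z : Set G)) {a : G} (ha : a ∈ layer P Z p d.ZP hc) : a ^ p = 1 := by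
  have := d.c.fact
  have hG := d.c.loc.hG
  have hp2 : 2 < p := lt_of_le_of_ne d.c.loc.prime.two_le
    (Ne.symm (Uniqueness.odd_prime hG (d.c.loc.q_sigma.2.1.trans M.card_subgroup_dvd_card)))
  set W := layer P Z p d.ZP hc
  have hmul : ∀ a ∈ W, ∀ b ∈ W, (a * b) ^ p = a ^ p * b ^ p := by
    rintro a ⟨ha, -, -⟩ b ⟨hb, -, hbu⟩
    have hcZ := hbu a ha
    rw [pow_mul_moved (c := b * a * b⁻¹ * a⁻¹) (by group) (mem_centralizer_iff.mp (hc ha) _ hcZ).symm
      (mem_centralizer_iff.mp (hc hb) _ hcZ).symm]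
    obtain ⟨t, ht⟩ := d.c.loc.prime.dvd_choose_self two_ne_zero hp2
    rw [ht, pow_mul, d.pow_Z hcZ, one_pow, one_mul]
  let W₁ : Subgroup G :=
    { carrier := {a | a ∈ W ∧ a ^ p = 1}
      one_mem' := ⟨one_mem _, one_pow _⟩
      mul_mem' := fun {a b} ha hb => ⟨mul_mem ha.1 hb.1, by rw [hmul a ha.1 b hb.1, ha.2, hb.2, one_mul]⟩
      inv_mem' := fun {a} ha => ⟨inv_mem ha.1, by rw [inv_pow, ha.2, inv_one]⟩ }
  suffices W ≤ W₁ from (this ha).2
  have hKW : K ≤ normalizer (W : Set G) := d.layer_normalized hc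
  have hWM : W ≤ M := fun a ha => TauTwo.sigmaCore_le M (d.Ple ha.1)
  have hcop : (Nat.card K).Coprime (Nat.card W) := by
    obtain ⟨n, hn⟩ := IsPGroup.iff_card.mp (d.Pp.to_le (fun a ha => ha.1 : W ≤ P))
    rw [hn]
    exact Nat.Coprime.pow_right n (d.c.loc.prime.coprime_iff_not_dvd.mpr d.cop).symm
  refine (Core.commutator_sup_centralizer hKW hcop
    (Or.inr (Core.isSolvable_of_le (hG.2.2.2 M d.c.loc.hM.1) hWM))).ge.trans ?_
  refine sup_le (commutator_le.mpr fun a ha k hk => ?_) fun a ha => ⟨ha.1, ?_⟩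
  · have hb : k * a⁻¹ * k⁻¹ ∈ W := (mem_normalizer_iff.mp (hKW hk) _).mp (inv_mem ha)
    rw [commutatorElement_def, show a * k * a⁻¹ * k⁻¹ = a * (k * a⁻¹ * k⁻¹) by group]
    refine ⟨mul_mem ha hb, ?_⟩
    rw [hmul a ha _ hb, conj_pow, inv_pow, d.Z_fixed hk (inv_mem ha.2.1), mul_inv_cancel]
  · refine d.pow_Z (d.Zeq ▸ ⟨d.Ple ha.1.1, ha.2⟩)

/-- The order of `K`. -/
theorem dvd_cases : Nat.card K ∣ p - 1 ∨ (Nat.card P = p ^ 3 ∧ Nat.card K ∣ p + 1) := by
  have := d.c.fact
  have hp := d.c.loc.prime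
  rcases d.central with h | hc
  · exact Or.inl h
  set W := layer P Z p d.ZP hc with hW
  have hWP : W ≤ P := fun a ha => ha.1
  have hPZ : P ≤ normalizer (Z : Set G) := hc.trans (Subgroup.centralizer_le_normalizer _)
  have hZW : Z ≤ W := fun z hz => ⟨d.ZP hz, by rw [d.pow_Z hz]; exact one_mem _, fun u hu => by
    rw [mem_centralizer_iff.mp (hc hu) z hz, mul_inv_cancel_right, mul_inv_cancel]; exact one_mem _⟩
  obtain ⟨w, hwW, hwZ⟩ := d.exists_layer hc
  -- the centralizer of `x` in the layer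
  set D := W ⊓ centralizer ({x} : Set G) with hD
  have hDA : D ≤ A := fun a ha => d.mem_A (hWP ha.1) (mem_centralizer_singleton_iff.mp ha.2) (d.layer_pow hc ha.1)
  have hidx : D.relIndex W ≤ p := by
    rw [hD, inf_comm, inf_relIndex_right]
    refine (relIndex_centralizer_le (Z := Z) fun u hu => ?_).trans d.Zp.le
    have h1 := inv_mem (hu.2.2 x d.mem_P)
    have e : u * x * u⁻¹ * x⁻¹ = (u * x * u⁻¹ * x⁻¹)⁻¹⁻¹ := (inv_inv _).symm
    rw [e, inv_mem_iff]
    exact h1
  have hWcard : Nat.card W = Nat.card D * D.relIndex W := by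
    rw [← relIndex_bot_left D, relIndex_mul_relIndex ⊥ D W bot_le inf_le_left, relIndex_bot_left]
  obtain ⟨n, hn⟩ := IsPGroup.iff_card.mp (d.Pp.to_le hWP)
  have hn2 : 2 ≤ n := by
    have hlt : Z < W := lt_of_le_of_ne hZW fun e => hwZ (e ▸ hwW)
    have := PGroups.mul_card_le_of_lt (d.Pp.to_le hWP) hlt
    rw [d.Zp, hn, ← sq] at this
    exact (Nat.pow_le_pow_iff_right hp.one_lt).mp this
  have hDle : Nat.card D ≤ p ^ 2 := d.c.loc.pair.2 ▸ Nat.le_of_dvd Nat.card_pos (card_dvd_of_le hDA)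
  have hn3 : n ≤ 3 := by
    refine (Nat.pow_le_pow_iff_right hp.one_lt).mp ?_
    rw [← hn, hWcard, pow_succ]
    exact Nat.mul_le_mul hDle hidx
  by_cases hirr : ∃ L : Subgroup G, Z ≤ L ∧ L ≤ W ∧ Nat.card L = p ^ 2 ∧ K ≤ normalizer (L : Set G)
  · obtain ⟨L, hZL, hLW, hL2, hKL⟩ := hirr
    exact Or.inl (d.dvd_of_section le_rfl hZL ((hLW.trans hWP).trans hPZ) (hLW.trans hWP)
      (by rw [hL2, d.Zp, sq]) hKL fun l _ h => h)
  push Not at hirr
  obtain rfl : n = 3 := by
    by_contra hne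
    exact hirr W hZW le_rfl (by rw [hn]; congr 1; omega) (d.layer_normalized hc)
  have hDA' : D = A := eq_of_le_of_card_ge hDA (by
    rw [d.c.loc.pair.2]
    by_contra hlt
    push Not at hlt
    have h1 : Nat.card D * D.relIndex W < p ^ 2 * p :=
      calc Nat.card D * D.relIndex W ≤ Nat.card D * p := Nat.mul_le_mul_left _ hidx
        _ < p ^ 2 * p := Nat.mul_lt_mul_of_pos_right hlt hp.pos
    rw [← hWcard, hn, ← pow_succ] at h1
    exact lt_irrefl _ h1)
  have hxW : x ∈ W := (hDA'.ge d.c.loc.mem_A).1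
  obtain ⟨y, hyW, hyA⟩ : ∃ y ∈ W, y ∉ A := SetLike.not_le_iff_exists.mp fun h => by
    have := Nat.le_of_dvd Nat.card_pos (card_dvd_of_le h)
    rw [hn, d.c.loc.pair.2] at this
    exact absurd ((Nat.pow_le_pow_iff_right hp.one_lt).mp this) (by norm_num)
  set Cp := (centralizer ({x} : Set G) ⊓ centralizer ({y} : Set G)) ⊓ P with hCp
  have hCpidx : Cp.relIndex P ≤ p * p := by
    rw [hCp, inf_relIndex_right]
    refine relIndex_inf_le.trans (Nat.mul_le_mul ?_ ?_) <;>
      refine (relIndex_centralizer_le (Z := Z) fun u hu => ?_).trans d.Zp.le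
    · have := inv_mem (hxW.2.2 u hu); simpa [mul_inv_rev, mul_assoc] using this
    · have := inv_mem (hyW.2.2 u hu); simpa [mul_inv_rev, mul_assoc] using this
  have hWC : W ⊓ Cp = Z := by
    apply le_antisymm
    · rintro a ⟨haW, ⟨hax, hay⟩, haP⟩
      by_contra haZ
      have haA : a ∈ A := hDA ⟨haW, hax⟩
      have hZA : Z ≤ A := fun z hz => hDA ⟨hZW hz, mem_centralizer_singleton_iff.mpr
        (mem_centralizer_iff.mp (hc d.mem_P) z hz)⟩
      have hlt : Z < Z ⊔ zpowers a := left_lt_sup.mpr fun h => haZ (h (mem_zpowers a))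
      have hge := PGroups.mul_card_le_of_lt (d.c.loc.pair.isPGroup.to_le (sup_le hZA (zpowers_le.mpr haA))) hlt
      rw [d.Zp] at hge
      have hA : Z ⊔ zpowers a = A := eq_of_le_of_card_ge (sup_le hZA (zpowers_le.mpr haA))
        (by rw [d.c.loc.pair.2, sq]; exact hge)
      have hAy : A ≤ centralizer ({y} : Set G) := hA ▸ sup_le (fun z hz =>
        mem_centralizer_singleton_iff.mpr (mem_centralizer_iff.mp (hc (hWP hyW)) z hz))
        (zpowers_le.mpr hay)
      refine hyA (hDA'.le ⟨hyW, mem_centralizer_singleton_iff.mpr ?_⟩)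
      exact (mem_centralizer_singleton_iff.mp (hAy d.c.loc.mem_A)).symm
    · exact fun z hz => ⟨hZW hz, ⟨mem_centralizer_singleton_iff.mpr (mem_centralizer_iff.mp (hc d.mem_P) z hz),
        mem_centralizer_singleton_iff.mpr (mem_centralizer_iff.mp (hc (hWP hyW)) z hz)⟩, d.ZP hz⟩
  have hPsup : P ≤ W ⊔ Cp := by
    have h1 : Cp.relIndex W = p * p := by
      rw [← inf_relIndex_right, inf_comm, hWC]
      refine Nat.eq_of_mul_eq_mul_left (Nat.card_pos (α := Z)) ?_
      rw [← relIndex_bot_left Z, relIndex_mul_relIndex ⊥ Z W bot_le hZW, relIndex_bot_left, hn, relIndex_bot_left,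
        d.Zp]
      ring
    have h2 : p * p ≤ Cp.relIndex (W ⊔ Cp) := by
      rw [← h1]
      exact relIndex_le_of_le_right le_sup_left (index_ne_zero_of_finite (H := Cp.subgroupOf (W ⊔ Cp)))
    have h3 := relIndex_mul_relIndex Cp (W ⊔ Cp) P le_sup_right (sup_le hWP inf_le_right)
    refine relIndex_eq_one.mp ?_
    have h4 : 0 < (W ⊔ Cp).relIndex P :=
      Nat.pos_of_ne_zero (index_ne_zero_of_finite (H := (W ⊔ Cp).subgroupOf P))
    nlinarith [hp.pos]
  have hPW : P = W := by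
    refine le_antisymm ?_ hWP
    have hCpZ : Cp ≤ W := by
      have hCpab : IsMulCommutative Cp := (d.c.commutative_of_centralizes (inf_le_right.trans d.Ple)
        (inf_le_left.trans inf_le_left)).1
      have hWy : ∀ a ∈ W, ∀ b ∈ Cp, a * b = b * a := by
        intro a ha b hb
        -- `W` is generated by `A` and `y`
        have hlt : A < A ⊔ zpowers y := left_lt_sup.mpr fun h => hyA (h (mem_zpowers y))
        have hle : A ⊔ zpowers y ≤ W := sup_le (hDA'.ge.trans inf_le_left) (zpowers_le.mpr hyW)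
        have hge := PGroups.mul_card_le_of_lt (d.Pp.to_le (hle.trans hWP)) hlt
        rw [d.c.loc.pair.2] at hge
        have hW' : A ⊔ zpowers y = W := eq_of_le_of_card_ge hle (by rw [hn, pow_succ']; exact hge)
        have hAb : A ≤ centralizer ({b} : Set G) := by
          intro a' ha'
          have hZA : Z ≤ A := fun z hz => hDA ⟨hZW hz, mem_centralizer_singleton_iff.mpr
            (mem_centralizer_iff.mp (hc d.mem_P) z hz)⟩
          have hxZ : x ∉ Z := fun h => by
            obtain ⟨u, hu, hux⟩ := d.exists_moved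
            exact hux (mem_centralizer_iff.mp (hc hu) x h).symm
          have hlt : Z < Z ⊔ zpowers x := left_lt_sup.mpr fun h => hxZ (h (mem_zpowers x))
          have hle' : Z ⊔ zpowers x ≤ A := sup_le hZA (zpowers_le.mpr d.c.loc.mem_A)
          have hge := PGroups.mul_card_le_of_lt (d.c.loc.pair.isPGroup.to_le hle') hlt
          rw [d.Zp] at hge
          have hA : Z ⊔ zpowers x = A := eq_of_le_of_card_ge hle' (by rw [d.c.loc.pair.2, sq]; exact hge)
          exact (hA ▸ sup_le (fun z hz => mem_centralizer_singleton_iff.mpr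
              (mem_centralizer_iff.mp (hc hb.2) z hz))
            (zpowers_le.mpr (mem_centralizer_singleton_iff.mpr
              (mem_centralizer_singleton_iff.mp hb.1.1).symm)) : A ≤ centralizer ({b} : Set G)) ha'
        have := (hW' ▸ sup_le hAb (zpowers_le.mpr (mem_centralizer_singleton_iff.mpr
          (mem_centralizer_singleton_iff.mp hb.1.2).symm)) : W ≤ centralizer ({b} : Set G)) ha
        exact mem_centralizer_singleton_iff.mp this
      have hcen : ∀ b ∈ Cp, ∀ u ∈ P, u * b = b * u := fun b hb u hu => by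
        obtain ⟨a, ha, b', hb', rfl⟩ := (OddLocal.mem_sup_of_le_normalizer (fun v hv =>
          mem_normalizer_iff.mpr fun a => by
            constructor
            · intro ha
              rwa [← hWy a ha v hv, mul_inv_cancel_right]
            · intro ha
              have e : v * a * v⁻¹ = a := by
                have := hWy _ ha v hv
                rw [mul_assoc (v * a), inv_mul_cancel, mul_one] at this
                exact mul_left_cancel this.symm
              rwa [e] at ha : Cp ≤ normalizer (W : Set G))).mp (hPsup hu)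
        have h1 : b' * b = b * b' := congrArg Subtype.val (hCpab.is_comm.comm (⟨b', hb'⟩ : Cp) ⟨b, hb⟩)
        rw [mul_assoc, h1, ← mul_assoc, hWy a ha b hb, mul_assoc]
      intro b hb
      refine ⟨hb.2, ?_, fun u hu => by rw [← hcen b hb u hu, mul_inv_cancel_right, mul_inv_cancel]; exact one_mem _⟩
      -- `Cp / Z` has no element of order `p`
      by_contra hbZ
      obtain ⟨i, hi⟩ := d.Pp ⟨b, hb.2⟩
      have hi' : b ^ p ^ i = 1 := congrArg Subtype.val hi
      have : ∀ j : ℕ, b ^ p ^ (j + 1) ∈ Z → b ^ p ^ j ∈ Z := fun j hj => by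
        have hm : b ^ p ^ j ∈ Cp := pow_mem hb _
        refine hWC.le ⟨⟨hm.2, ?_, fun u hu => by
          rw [← hcen _ hm u hu, mul_inv_cancel_right, mul_inv_cancel]; exact one_mem _⟩, hm⟩
        rwa [← pow_mul, ← pow_succ]
      have hall : ∀ j : ℕ, b ^ p ^ j ∈ Z → b ∈ Z := by
        intro j
        induction j with
        | zero => simp
        | succ j ih => exact fun h => ih (this j h)
      exact hbZ (pow_mem (hall i (hi' ▸ one_mem _)) p)
    exact hPsup.trans (sup_le le_rfl hCpZ)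
  refine Or.inr ⟨by rw [hPW, hn], ?_⟩
  exact FpfSection.dvd_add_one d.Kc (d.c.loc.hG.1.of_dvd_nat K.card_subgroup_dvd_card) d.cop (hPW ▸ hn) d.Zp
    d.ZP hPZ (d.Zeq.le.trans inf_le_right) d.K_le_normalizer (fun a ha => (hPW.le ha).2.1)
    (fun a ha b hb => (hPW.le ha).2.2 b hb) hc d.Pnab d.fix
    fun L hZL hLP hL2 => hirr L hZL (hLP.trans hPW.le) hL2

end KData

end CfsgLib.TwoGroups.NonTI
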