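import Cfsg.Agent.Lib.TwoGroups.NonNilpotent

/-!
Owner: helper12. For non-nilpotent `M_σ`, `F(M)` is a TI-set; independence of the complement `D`.
-/

set_option autoImplicit false
set_option linter.unusedSectionVars false

namespace CfsgLib.TwoGroups.NonNilpotent

open Subgroup
open scoped commutatorElement

variable {G : Type*} [Group G] [Finite G] {M K U Q D : Subgroup G}

namespace Pair

variable (d : Pair M K U Q D)
include d

theorem unique_maximal : Cfsg.InUniqueMaximal Q := by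
  have := d.fact
  obtain ⟨-, -, h3, -⟩ := Cfsg.Agent.S1431.result d.setup.hG M d.setup.hM K d.setup.dec.hall d.setup.hK
  have h := (h3 _ d.setup.hq dvd_rfl ((d.isp.comap_subtype (K := Cfsg.sigmaCore M)).toSylow d.sylow)).1
  rwa [show (((d.isp.comap_subtype (K := Cfsg.sigmaCore M)).toSylow d.sylow : Sylow _ _) :
    Subgroup ↥(Cfsg.sigmaCore M)).map (Cfsg.sigmaCore M).subtype = Q from map_subgroupOf_eq_of_le d.le] at h

theorem not_dvd_relIndex : ¬ Nat.card ↥(star M K) ∣ Q.relIndex M := by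
  rw [← relIndex_mul_relIndex Q (Cfsg.sigmaCore M) M d.le (TauTwo.sigmaCore_le M), d.setup.hq.dvd_mul]
  push Not
  exact ⟨d.sylow, (OddLocal.SigmaCore.sigmaCore_hall d.setup.hG d.setup.hM).1.2.2 _ d.setup.hq d.setup.q_mem_sigma⟩

/-- `F(M)` is a TI-set. -/
theorem fitting_isTISubset : Cfsg.IsTISubset (Cfsg.fittingOf M : Set G) := by
  have hG := d.setup.hG
  have hM := d.setup.hM
  intro g hg x hx hgx
  by_contra hx1
  set F := Cfsg.fittingOf M with hF
  have hFM : F ≤ M := map_subtype_le _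
  have hgM : g ∉ M := fun e => hg (OddLocal.FittingSigma.le_normalizer_fittingOf M e)
  obtain ⟨t, ht, htd⟩ := Nat.exists_prime_and_dvd (fun e : orderOf x = 1 => hx1 (orderOf_eq_one_iff.mp e))
  have := Fact.mk ht
  set w := x ^ (orderOf x / t) with hw
  have hwo : orderOf w = t := orderOf_pow_orderOf_div (orderOf_pos x).ne' htd
  have hw1 : w ≠ 1 := fun e => ht.ne_one (by rw [← hwo, e, orderOf_one])
  have hwF : w ∈ F := F.pow_mem (SetLike.mem_coe.mp hx) _
  have hgw : g * w * g⁻¹ ∈ F := by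
    rw [hw, ← conj_pow]
    exact F.pow_mem (SetLike.mem_coe.mp hgx) _
  have hgo : orderOf (g * w * g⁻¹) = t := (MulEquiv.orderOf_eq (MulAut.conj g) w).trans hwo
  set q := Nat.card ↥(star M K) with hq
  by_cases htq : t = q
  · have h1 : g * w * g⁻¹ ∈ Q := FittingStructure.mem_of_normal_index ht d.leM d.normal
      (htq ▸ d.not_dvd_relIndex) (hFM hgw) (j := 1) (by rw [hgo, pow_one])
    have h2 : g * w * g⁻¹ ∈ Cfsg.sigmaCore M ⊓ M.map (MulAut.conj g).toMonoidHom :=
      ⟨d.le h1, w, hFM hwF, rfl⟩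
    exact (OddLocal.SigmaIntersection.inf_conj (OddLocal.TauTwoFacts.rankTwo hG) hG hM hgM).2.1 t ht
      (hgo ▸ Subgroup.orderOf_dvd_natCard _ h2) (htq ▸ d.mem_beta)
  have hQF : Q ≤ F := d.le_fittingHall.trans (FittingStructure.fittingHallOf_le_fittingOf M)
  have hcomm : ∀ a ∈ Q, ∀ y ∈ F, orderOf y = t → a * y = y * a := by
    intro a ha y hy hyo
    refine OddLocal.commute_of_mem_nilpotent (OddLocal.FittingSigma.isNilpotent_fittingOf M) (hQF ha) hy ?_
    have := d.fact
    obtain ⟨k, hk⟩ := IsPGroup.iff_orderOf.mp d.isp ⟨a, ha⟩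
    rw [orderOf_mk] at hk
    rw [hk, hyo]
    exact Nat.Coprime.pow_left k ((Nat.coprime_primes d.setup.hq ht).mpr (Ne.symm htq))
  obtain ⟨L, hL, hCL⟩ := (eq_top_or_exists_le_coatom (centralizer ({w} : Set G))).resolve_left fun e => by
    refine TransitivityHyp.normalizer_ne_top hG (fun e' => hw1 (zpowers_eq_bot.mp e'))
      (Uniqueness.ne_top_of_pGroup hG (IsPGroup.of_card (n := 1) (G := zpowers w) (by
        rw [Nat.card_zpowers, hwo, pow_one]))) (eq_top_iff.mpr ?_)
    rw [← e, ← TauTwo.centralizer_zpowers]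
    exact centralizer_le_normalizer _
  obtain ⟨L₀, -, huniq⟩ := d.unique_maximal
  have hLM : L = M := (huniq L ⟨hL, fun a ha => hCL (mem_centralizer_singleton_iff.mpr (hcomm a ha w hwF hwo))⟩).trans
    (huniq M ⟨hM, d.leM⟩).symm
  have hconj : ∀ a ∈ Q, g⁻¹ * a * g ∈ M := fun a ha => hLM ▸ hCL (mem_centralizer_singleton_iff.mpr (by
    have h := hcomm a ha _ hgw hgo
    calc g⁻¹ * a * g * w = g⁻¹ * (a * (g * w * g⁻¹)) * g := by group
      _ = g⁻¹ * (g * w * g⁻¹ * a) * g := by rw [h]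
      _ = w * (g⁻¹ * a * g) := by group))
  have hMg : M.map (MulAut.conj g).toMonoidHom = M :=
    (huniq _ ⟨((MulAut.conj g).mapSubgroup).isCoatom_iff M |>.mpr hM, fun a ha => ⟨g⁻¹ * a * g, hconj a ha, by
      show g * (g⁻¹ * a * g) * g⁻¹ = a; group⟩⟩).trans (huniq M ⟨hM, d.leM⟩).symm
  exact hgM (NonSigma.mem_normalizer_self hG hM (ProperPLength.maximal_ne_bot hG hM) hMg)

/-- Every complement of `Q` in `M_σ` is nilpotent and has the same centralizer in `Q`. -/
theorem any_complement {D' : Subgroup G} (hD' : Cfsg.IsComplIn Q D' (Cfsg.sigmaCore M)) :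
    Group.IsNilpotent D' ∧ Q ⊓ centralizer (D' : Set G) = Q ⊓ centralizer (D : Set G) := by
  refine ⟨d.nilp D' hD'.2.1 (by rw [inf_comm, hD'.2.2.1]; exact bot_le), ?_⟩
  have := d.fact
  set O := Cfsg.sigmaCore M with hO
  have hOs : Group.IsSolvable O :=
    CfsgLib.Core.isSolvable_of_le (d.setup.hG.2.2.2 M d.setup.hM.1) (TauTwo.sigmaCore_le M)
  have hc : Nat.card D' = Nat.card D := Nat.eq_of_mul_eq_mul_right Nat.card_pos
    ((card_complement hD' d.normal).symm.trans (card_complement d.compl d.normal))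
  have hcop : (Nat.card D).Coprime (Nat.card Q) := by
    obtain ⟨k, hk⟩ := IsPGroup.iff_card.mp d.isp
    rw [hk]
    exact ((d.setup.hq.coprime_iff_not_dvd.mpr d.not_dvd_D).symm).pow_right k
  obtain ⟨x, hx⟩ := Core.exists_conj_eq_of_card_eq (G := O) (m := Nat.card D) (k := Nat.card Q)
    (card_complement d.compl d.normal) hcop (H := D.subgroupOf O) (K := D'.subgroupOf O)
    (Nat.card_congr (subgroupOfEquivOfLe d.compl.2.1).toEquiv)
    ((Nat.card_congr (subgroupOfEquivOfLe hD'.2.1).toEquiv).trans hc)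
  obtain ⟨a, ha, b, hb, e⟩ := d.compl.2.2.2 (x : G) x.2
  have hmap : D' = D.map (MulAut.conj (x : G)).toMonoidHom := by
    refine (eq_of_le_of_card_ge ?_ ?_).symm
    · rintro _ ⟨y, hy, rfl⟩
      have h1 : x * ⟨y, d.compl.2.1 hy⟩ * x⁻¹ ∈ D'.subgroupOf O := by
        rw [← hx]; exact Subgroup.smul_mem_pointwise_smul _ _ _ (mem_subgroupOf.mpr hy)
      exact mem_subgroupOf.mp h1
    · rw [Transfer.card_map_conj, hc]
  have hmap' : D' = D.map (MulAut.conj a).toMonoidHom := by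
    rw [hmap, e]
    refine (eq_of_le_of_card_ge ?_ (by rw [Transfer.card_map_conj, Transfer.card_map_conj]))
    rintro _ ⟨y, hy, rfl⟩
    exact ⟨b * y * b⁻¹, D.mul_mem (D.mul_mem hb hy) (D.inv_mem hb), by
      show a * (b * y * b⁻¹) * a⁻¹ = a * b * y * (a * b)⁻¹; group⟩
  have hn := d.Q_le_normalizer ha
  ext y
  have key : y ∈ centralizer (D' : Set G) ↔ a⁻¹ * y * a ∈ centralizer (D : Set G) := by
    rw [hmap']
    constructor
    · intro h
      refine mem_centralizer_iff.mpr fun z hz => ?_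
      have h1 := mem_centralizer_iff.mp h (a * z * a⁻¹) ⟨z, hz, rfl⟩
      calc z * (a⁻¹ * y * a) = a⁻¹ * (a * z * a⁻¹ * y) * a := by group
        _ = a⁻¹ * (y * (a * z * a⁻¹)) * a := by rw [h1]
        _ = a⁻¹ * y * a * z := by group
    · intro h
      refine mem_centralizer_iff.mpr ?_
      rintro _ ⟨z, hz, rfl⟩
      have h1 := mem_centralizer_iff.mp h z hz
      show a * z * a⁻¹ * y = y * (a * z * a⁻¹)
      calc a * z * a⁻¹ * y = a * (z * (a⁻¹ * y * a)) * a⁻¹ := by group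
        _ = a * (a⁻¹ * y * a * z) * a⁻¹ := by rw [h1]
        _ = y * (a * z * a⁻¹) := by group
  constructor
  · rintro ⟨hy1, hy2⟩
    have h1 : a⁻¹ * y * a ∈ Q ⊓ centralizer (D : Set G) :=
      ⟨Q.mul_mem (Q.mul_mem (Q.inv_mem ha) hy1) ha, key.mp hy2⟩
    exact (mem_normalizer_iff''.mp hn y).mpr h1
  · intro hy
    exact ⟨hy.1, key.mpr ((mem_normalizer_iff''.mp hn y).mp hy).2⟩

end Pair

end CfsgLib.TwoGroups.NonNilpotent
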