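import Cfsg.Agent.Lib.TwoGroups.OvergroupEmpty
import Cfsg.Agent.Lib.TwoGroups.Transitive

/-!
Owner: helper12. `κ(N) ≠ ∅` kills `τ₂(M)` (Bender–Glauberman, 15.9).
-/

set_option autoImplicit false
set_option linter.unusedSectionVars false

namespace CfsgLib.TwoGroups.OvergroupPrimes

open Subgroup
open CfsgLib.OddLocal
open TauTwo (IsPair)
open scoped commutatorElement

variable {G : Type*} [Group G] [Finite G] {M N A H B E R W U Q D : Subgroup G} {x : G} {q p r s : ℕ}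
  [Fact p.Prime] [Fact r.Prime] [Fact s.Prime]

/-- A subgroup of `M_σ` prime to `q` is moved into `D` by an element of `Q`. -/
theorem exists_conj_le_D {K : Subgroup G} (d : NonNilpotent.Pair M K U Q D) (hB : B ≤ Cfsg.sigmaCore M)
    (hq : ¬ Nat.card ↥(NonNilpotent.star M K) ∣ Nat.card B) :
    ∃ a ∈ Q, ∀ y ∈ B, a * y * a⁻¹ ∈ D := by
  set q := Nat.card ↥(NonNilpotent.star M K) with hq'
  have := Fact.mk d.setup.hq
  set O := Cfsg.sigmaCore M with hO
  have : Group.IsSolvable O := CfsgLib.Core.isSolvable_of_le (d.setup.hG.2.2.2 M d.setup.hM.1) (TauTwo.sigmaCore_le M)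
  have hDhall : Cfsg.IsPiHall {r | r.Prime ∧ r ≠ q} (D.subgroupOf O) := by
    refine ⟨fun r hr hdr => ⟨hr, ?_⟩, fun r hr hrπ hdr => hrπ.2 ?_⟩
    · rintro rfl
      rw [Nat.card_congr (subgroupOfEquivOfLe d.compl.2.1).toEquiv] at hdr
      exact d.not_dvd_D hdr
    · obtain ⟨k, hk⟩ := IsPGroup.iff_card.mp d.isp
      have h1 : D.relIndex O = Nat.card Q := Nat.eq_of_mul_eq_mul_left (Nat.card_pos (α := D)) (by
        rw [← NonNilpotent.card_complement d.compl d.normal, ← relIndex_bot_left D,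
          relIndex_mul_relIndex ⊥ D O bot_le d.compl.2.1, relIndex_bot_left])
      change r ∣ D.relIndex O at hdr
      rw [h1, hk] at hdr
      exact (Nat.prime_dvd_prime_iff_eq hr d.setup.hq).mp (hr.dvd_of_dvd_pow hdr)
  obtain ⟨c, hc⟩ := Core.exists_conj_le_piHall hDhall (K := B.subgroupOf O) fun r hr hdr =>
    ⟨hr, fun e => hq (by rw [Nat.card_congr (subgroupOfEquivOfLe hB).toEquiv] at hdr; exact e ▸ hdr)⟩
  obtain ⟨a, ha, b, hb, hab⟩ := d.compl.2.2.2 _ c.2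
  refine ⟨b⁻¹ * a * b, (mem_normalizer_iff''.mp (d.normal (d.D_leM hb)) a).mp ha, fun y hy => ?_⟩
  have h1 : (MulAut.conj c) • (⟨y, hB hy⟩ : O) ∈ D.subgroupOf O :=
    hc (smul_mem_pointwise_smul _ _ _ (mem_subgroupOf.mpr hy))
  have h2 : a * b * y * (a * b)⁻¹ ∈ D := by
    rw [← hab]
    simpa [mem_subgroupOf, MulAut.smul_def] using h1
  have h3 := D.mul_mem (D.mul_mem (D.inv_mem hb) h2) hb
  rw [show b⁻¹ * a * b * y * (b⁻¹ * a * b)⁻¹ = b⁻¹ * (a * b * y * (a * b)⁻¹) * b by group]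
  exact h3

/-- In a cyclic group of exponent `r` there is only one subgroup of order `r`. -/
theorem eq_line_of_cyclic {C : Subgroup G} (hc : IsCyclic C) (hexp : ∀ y ∈ C, y ^ r = 1) (hR : Nat.card R = r)
    (hRC : R ≤ C) : R = C := by
  refine eq_of_le_of_card_ge hRC ?_
  rw [hR, ← IsCyclic.exponent_eq_card (α := C)]
  exact Nat.le_of_dvd (Fact.out : r.Prime).pos
    (Monoid.exponent_dvd_of_forall_pow_eq_one fun y => Subtype.ext (hexp y y.2))

/-- A pair `B` in `H_σ` centralizing the prime order `K*_H`, with cyclic centralizer in its prime: absurd. -/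
theorem false_of_cyclic_centralizer (hG : Cfsg.IsMinSimpleOddOrder G) {K : Subgroup G} (hH : IsCoatom H)
    {F : Subgroup G} (dH : Kappa.Data H W F) (hWc : IsCyclic W) (hK : Kappa.Kstar H W = K) (hRK : R ≤ K)
    (hR : Nat.card R = r) {t : ℕ} {X : Subgroup G} (ht : t ∈ Cfsg.tau1 H) (hX : Nat.card X = t) (hXW : X ≤ W)
    (hB : IsPair s B) (hBH : B ≤ Cfsg.sigmaCore H) (hsr : r ≠ s) (hsβ : s ∉ Cfsg.beta H)
    (hRB : R ≤ centralizer (B : Set G))
    (hcyc : ∀ T : Subgroup G, IsPGroup r T → T ≤ Cfsg.sigmaCore H → T ≤ centralizer (B : Set G) → IsCyclic T) :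
    False := by
  have := Fact.mk ht.1
  have hRH : R ≤ Cfsg.sigmaCore H ⊓ centralizer (W : Set G) := hRK.trans hK.ge
  have hrH : r ∈ Cfsg.sigma H :=
    TauTwo.mem_sigma_of_dvd Fact.out (hR ▸ card_dvd_of_le (hRH.trans inf_le_left)) hG hH
  by_cases hn : Group.IsNilpotent (Cfsg.sigmaCore H)
  · obtain ⟨T₀⟩ : Nonempty (Sylow r ↥(Cfsg.sigmaCore H)) := inferInstance
    set T := (T₀ : Subgroup ↥(Cfsg.sigmaCore H)).map (Cfsg.sigmaCore H).subtype with hT
    have hTC : T ≤ centralizer (B : Set G) := fun y hy => mem_centralizer_iff.mpr fun b hb => by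
      obtain ⟨i, hi⟩ := IsPGroup.iff_orderOf.mp hB.isPGroup ⟨b, hb⟩
      obtain ⟨j, hj⟩ := IsPGroup.iff_orderOf.mp (T₀.2.map (Cfsg.sigmaCore H).subtype) ⟨y, hy⟩
      rw [← orderOf_coe] at hi hj
      exact commute_of_mem_nilpotent hn (hBH hb) (map_subtype_le _ hy) (by
        rw [show orderOf b = s ^ i from hi, show orderOf y = r ^ j from hj]
        exact ((Nat.coprime_primes Fact.out Fact.out).mpr hsr.symm).pow i j)
    have hTc := hcyc T (T₀.2.map _) (map_subtype_le _) hTC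
    obtain ⟨S, hS⟩ := TauTwo.sigma_sylow_top hG hH hrH T₀
    have hSc : IsCyclic (S : Subgroup G) := hS ▸ hTc
    have hrβ : r ∉ Cfsg.beta H := fun h => TauTwo.sylow_not_cyclic h S hSc
    exact FixedTauOne.sylow_not_commutative_of_derived hG hH hrβ hR
      (FixedTauOne.le_derived_core hG hH ht hX (hXW.trans dH.hall.1) (FixedTauOne.isPGroup_of_card_eq hR)
        (hRH.trans (inf_le_inf_left _ (centralizer_le hXW))) hrβ) S IsCyclic.isMulCommutative
  obtain ⟨U₀, -, hU₀, hn₀, -⟩ := Kappa.exists_decomp hG hH dH.hall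
  obtain ⟨-, -, Q, D, d⟩ := Chapter15.exists_pair_of_ne hG hH (Chapter15.starPrime hG)
    (⟨hWc, dH.hall, hU₀, hn₀⟩ : Cfsg.IsSigmaDecomposition H W U₀) hn
  have hstar : R = NonNilpotent.star H W := by
    refine eq_of_le_of_card_ge hRH ?_
    rcases (Nat.dvd_prime d.setup.hq).mp (card_dvd_of_le hRH) with h | h
    · exact absurd (hR ▸ h) (Fact.out : r.Prime).ne_one
    · exact h.ge
  have hq0 : Nat.card ↥(NonNilpotent.star H W) = r := hstar ▸ hR
  have hQp : IsPGroup r Q := hq0 ▸ d.isp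
  have hRQ : R ≤ Q := hstar.le.trans d.star_le
  obtain ⟨a, ha, haB⟩ := exists_conj_le_D d hBH (hq0 ▸ TauTwo.not_dvd_pGroup hsr hB.isPGroup)
  set C := Q ⊓ centralizer (B : Set G) with hC
  have hCc : IsCyclic C := hcyc C (hQp.to_le inf_le_left) (inf_le_left.trans d.le) inf_le_right
  have hRC : R ≤ C := le_inf hRQ hRB
  have hQ0 : Q ⊓ centralizer (D : Set G) = ⊥ := by
    by_contra hne
    have hle : Q ⊓ centralizer (D : Set G) ≤ C := fun y hy => by
      refine ⟨hy.1, mem_centralizer_iff.mpr fun b hb => ?_⟩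
      have hy' := (mem_normalizer_iff.mp (d.Q_le_normalizer ha) y).mp hy
      have h1 := mem_centralizer_iff.mp hy'.2 _ (haB b hb)
      calc b * y = a⁻¹ * ((a * b * a⁻¹) * (a * y * a⁻¹)) * a := by group
        _ = a⁻¹ * ((a * y * a⁻¹) * (a * b * a⁻¹)) * a := by rw [h1]
        _ = y * b := by group
    refine TauTwo.inf_ne_bot_of_cyclic (hQp.to_le inf_le_left) hCc hRC hle
      (FixedTauOne.ne_bot_of_card_eq hR) hne (le_bot_iff.mp ?_)
    rw [← d.star_inf_centralizer, ← hstar]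
    exact inf_le_inf_left _ inf_le_right
  have hab : ∀ u ∈ Q, ∀ w ∈ Q, u * w = w * u := fun u hu w hw => by
    have h1 := d.comm_mem hu hw
    rw [hQ0, mem_bot, mul_inv_eq_one, mul_inv_eq_iff_eq_mul] at h1
    exact h1
  have hexp : ∀ y ∈ Q, y ^ r = 1 := fun y hy => by
    have h1 := d.pow_mem hy
    rwa [hQ0, mem_bot, hq0] at h1
  have hRC' : R = C := eq_line_of_cyclic hCc (fun y hy => hexp y hy.1) hR hRC
  -- `D` normalizes `R`
  have hfix : ∀ y : G, y ∈ Q → (∀ b ∈ B, a * b * a⁻¹ * y = y * (a * b * a⁻¹)) → y ∈ R := fun y hy h => by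
    rw [hRC']
    refine ⟨hy, mem_centralizer_iff.mpr fun b hb => ?_⟩
    calc b * y = a⁻¹ * (a * b * a⁻¹ * (a * y * a⁻¹)) * a := by group
      _ = a⁻¹ * ((a * y * a⁻¹) * (a * b * a⁻¹)) * a := by
        rw [hab a ha y hy, mul_inv_cancel_right, h b hb]
      _ = y * b := by group
  have hDR : D ≤ normalizer (R : Set G) := HallFusion.le_normalizer_of_conj fun e he y hy => by
    have heQ : ∀ z ∈ Q, e * z * e⁻¹ ∈ Q := fun z hz => (mem_normalizer_iff.mp (d.normal (d.D_leM he)) z).mp hz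
    refine hfix _ (heQ y (hRQ hy)) fun b hb => ?_
    set v := a * b * a⁻¹ with hv
    have hvD : v ∈ D := haB b hb
    have hvy : v * y = y * v := by
      have hya : a * y * a⁻¹ = y := by rw [hab a ha y (hRQ hy), mul_inv_cancel_right]
      have h1 := mem_centralizer_iff.mp (hRB hy) b hb
      calc v * y = (a * b * a⁻¹) * (a * y * a⁻¹) := by rw [hya]
        _ = a * (b * y) * a⁻¹ := by group
        _ = a * (y * b) * a⁻¹ := by rw [h1]
        _ = (a * y * a⁻¹) * (a * b * a⁻¹) := by group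
        _ = y * v := by rw [hya]
    have hc : v⁻¹ * e⁻¹ * v * e ∈ ⁅D, D⁆ := by
      have := commutator_mem_commutator (D.inv_mem hvD) (D.inv_mem he)
      rwa [commutatorElement_def, inv_inv, inv_inv] at this
    have h2 := mem_centralizer_iff.mp (d.derived_centralizes hc) y (hRQ hy)
    calc v * (e * y * e⁻¹) = e * (v * ((v⁻¹ * e⁻¹ * v * e) * y)) * e⁻¹ := by group
      _ = e * (v * (y * (v⁻¹ * e⁻¹ * v * e))) * e⁻¹ := by rw [h2]
      _ = e * ((v * y) * (v⁻¹ * e⁻¹ * v * e)) * e⁻¹ := by group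
      _ = e * ((y * v) * (v⁻¹ * e⁻¹ * v * e)) * e⁻¹ := by rw [hvy]
      _ = e * y * e⁻¹ * v := by group
  have hWR : W ≤ normalizer (R : Set G) :=
    (le_centralizer_iff.mp (hRH.trans inf_le_right)).trans (centralizer_le_normalizer _)
  have hQR : Q ≤ normalizer (R : Set G) := HallFusion.le_normalizer_of_conj fun u hu y hy => by
    rw [hab u hu y (hRQ hy), mul_inv_cancel_right]; exact hy
  refine d.minimal (N := R) ?_ ?_ fun m hm => ?_
  · rw [hQ0]; exact bot_lt_iff_ne_bot.mpr (FixedTauOne.ne_bot_of_card_eq hR)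
  · refine lt_of_le_of_ne hRQ fun e => ?_
    have h1 := d.card_Q
    rw [hQ0, card_bot, one_mul, hq0, ← e, hR] at h1
    exact d.card_K_prime.ne_one
      (Nat.pow_right_injective (Fact.out : r.Prime).two_le ((pow_one r).trans h1)).symm
  · obtain ⟨k, hk, o, ho, rfl⟩ := d.setup.compl.2.2.2 m hm
    obtain ⟨u, hu, v, hv, rfl⟩ := d.compl.2.2.2 o ho
    exact mul_mem (hWR hk) (mul_mem (hQR hu) (hDR hv))

namespace Local

variable (d : Local M N A x q)
include d

/-- `κ(N) ≠ ∅` kills `τ₂(M)`. -/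
theorem tau2_empty (hr : r ∈ Cfsg.kappa N) : Cfsg.tau2 M = ∅ := by
  refine Set.eq_empty_iff_forall_notMem.mpr fun v hv => ?_
  have := Fact.mk hv.1
  have := d.fact
  have hvN := d.not_sigma_of_tau2 hv
  have hrM := d.not_sigma_kappa hr
  have hrv : r ≠ v := fun e => d.not_tau2_kappa hr (e ▸ hv)
  obtain ⟨R, hR, hRle⟩ := Kappa.exists_line_tau3 d.hG d.o.max d.o.compl hr
  have hRp := FixedTauOne.isPGroup_of_card_eq hR
  have hRM : R ≤ M := hRle.trans inf_le_left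
  obtain ⟨E, hE, hRE⟩ := TauTwo.exists_complement_ge d.hG d.hM hRM fun t ht hd => by
    rw [(Nat.prime_dvd_prime_iff_eq ht Fact.out).mp (hR ▸ hd)]; exact hrM
  obtain ⟨B, hB, hBE⟩ := TauTwo.exists_pair_complement d.hG d.hM hE hv
  have hBM := hBE.trans hE.1
  obtain ⟨b, hb, hb1, hbR⟩ := d.exists_fixed hE hv hB hBE hR hRE hrv
  obtain ⟨K, F₀, dN, hRK⟩ := exists_data_ge d.hG d.o.max hR (hRle.trans inf_le_right) hr
  obtain ⟨H, pN⟩ := dN.exists_pair d.hG
  obtain ⟨F, dH⟩ := pN.data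
  obtain ⟨t, X, ht, hX, hXW⟩ := dH.tau1_line
  have := Fact.mk ht.1
  have hH := dH.max
  have hRH : R ≤ Cfsg.sigmaCore H ⊓ centralizer (X : Set G) :=
    (hRK.trans pN.star_star.ge).trans (inf_le_inf_left _ (centralizer_le hXW))
  have hRHσ : R ≤ Cfsg.sigmaCore H := hRH.trans inf_le_left
  have hRonly := FixedTauOne.only_of_fixed d.hG hH ht hX (hXW.trans dH.hall.1) hR hRH
  have hrH : r ∈ Cfsg.sigma H := TauTwo.mem_sigma_of_dvd Fact.out (hR ▸ card_dvd_of_le hRHσ) d.hG hH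
  have hvH : v ∈ Cfsg.sigma H := by
    by_contra h
    have hk := mem_kappa_of_fixed d.hG d.hM hH (fun e => hrM (e ▸ hrH)) hB hBM hb hb1
      (hRonly.1 hbR) h (FixedTauOne.ne_bot_of_card_eq hR) hRHσ hRM hbR
    exact hvN (dN.sigma_star d.hG hv.1 (dvd_of_hall dH.hall hk hk.2.1))
  -- `M` is the overgroup of an element of `B` in a conjugate of `H`
  obtain ⟨Q₀, hQ₀⟩ := Core.exists_invariant_sylow (A := B) (K := Cfsg.sigmaCore M)
    (hBM.trans (TauTwo.le_normalizer_sigmaCore M)) (TauTwo.coprime_sigmaCore d.hG d.hM hv.2.1 hB.isPGroup)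
    (Or.inl (d.hG.2.2.2 B (Uniqueness.ne_top_of_pGroup d.hG hB.isPGroup))) q
  obtain ⟨c, hc, hc1, hfix⟩ := hB.exists_fix (fun e : q = v => hv.2.1 (e ▸ d.q_sigma))
    (Q₀.2.map (Cfsg.sigmaCore M).subtype) hQ₀
    fun e => Q₀.ne_bot_of_dvd_card (d.order ▸ Subgroup.orderOf_dvd_natCard _ d.mem)
      ((map_eq_bot_iff_of_injective _ (Cfsg.sigmaCore M).subtype_injective).mp e)
  have hcM := TauTwo.centralizer_line_unique d.hG d.hM hB hBM hv.2.1 (zpowers_le.mpr hc)
    (fun e => hc1 (zpowers_eq_bot.mp e)) (fun e => hfix (le_bot_iff.mp (e ▸ inf_le_inf (map_subtype_le _)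
      (TauTwo.centralizer_zpowers c).ge)))
  rw [TauTwo.centralizer_zpowers] at hcM
  obtain ⟨g, hg⟩ := SigmaTrans.exists_conj_le hvH (T := zpowers c) (hB.isPGroup.to_le (zpowers_le.mpr hc))
  set H₁ := H.map (MulAut.conj g).toMonoidHom with hH₁
  have hH₁max : IsCoatom H₁ := SylowUnique.isCoatom_conj hH g
  have hvH₁ : v ∈ Cfsg.sigma H₁ := (SigmaDisjoint.sigma_conj g).mpr hvH
  have hcH₁ : c ∈ Cfsg.sigmaCore H₁ := TauTwo.le_sigmaCore d.hG hH₁max hvH₁
    (hB.isPGroup.to_le (zpowers_le.mpr hc)) (fun y hy => Transfer.mem_map_conj.mpr (hg y hy)) (mem_zpowers c)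
  obtain ⟨M₁, o₁⟩ := Support.exists_overgroup d.hG hH₁max hcH₁ hc1 fun hle => hv.2.1
    (hcM.2 H₁ hH₁max hle ▸ hvH₁)
  obtain rfl : M = M₁ := o₁.unique M d.hM hcM.1
  obtain ⟨m, hm, hEm⟩ := OvergroupTools.exists_conj_complement d.hG d.hM o₁.compl hE
  set H₂ := H₁.map (MulAut.conj m).toMonoidHom with hH₂
  have hH₂max : IsCoatom H₂ := SylowUnique.isCoatom_conj hH₁max m
  have hEH₂ : E ≤ H₂ := hEm.le.trans (map_mono inf_le_left)
  have hrH₂ : r ∈ Cfsg.sigma H₂ :=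
    (SigmaDisjoint.sigma_conj m).mpr ((SigmaDisjoint.sigma_conj g).mpr hrH)
  obtain ⟨⟨k, hk⟩, hk1⟩ := R.ne_bot_iff_exists_ne_one.mp (FixedTauOne.ne_bot_of_card_eq hR)
  have hk1' : k ≠ 1 := fun e => hk1 (Subtype.ext e)
  have hkz : zpowers k = R := eq_of_le_of_card_ge (zpowers_le.mpr hk) (by
    rw [Nat.card_zpowers, hR, ((Nat.dvd_prime (Fact.out : r.Prime)).mp
      (hR ▸ R.orderOf_dvd_natCard hk)).resolve_left fun e => hk1' (orderOf_eq_one_iff.mp e)])
  have hCkR : centralizer ({k} : Set G) = centralizer (R : Set G) := by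
    rw [← hkz, TauTwo.centralizer_zpowers]
  have hH₂H : H₂ = H := by
    by_cases hle : centralizer ({k} : Set G) ≤ H₂
    · exact hRonly.2 H₂ hH₂max (hCkR ▸ hle)
    · obtain ⟨H₃, o₃⟩ := Support.exists_overgroup d.hG hH₂max
        (TauTwo.le_sigmaCore d.hG hH₂max hrH₂ hRp (hRE.trans hEH₂) hk) hk1' hle
      have h3 : H = H₃ := o₃.unique H hH (hCkR ▸ hRonly.1)
      refine absurd ?_ (o₃.nconj (g⁻¹ * m⁻¹))
      rw [← h3, Transitive.map_conj_mul, hH₂, PrimeActionTools.map_conj_inv, hH₁, PrimeActionTools.map_conj_inv]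
  have hEH : E ≤ H := hH₂H ▸ hEH₂
  have hBHσ : B ≤ Cfsg.sigmaCore H := TauTwo.le_sigmaCore d.hG hH hvH hB.isPGroup (hBE.trans hEH)
  have hvβ := hB.not_beta d.hG (TauTwo.not_inUniqueMaximal d.hG d.hM hB hBM hv.2.1) H
  have hRB : R ≤ centralizer (B : Set G) := le_centralizer_iff.mp
    (OvergroupTools.commute_of_normalizes d.hG hH hB.isPGroup hvβ hBHσ hR hRHσ
      (hRE.trans (TauTwo.le_normalizer_pair d.hG d.hM hB hv.2.1 hE hBE).1) hrv)
  have hr1 : Cfsg.PRankLE r 1 M := by_contra fun h1 => d.not_tau2_kappa hr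
    ⟨Fact.out, hrM, not_not.mp fun h => hrM (SigmaTrans.alpha_subset_sigma d.hG d.hM ⟨Fact.out, h⟩), h1⟩
  exact false_of_cyclic_centralizer d.hG hH dH pN.cyclic_star pN.star_star hRK hR ht hX hXW hB hBHσ hrv hvβ hRB
    fun T hT _ hTB => TauTwo.sylow_cyclic_of_rank_one d.hG hr1 hT
      (hTB.trans (TauTwo.centralizer_le d.hG d.hM hB hBM))

end Local

end CfsgLib.TwoGroups.OvergroupPrimes
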