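import Cfsg.Agent.Lib.TwoGroups.TauTwoSylow

/-!
Owner: helper12. The centraliser of a pair of a maximal subgroup lies in it.
-/

set_option autoImplicit false
set_option linter.unusedSectionVars false

namespace CfsgLib.TwoGroups.TauTwo

open Subgroup
open scoped commutatorElement

variable {G : Type*} [Group G] [Finite G] {p q r : ℕ} [Fact p.Prime] [Fact q.Prime] [Fact r.Prime]
  {M L A D : Subgroup G}

/-- The trace of a maximal invariant subgroup on an overgroup of `C(A)`. -/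
theorem inf_maxInv_max (hG : Cfsg.IsMinSimpleOddOrder G) (hA : IsPair p A) (hU : ¬ Cfsg.InUniqueMaximal A)
    (hqp : q ≠ p) {R : Subgroup G} (hR : Transitivity.IsMaxInv A q R)
    (hCL : centralizer (A : Set G) ≤ L) (hne : R ⊓ L ≠ ⊥) {T : Subgroup G} (hT : IsPGroup q T)
    (hTL : T ≤ L) (hAT : A ≤ normalizer (T : Set G)) (hle : R ⊓ L ≤ T) : T = R ⊓ L := by
  obtain ⟨Q, hTQ, hQ⟩ := Transitivity.exists_maxInv hT hAT
  obtain ⟨c, hc, e⟩ := hA.trans hG hU hqp hR hQ fun hb =>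
    hne (le_bot_iff.mp (hb ▸ le_inf inf_le_left (hle.trans hTQ)))
  refine (eq_of_le_of_card_ge hle ?_).symm
  have h1 : T ≤ (R ⊓ L).map (MulAut.conj c).toMonoidHom := by
    intro t ht
    obtain ⟨x, hx, rfl⟩ := e.ge (hTQ ht)
    refine ⟨x, ⟨hx, ?_⟩, rfl⟩
    have h2 := mul_mem (mul_mem (inv_mem (hCL hc)) (hTL ht)) (hCL hc)
    simpa [mul_assoc] using h2
  exact (card_le_of_le h1).trans (Transfer.card_map_conj c _).le

theorem exists_complement_ge (hG : Cfsg.IsMinSimpleOddOrder G) (hM : IsCoatom M) {K : Subgroup G}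
    (hKM : K ≤ M) (hK : ∀ r : ℕ, r.Prime → r ∣ Nat.card K → r ∉ Cfsg.sigma M) :
    ∃ E : Subgroup G, Cfsg.IsComplIn E (Cfsg.sigmaCore M) M ∧ K ≤ E := by
  have := hG.2.2.2 M hM.1
  set π : Set ℕ := {r | r.Prime ∧ r ∉ Cfsg.sigma M}
  obtain ⟨H, hH, hKH⟩ := Core.exists_piHall_ge (G := ↥M) (π := π) (K := K.subgroupOf M) fun r hr hd =>
    ⟨hr, hK r hr (by rwa [Nat.card_congr (subgroupOfEquivOfLe hKM).toEquiv] at hd)⟩
  set O := Cfsg.piCore (Cfsg.sigma M) ↥M with hO
  obtain ⟨⟨-, hOpi, hOidx⟩, -, -⟩ := OddLocal.SigmaCore.sigmaCore_hall hG hM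
  have hcO : Nat.card (Cfsg.sigmaCore M) = Nat.card O := card_map_of_injective M.subtype_injective
  refine ⟨H.map M.subtype, ⟨map_subtype_le _, sigmaCore_le M, ?_, ?_⟩, ?_⟩
  · refine Subgroup.inf_eq_bot_of_coprime (Nat.coprime_of_dvd fun r hr h1 h2 => ?_)
    rw [card_map_of_injective M.subtype_injective] at h1
    exact (hH.1 r hr h1).2 (hOpi r hr h2)
  · intro m hm
    have htop : H ⊔ O = ⊤ := by
      rw [← index_eq_one]
      by_contra h
      obtain ⟨r, hr, hd⟩ := Nat.exists_prime_and_dvd h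
      by_cases hrσ : r ∈ Cfsg.sigma M
      · refine hOidx r hr hrσ ?_
        rw [Cfsg.sigmaCore, relIndex, subgroupOf, comap_map_eq_self_of_injective M.subtype_injective]
        exact hd.trans (index_dvd_of_le le_sup_right)
      · exact hH.2 r hr ⟨hr, hrσ⟩ (hd.trans (index_dvd_of_le le_sup_left))
    obtain ⟨o, ho, e, he, heq⟩ := (Core.mem_sup_iff_mul' (Core.le_normalizer_of_normal H O)).mp
      (htop.ge (mem_top (⟨m, hm⟩ : ↥M)))
    refine ⟨(e : G), ⟨e, he, rfl⟩, ((e⁻¹ * o * e : ↥M) : G), ?_, ?_⟩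
    · exact ⟨_, (Cfsg.piCore_normal (Cfsg.sigma M) ↥M).conj_mem' o ho e, rfl⟩
    · have h1 : m = (o : G) * (e : G) := congrArg Subtype.val heq
      rw [h1]
      simp [mul_assoc]
  · rw [← map_subgroupOf_eq_of_le hKM]
    exact map_mono hKH

/-- The centraliser of `A` in an overgroup lies in a complement containing `A`. -/
theorem centralizer_le_complement (hL : Cfsg.sigmaCore L ⊓ centralizer (A : Set G) = ⊥)
    {E : Subgroup G} (hE : Cfsg.IsComplIn E (Cfsg.sigmaCore L) L) (hAE : A ≤ E) :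
    L ⊓ centralizer (A : Set G) ≤ E := by
  rintro x ⟨hxL, hxC⟩
  obtain ⟨e, he, s, hs, rfl⟩ := hE.2.2.2 x hxL
  suffices hs1 : s = 1 by rw [hs1, mul_one]; exact he
  refine mem_bot.mp (hL ▸ mem_inf.mpr ⟨hs, mem_centralizer_iff.mpr fun a ha => ?_⟩)
  have h1 : a * (e * s) = e * s * a := mem_centralizer_iff.mp hxC a ha
  have h2 : s * a * s⁻¹ = e⁻¹ * a * e := by
    calc s * a * s⁻¹ = e⁻¹ * (e * s * a) * s⁻¹ := by group
      _ = e⁻¹ * (a * (e * s)) * s⁻¹ := by rw [h1]
      _ = e⁻¹ * a * e := by group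
  have h3 : s * a * s⁻¹ * a⁻¹ ∈ E ⊓ Cfsg.sigmaCore L := by
    refine mem_inf.mpr ⟨?_, ?_⟩
    · rw [h2]
      exact mul_mem (mul_mem (mul_mem (inv_mem he) (hAE ha)) he) (inv_mem (hAE ha))
    · have hn := le_normalizer_sigmaCore L (hE.1 (hAE ha))
      have := mul_mem hs ((mem_normalizer_iff.mp hn _).mp (inv_mem hs))
      simpa [mul_assoc] using this
  rw [hE.2.2.1, mem_bot, mul_inv_eq_one, mul_inv_eq_iff_eq_mul] at h3
  exact h3.symm

/-- A maximal invariant fixed point free `q`-subgroup of `L` is normalised by `C(A)`. -/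
theorem centralizer_le_normalizer_of_max (hG : Cfsg.IsMinSimpleOddOrder G) (hL : IsCoatom L)
    (hA : IsPair p A) (hCL : centralizer (A : Set G) ≤ L) (hp : p ∉ Cfsg.sigma L) (hqp : q ≠ p)
    (hD : IsPGroup q D) (hDL : D ≤ L) (hAD : A ≤ normalizer (D : Set G))
    (hmax : ∀ T : Subgroup G, IsPGroup q T → T ≤ L → A ≤ normalizer (T : Set G) → D ≤ T → T = D)
    (hC : Cfsg.sigmaCore L ⊓ centralizer (A : Set G) = ⊥) (hfix : D ⊓ centralizer (A : Set G) = ⊥) :
    centralizer (A : Set G) ≤ normalizer (D : Set G) := by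
  have hAL : A ≤ L := hA.le_centralizer.trans hCL
  have hAs : Group.IsSolvable A := hG.2.2.2 A (Uniqueness.ne_top_of_pGroup hG hA.isPGroup)
  by_cases hq : q ∈ Cfsg.sigma L
  · have hAO : A ≤ normalizer (Cfsg.sigmaCore L : Set G) := hAL.trans (le_normalizer_sigmaCore L)
    have hcop := coprime_sigmaCore hG hL hp hA.isPGroup
    obtain ⟨P, hDP, hAP⟩ := Core.exists_invariant_sylow_ge hAO hcop (Or.inl hAs)
      (le_sigmaCore hG hL hq hD hDL) hD hAD
    have heP := hmax _ (P.2.map _) ((map_subtype_le _).trans (sigmaCore_le L)) hAP hDP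
    intro c hc
    refine Transfer.map_conj_eq_self_iff.mp ?_
    set D' := D.map (MulAut.conj c).toMonoidHom with hD'
    have hD'O : D' ≤ Cfsg.sigmaCore L :=
      (map_mono (le_sigmaCore hG hL hq hD hDL)).trans
        (Transfer.map_conj_eq_self_iff.mpr (le_normalizer_sigmaCore L (hCL hc))).le
    have hAD' : A ≤ normalizer (D' : Set G) := by
      intro a ha
      have h1 := le_normalizer_map (MulAut.conj c).toMonoidHom ⟨a, hAD ha, rfl⟩
      have h2 : (MulAut.conj c).toMonoidHom a = a := by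
        show c * a * c⁻¹ = a
        rw [← mem_centralizer_iff.mp hc a ha, mul_inv_cancel_right]
      rwa [h2] at h1
    obtain ⟨P', hDP', hAP'⟩ := Core.exists_invariant_sylow_ge hAO hcop (Or.inl hAs) hD'O (hD.map _) hAD'
    obtain ⟨x, hx, e⟩ := Core.invariant_sylow_conj hAO hcop (Or.inl hAs) P P' hAP hAP'
    have hx1 : x = 1 := Subtype.ext (mem_bot.mp (hC ▸ mem_inf.mpr ⟨x.2, hx⟩))
    rw [hx1, one_smul] at e
    rw [← e, heP] at hDP'
    exact eq_of_le_of_card_ge hDP' (Transfer.card_map_conj c D).ge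
  · obtain ⟨E, hE, hKE⟩ := exists_complement_ge hG hL (sup_le hAL hDL) fun r hr hd => by
      have h1 := hd.trans (Core.card_sup_dvd A D hAD)
      rcases hr.dvd_mul.1 h1 with h | h
      · obtain ⟨k, hk⟩ := IsPGroup.iff_card.mp hA.isPGroup
        rw [(Nat.prime_dvd_prime_iff_eq hr Fact.out).mp (hr.dvd_of_dvd_pow (hk ▸ h))]
        exact hp
      · obtain ⟨k, hk⟩ := IsPGroup.iff_card.mp hD
        rw [(Nat.prime_dvd_prime_iff_eq hr Fact.out).mp (hr.dvd_of_dvd_pow (hk ▸ h))]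
        exact hq
    have hCE : centralizer (A : Set G) ≤ E :=
      (le_inf hCL le_rfl).trans (centralizer_le_complement hC hE (le_sup_left.trans hKE))
    refine hCE.trans ?_
    -- `D` is the `q`-core of `E'`
    have hDd : D ≤ ⁅E, E⁆ := by
      have h := Core.commutator_sup_centralizer hAD (coprime_pGroups (Ne.symm hqp) hA.isPGroup hD)
        (Or.inl hAs)
      rw [hfix, sup_bot_eq] at h
      rw [← h]
      exact commutator_mono (le_sup_right.trans hKE) (le_sup_left.trans hKE)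
    have hnil := OddLocal.SigmaComplement.isNilpotent_derived hG hL hE
    have hn : E ≤ normalizer ((⁅E, E⁆ : Subgroup G) : Set G) := normalizer_commutator_ge_left E E
    set X := (Cfsg.pCore q ↥⁅E, E⁆).map (⁅E, E⁆).subtype with hX
    have hEX : E ≤ normalizer (X : Set G) := fun g hg =>
      OddLocal.PLengthEndgame.normalizer_le_char ⁅E, E⁆ (Cfsg.pCore q ↥⁅E, E⁆) (hn hg)
    have hDX : D ≤ X := by
      intro d hd
      refine mem_map.mpr ⟨⟨d, hDd hd⟩, ?_, rfl⟩
      obtain ⟨k, hk⟩ := IsPGroup.iff_card.mp hD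
      obtain ⟨j, -, hj⟩ := (Nat.dvd_prime_pow Fact.out).mp
        (hk ▸ orderOf_dvd_natCard D hd : orderOf d ∣ q ^ k)
      exact HallGen.mem_pCore_of_mem_nilpotent_normal (k := j)
        (inferInstance : (⊤ : Subgroup ↥⁅E, E⁆).Normal)
        (Group.nilpotent_of_mulEquiv topEquiv.symm) (mem_top _) (by rw [orderOf_mk]; exact hj)
    rw [← hmax X ((Core.isPGroup_pCore q _).map _)
      ((map_subtype_le _).trans ((commutator_le_self E).trans hE.1))
      ((le_sup_left.trans hKE).trans hEX) hDX]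
    exact hEX

/-- A Sylow subgroup for `r ∈ β(M)` is not cyclic. -/
theorem sylow_not_cyclic (hr : r ∈ Cfsg.beta M) (S : Sylow r G) : ¬ IsCyclic (S : Subgroup G) := by
  intro h
  obtain ⟨E, -, hE, hE3⟩ := Uniqueness.exists_elementary_of_not_rank hr.1.2
  obtain ⟨S', hS'⟩ := (Signalizer.elementary_isPGroup hE).exists_le_sylow
  have : IsCyclic (S' : Subgroup G) := isCyclic_of_surjective (S.equiv S') (S.equiv S').surjective
  exact Uniqueness.not_isCyclic_of_elementary hE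
    ((Nat.pow_le_pow_right (Fact.out : r.Prime).pos (by omega)).trans hE3)
    (isCyclic_of_injective (inclusion hS') (inclusion_injective _))

/-- For `r ∈ β(L)` an `A`-invariant `r`-subgroup is inside an `A`-invariant Sylow subgroup of `G` in `L`. -/
theorem exists_sylow_beta (hG : Cfsg.IsMinSimpleOddOrder G) (hL : IsCoatom L) (hA : IsPair p A)
    (hU : ¬ Cfsg.InUniqueMaximal A) (hr : r ∈ Cfsg.beta L) (hAL : A ≤ L)
    (hD : IsPGroup r D) (hDL : D ≤ L) (hAD : A ≤ normalizer (D : Set G)) :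
    ∃ S : Sylow r G, D ≤ (S : Subgroup G) ∧ (S : Subgroup G) ≤ L ∧
      A ≤ normalizer ((S : Subgroup G) : Set G) := by
  obtain ⟨⟨-, hpi, -⟩, hhall, -⟩ := OddLocal.BetaCore.betaCore_facts hG hL
  set B := Cfsg.piCoreOf (Cfsg.beta L) L with hB
  have hDB : D ≤ B := by
    obtain ⟨P, hP⟩ := (hD.comap_subtype (K := L)).exists_le_sylow
    exact fun x hx => mem_map.mpr
      ⟨⟨x, hDL hx⟩, OddLocal.BetaCore.sylow_le_betaCore hG hL hr P (hP (mem_comap.mpr hx)), rfl⟩
  obtain ⟨P, hDP, hAP⟩ := Core.exists_invariant_sylow_ge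
    (hAL.trans (TransitivityHyp.le_normalizer_piCoreOf _ L))
    (show (Nat.card A).Coprime (Nat.card B) by
      obtain ⟨k, hk⟩ := IsPGroup.iff_card.mp hA.isPGroup
      rw [hk]
      exact ((Fact.out : p.Prime).coprime_iff_not_dvd.mpr fun hd =>
        hA.not_beta hG hU L (hpi p Fact.out hd)).pow_left k)
    (Or.inl (hG.2.2.2 A (Uniqueness.ne_top_of_pGroup hG hA.isPGroup))) hDB hD hAD
  have hd : ¬ r ∣ ((P : Subgroup B).map B.subtype).index := by
    rw [index_map_subtype, (Fact.out : r.Prime).dvd_mul]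
    push Not
    exact ⟨P.not_dvd_index, hhall.2 r Fact.out hr⟩
  exact ⟨(P.2.map _).toSylow hd, hDP, (map_subtype_le _).trans (map_subtype_le _), hAP⟩

/-- Two subgroups of a cyclic `r`-group meet. -/
theorem inf_ne_bot_of_cyclic {C X Y : Subgroup G} (hC : IsPGroup r C) (hc : IsCyclic C) (hX : X ≤ C)
    (hY : Y ≤ C) (hXb : X ≠ ⊥) (hYb : Y ≠ ⊥) : X ⊓ Y ≠ ⊥ := by
  have key : ∀ Z : Subgroup G, Z ≤ C → Z ≠ ⊥ →
      ∃ W : Subgroup C, Nat.card W = r ∧ W.map C.subtype ≤ Z := by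
    intro Z hZ hZb
    obtain ⟨k, hk⟩ := IsPGroup.iff_card.mp (hC.to_le hZ)
    have hk0 : k ≠ 0 := by
      rintro rfl
      exact hZb (eq_bot_of_card_eq Z (hk.trans (pow_zero r)))
    obtain ⟨z, hz⟩ := exists_prime_orderOf_dvd_card' r ((dvd_pow_self r hk0).trans hk.symm.dvd)
    refine ⟨zpowers ⟨(z : G), hZ z.2⟩, by rw [Nat.card_zpowers, orderOf_mk, orderOf_coe, hz], ?_⟩
    rw [MonoidHom.map_zpowers, zpowers_le]
    exact z.2
  obtain ⟨W₁, h₁, h₁'⟩ := key X hX hXb
  obtain ⟨W₂, h₂, h₂'⟩ := key Y hY hYb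
  rw [← NonSigma.eq_of_card_prime (p := r) hc h₁ h₂] at h₂'
  intro hb
  have h3 : W₁.map C.subtype = ⊥ := le_bot_iff.mp (hb ▸ le_inf h₁' h₂')
  rw [map_eq_bot_iff_of_injective _ C.subtype_injective] at h3
  rw [h3, card_bot] at h₁
  exact (Fact.out : r.Prime).ne_one h₁.symm

/-- A coprime operator group fixing a nontrivial element of a cyclic `r`-group centralises it. -/
theorem le_centralizer_of_cyclic (hA : IsPair p A) (hrp : r ≠ p) {C : Subgroup G} (hC : IsPGroup r C)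
    (hc : IsCyclic C) (hAC : A ≤ normalizer (C : Set G)) (hfix : C ⊓ centralizer (A : Set G) ≠ ⊥) :
    C ≤ centralizer (A : Set G) := by
  have : IsMulCommutative C := IsCyclic.isMulCommutative
  have hcop := coprime_pGroups (Ne.symm hrp) hA.isPGroup hC
  have h := Core.abelian_inf_eq_bot hAC hcop
  by_contra hne
  have hcomm : ⁅C, A⁆ ≠ ⊥ := fun h0 => hne (le_of_eq_of_le rfl (commutator_eq_bot_iff_le_centralizer.mp h0))
  exact inf_ne_bot_of_cyclic hC hc inf_le_left (Core.commutator_le_of_normalizes hAC) hfix hcomm h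

/-- A pair centralising nothing `A`-derived: the `τ₂` alternative. -/
theorem sigma_inf_centralizer_of_not_derived (hG : Cfsg.IsMinSimpleOddOrder G) (hL : IsCoatom L)
    (hA : IsPair p A) (hU : ¬ Cfsg.InUniqueMaximal A) (hAL : A ≤ L) (hnd : ¬ A ≤ ⁅L, L⁆) :
    p ∉ Cfsg.sigma L ∧ Cfsg.sigmaCore L ⊓ centralizer (A : Set G) = ⊥ := by
  have hp : p ∉ Cfsg.sigma L := fun h => hnd (le_derived_of_sigma hG hL h hA.isPGroup hAL)
  refine ⟨hp, ?_⟩
  by_contra h
  obtain ⟨s, hs, hd⟩ := Nat.exists_prime_and_dvd (fun h1 => h (eq_bot_of_card_eq _ h1))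
  have := Fact.mk hs
  obtain ⟨S, hAS, hSd, -⟩ := exists_sylow_derived hG hL hAL hA hU hp hd
  exact hnd (hAS.trans hSd)

/-- For a nonempty `β(M)` the centraliser of `A` is in `M`. -/
theorem centralizer_le_of_beta (hG : Cfsg.IsMinSimpleOddOrder G) (hM : IsCoatom M) (hA : IsPair p A)
    (hU : ¬ Cfsg.InUniqueMaximal A) (hAM : A ≤ M) (hr : r ∈ Cfsg.beta M) :
    centralizer (A : Set G) ≤ M := by
  have hrp : r ≠ p := fun e => hA.not_beta hG hU M (e ▸ hr)
  obtain ⟨R, -, hRM, hAR⟩ := exists_sylow_beta hG hM hA hU hr hAM (D := ⊥) IsPGroup.of_bot bot_le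
    (fun x _ => mem_normalizer_iff.mpr fun y => by simp)
  have hRnc := sylow_not_cyclic hr R
  have hRb : (R : Subgroup G) ≠ ⊥ := fun h => hRnc (h ▸ inferInstance)
  have hne : ∀ {a : G}, a ∈ A → a ≠ 1 →
      A ≤ normalizer (((R : Subgroup G) ⊓ centralizer ({a} : Set G) : Subgroup G) : Set G) := fun ha _ =>
    (le_inf hAR ((hA.le_centralizer.trans (hA.centralizer_le ha)).trans le_normalizer)).trans
      inf_normalizer_le_normalizer_inf
  by_cases hnc : ∃ a ∈ A, a ≠ 1 ∧ ¬ IsCyclic ↥((R : Subgroup G) ⊓ centralizer ({a} : Set G))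
  · obtain ⟨a, ha, ha1, hac⟩ := hnc
    exact (hA.centralizer_le ha).trans (le_of_noncyclic hG hM hr (R.2.to_le inf_le_left) hac
      (inf_le_left.trans hRM) (TransitivityHyp.centralizer_singleton_ne_top hG ha1) inf_le_right)
  push Not at hnc
  by_cases hfix : (R : Subgroup G) ⊓ centralizer (A : Set G) ≠ ⊥
  · exfalso
    have hRC : (R : Subgroup G) ≤ centralizer (A : Set G) := hA.le_of_centralizers hrp R.2 hAR
      fun a ha ha1 => le_centralizer_of_cyclic hA hrp (R.2.to_le inf_le_left) (hnc a ha ha1) (hne ha ha1)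
        fun hb => hfix (le_bot_iff.mp (hb ▸ le_inf (inf_le_inf_left _ (hA.centralizer_le ha)) inf_le_right))
    obtain ⟨a, ha, ha1⟩ := A.ne_bot_iff_exists_ne_one.mp hA.ne_bot |> fun ⟨x, hx⟩ =>
      (⟨(x : G), x.2, fun e => hx (Subtype.ext e)⟩ : ∃ a ∈ A, a ≠ 1)
    have := hnc a ha ha1
    exact hRnc (isCyclic_of_injective (inclusion (le_inf le_rfl (hRC.trans (hA.centralizer_le ha))))
      (inclusion_injective _))
  push Not at hfix
  obtain ⟨b, hb, hb1, hDb⟩ := hA.exists_fix hrp R.2 hAR hRb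
  obtain ⟨L, hL, hCbL⟩ := (eq_top_or_exists_le_coatom _).resolve_left
    (TransitivityHyp.centralizer_singleton_ne_top hG hb1)
  have hCL : centralizer (A : Set G) ≤ L := (hA.centralizer_le hb).trans hCbL
  by_cases hLM : L = M
  · exact hLM ▸ hCL
  have hAL : A ≤ L := hA.le_centralizer.trans hCL
  set D := (R : Subgroup G) ⊓ L with hD
  have hDne : D ≠ ⊥ := fun h => hDb (le_bot_iff.mp (h ▸ inf_le_inf_left _ hCbL))
  have hDp : IsPGroup r D := R.2.to_le inf_le_left
  have hDM : D ≤ M := inf_le_left.trans hRM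
  have hAD : A ≤ normalizer (D : Set G) :=
    (le_inf hAR (hAL.trans le_normalizer)).trans inf_normalizer_le_normalizer_inf
  have hDc : IsCyclic D := by
    by_contra h
    rcases (le_of_noncyclic hG hM hr hDp h hDM hL.1 inf_le_right).lt_or_eq with h' | h'
    · exact hM.1 (hL.2 _ h')
    · exact hLM h'
  have hmax : ∀ T : Subgroup G, IsPGroup r T → T ≤ L → A ≤ normalizer (T : Set G) → D ≤ T → T = D :=
    fun T hT hTL hAT hle => inf_maxInv_max hG hA hU hrp (sylow_isMaxInv R hAR) hCL hDne hT hTL hAT hle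
  have hrL : r ∉ Cfsg.beta L := fun h => by
    obtain ⟨S, hDS, hSL, hAS⟩ := exists_sylow_beta hG hL hA hU h hAL hDp inf_le_right hAD
    have e := hmax _ S.2 hSL hAS hDS
    exact sylow_not_cyclic h S (e ▸ hDc)
  have hDC : D ⊓ centralizer (A : Set G) = ⊥ :=
    le_bot_iff.mp ((inf_le_inf_right _ inf_le_left).trans hfix.le)
  have hnd : ¬ A ≤ ⁅L, L⁆ := fun h => hDne (le_bot_iff.mp (hDC ▸ le_inf le_rfl (le_centralizer_iff.mp
    (centralizes_of_derived hG hL hrp hrL hA.isPGroup h hDp inf_le_right hAD))))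
  obtain ⟨hpL, hC⟩ := sigma_inf_centralizer_of_not_derived hG hL hA hU hAL hnd
  exact (centralizer_le_normalizer_of_max hG hL hA hCL hpL hrp hDp inf_le_right hAD hmax hC hDC).trans
    (normalizer_le_of_beta hG hM hr hDp hDne hDM)

theorem isNilpotent_derived_of_beta_empty (hG : Cfsg.IsMinSimpleOddOrder G) (hM : IsCoatom M)
    (h : ∀ s : ℕ, s.Prime → s ∉ Cfsg.beta M) : Group.IsNilpotent ↥⁅M, M⁆ :=
  OddLocal.BetaCore.isNilpotent_of_complements fun s hs _ => by
    have := Fact.mk hs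
    exact OddLocal.BetaCore.complement_derived hG hM (h s hs)

/-- A Sylow subgroup of `G` inside a nilpotent `M'` is normal in `M`. -/
theorem le_normalizer_sylow (hn : Group.IsNilpotent ↥⁅M, M⁆) (S : Sylow p G)
    (hS : (S : Subgroup G) ≤ ⁅M, M⁆) : M ≤ normalizer ((S : Subgroup G) : Set G) := by
  have e : (S : Subgroup G) = (Cfsg.pCore p ↥⁅M, M⁆).map (⁅M, M⁆).subtype := by
    refine (S.3 ((Core.isPGroup_pCore p _).map _) fun d hd => ?_).symm
    obtain ⟨k, hk⟩ := IsPGroup.iff_card.mp S.2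
    obtain ⟨j, -, hj⟩ := (Nat.dvd_prime_pow Fact.out).mp
      (hk ▸ orderOf_dvd_natCard (S : Subgroup G) hd : orderOf d ∣ p ^ k)
    exact mem_map.mpr ⟨⟨d, hS hd⟩, HallGen.mem_pCore_of_mem_nilpotent_normal (k := j)
      (inferInstance : (⊤ : Subgroup ↥⁅M, M⁆).Normal)
      (Group.nilpotent_of_mulEquiv topEquiv.symm) (mem_top _) (by rw [orderOf_mk]; exact hj), rfl⟩
  rw [e]
  exact fun g hg => OddLocal.PLengthEndgame.normalizer_le_char ⁅M, M⁆ (Cfsg.pCore p ↥⁅M, M⁆)
    (normalizer_commutator_ge_left M M hg)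

theorem not_inUniqueMaximal (hG : Cfsg.IsMinSimpleOddOrder G) (hM : IsCoatom M) (hA : IsPair p A)
    (hAM : A ≤ M) (hp : p ∉ Cfsg.sigma M) : ¬ Cfsg.InUniqueMaximal A :=
  NonSigma.not_inUniqueMaximal hG hM hp hAM hA.1 hA.2.ge

/-- S1417 (d). -/
theorem sigma_inf_centralizer (hG : Cfsg.IsMinSimpleOddOrder G) (hM : IsCoatom M) (hA : IsPair p A)
    (hAM : A ≤ M) (hp : p ∉ Cfsg.sigma M) : Cfsg.sigmaCore M ⊓ centralizer (A : Set G) = ⊥ := by
  by_contra h
  have hU := not_inUniqueMaximal hG hM hA hAM hp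
  obtain ⟨s, hs, hd⟩ := Nat.exists_prime_and_dvd (fun h1 => h (eq_bot_of_card_eq _ h1))
  have := Fact.mk hs
  obtain ⟨S, hAS, hSd, hN⟩ := exists_sylow_derived hG hM hAM hA hU hp hd
  have hSM : (S : Subgroup G) ≤ M := hSd.trans (commutator_le_self M)
  refine hp ⟨Fact.out, hA.dvd_card.trans (card_dvd_of_le hAM), S.subtype hSM, ?_⟩
  rw [Sylow.coe_subtype, map_subgroupOf_eq_of_le hSM]
  by_cases hb : ∀ t : ℕ, t.Prime → t ∉ Cfsg.beta M
  · have h1 := le_normalizer_sylow (isNilpotent_derived_of_beta_empty hG hM hb) S hSd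
    rcases h1.lt_or_eq with h' | h'
    · exact absurd (hM.2 _ h') (TransitivityHyp.normalizer_ne_top hG
        (fun hb' => hA.ne_bot (le_bot_iff.mp (hb' ▸ hAS))) (Uniqueness.ne_top_of_pGroup hG S.2))
    · exact h'.ge
  · push Not at hb
    obtain ⟨t, ht, htβ⟩ := hb
    have := Fact.mk ht
    exact hN.trans (sup_le (centralizer_le_of_beta hG hM hA hU hAM htβ) le_rfl)

theorem sigmaCore_ne_bot (hG : Cfsg.IsMinSimpleOddOrder G) (hM : IsCoatom M) : Cfsg.sigmaCore M ≠ ⊥ := by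
  intro h0
  have hno : ∀ t : ℕ, t ∉ Cfsg.sigma M := by
    intro t ht
    have := Fact.mk ht.1
    obtain ⟨P⟩ : Nonempty (Sylow t M) := inferInstance
    refine P.ne_bot_of_dvd_card ht.2.1 ?_
    have h1 := le_sigmaCore hG hM ht (P.2.map M.subtype) (map_subtype_le _)
    rw [h0, le_bot_iff] at h1
    exact (map_eq_bot_iff_of_injective _ M.subtype_injective).mp h1
  have := hG.2.2.2 M hM.1
  have hcard : Nat.card M ≠ 1 := fun h => ProperPLength.maximal_ne_bot hG hM (eq_bot_of_card_eq M h)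
  have hne : (Nat.card M).primeFactors.Nonempty := by
    obtain ⟨t, ht, hd⟩ := Nat.exists_prime_and_dvd hcard
    exact ⟨t, Nat.mem_primeFactors.mpr ⟨ht, hd, Nat.card_pos.ne'⟩⟩
  set t := (Nat.card M).primeFactors.max' hne with ht
  obtain ⟨htp, htd, -⟩ := Nat.mem_primeFactors.mp ((Nat.card M).primeFactors.max'_mem hne)
  have := Fact.mk htp
  have hr : Cfsg.RankLE 2 M := by
    intro s hs
    have := Fact.mk hs
    by_contra h
    exact hno s (SigmaTrans.alpha_subset_sigma hG hM ⟨hs, h⟩)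
  obtain ⟨N, hNc, hN⟩ := (Cfsg.Agent.S1451.result (hG.1.of_dvd_nat M.card_subgroup_dvd_card) (Or.inl hr)).2.2 (t - 1)
  have htN : ¬ t ∣ N.index := hN.2 t htp ⟨htp, by have := htp.pos; omega⟩
  have hNp : IsPGroup t N := IsPGroup.of_card (n := (Nat.card N).primeFactorsList.length)
    (Nat.eq_prime_pow_of_unique_prime_dvd Nat.card_pos.ne' fun {d} hd hdN => by
      have h1 := (hN.1 d hd hdN).2
      have h2 : d ≤ t := Finset.le_max' _ d
        (Nat.mem_primeFactors.mpr ⟨hd, hdN.trans N.card_subgroup_dvd_card, Nat.card_pos.ne'⟩)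
      omega)
  refine hno t ⟨htp, htd, hNp.toSylow htN, ?_⟩
  show normalizer ((N.map M.subtype : Subgroup G) : Set G) ≤ M
  have hle : M ≤ normalizer ((N.map M.subtype : Subgroup G) : Set G) := fun m hm =>
    le_normalizer_map M.subtype ⟨⟨m, hm⟩, Core.le_normalizer_of_normal ⊤ N (mem_top _), rfl⟩
  rcases hle.lt_or_eq with h' | h'
  · have hNb : N.map M.subtype ≠ ⊥ := fun hb => htN (by
      rw [(map_eq_bot_iff_of_injective _ M.subtype_injective).mp hb, index_bot]
      exact htd)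
    exact absurd (hM.2 _ h') (TransitivityHyp.normalizer_ne_top hG hNb
      (Uniqueness.ne_top_of_pGroup hG (hNp.map _)))
  · exact h'.ge

theorem centralizer_le_of_not_sigma (hG : Cfsg.IsMinSimpleOddOrder G) (hM : IsCoatom M) (hA : IsPair p A)
    (hAM : A ≤ M) (hp : p ∉ Cfsg.sigma M) : centralizer (A : Set G) ≤ M := by
  classical
  by_contra hCM
  have hU := not_inUniqueMaximal hG hM hA hAM hp
  have hC := sigma_inf_centralizer hG hM hA hAM hp
  obtain ⟨s, hs, hd⟩ := Nat.exists_prime_and_dvd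
    (fun h1 => sigmaCore_ne_bot hG hM (eq_bot_of_card_eq _ h1))
  have := Fact.mk hs
  have hsσ := mem_sigma_of_dvd hs hd hG hM
  have hsp : s ≠ p := fun e => hp (e ▸ hsσ)
  obtain ⟨Q₀, hAQ₀⟩ := Core.exists_invariant_sylow (hAM.trans (le_normalizer_sigmaCore M))
    (coprime_sigmaCore hG hM hp hA.isPGroup)
    (Or.inl (hG.2.2.2 A (Uniqueness.ne_top_of_pGroup hG hA.isPGroup))) s
  obtain ⟨Q, hQ⟩ := sigma_sylow_top hG hM hsσ Q₀
  rw [← hQ] at hAQ₀
  have hQσ : (Q : Subgroup G) ≤ Cfsg.sigmaCore M := hQ ▸ map_subtype_le _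
  have hQM := hQσ.trans (sigmaCore_le M)
  have hQb : (Q : Subgroup G) ≠ ⊥ := hQ ▸ fun h => Q₀.ne_bot_of_dvd_card hd
    ((map_eq_bot_iff_of_injective _ (subtype_injective _)).mp h)
  obtain ⟨b, hb, hb1, hQb'⟩ := hA.exists_fix hsp Q.2 hAQ₀ hQb
  obtain ⟨L₀, hL₀, hCb⟩ := (eq_top_or_exists_le_coatom _).resolve_left
    (TransitivityHyp.centralizer_singleton_ne_top hG hb1)
  obtain ⟨L, ⟨hL, hLM, hCL, hne⟩, hmaxL⟩ := Set.exists_max_image
    {L : Subgroup G | IsCoatom L ∧ L ≠ M ∧ centralizer (A : Set G) ≤ L ∧ (Q : Subgroup G) ⊓ L ≠ ⊥}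
    (fun L => Nat.card ↥((Q : Subgroup G) ⊓ L)) (Set.toFinite _)
    ⟨L₀, hL₀, fun e => hCM (e ▸ (hA.centralizer_le hb).trans hCb), (hA.centralizer_le hb).trans hCb,
      fun h => hQb' (le_bot_iff.mp (h ▸ inf_le_inf_left _ hCb))⟩
  have hAL : A ≤ L := hA.le_centralizer.trans hCL
  set D := (Q : Subgroup G) ⊓ L with hD
  have hDp : IsPGroup s D := Q.2.to_le inf_le_left
  have hAD : A ≤ normalizer (D : Set G) :=
    (le_inf hAQ₀ (hAL.trans le_normalizer)).trans inf_normalizer_le_normalizer_inf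
  have hmax : ∀ T : Subgroup G, IsPGroup s T → T ≤ L → A ≤ normalizer (T : Set G) → D ≤ T → T = D :=
    fun T hT hTL hAT hle => inf_maxInv_max hG hA hU hsp (sylow_isMaxInv Q hAQ₀) hCL hne hT hTL hAT hle
  have hsL : s ∉ Cfsg.beta L := fun h => by
    obtain ⟨S, hDS, hSL, hAS⟩ := exists_sylow_beta hG hL hA hU h hAL hDp inf_le_right hAD
    have e := hmax _ S.2 hSL hAS hDS
    rcases (le_of_noncyclic hG hL h S.2 (sylow_not_cyclic h S) hSL hM.1
      (e.le.trans (inf_le_left.trans hQM))).lt_or_eq with h' | h'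
    · exact hL.1 (hM.2 _ h')
    · exact hLM h'.symm
  have hDC : D ⊓ centralizer (A : Set G) = ⊥ :=
    le_bot_iff.mp ((inf_le_inf_right _ (inf_le_left.trans hQσ)).trans hC.le)
  have hnd : ¬ A ≤ ⁅L, L⁆ := fun h => hne (le_bot_iff.mp (hDC ▸ le_inf le_rfl (le_centralizer_iff.mp
    (centralizes_of_derived hG hL hsp hsL hA.isPGroup h hDp inf_le_right hAD))))
  obtain ⟨hpL, hCσ⟩ := sigma_inf_centralizer_of_not_derived hG hL hA hU hAL hnd
  have hCN := centralizer_le_normalizer_of_max hG hL hA hCL hpL hsp hDp inf_le_right hAD hmax hCσ hDC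
  rcases (inf_le_left : D ≤ (Q : Subgroup G)).lt_or_eq with hlt | heq
  · obtain ⟨L₁, hL₁, hN⟩ := (eq_top_or_exists_le_coatom _).resolve_left
      (TransitivityHyp.normalizer_ne_top hG hne (Uniqueness.ne_top_of_pGroup hG hDp))
    have hbig : Nat.card D < Nat.card ↥((Q : Subgroup G) ⊓ L₁) :=
      (Uniqueness.isPGroup_lt_inf Q.2 hlt).trans_le (card_le_of_le (inf_le_inf_left _ hN))
    have h1 := hmaxL L₁ ⟨hL₁, fun e => hCM (e ▸ hCN.trans hN), hCN.trans hN, fun h => by
      rw [h, card_bot] at hbig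
      have : 0 < Nat.card D := Nat.card_pos
      omega⟩
    exact absurd h1 (not_le.mpr hbig)
  · exact hCM (hCN.trans ((congrArg (fun K : Subgroup G => normalizer (K : Set G)) heq).le.trans
      (sylow_normalizer_le hsσ Q hQM)))

/-- S1416 (a). -/
theorem centralizer_le (hG : Cfsg.IsMinSimpleOddOrder G) (hM : IsCoatom M) (hA : IsPair p A)
    (hAM : A ≤ M) : centralizer (A : Set G) ≤ M := by
  by_cases hU : Cfsg.InUniqueMaximal A
  · exact Uniqueness.le_of_inUniqueMaximal hU hM hAM (Uniqueness.centralizer_ne_top hG hA.ne_bot)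
      hA.le_centralizer
  by_cases hp : p ∈ Cfsg.sigma M
  swap
  · exact centralizer_le_of_not_sigma hG hM hA hAM hp
  by_cases hb : ∀ t : ℕ, t.Prime → t ∉ Cfsg.beta M
  swap
  · push Not at hb
    obtain ⟨t, ht, htβ⟩ := hb
    have := Fact.mk ht
    exact centralizer_le_of_beta hG hM hA hU hAM htβ
  obtain ⟨P, hP⟩ := (hA.isPGroup.comap_subtype (K := M)).exists_le_sylow
  obtain ⟨S, hS⟩ := SigmaTrans.sigma_sylow hp P
  have hAS : A ≤ (S : Subgroup G) := hS ▸ fun x hx => mem_map.mpr ⟨⟨x, hAM hx⟩, hP (mem_comap.mpr hx), rfl⟩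
  have hMS := le_normalizer_sylow (isNilpotent_derived_of_beta_empty hG hM hb) S
    (hS ▸ AlphaCore.sylow_le_derived hG hM hp P)
  set X := A ⊓ centralizer ((S : Subgroup G) : Set G) with hX
  have hMX : M ≤ normalizer (X : Set G) := by
    suffices key : ∀ m ∈ M, ∀ x ∈ X, m * x * m⁻¹ ∈ X from fun m hm => mem_normalizer_iff.mpr fun x =>
      ⟨key m hm x, fun h => by simpa [mul_assoc] using key m⁻¹ (inv_mem hm) _ h⟩
    intro m hm x hx
    have hcS : m * x * m⁻¹ ∈ centralizer ((S : Subgroup G) : Set G) := mem_centralizer_iff.mpr fun y hy => by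
      have h1 := mem_centralizer_iff.mp hx.2 _ ((mem_normalizer_iff''.mp (hMS hm) y).mp hy)
      calc y * (m * x * m⁻¹) = m * (m⁻¹ * y * m * x) * m⁻¹ := by group
        _ = m * (x * (m⁻¹ * y * m)) * m⁻¹ := by rw [h1]
        _ = m * x * m⁻¹ * y := by group
    exact ⟨hA.mem_of_centralizes hG hU (Subgroup.centralizer_le hAS hcS)
      (by rw [conj_pow, hA.1.2 x hx.1]; group), hcS⟩
  have hXb : X ≠ ⊥ := by
    have hSb : (S : Subgroup G) ≠ ⊥ := fun h => hA.ne_bot (le_bot_iff.mp (h ▸ hAS))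
    have : Nontrivial (S : Subgroup G) := (nontrivial_iff_ne_bot _).mpr hSb
    obtain ⟨j, hj⟩ := IsPGroup.iff_card.mp (S.2.to_subgroup (center (S : Subgroup G)))
    have hj0 : j ≠ 0 := by
      rintro rfl
      have h1 : 1 < Nat.card (center (S : Subgroup G)) := by
        have := S.2.center_nontrivial
        exact Finite.one_lt_card
      rw [hj, pow_zero] at h1
      omega
    obtain ⟨z, hz⟩ := exists_prime_orderOf_dvd_card' p ((dvd_pow_self p hj0).trans hj.symm.dvd)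
    have hzc : ((z : (S : Subgroup G)) : G) ∈ centralizer ((S : Subgroup G) : Set G) :=
      mem_centralizer_iff.mpr fun x hx => congrArg Subtype.val (mem_center_iff.mp z.2 ⟨x, hx⟩)
    intro hb'
    have h1 : ((z : (S : Subgroup G)) : G) ∈ X := ⟨hA.mem_of_centralizes hG hU (Subgroup.centralizer_le hAS hzc)
      (orderOf_dvd_iff_pow_eq_one.mp (by rw [orderOf_coe, orderOf_coe, hz])), hzc⟩
    rw [hb', mem_bot] at h1
    have h2 := congrArg orderOf h1
    rw [orderOf_one, orderOf_coe, orderOf_coe, hz] at h2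
    exact (Fact.out : p.Prime).ne_one h2
  refine (Subgroup.centralizer_le (inf_le_left : X ≤ A)).trans ((Subgroup.centralizer_le_normalizer _).trans ?_)
  rcases hMX.lt_or_eq with h' | h'
  · exact absurd (hM.2 _ h') (TransitivityHyp.normalizer_ne_top hG hXb
      (Uniqueness.ne_top_of_pGroup hG (hA.isPGroup.to_le inf_le_left)))
  · exact h'.ge

end CfsgLib.TwoGroups.TauTwo
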