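import Cfsg.Agent.Lib.TwoGroups.BenderUnique
import Cfsg.Agent.Lib.OddLocal.RankThree

/-!
Owner: helper12. Uniqueness for maximal subgroups with a large Fitting subgroup.
-/

set_option autoImplicit false

namespace CfsgLib.TwoGroups.LargeFitting

open Subgroup CfsgLib.TwoGroups.Transitivity CfsgLib.TwoGroups.Bender

variable {G : Type*} [Group G] [Finite G]

omit [Finite G] in
theorem le_normalizer_map_conj {E U : Subgroup G} {g : G} (hg : g ∈ normalizer (E : Set G))
    (hU : E ≤ normalizer (U : Set G)) :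
    E ≤ normalizer (U.map (MulAut.conj g).toMonoidHom : Set G) := by
  intro e he
  rw [mem_normalizer_iff]
  intro y
  rw [Transfer.mem_map_conj, Transfer.mem_map_conj,
    show g⁻¹ * (e * y * e⁻¹) * g = (g⁻¹ * e * g) * (g⁻¹ * y * g) * (g⁻¹ * e * g)⁻¹ by group]
  exact mem_normalizer_iff.mp (hU ((mem_normalizer_iff''.mp hg e).mp he)) _

/-- The local signalizers give a unique maximal invariant `q`-subgroup. -/
theorem maxInv_unique {p q : ℕ} [Fact p.Prime] [Fact q.Prime] {E A : Subgroup G} (hqp : q ≠ p)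
    (hA : Cfsg.IsElementaryAbelian p A) (hA3 : p ^ 3 ≤ Nat.card A) (hAE : A ≤ E)
    (hEA : E ≤ centralizer (A : Set G))
    (hbig : ∀ a ∈ A, a ≠ 1 → ∃ T : Subgroup G, IsPGroup q T ∧ E ≤ normalizer (T : Set G) ∧
      ∀ Y : Subgroup G, Y ≤ centralizer {a} → IsPGroup q Y → E ≤ normalizer (Y : Set G) → Y ≤ T)
    {Q₁ Q₂ : Subgroup G} (hQ₁ : IsMaxInv E q Q₁) (hQ₂ : IsMaxInv E q Q₂) : Q₁ = Q₂ := by
  suffices key : ∀ n : ℕ, ∀ Q₁ Q₂ : Subgroup G, IsMaxInv E q Q₁ → IsMaxInv E q Q₂ →
      Nat.card G - Nat.card ↥(Q₁ ⊓ Q₂) = n → Q₁ = Q₂ from key _ Q₁ Q₂ hQ₁ hQ₂ rfl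
  intro n
  induction n using Nat.strong_induction_on with
  | _ n ih =>
    intro Q₁ Q₂ hQ₁ hQ₂ hn
    by_cases h1 : Q₁ ⊓ Q₂ = Q₁
    · exact (hQ₁.2.2 Q₂ hQ₂.1 hQ₂.2.1 (h1 ▸ inf_le_right)).symm
    by_cases h2 : Q₁ ⊓ Q₂ = Q₂
    · exact hQ₂.2.2 Q₁ hQ₁.1 hQ₁.2.1 (h2 ▸ inf_le_left)
    obtain hD : ∃ D, D = Q₁ ⊓ Q₂ := ⟨_, rfl⟩
    obtain ⟨D, hD⟩ := hD
    obtain ⟨a, ha, ha1, hg1, hg2⟩ := Signalizer.exists_common_growth hA hA3 hqp hQ₁.1 hQ₂.1
      (hAE.trans hQ₁.2.1) (hAE.trans hQ₂.2.1) h1 h2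
    rw [← hD] at hg1 hg2 hn
    obtain ⟨T, hT, hET, hTY⟩ := hbig a ha ha1
    have hEa : E ≤ centralizer ({a} : Set G) := hEA.trans
      (centralizer_le (Set.singleton_subset_iff.mpr ha))
    have hED : E ≤ normalizer (D : Set G) :=
      hD ▸ (le_inf hQ₁.2.1 hQ₂.2.1).trans inf_normalizer_le_normalizer_inf
    have hmem : ∀ Q : Subgroup G, IsMaxInv E q Q →
        normalizer (D : Set G) ⊓ Q ⊓ centralizer {a} ≤ T ⊓ normalizer (D : Set G) := fun Q hQ =>
      le_inf (hTY _ inf_le_right (hQ.1.to_le (inf_le_left.trans inf_le_right))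
        ((le_inf ((le_inf (hED.trans le_normalizer) hQ.2.1).trans inf_normalizer_le_normalizer_inf)
          (hEa.trans le_normalizer)).trans inf_normalizer_le_normalizer_inf))
        (inf_le_left.trans inf_le_left)
    obtain ⟨Q₃, hle, hQ₃⟩ := exists_maxInv (E := E)
      (Components.isPGroup_sup (inf_le_right : T ⊓ normalizer (D : Set G) ≤ _)
        (hQ₁.1.to_le (hD ▸ inf_le_left)) (hT.to_le inf_le_left))
      ((le_inf hED ((le_inf hET (hED.trans le_normalizer)).trans
        inf_normalizer_le_normalizer_inf)).trans (normalizer_inf_normalizer_le_normalizer_sup _ _))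
    have hcard : ∀ {U V : Subgroup G}, D < U ⊓ V → Nat.card G - Nat.card ↥(U ⊓ V) < n := by
      intro U V hlt
      have := CfsgLib.Transfer.card_lt_of_lt hlt
      have := Subgroup.card_le_card_group (U ⊓ V)
      omega
    have hgrow : ∀ Q : Subgroup G, IsMaxInv E q Q → D ≤ Q →
        ¬ (normalizer (D : Set G) ⊓ Q ⊓ centralizer {a} ≤ D) → D < Q ⊓ Q₃ := by
      intro Q hQ hDQ hg
      refine lt_of_le_of_ne (le_inf hDQ (le_sup_left.trans hle)) fun e => hg ?_
      exact fun x hx => e.ge ⟨hx.1.2, hle (mem_sup_right (hmem Q hQ hx))⟩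
    have e1 := ih _ (hcard (hgrow Q₁ hQ₁ (hD ▸ inf_le_left) hg1)) _ _ hQ₁ hQ₃ rfl
    have e2 := ih _ (hcard (hgrow Q₂ hQ₂ (hD ▸ inf_le_right) hg2)) _ _ hQ₂ hQ₃ rfl
    exact e1.trans e2.symm

/-- A unique maximal invariant `q`-subgroup normalised by a maximal subgroup is trivial. -/
theorem eq_bot_of_normalized (hG : Cfsg.IsMinSimpleOddOrder G) {M : Subgroup G} (hM : IsCoatom M)
    {q : ℕ} [Fact q.Prime] (hqF : ¬ q ∣ Nat.card (Cfsg.fittingOf M)) {Q : Subgroup G}
    (hQ : IsPGroup q Q) (hMQ : M ≤ normalizer (Q : Set G)) : Q = ⊥ := by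
  by_contra hne
  have hQM : Q ≤ M := by
    refine le_normalizer.trans ?_
    rcases hMQ.lt_or_eq with h | h
    · exact absurd (hM.2 _ h) (TransitivityHyp.normalizer_ne_top hG hne
        (Uniqueness.ne_top_of_pGroup hG hQ))
    · exact h.ge
  have hn : (Q.subgroupOf M).Normal := normal_subgroupOf_of_le_normalizer hMQ
  have hle : Q ≤ part q M := fun x hx =>
    ⟨⟨x, hQM hx⟩, Components.le_pCore hn hQ.comap_subtype hx, rfl⟩
  exact hqF (dvd_of_part_ne_bot fun hb => hne (le_bot_iff.mp (hb ▸ hle)))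

/-- The largest invariant `q`-subgroup is trivial. -/
theorem eq_bot_of_largest (hG : Cfsg.IsMinSimpleOddOrder G) {M : Subgroup G} (hM : IsCoatom M)
    {q : ℕ} [Fact q.Prime] (hqF : ¬ q ∣ Nat.card (Cfsg.fittingOf M)) {E Q : Subgroup G}
    (hE : E ≤ Cfsg.fittingOf M) (hQ : IsPGroup q Q) (hEQ : E ≤ normalizer (Q : Set G))
    (hmax : ∀ Y : Subgroup G, IsPGroup q Y → E ≤ normalizer (Y : Set G) → Y ≤ Q) : Q = ⊥ := by
  refine eq_bot_of_normalized hG hM hqF hQ ?_
  set F := Cfsg.fittingOf M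
  have key : ∀ g : G, E ≤ normalizer (Q.map (MulAut.conj g).toMonoidHom : Set G) →
      g ∈ normalizer (Q : Set G) := by
    intro g hg
    exact Transfer.map_conj_eq_self_iff.mp (eq_of_le_of_card_ge (hmax _ (hQ.map _) hg)
      (Transfer.card_map_conj _ _).ge)
  have hFQ : F ≤ normalizer (Q : Set G) := by
    by_contra hFQ
    have hlt : F ⊓ normalizer (Q : Set G) < F :=
      lt_of_le_of_ne inf_le_left fun h => hFQ (h ▸ inf_le_right)
    set X := F ⊓ normalizer (Q : Set G) with hX
    have := isNilpotent_fittingOf M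
    obtain ⟨y, hy, hyn⟩ : ∃ y ∈ F, y ∈ normalizer (X : Set G) ∧ y ∉ X := by
      by_contra hno
      push Not at hno
      have heq : X.subgroupOf F = ⊤ := by
        have : Group.IsNilpotent ↥F := inferInstance
        have hnc : NormalizerCondition ↥F := normalizerCondition_of_isNilpotent
        refine normalizerCondition_iff_only_full_group_self_normalizing.mp hnc _
          (le_antisymm ?_ le_normalizer)
        intro z hz
        have h := le_normalizer_map F.subtype ⟨z, hz, rfl⟩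
        rw [map_subgroupOf_eq_of_le inf_le_left] at h
        exact hno (z : G) z.2 h
      exact hlt.not_ge (subgroupOf_eq_top.mp heq)
    refine hyn.2 ⟨hy, key y ?_⟩
    exact le_trans (le_inf hE hEQ) (le_normalizer_map_conj hyn.1 inf_le_right)
  intro h hh
  exact key h (hE.trans (le_normalizer_map_conj (le_normalizer_fittingOf M hh) hFQ))

/-- Reduction to invariant subgroups of prime power order. -/
theorem eq_bot_of_primes {E : Subgroup G} (hE : Group.IsSolvable E) {Y : Subgroup G}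
    (hEY : E ≤ normalizer (Y : Set G)) (hcop : (Nat.card E).Coprime (Nat.card Y))
    (h : ∀ q : ℕ, q.Prime → q ∣ Nat.card Y → ∀ S : Subgroup G, IsPGroup q S →
      E ≤ normalizer (S : Set G) → S = ⊥) : Y = ⊥ := by
  by_contra hne
  obtain ⟨q, hq, hqd⟩ := Nat.exists_prime_and_dvd (n := Nat.card Y) fun h1 =>
    hne (eq_bot_of_card_eq Y h1)
  have := Fact.mk hq
  obtain ⟨S, hS⟩ := Core.exists_invariant_sylow hEY hcop (Or.inl hE) q
  have hb := h q hq hqd _ (S.2.map _) hS
  exact S.ne_bot_of_dvd_card hqd ((map_eq_bot_iff_of_injective _ Y.subtype_injective).mp hb)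

/-- The case of several primes. -/
theorem inUniqueMaximal_inf_centralizer (hG : Cfsg.IsMinSimpleOddOrder G) {M : Subgroup G}
    (hM : IsCoatom M) {p : ℕ} [Fact p.Prime] {A : Subgroup G} (hA : A ≤ Cfsg.fittingOf M)
    (hAe : Cfsg.IsElementaryAbelian p A) (hA3 : p ^ 3 ≤ Nat.card A)
    (hnp : ¬ IsPGroup p ↥(Cfsg.fittingOf M)) :
    Cfsg.InUniqueMaximal (Cfsg.fittingOf M ⊓ centralizer (A : Set G)) := by
  set F := Cfsg.fittingOf M with hF
  set C := F ⊓ centralizer (A : Set G) with hC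
  have hAC : A ≤ C := le_inf hA fun x hx =>
    mem_centralizer_iff.mpr fun y hy => Signalizer.elementary_comm hAe hy hx
  have hpA : p ∣ Nat.card A := by
    obtain ⟨k, hk⟩ := IsPGroup.iff_card.mp (Signalizer.elementary_isPGroup hAe)
    have hk0 : k ≠ 0 := by
      rintro rfl
      rw [pow_zero] at hk
      have := (Nat.one_lt_pow (by omega : 3 ≠ 0) (Fact.out : p.Prime).one_lt).trans_le hA3
      omega
    exact hk ▸ dvd_pow_self p hk0
  have hpF : p ∣ Nat.card F := hpA.trans (card_dvd_of_le hA)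
  have hF2 : 2 ≤ (Nat.card F).primeFactors.card := by
    by_contra h2
    push Not at h2
    refine hnp (IsPGroup.of_card (n := (Nat.card F).primeFactorsList.length)
      (Nat.eq_prime_pow_of_unique_prime_dvd Nat.card_pos.ne' fun {d} hd hdd => ?_))
    exact Finset.card_le_one.mp (by omega) d (Nat.mem_primeFactors.mpr ⟨hd, hdd, Nat.card_pos.ne'⟩)
      p (Nat.mem_primeFactors.mpr ⟨Fact.out, hpF, Nat.card_pos.ne'⟩)
  have hCF : C ≤ F := inf_le_left
  have hCC : F ⊓ centralizer (C : Set G) ≤ C :=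
    le_inf inf_le_left (inf_le_right.trans (centralizer_le hAC))
  have hZC : F ⊓ centralizer (F : Set G) ≤ C := le_inf inf_le_left
    (inf_le_right.trans (centralizer_le hA))
  have hCt : C ≠ ⊤ := fun h => hM.1 (top_le_iff.mp (h.ge.trans (hCF.trans (fittingOf_le M))))
  have hinv : ∀ Y ∈ Cfsg.invSubgroups ⊤ C (Cfsg.primesNotDvd (Nat.card F)), Y = ⊥ := by
    rintro Y ⟨-, hYπ, hCY⟩
    refine eq_bot_of_primes (hG.2.2.2 C hCt) hCY ?_ fun q hq hqd S hS hCS => ?_
    · exact Nat.coprime_of_dvd fun k hk hkC hkY => (hYπ k hk hkY).2 (hkC.trans (card_dvd_of_le hCF))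
    · have := Fact.mk hq
      have hqF : ¬ q ∣ Nat.card F := (hYπ q hq hqd).2
      have hqp : q ≠ p := fun e => hqF (e ▸ hpF)
      have hbig : ∀ a ∈ A, a ≠ 1 → ∃ T : Subgroup G, IsPGroup q T ∧ C ≤ normalizer (T : Set G) ∧
          ∀ Z : Subgroup G, Z ≤ centralizer {a} → IsPGroup q Z → C ≤ normalizer (Z : Set G) →
            Z ≤ T := by
        intro a ha ha1
        obtain ⟨T, -, hT, hCT, hTmax, -, -⟩ := exists_largest (R := centralizer ({a} : Set G)) (q := q)
          hF2 hqF (fun r hr hd => have := Fact.mk hr; (centralizer_zPart_le hG hM hd).2) hCF hCC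
          (hG.2.2.2 _ (TransitivityHyp.centralizer_singleton_ne_top hG ha1))
          ((inf_le_right.trans (centralizer_le (Set.singleton_subset_iff.mpr ha))).trans le_normalizer)
          ((inf_le_right.trans (centralizer_le (Set.singleton_subset_iff.mpr (hA ha)))).trans
            le_normalizer)
        exact ⟨T, hT, hCT, hTmax⟩
      obtain ⟨Q, hSQ, hQ⟩ := exists_maxInv (E := C) hS hCS
      refine le_bot_iff.mp (hSQ.trans (eq_bot_of_largest hG hM hqF hCF hQ.1 hQ.2.1 ?_).le)
      intro Z hZ hCZ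
      obtain ⟨Q', hZQ', hQ'⟩ := exists_maxInv (E := C) hZ hCZ
      exact (maxInv_unique hqp hAe hA3 hAC inf_le_right hbig hQ hQ') ▸ hZQ'
  exact ⟨M, ⟨hM, hCF.trans (fittingOf_le M)⟩, fun L hL =>
    eq_of_invariant hG hM hF2 hZC hinv hL.1 hL.2⟩

/-- A maximal subgroup whose Fitting subgroup is a `p`-group has trivial `p'`-core. -/
theorem pPrimeCore_eq_bot (hG : Cfsg.IsMinSimpleOddOrder G) {M : Subgroup G} (hM : IsCoatom M)
    {p : ℕ} [Fact p.Prime] (hFp : IsPGroup p ↥(Cfsg.fittingOf M)) :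
    Cfsg.pPrimeCore p ↥M = ⊥ := by
  have hsol := hG.2.2.2 M hM.1
  by_contra hne
  have hOc := Core.coprime_card_pPrimeCore p ↥M
  have hcen : Cfsg.pPrimeCore p ↥M ≤ centralizer (Cfsg.fittingSubgroup ↥M : Set ↥M) := by
    have := Components.fitting_characteristic (G := ↥M)
    have := Components.pPrimeCore_characteristic (G := ↥M) p
    refine commutator_eq_bot_iff_le_centralizer.mp (le_bot_iff.mp ?_)
    refine (commutator_le_inf _ _).trans (le_of_eq (disjoint_of_coprime_natCard ?_).eq_bot)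
    obtain ⟨k, hk⟩ := IsPGroup.iff_card.mp hFp
    rw [Cfsg.fittingOf, card_map_of_injective M.subtype_injective] at hk
    rw [hk]
    exact hOc.pow_right k
  have hle := hcen.trans Components.centralizer_fitting_le_of_isSolvable
  obtain ⟨k, hk⟩ := IsPGroup.iff_card.mp hFp
  rw [Cfsg.fittingOf, card_map_of_injective M.subtype_injective] at hk
  refine hne (eq_bot_of_card_eq _ (Nat.eq_one_of_dvd_coprimes (hOc.pow_right k) dvd_rfl ?_))
  exact (card_dvd_of_le hle).trans hk.dvd

/-- The case of one prime: the Sylow subgroups. -/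
theorem sylow_facts (hG : Cfsg.IsMinSimpleOddOrder G) {M : Subgroup G} (hM : IsCoatom M)
    {p : ℕ} [Fact p.Prime] (hp2 : p ≠ 2) (hFp : IsPGroup p ↥(Cfsg.fittingOf M))
    {R : Subgroup G} (hR : IsPGroup p R) (hRM : R ≤ M) (hRne : R ≠ ⊥)
    (hmax : ∀ R' : Subgroup G, IsPGroup p R' → R' ≤ M → R ≤ R' → R' = R) :
    normalizer (Cfsg.centerThompsonOf p R : Set G) = M ∧
      ∀ R' : Subgroup G, IsPGroup p R' → R ≤ R' → R' = R := by
  set Z := Cfsg.centerThompsonOf p R with hZ
  have hZR : Z ≤ R := OddLocal.centerThompson_le R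
  have hsol := hG.2.2.2 M hM.1
  have hcore := pPrimeCore_eq_bot hG hM hFp
  obtain ⟨S, hS⟩ := Uniqueness.exists_sylow_eq (G := ↥M) (hR.comap_subtype (K := M))
    (fun R' hR' hle => by
      have e := hmax (R'.map M.subtype) (hR'.map _) (map_subtype_le R') (fun y hy =>
        ⟨⟨y, hRM hy⟩, hle hy, rfl⟩)
      rw [← e, comap_map_eq_self_of_injective M.subtype_injective])
  have hn := OddLocal.centerThompson_sup_normal (hG.1.of_dvd_nat M.card_subgroup_dvd_card) hp2 S
  rw [hcore, sup_bot_eq] at hn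
  have hZM : Z.subgroupOf M = Cfsg.centerThompsonOf p (S : Subgroup ↥M) := by
    apply map_injective M.subtype_injective
    rw [map_subgroupOf_eq_of_le (hZR.trans hRM), OddLocal.centerThompson_map M.subtype _ (by
      rw [M.ker_subtype]; exact disjoint_bot_right), hS,
      show (R.comap M.subtype).map M.subtype = R from map_subgroupOf_eq_of_le hRM]
  rw [← hZM] at hn
  have hMZ : M ≤ normalizer (Z : Set G) :=
    (normal_subgroupOf_iff_le_normalizer (hZR.trans hRM)).mp hn
  have hNM : normalizer (Z : Set G) = M := by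
    rcases hMZ.lt_or_eq with h | h
    · exact absurd (hM.2 _ h) (TransitivityHyp.normalizer_ne_top hG
        (Transfer.centerThompsonOf_ne_bot hR hRne)
        (Uniqueness.ne_top_of_pGroup hG (hR.to_le hZR)))
    · exact h.symm
  refine ⟨hNM, fun R' hR' hle => ?_⟩
  by_contra hne
  have hlt := Uniqueness.isPGroup_lt_inf hR' (lt_of_le_of_ne hle (Ne.symm hne))
  rw [hmax _ (hR'.to_le inf_le_left)
    ((inf_le_right.trans (OddLocal.normalizer_le_normalizer_centerThompson R)).trans hNM.le)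
    (le_inf hle le_normalizer)] at hlt
  exact lt_irrefl _ hlt

/-- The case of one prime. -/
theorem pGroup_case (hG : Cfsg.IsMinSimpleOddOrder G) {M : Subgroup G} (hM : IsCoatom M)
    {p : ℕ} [Fact p.Prime] (hFp : IsPGroup p ↥(Cfsg.fittingOf M)) {P A : Subgroup G}
    (hP : IsPGroup p P) (hPM : P ≤ M)
    (hPmax : ∀ R : Subgroup G, IsPGroup p R → R ≤ M → P ≤ R → R = P)
    (hA : Cfsg.IsSCN P A) (hA3 : ¬ Cfsg.PRankLE p 2 ↥A) :
    A ≤ Cfsg.fittingOf M ∧ Cfsg.InUniqueMaximal A := by
  obtain ⟨hAP, hPA, hCA⟩ := id hA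
  have hAc : IsMulCommutative A := ⟨⟨fun a b => Subtype.ext
    (mem_centralizer_iff.mp (hCA.ge b.2).2 a a.2)⟩⟩
  have hAp : IsPGroup p A := hP.to_le hAP
  obtain ⟨B, hBA, hB, hB3⟩ := Uniqueness.exists_elementary_of_not_rank hA3
  have hpG : p ∣ Nat.card G :=
    Uniqueness.prime_dvd_of_elementary hB ((Nat.le_self_pow (by omega) p).trans hB3)
  have hp2 : p ≠ 2 := Uniqueness.odd_prime hG hpG
  have hAne : A ≠ ⊥ := by
    rintro rfl
    exact hA3 fun E _ _ => by
      rw [Subsingleton.elim E ⊥, card_bot]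
      exact Nat.one_le_pow _ _ (Fact.out : p.Prime).pos
  have hPne : P ≠ ⊥ := fun h => hAne (le_bot_iff.mp (h ▸ hAP))
  obtain ⟨hNP, hPG⟩ := sylow_facts hG hM hp2 hFp hP hPM hPne hPmax
  obtain ⟨S, hS⟩ := Uniqueness.exists_sylow_eq hP hPG
  have hsol := hG.2.2.2 M hM.1
  have hodd : Odd (Nat.card M) := hG.1.of_dvd_nat M.card_subgroup_dvd_card
  set F := Cfsg.fittingOf M with hF
  have hFc : centralizer (F : Set G) ≤ F := by
    have hFt : F ≠ ⊤ := fun h => hM.1 (top_le_iff.mp (h.ge.trans (fittingOf_le M)))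
    by_cases hb : centralizer (F : Set G) = ⊥
    · rw [hb]; exact bot_le
    have hMC : M ≤ normalizer (centralizer (F : Set G) : Set G) :=
      (le_normalizer_fittingOf M).trans (Transfer.normalizer_le_normalizer_centralizer _)
    have hCM : centralizer (F : Set G) ≤ M := by
      refine le_normalizer.trans ?_
      rcases hMC.lt_or_eq with h | h
      · exact absurd (hM.2 _ h) (TransitivityHyp.normalizer_ne_top hG hb fun ht => by
          by_cases hFb : F = ⊥
          · have hle := Components.centralizer_fitting_le_of_isSolvable (G := ↥M)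
            rw [hF, Cfsg.fittingOf, map_eq_bot_iff_of_injective _ M.subtype_injective] at hFb
            rw [hFb] at hle
            refine hAne (le_bot_iff.mp fun a ha => ?_)
            have : (⟨a, hPM (hAP ha)⟩ : ↥M) ∈ (⊥ : Subgroup ↥M) :=
              hle (by simp [mem_centralizer_iff])
            exact mem_bot.mpr (congrArg Subtype.val (mem_bot.mp this))
          · exact Uniqueness.centralizer_ne_top hG hFb ht)
      · exact h.ge
    intro x hx
    refine ⟨⟨x, hCM hx⟩, Components.centralizer_fitting_le_of_isSolvable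
      (mem_centralizer_iff.mpr fun y hy => Subtype.ext ?_), rfl⟩
    exact mem_centralizer_iff.mp hx (y : G) ⟨y, hy, rfl⟩
  have hcore := pPrimeCore_eq_bot hG hM hFp
  obtain ⟨SM, hSM⟩ := Uniqueness.exists_sylow_eq (G := ↥M) (hP.comap_subtype (K := M))
    (fun R hR hle => by
      have e := hPmax (R.map M.subtype) (hR.map _) (map_subtype_le R) (fun y hy =>
        ⟨⟨y, hPM hy⟩, hle hy, rfl⟩)
      rw [← e, comap_map_eq_self_of_injective M.subtype_injective])
  have hAM : A ≤ M := hAP.trans hPM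
  have hAF : A ≤ F := by
    have h := OddLocal.le_pCore_of_abelian hodd hp2 hcore (A := A.subgroupOf M) inferInstance
      (fun y hy => mem_normalizer_iff.mpr fun z => by
        have hyP : (y : G) ∈ P := by
          have := Core.pCore_le_sylow SM hy
          rw [hSM] at this
          exact this
        exact mem_normalizer_iff.mp (hPA hyP) (z : G))
    exact fun a ha => part_le_fittingOf p M ⟨⟨a, hAM ha⟩, h ha, rfl⟩
  refine ⟨hAF, ?_⟩
  -- the transitivity hypothesis
  have hTH : Cfsg.TransitivityHypothesis A := Cfsg.Agent.S1396.result hG p hpG A hAp hAc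
    (Or.inr ⟨S, hS ▸ hA, fun h => hA3 fun E hc he =>
      (h E hc he).trans (Nat.pow_le_pow_right (Fact.out : p.Prime).pos (by omega))⟩)
  have hpA : p ∣ Nat.card A := by
    obtain ⟨k, hk⟩ := IsPGroup.iff_card.mp hAp
    have hk0 : k ≠ 0 := by
      rintro rfl
      exact hAne (eq_bot_of_card_eq A (by simpa using hk))
    exact hk ▸ dvd_pow_self p hk0
  have hZ : ¬ Cfsg.RankLE 2 ↥(A ⊓ centralizer (A : Set G)) := by
    rw [inf_eq_left.mpr (le_centralizer_iff_isMulCommutative.mpr hAc)]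
    exact fun h => hA3 (h p Fact.out)
  have hFt : F ≠ ⊤ := fun h => hM.1 (top_le_iff.mp (h.ge.trans (fittingOf_le M)))
  have hinv : ∀ Y : Subgroup G, ¬ p ∣ Nat.card Y → A ≤ normalizer (Y : Set G) → Y = ⊥ := by
    intro Y hY hAY
    obtain ⟨ka, hka⟩ := IsPGroup.iff_card.mp hAp
    refine eq_bot_of_primes (hG.2.2.2 A hTH.2.1) hAY ?_ fun q hq hqd U hU hAU => ?_
    · rw [hka]
      exact ((Fact.out : p.Prime).coprime_iff_not_dvd.mpr hY).pow_left ka
    · have := Fact.mk hq
      have hqp : q ≠ p := fun e => hY (e ▸ hqd)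
      have hqA : ¬ q ∣ Nat.card A := by
        rw [hka]
        exact fun hd => hqp ((Nat.prime_dvd_prime_iff_eq hq Fact.out).mp (hq.dvd_of_dvd_pow hd))
      have hqF : ¬ q ∣ Nat.card F := by
        obtain ⟨k, hk⟩ := IsPGroup.iff_card.mp hFp
        rw [hk]
        exact fun hd => hqp ((Nat.prime_dvd_prime_iff_eq hq Fact.out).mp (hq.dvd_of_dvd_pow hd))
      have htr : TransitivityHyp.Trans A q A := fun Q₁ Q₂ h₁ h₂ =>
        TransitivityHyp.trans_of_rank_three hG hTH hqA hZ h₁ h₂
      have hsn : (A.subgroupOf F).IsSubnormal := by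
        have := isNilpotent_fittingOf M
        exact Core.isSubnormal_of_isNilpotent _
      obtain ⟨hmem, htrF⟩ := TransitivityHyp.good hG hTH hqA hFt (fun r hr hd => by
        obtain ⟨k, hk⟩ := IsPGroup.iff_card.mp hFp
        rw [hk] at hd
        rwa [(Nat.prime_dvd_prime_iff_eq hr Fact.out).mp (hr.dvd_of_dvd_pow hd)]) hAF hsn htr
      obtain ⟨Q, -, hQ⟩ := exists_maxInv (E := F) (q := q) (R := (⊥ : Subgroup G)) IsPGroup.of_bot
        (by intro x _; rw [mem_normalizer_iff]; simp)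
      have hKb : Cfsg.piCoreOf (Cfsg.primesNotDvd (Nat.card A)) (centralizer (F : Set G)) = ⊥ := by
        by_contra hne
        obtain ⟨r, hr, hd⟩ := Nat.exists_prime_and_dvd fun h1 => hne (eq_bot_of_card_eq _ h1)
        obtain ⟨k, hk⟩ := IsPGroup.iff_card.mp hFp
        have h1 : r ∣ Nat.card F := hd.trans (card_dvd_of_le ((map_subtype_le _).trans hFc))
        rw [hk] at h1
        rw [(Nat.prime_dvd_prime_iff_eq hr Fact.out).mp (hr.dvd_of_dvd_pow h1)] at hd
        exact (TransitivityHyp.isPiSubgroup_piCoreOf _ _ p Fact.out hd).2 hpA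
      have hMQ : M ≤ normalizer (Q : Set G) := by
        intro h hh
        have hhF := le_normalizer_fittingOf M hh
        obtain ⟨Q', hle, hQ'⟩ := exists_maxInv (E := F) (hQ.1.map (MulAut.conj h).toMonoidHom)
          (le_normalizer_map_conj hhF hQ.2.1)
        obtain ⟨c, hc, e⟩ := htrF Q Q' hQ hQ'
        rw [hKb, mem_bot] at hc
        subst hc
        rw [show Q.map (MulAut.conj (1 : G)).toMonoidHom = Q by
          ext x; rw [Transfer.mem_map_conj]; simp] at e
        subst e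
        exact Transfer.map_conj_eq_self_iff.mp (eq_of_le_of_card_ge hle
          (Transfer.card_map_conj _ _).ge)
      have hQb : Q = ⊥ := eq_bot_of_normalized hG hM hqF hQ.1 hMQ
      subst hQb
      obtain ⟨Q', hle, hQ'⟩ := exists_maxInv (E := A) hU hAU
      obtain ⟨c, -, e⟩ := TransitivityHyp.trans_of_rank_three hG hTH hqA hZ (hmem _ hQ) hQ'
      rw [Subgroup.map_bot] at e
      exact le_bot_iff.mp (hle.trans e.ge)
  -- uniqueness
  refine ⟨M, ⟨hM, hAM⟩, ?_⟩
  rintro L ⟨hL, hAL⟩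
  suffices hle : L ≤ M by
    rcases hle.lt_or_eq with h | h
    · exact absurd (hL.2 _ h) hM.1
    · exact h
  by_contra hbad
  obtain ⟨R, ⟨hR, hAR, hRM, L', hL', hRL, hLM⟩, hRmax⟩ := Set.exists_max_image
    {R : Subgroup G | IsPGroup p R ∧ A ≤ R ∧ R ≤ M ∧ ∃ L : Subgroup G, L ≠ ⊤ ∧ R ≤ L ∧ ¬ L ≤ M}
    (fun R => Nat.card R) (Set.toFinite _) ⟨A, hAp, le_rfl, hAM, L, hL.1, hAL, hbad⟩
  have hgood : ∀ R' : Subgroup G, IsPGroup p R' → R' ≤ M → A ≤ R' → Nat.card R < Nat.card R' →
      ∀ X : Subgroup G, X ≠ ⊤ → R' ≤ X → X ≤ M := by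
    intro R' hR' hR'M hAR' hlt X hX hRX
    by_contra hXM
    have := hRmax R' ⟨hR', hAR', hR'M, X, hX, hRX, hXM⟩
    omega
  have hRne : R ≠ ⊥ := fun h => hAne (le_bot_iff.mp (h ▸ hAR))
  set N := normalizer (Cfsg.centerThompsonOf p R : Set G) with hN
  have hRN : normalizer (R : Set G) ≤ N := OddLocal.normalizer_le_normalizer_centerThompson R
  have hNt : N ≠ ⊤ := TransitivityHyp.normalizer_ne_top hG
    (Transfer.centerThompsonOf_ne_bot hR hRne)
    (Uniqueness.ne_top_of_pGroup hG (hR.to_le (OddLocal.centerThompson_le R)))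
  have hNM : N ≤ M := by
    by_cases hmax : ∀ R' : Subgroup G, IsPGroup p R' → R' ≤ M → R ≤ R' → R' = R
    · exact (sylow_facts hG hM hp2 hFp hR hRM hRne hmax).1.le
    · push Not at hmax
      obtain ⟨R', hR', hR'M, hle, hne⟩ := hmax
      exact hgood _ (hR'.to_le inf_le_left) (inf_le_left.trans hR'M)
        (hAR.trans (le_inf hle le_normalizer))
        (Uniqueness.isPGroup_lt_inf hR' (lt_of_le_of_ne hle (Ne.symm hne))) N hNt
        (inf_le_right.trans hRN)
  have hmaxL : ∀ R' : Subgroup G, IsPGroup p R' → R' ≤ L' → R ≤ R' → R' = R := by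
    intro R' hR' hR'L hle
    by_contra hne
    exact hLM (hgood _ (hR'.to_le inf_le_left) ((inf_le_right.trans hRN).trans hNM)
      (hAR.trans (le_inf hle le_normalizer))
      (Uniqueness.isPGroup_lt_inf hR' (lt_of_le_of_ne hle (Ne.symm hne))) L' hL'
      (inf_le_left.trans hR'L))
  have := hG.2.2.2 L' hL'
  have hOb : Cfsg.pPrimeCore p ↥L' = ⊥ := by
    refine (map_eq_bot_iff_of_injective _ L'.subtype_injective).mp (hinv _ ?_ ?_)
    · rw [card_map_of_injective L'.subtype_injective]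
      exact (Nat.Prime.coprime_iff_not_dvd Fact.out).mp (Core.coprime_card_pPrimeCore p ↥L').symm
    · exact (hAR.trans hRL).trans (le_normalizer_map_subtype _)
  obtain ⟨T, hT⟩ := Uniqueness.exists_sylow_eq (G := ↥L') (hR.comap_subtype (K := L'))
    (fun R' hR' hle => by
      have e := hmaxL (R'.map L'.subtype) (hR'.map _) (map_subtype_le R') (fun y hy =>
        ⟨⟨y, hRL hy⟩, hle hy, rfl⟩)
      rw [← e, comap_map_eq_self_of_injective L'.subtype_injective])
  have hn := OddLocal.centerThompson_sup_normal (hG.1.of_dvd_nat L'.card_subgroup_dvd_card) hp2 T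
  rw [hOb, sup_bot_eq] at hn
  have hZR : Cfsg.centerThompsonOf p R ≤ L' := (OddLocal.centerThompson_le R).trans hRL
  have hZL : (Cfsg.centerThompsonOf p R).subgroupOf L' =
      Cfsg.centerThompsonOf p (T : Subgroup ↥L') := by
    apply map_injective L'.subtype_injective
    rw [map_subgroupOf_eq_of_le hZR, OddLocal.centerThompson_map L'.subtype _ (by
      rw [L'.ker_subtype]; exact disjoint_bot_right), hT,
      show (R.comap L'.subtype).map L'.subtype = R from map_subgroupOf_eq_of_le hRL]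
  rw [← hZL] at hn
  exact hLM (((normal_subgroupOf_iff_le_normalizer hZR).mp hn).trans hNM)

/-- A Fitting subgroup of rank three gives an elementary uniqueness subgroup of rank three. -/
theorem exists_rank_three (hG : Cfsg.IsMinSimpleOddOrder G) {M : Subgroup G} (hM : IsCoatom M)
    {p : ℕ} [Fact p.Prime] (hF : ¬ Cfsg.PRankLE p 2 ↥(Cfsg.fittingOf M)) :
    ∃ E : Subgroup G, Cfsg.InUniqueMaximal E ∧ Cfsg.IsElementaryAbelian p E ∧
      p ^ 3 ≤ Nat.card E := by
  obtain ⟨E, hEF, hE, hE3⟩ := Uniqueness.exists_elementary_of_not_rank hF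
  have hE2 : p ^ 2 ≤ Nat.card E :=
    (Nat.pow_le_pow_right (Fact.out : p.Prime).pos (by omega)).trans hE3
  by_cases hFp : IsPGroup p ↥(Cfsg.fittingOf M)
  · obtain ⟨T⟩ : Nonempty (Sylow p ↥M) := inferInstance
    set P := (T : Subgroup ↥M).map M.subtype with hP
    have hPp : IsPGroup p P := T.2.map _
    have hPmax : ∀ R : Subgroup G, IsPGroup p R → R ≤ M → P ≤ R → R = P := by
      intro R hR hRM hle
      have h := T.3 (Q := R.subgroupOf M) hR.comap_subtype (fun x hx => hle ⟨x, hx, rfl⟩)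
      rw [hP, ← h, map_subgroupOf_eq_of_le hRM]
    have hFP : Cfsg.fittingOf M ≤ P := by
      have := Components.fitting_characteristic (G := ↥M)
      refine map_mono (IsPGroup.le_sylow_of_normal ?_ T)
      exact hFp.of_injective ((Cfsg.fittingSubgroup ↥M).equivMapOfInjective M.subtype
        M.subtype_injective).toMonoidHom (MulEquiv.injective _)
    have hp2 : p ≠ 2 := Uniqueness.odd_prime hG
      (Uniqueness.prime_dvd_of_elementary hE ((Nat.le_self_pow (by omega) p).trans hE3))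
    have hr : ¬ Cfsg.PRankLE p 2 P := by
      intro h
      have h1 := h (E.subgroupOf P) ⟨⟨fun u v => Subtype.ext (Subtype.ext
        (Signalizer.elementary_comm hE u.2 v.2))⟩⟩ (fun a ha => Subtype.ext (hE.2 _ ha))
      rw [Nat.card_congr (subgroupOfEquivOfLe (hEF.trans hFP)).toEquiv] at h1
      have := (Nat.pow_lt_pow_right (Fact.out : p.Prime).one_lt (show 2 < 3 by omega)).trans_le hE3
      omega
    have hnc : ¬ IsCyclic P := fun h => Uniqueness.not_isCyclic_of_elementary hE hE2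
      (isCyclic_of_injective (inclusion (hEF.trans hFP)) (inclusion_injective _))
    obtain ⟨E₀, hEn, hE₀, hE₀2⟩ := Transfer.exists_normal_elementary_card_sq hp2 hPp hnc
    obtain ⟨A, -, hAn, hAc, hAC, hA3⟩ :=
      OddLocal.RankThree.exists_large_normal_abelian hp2 hPp hr E₀ hE₀ hE₀2
    set A' := A.map P.subtype with hA'
    have hA'3 : ¬ Cfsg.PRankLE p 2 ↥A' := by
      intro hk
      refine hA3 fun X hX hXe => ?_
      have e := A.equivMapOfInjective P.subtype P.subtype_injective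
      have := hk (X.map e.toMonoidHom) inferInstance (by
        rintro _ ⟨y, hy, rfl⟩
        rw [← map_pow, hXe y hy, map_one])
      rwa [card_map_of_injective e.injective] at this
    have hSCN : Cfsg.IsSCN P A' := by
      refine ⟨map_subtype_le _, fun x hx => ?_, le_antisymm (fun x hx => ?_)
        (le_inf (map_subtype_le _) ?_)⟩
      · exact le_normalizer_map P.subtype ⟨⟨x, hx⟩,
          (Core.le_normalizer_of_normal ⊤ A) (mem_top _), rfl⟩
      · refine ⟨⟨x, hx.1⟩, hAC.le (mem_centralizer_iff.mpr fun a ha => Subtype.ext ?_), rfl⟩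
        exact mem_centralizer_iff.mp hx.2 (a : G) ⟨a, ha, rfl⟩
      · rintro _ ⟨a, ha, rfl⟩
        refine mem_centralizer_iff.mpr ?_
        rintro _ ⟨b, hb, rfl⟩
        exact congrArg Subtype.val (mem_centralizer_iff.mp (hAC.ge ha) b hb)
    obtain ⟨-, hU⟩ := pGroup_case hG hM hFp hPp (map_subtype_le _) hPmax hSCN hA'3
    obtain ⟨B, hBA, hB, hB3⟩ := Uniqueness.exists_elementary_of_not_rank hA'3
    refine ⟨B, Uniqueness.inUniqueMaximal_of_centralizing hG hU hB
      ((Nat.pow_le_pow_right (Fact.out : p.Prime).pos (by omega)).trans hB3) ?_, hB, hB3⟩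
    exact hBA.trans (le_centralizer_iff_isMulCommutative.mpr (by
      have := hAc
      exact inferInstance))
  · have hU := inUniqueMaximal_inf_centralizer hG hM hEF hE hE3 hFp
    exact ⟨E, Uniqueness.inUniqueMaximal_of_centralizing hG hU hE hE2
      (le_centralizer_iff.mp inf_le_right), hE, hE3⟩

end CfsgLib.TwoGroups.LargeFitting
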