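import Cfsg.Agent.Lib.TwoGroups.UniqueLine
import Cfsg.Agent.Lib.TwoGroups.LargeFitting
import Cfsg.Agent.Lib.PGroups.ClassTwo

/-!
Owner: helper12. A prime with rank three in the Fitting subgroup of a maximal subgroup containing a
non-uniqueness subgroup `A` gives two lines normalised by `A`.
-/

set_option autoImplicit false

namespace CfsgLib.TwoGroups.TwoColours

open Subgroup
open scoped commutatorElement

variable {G : Type*} [Group G] [Finite G] {p q : ℕ} [Fact p.Prime] [Fact q.Prime]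

/-- All elementary subgroups of order `≥ q ^ 3` are uniqueness subgroups. -/
def Good (G : Type*) [Group G] (q : ℕ) : Prop :=
  ∀ E : Subgroup G, Cfsg.IsElementaryAbelian q E → q ^ 3 ≤ Nat.card E → Cfsg.InUniqueMaximal E

omit [Fact q.Prime] in
theorem rank_mono {X Y : Subgroup G} (hXY : X ≤ Y) (h : ¬ Cfsg.PRankLE q 2 X) :
    ¬ Cfsg.PRankLE q 2 Y := fun hY => h fun E hE hEe => by
  have := hY (E.map (inclusion hXY)) inferInstance (by
    rintro _ ⟨e, he, rfl⟩
    rw [← map_pow, hEe e he, map_one])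
  rwa [card_map_of_injective (inclusion_injective hXY)] at this

omit [Fact q.Prime] in
theorem elementary_sup_zpowers {W : Subgroup G} (hW : Cfsg.IsElementaryAbelian q W) {x : G}
    (hx : x ∈ centralizer (W : Set G)) (hxq : x ^ q = 1) :
    Cfsg.IsElementaryAbelian q (W ⊔ zpowers x) := by
  have hz : zpowers x ≤ centralizer (W : Set G) := zpowers_le.mpr hx
  refine ⟨le_centralizer_iff_isMulCommutative.mp (sup_le
      (le_centralizer_iff.mp (sup_le (le_centralizer_iff_isMulCommutative.mpr hW.1) hz))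
      (le_centralizer_iff.mp (sup_le (le_centralizer_iff.mp hz)
        (le_centralizer_iff_isMulCommutative.mpr inferInstance)))), fun a ha => ?_⟩
  obtain ⟨u, hu, v, hv, rfl⟩ := (Core.mem_sup_iff_mul'
    (hz.trans (centralizer_le_normalizer _))).mp (show a ∈ zpowers x ⊔ W by rwa [sup_comm])
  obtain ⟨i, rfl⟩ := hv
  have hcm : Commute u (x ^ i) :=
    (show Commute u x from mem_centralizer_iff.mp hx u hu).zpow_right i
  rw [hcm.mul_pow, hW.2 u hu, one_mul, ← zpow_natCast, ← zpow_mul, mul_comm, zpow_mul,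
    zpow_natCast, hxq, one_zpow]

/-- A noncyclic elementary subgroup centralised by rank three is a uniqueness subgroup. -/
theorem u_pair (hG : Cfsg.IsMinSimpleOddOrder G) (hg : Good G q) {E : Subgroup G}
    (hE : Cfsg.IsElementaryAbelian q E) (hE2 : q ^ 2 ≤ Nat.card E)
    (hr : ¬ Cfsg.PRankLE q 2 (centralizer (E : Set G))) : Cfsg.InUniqueMaximal E := by
  obtain ⟨F, hFC, hF, hF3⟩ := Uniqueness.exists_elementary_of_not_rank hr
  exact Uniqueness.inUniqueMaximal_of_centralizing hG (hg F hF hF3) hE hE2 (le_centralizer_iff.mp hFC)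

/-- An invariant `q`-group outside `Y` has a point outside `Y` fixed by a noncyclic subgroup. -/
theorem exists_fixed {B₀ X Y : Subgroup G} (hqp : q ≠ p) (hB₀ : Cfsg.IsElementaryAbelian p B₀)
    (hB₀c : Nat.card B₀ = p ^ 3) (hX : IsPGroup q X) (hBX : B₀ ≤ normalizer (X : Set G))
    (hXY : ¬ X ≤ Y) :
    ∃ B : Subgroup G, B ≤ B₀ ∧ p ^ 2 ≤ Nat.card B ∧ ¬ X ⊓ centralizer (B : Set G) ≤ Y := by
  by_contra hno
  push Not at hno
  have hp : p.Prime := Fact.out
  refine hXY (Signalizer.le_of_hyperplanes_le hB₀ ?_ hBX fun B hB hBi => hno B hB ?_)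
  · obtain ⟨k, hk⟩ := IsPGroup.iff_card.mp hX
    rw [hk]
    exact fun hd => hqp ((Nat.prime_dvd_prime_iff_eq hp Fact.out).mp (hp.dvd_of_dvd_pow hd)).symm
  · have h := (B.subgroupOf B₀).card_mul_index
    rw [Nat.card_congr (subgroupOfEquivOfLe hB).toEquiv, hB₀c] at h
    by_contra hlt
    push Not at hlt
    have : p ^ 3 < p ^ 3 := calc
      p ^ 3 = Nat.card B * B.relIndex B₀ := h.symm
      _ ≤ Nat.card B * p := Nat.mul_le_mul_left _ hBi
      _ < p ^ 2 * p := (Nat.mul_lt_mul_right hp.pos).2 hlt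
      _ = p ^ 3 := (pow_succ p 2).symm
    omega

/-- A line normalised by `A`, centralised by a noncyclic subgroup, with centraliser of rank three. -/
structure Line (p q : ℕ) (A B₀ B L : Subgroup G) : Prop where
  le : B ≤ B₀
  card_ge : p ^ 2 ≤ Nat.card B
  card : Nat.card L = q
  cent : L ≤ centralizer (B : Set G)
  norm : A ≤ normalizer (L : Set G)
  rank : ¬ Cfsg.PRankLE q 2 (centralizer (L : Set G))

variable {A B₀ : Subgroup G}

theorem card_eq_prime {F : Subgroup G} (hF : IsPGroup q F) (hne : F ≠ ⊥)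
    (hlt : Nat.card F < q ^ 2) : Nat.card F = q := by
  obtain ⟨k, hk⟩ := IsPGroup.iff_card.mp hF
  have hq : q.Prime := Fact.out
  rw [hk] at hlt
  have hk2 := (Nat.pow_lt_pow_iff_right hq.one_lt).mp hlt
  have hk0 : k ≠ 0 := by
    rintro rfl
    exact hne (eq_bot_of_card_eq F (hk.trans (pow_zero q)))
  rw [hk, show k = 1 by omega, pow_one]

/-- The elements of order `q` of the centre. -/
def omegaCenter (q : ℕ) (Q : Subgroup G) : Subgroup G where
  carrier := {x | x ∈ Q ∧ x ∈ centralizer (Q : Set G) ∧ x ^ q = 1}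
  one_mem' := ⟨one_mem _, one_mem _, one_pow _⟩
  mul_mem' := fun {a b} ha hb => ⟨mul_mem ha.1 hb.1, mul_mem ha.2.1 hb.2.1, by
    rw [(show Commute a b from mem_centralizer_iff.mp hb.2.1 a ha.1).mul_pow, ha.2.2, hb.2.2, one_mul]⟩
  inv_mem' := fun {a} ha => ⟨inv_mem ha.1, inv_mem ha.2.1, by rw [inv_pow, ha.2.2, inv_one]⟩

omit [Finite G] [Fact q.Prime] in
theorem omegaCenter_elementary (Q : Subgroup G) :
    Cfsg.IsElementaryAbelian q (omegaCenter q Q) :=
  ⟨⟨⟨fun a b => Subtype.ext (mem_centralizer_iff.mp b.2.2.1 a a.2.1)⟩⟩, fun _ hx => hx.2.2⟩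

/-- Two lines with a uniqueness product. -/
theorem exists_lines (hG : Cfsg.IsMinSimpleOddOrder G) (hg : Good G q) (hqp : q ≠ p)
    (hAc : IsMulCommutative A) (hB₀A : B₀ ≤ A) (hB₀ : Cfsg.IsElementaryAbelian p B₀)
    (hB₀c : Nat.card B₀ = p ^ 3)
    (hno : ∀ B W : Subgroup G, B ≤ B₀ → p ^ 2 ≤ Nat.card B → Cfsg.InUniqueMaximal W →
      ¬ W ≤ centralizer (B : Set G))
    {Q : Subgroup G} (hQ : IsPGroup q Q) (hQr : ¬ Cfsg.PRankLE q 2 Q)
    (hAQ : A ≤ normalizer (Q : Set G)) :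
    ∃ L₁ L₂ B₁ B₂ : Subgroup G, Line p q A B₀ B₁ L₁ ∧ Line p q A B₀ B₂ L₂ ∧
      Cfsg.InUniqueMaximal (L₁ ⊔ L₂) ∧ L₁ ⊔ L₂ ≤ Q ∧ L₁ ≤ centralizer (L₂ : Set G) := by
  classical
  have hq : q.Prime := Fact.out
  set Z := omegaCenter q Q with hZ
  have hZe : Cfsg.IsElementaryAbelian q Z := omegaCenter_elementary Q
  have hZQ : Z ≤ Q := fun x hx => hx.1
  have hQZ : Q ≤ centralizer (Z : Set G) := fun g hg =>
    mem_centralizer_iff.mpr fun z hz => (mem_centralizer_iff.mp hz.2.1 g hg).symm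
  have hAB : ∀ B : Subgroup G, B ≤ B₀ → A ≤ normalizer (centralizer (B : Set G) : Set G) := fun B hB =>
    ((le_centralizer_iff_isMulCommutative.mpr hAc).trans
      (centralizer_le (hB.trans hB₀A))).trans le_normalizer
  have hAZ : A ≤ normalizer (Z : Set G) := by
    have hkey : ∀ a ∈ normalizer (Q : Set G), ∀ x ∈ Z, a * x * a⁻¹ ∈ Z := fun a ha x hx =>
      ⟨(mem_normalizer_iff.mp ha x).mp hx.1,
        (mem_normalizer_iff.mp (Transfer.normalizer_le_normalizer_centralizer _ ha) x).mp hx.2.1,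
        by rw [conj_pow, hx.2.2, mul_one, mul_inv_cancel]⟩
    intro a ha
    exact mem_normalizer_iff.mpr fun x => ⟨hkey a (hAQ ha) x, fun hx => by
      simpa [mul_assoc] using hkey a⁻¹ (inv_mem (hAQ ha)) _ hx⟩
  have hfixed : ∀ X : Subgroup G, A ≤ normalizer (X : Set G) → ∀ B : Subgroup G, B ≤ B₀ →
      A ≤ normalizer ((X ⊓ centralizer (B : Set G) : Subgroup G) : Set G) := fun X hX B hB =>
    (le_inf hX (hAB B hB)).trans inf_normalizer_le_normalizer_inf
  have hQb : Q ≠ ⊥ := by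
    rintro rfl
    exact hQr fun E _ _ => by
      rw [Subsingleton.elim E ⊥, card_bot]
      exact Nat.one_le_pow _ _ hq.pos
  have hZb : Z ≠ ⊥ := by
    have : Nontrivial Q := (nontrivial_iff_ne_bot Q).mpr hQb
    obtain ⟨z, -, hzc, hzo⟩ := Transfer.exists_mem_center_orderOf_eq hQ (Z := (⊤ : Subgroup Q))
      (fun h => top_ne_bot h)
    intro hb
    have : (z : G) ∈ Z := ⟨z.2, mem_centralizer_iff.mpr fun g hg' =>
      congrArg Subtype.val (mem_center_iff.mp hzc ⟨g, hg'⟩),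
      by rw [← hzo, ← orderOf_coe, pow_orderOf_eq_one]⟩
    rw [hb, mem_bot] at this
    rw [← orderOf_coe, this, orderOf_one] at hzo
    exact hq.ne_one hzo.symm
  -- a fixed part of `Z` has order `q`
  have hline : ∀ B : Subgroup G, B ≤ B₀ → p ^ 2 ≤ Nat.card B → ∀ F : Subgroup G, F ≤ Z →
      F ≤ centralizer (B : Set G) → F ≠ ⊥ → Nat.card F = q := by
    intro B hB hB2 F hFZ hFC hFb
    refine card_eq_prime (hQ.to_le (hFZ.trans hZQ)) hFb ?_
    by_contra h
    push Not at h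
    exact hno B F hB hB2 (u_pair hG hg (Signalizer.elementary_of_le hZe hFZ) h
      (rank_mono (hQZ.trans (centralizer_le hFZ)) hQr)) hFC
  obtain ⟨B₁, hB₁, hB₁2, hF₁⟩ := exists_fixed (Y := ⊥) hqp hB₀ hB₀c (hQ.to_le hZQ) (hB₀A.trans hAZ)
    (fun h => hZb (le_bot_iff.mp h))
  set L₁ := Z ⊓ centralizer (B₁ : Set G) with hL₁def
  have hc₁ : Nat.card L₁ = q := hline B₁ hB₁ hB₁2 L₁ inf_le_left inf_le_right fun h => hF₁ h.le
  have hl₁ : Line p q A B₀ B₁ L₁ := ⟨hB₁, hB₁2, hc₁, inf_le_right, hfixed Z hAZ B₁ hB₁,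
    rank_mono (hQZ.trans (centralizer_le inf_le_left)) hQr⟩
  by_cases hZ1 : Z ≤ L₁
  swap
  · -- two lines inside `Z`
    obtain ⟨B₂, hB₂, hB₂2, hF₂⟩ := exists_fixed (Y := L₁) hqp hB₀ hB₀c (hQ.to_le hZQ)
      (hB₀A.trans hAZ) hZ1
    set L₂ := Z ⊓ centralizer (B₂ : Set G) with hL₂def
    have hc₂ : Nat.card L₂ = q := hline B₂ hB₂ hB₂2 L₂ inf_le_left inf_le_right
      fun h => hF₂ (h.le.trans bot_le)
    have hne : L₁ ≠ L₂ := fun h => hF₂ h.ge
    have hle : L₁ ⊔ L₂ ≤ Z := sup_le inf_le_left inf_le_left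
    have hcen : L₁ ≤ centralizer (L₂ : Set G) :=
      ((inf_le_left : L₁ ≤ Z).trans hZQ).trans (hQZ.trans (centralizer_le inf_le_left))
    refine ⟨L₁, L₂, B₁, B₂, hl₁, ⟨hB₂, hB₂2, hc₂, inf_le_right, hfixed Z hAZ B₂ hB₂,
      rank_mono (hQZ.trans (centralizer_le inf_le_left)) hQr⟩, ?_, hle.trans hZQ, hcen⟩
    have h := Core.card_sup_mul_card_inf L₁ L₂ (hcen.trans (centralizer_le_normalizer _))
    rw [UniqueLine.inf_eq_bot hc₁ hc₂ hne, card_bot, mul_one, hc₁, hc₂] at h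
    exact u_pair hG hg (Signalizer.elementary_of_le hZe hle) (by rw [h, sq])
      (rank_mono (hQZ.trans (centralizer_le hle)) hQr)
  -- `Z` is a line
  have hZL : Z = L₁ := le_antisymm hZ1 inf_le_left
  rw [← hZL] at hl₁
  have hZc : Nat.card Z = q := hZL ▸ hc₁
  have hq2 : q ≠ 2 := by
    refine Uniqueness.odd_prime hG ?_
    exact hZc ▸ Z.card_subgroup_dvd_card
  have hnc : ¬ IsCyclic Q := by
    intro hcyc
    obtain ⟨E, hEQ, hE, hE3⟩ := Uniqueness.exists_elementary_of_not_rank hQr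
    exact Uniqueness.not_isCyclic_of_elementary hE ((Nat.pow_le_pow_right hq.pos (by omega)).trans hE3)
      (isCyclic_of_injective (inclusion hEQ) (inclusion_injective hEQ))
  let D : Subgroup G :=
    { carrier := {x | x ∈ Q ∧ x ^ q = 1 ∧ ∀ g ∈ Q, ⁅x, g⁆ ∈ Z}
      one_mem' := ⟨one_mem _, one_pow _, fun g _ => by rw [commutatorElement_one_left]; exact one_mem _⟩
      mul_mem' := fun {x y} hx hy => by
        refine ⟨mul_mem hx.1 hy.1, ?_, fun g hg' => ?_⟩
        · have hcen : ⁅(⟨y, hy.1⟩ : Q), ⟨x, hx.1⟩⁆ ∈ center Q := mem_center_iff.mpr fun u =>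
            Subtype.ext (mem_centralizer_iff.mp (hy.2.2 x hx.1).2.1 u u.2)
          have h1 := PGroups.mul_pow_of_central hcen q
          set cm : Q := ⁅(⟨y, hy.1⟩ : Q), (⟨x, hx.1⟩ : Q)⁆ with hcm
          have hcq : cm ^ q = 1 := Subtype.ext (hy.2.2 x hx.1).2.2
          have h2 : cm ^ q.choose 2 = 1 := by
            obtain ⟨c, hc⟩ := hq.dvd_choose_self (k := 2) (by omega) (by
              have := hq.two_le; omega)
            rw [hc, pow_mul, hcq, one_pow]
          rw [h2, mul_one] at h1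
          have h3 := congrArg Subtype.val h1
          simpa [hx.2.1, hy.2.1] using h3
        · have h1 : ⁅x * y, g⁆ = x * ⁅y, g⁆ * x⁻¹ * ⁅x, g⁆ := by
            simp [commutatorElement_def, mul_assoc]
          rw [h1, mem_centralizer_iff.mp (hy.2.2 g hg').2.1 x hx.1, mul_inv_cancel_right]
          exact mul_mem (hy.2.2 g hg') (hx.2.2 g hg')
      inv_mem' := fun {x} hx => by
        refine ⟨inv_mem hx.1, by rw [inv_pow, hx.2.1, inv_one], fun g hg' => ?_⟩
        have h1 : ⁅x⁻¹, g⁆ = x⁻¹ * ⁅x, g⁆⁻¹ * x := by simp [commutatorElement_def, mul_assoc]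
        rw [h1, mem_centralizer_iff.mp (inv_mem (hx.2.2 g hg')).2.1 x⁻¹ (inv_mem hx.1),
          inv_mul_cancel_right]
        exact inv_mem (hx.2.2 g hg') }
  have hDQ : D ≤ Q := fun x hx => hx.1
  have hAD : A ≤ normalizer (D : Set G) := by
    have hkey : ∀ a ∈ A, ∀ x ∈ D, a * x * a⁻¹ ∈ D := fun a ha x hx =>
      ⟨(mem_normalizer_iff.mp (hAQ ha) x).mp hx.1,
        by rw [conj_pow, hx.2.1, mul_one, mul_inv_cancel], fun g hg' => by
          have h1 := (mem_normalizer_iff.mp (hAZ ha) _).mp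
            (hx.2.2 (a⁻¹ * g * a) ((mem_normalizer_iff''.mp (hAQ ha) g).mp hg'))
          rwa [show a * ⁅x, a⁻¹ * g * a⁆ * a⁻¹ = ⁅a * x * a⁻¹, g⁆ by
            simp [commutatorElement_def, mul_assoc]] at h1⟩
    intro a ha
    exact mem_normalizer_iff.mpr fun x => ⟨hkey a ha x, fun hx => by
      simpa [mul_assoc] using hkey a⁻¹ (inv_mem ha) _ hx⟩
  have hDZ : ¬ D ≤ Z := by
    intro hle
    obtain ⟨E₀, hE₀n, hE₀, hE₀2⟩ := Transfer.exists_normal_elementary_card_sq hq2 hQ hnc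
    set Z' := Z.subgroupOf Q with hZ'
    have hZ'n : Z'.Normal := normal_subgroupOf_of_le_normalizer (hQZ.trans (centralizer_le_normalizer _))
    have hne : E₀.map (QuotientGroup.mk' Z') ≠ ⊥ := by
      rw [Ne, Subgroup.map_eq_bot_iff, QuotientGroup.ker_mk']
      intro h
      have h1 := card_le_of_le h
      rw [hE₀2, hZ', Nat.card_congr (subgroupOfEquivOfLe hZQ).toEquiv, hZc, sq] at h1
      have := hq.one_lt
      nlinarith
    have hQ' : IsPGroup q (Q ⧸ Z') := hQ.to_quotient Z'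
    have := hQ'.isNilpotent
    have : (E₀.map (QuotientGroup.mk' Z')).Normal := hE₀n.map _ (QuotientGroup.mk'_surjective Z')
    obtain ⟨⟨w, ⟨x, hx, rfl⟩, hwc⟩, hw1⟩ :=
      Subgroup.ne_bot_iff_exists_ne_one.mp (Core.inf_center_ne_bot_of_isNilpotent _ hne)
    refine hw1 (Subtype.ext ((QuotientGroup.eq_one_iff x).mpr (hle ⟨x.2, ?_, fun g hg' => ?_⟩)))
    · exact congrArg Subtype.val (hE₀.2 x hx)
    · have h2 : ⁅QuotientGroup.mk' Z' x, QuotientGroup.mk' Z' ⟨g, hg'⟩⁆ = 1 :=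
        commutatorElement_eq_one_iff_mul_comm.mpr (mem_center_iff.mp hwc _).symm
      rw [← map_commutatorElement] at h2
      have h3 : ⁅x, (⟨g, hg'⟩ : Q)⁆ ∈ Z' := (QuotientGroup.eq_one_iff _).mp h2
      exact h3
  obtain ⟨B₂, hB₂, hB₂2, hF₂⟩ := exists_fixed (Y := Z) hqp hB₀ hB₀c (hQ.to_le hDQ) (hB₀A.trans hAD) hDZ
  set F := D ⊓ centralizer (B₂ : Set G) with hF
  obtain ⟨y, hyF, hyZ⟩ := SetLike.not_le_iff_exists.mp hF₂
  have hyD : y ∈ D := hyF.1
  have hy1 : y ≠ 1 := fun e => hyZ (e ▸ one_mem _)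
  have hyo : orderOf y = q := orderOf_eq_prime hyD.2.1 hy1
  -- `W = Z⟨y⟩` is normal in `Q`
  have hyc : y ∈ centralizer (Z : Set G) := hQZ hyD.1
  set W := Z ⊔ zpowers y with hW
  have hWe : Cfsg.IsElementaryAbelian q W := elementary_sup_zpowers hZe hyc hyD.2.1
  have hWQ : W ≤ Q := sup_le hZQ (zpowers_le.mpr hyD.1)
  have hQW : Q ≤ normalizer (W : Set G) := by
    intro g hg'
    refine Transfer.map_conj_eq_self_iff.mp (eq_of_le_of_card_ge ?_ (Transfer.card_map_conj _ _).ge)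
    rw [hW, Subgroup.map_sup, MonoidHom.map_zpowers]
    refine sup_le ?_ (zpowers_le.mpr ?_)
    · rintro _ ⟨z, hz, rfl⟩
      refine mem_sup_left ?_
      show g * z * g⁻¹ ∈ Z
      rw [← mem_centralizer_iff.mp (hQZ hg') z hz, mul_inv_cancel_right]
      exact hz
    · show g * y * g⁻¹ ∈ Z ⊔ zpowers y
      rw [show g * y * g⁻¹ = ⁅y, g⁆⁻¹ * y by simp [commutatorElement_def, mul_assoc]]
      exact mul_mem (mem_sup_left (inv_mem (hyD.2.2 g hg'))) (mem_sup_right (mem_zpowers y))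
  have hWc : Nat.card W = q ^ 2 := by
    have h := Core.card_sup_mul_card_inf (zpowers y) Z
      ((zpowers_le.mpr hyc).trans (centralizer_le_normalizer _))
    rw [UniqueLine.inf_eq_bot (by rw [Nat.card_zpowers, hyo]) hZc fun e => hyZ (e ▸ mem_zpowers y),
      card_bot, mul_one, Nat.card_zpowers, hyo, hZc, sup_comm] at h
    rw [hW, h, sq]
  have hWr : ¬ Cfsg.PRankLE q 2 (centralizer (W : Set G)) := by
    have : (W.subgroupOf Q).Normal := normal_subgroupOf_of_le_normalizer hQW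
    obtain ⟨A', hWA, -, hA'c, -, hA'3⟩ := OddLocal.RankThree.exists_large_normal_abelian hq2 hQ hQr
      (W.subgroupOf Q)
      ⟨⟨⟨fun a b => Subtype.ext (Subtype.ext (Signalizer.elementary_comm hWe a.2 b.2))⟩⟩,
        fun a ha => Subtype.ext (hWe.2 _ ha)⟩
      (by rw [Nat.card_congr (subgroupOfEquivOfLe hWQ).toEquiv, hWc])
    have hle : A'.map Q.subtype ≤ centralizer (W : Set G) := by
      rintro _ ⟨a, ha, rfl⟩
      refine mem_centralizer_iff.mpr fun w hw => ?_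
      exact congrArg (fun z : A' => ((z : Q) : G))
        (hA'c.is_comm.comm (⟨⟨w, hWQ hw⟩, hWA hw⟩ : A') ⟨a, ha⟩)
    refine rank_mono hle fun h => hA'3 fun X hX hXe => ?_
    have e := A'.equivMapOfInjective Q.subtype Q.subtype_injective
    have := h (X.map e.toMonoidHom) inferInstance (by
      rintro _ ⟨x, hx, rfl⟩
      rw [← map_pow, hXe x hx, map_one])
    rwa [card_map_of_injective e.injective] at this
  have hWU := u_pair hG hg hWe hWc.ge hWr
  have hfix : ¬ Z ≤ centralizer (B₂ : Set G) := fun h =>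
    hno B₂ W hB₂ hB₂2 hWU (sup_le h (zpowers_le.mpr hyF.2))
  have hFZ : F ⊓ Z = ⊥ := by
    rcases (Nat.dvd_prime hq).mp (hZc ▸ card_dvd_of_le (inf_le_right : F ⊓ Z ≤ Z)) with h | h
    · exact eq_bot_of_card_eq _ h
    · refine absurd ?_ hfix
      exact ((eq_of_le_of_card_ge inf_le_right (by rw [h, hZc])).ge.trans inf_le_left).trans inf_le_right
  have hFb : F ≠ ⊥ := fun h => hy1 (mem_bot.mp (h ▸ hyF))
  have hFc : Nat.card F = q := by
    refine card_eq_prime (hQ.to_le (inf_le_left.trans hDQ)) hFb ?_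
    by_contra h
    push Not at h
    have hFe : Cfsg.IsElementaryAbelian q F := by
      refine ⟨⟨⟨fun a b => Subtype.ext ?_⟩⟩, fun a ha => ha.1.2.1⟩
      refine commutatorElement_eq_one_iff_mul_comm.mp (mem_bot.mp (hFZ.le ⟨?_, a.2.1.2.2 b b.2.1.1⟩))
      rw [commutatorElement_def]
      exact mul_mem (mul_mem (mul_mem a.2 b.2) (Subgroup.inv_mem _ a.2)) (Subgroup.inv_mem _ b.2)
    obtain ⟨z, hz, hz1⟩ : ∃ z ∈ Z, z ≠ 1 := by
      obtain ⟨⟨z, hz⟩, hz1⟩ := Z.ne_bot_iff_exists_ne_one.mp hZb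
      exact ⟨z, hz, fun e => hz1 (Subtype.ext e)⟩
    have hzF : z ∈ centralizer (F : Set G) :=
      centralizer_le (inf_le_left.trans hDQ) hz.2.1
    have hFr : ¬ Cfsg.PRankLE q 2 (centralizer (F : Set G)) := by
      intro hr
      exact hz1 (mem_bot.mp (hFZ.le ⟨UniqueLine.mem_of_centralizes hFe h hr hzF hz.2.2, hz⟩))
    exact hno B₂ F hB₂ hB₂2 (u_pair hG hg hFe h hFr) inf_le_right
  have hFy : zpowers y = F := UniqueLine.eq_zpowers hFc hyF hy1
  refine ⟨Z, F, B₁, B₂, hl₁, ⟨hB₂, hB₂2, hFc, inf_le_right, hfixed D hAD B₂ hB₂,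
    rank_mono (centralizer_le (hFy ▸ le_sup_right : F ≤ W)) hWr⟩, ?_, ?_, ?_⟩
  · rw [← hFy]; exact hWU
  · rw [← hFy]; exact hWQ
  · intro z hz
    exact centralizer_le ((inf_le_left : F ≤ D).trans hDQ) hz.2.1

end CfsgLib.TwoGroups.TwoColours
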