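import Cfsg.Agent.Lib.TwoGroups.UniquenessChain
import Cfsg.Agent.Lib.LocalEvenB.CharP
import Cfsg.Agent.Lib.Components.FStar
import Cfsg.Agent.Lib.HallGen.Basic
import Cfsg.Agent.Lib.Core.Nilpotent

/-!
Owner: helper12. Bender's lemma on a Fitting subgroup with two prime divisors.
-/

set_option autoImplicit false

namespace CfsgLib.TwoGroups.Bender

open Subgroup
open scoped commutatorElement

variable {G : Type*} [Group G] [Finite G]

omit [Finite G] in
theorem le_normalizer_map_subtype {H : Subgroup G} (N : Subgroup H) [N.Normal] :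
    H ≤ normalizer (N.map H.subtype : Set G) := fun x hx =>
  le_normalizer_map H.subtype ⟨⟨x, hx⟩, Core.le_normalizer_of_normal ⊤ N (mem_top _), rfl⟩

/-- `O_p(H)` as a subgroup of `G`. -/
def part (p : ℕ) (H : Subgroup G) : Subgroup G := (Cfsg.pCore p ↥H).map H.subtype

/-- `O_p(Z(F(H)))` as a subgroup of `G`. -/
def zPart (p : ℕ) (H : Subgroup G) : Subgroup G :=
  Cfsg.fittingOf H ⊓ centralizer (Cfsg.fittingOf H : Set G) ⊓ part p H

omit [Finite G] in
theorem fittingOf_le (H : Subgroup G) : Cfsg.fittingOf H ≤ H := map_subtype_le _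

omit [Finite G] in
theorem part_le (p : ℕ) (H : Subgroup G) : part p H ≤ H := map_subtype_le _

theorem le_normalizer_fittingOf (H : Subgroup G) : H ≤ normalizer (Cfsg.fittingOf H : Set G) := by
  have := Components.fitting_characteristic (G := ↥H)
  exact le_normalizer_map_subtype _

theorem le_normalizer_part (p : ℕ) [Fact p.Prime] (H : Subgroup G) :
    H ≤ normalizer (part p H : Set G) := by
  have := Components.pCore_characteristic (G := ↥H) p
  exact le_normalizer_map_subtype _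

theorem isPGroup_part (p : ℕ) [Fact p.Prime] (H : Subgroup G) : IsPGroup p (part p H) :=
  (Core.isPGroup_pCore p ↥H).map _

theorem part_le_fittingOf (p : ℕ) [Fact p.Prime] (H : Subgroup G) :
    part p H ≤ Cfsg.fittingOf H := map_mono (Components.pCore_le_fitting p)

theorem isNilpotent_fittingOf (H : Subgroup G) : Group.IsNilpotent (Cfsg.fittingOf H) := by
  have := Components.fitting_isNilpotent (G := ↥H)
  exact Group.nilpotent_of_surjective
    ((Cfsg.fittingSubgroup ↥H).equivMapOfInjective H.subtype H.subtype_injective).toMonoidHom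
    (MulEquiv.surjective _)

theorem mem_part_of_mem {p k : ℕ} [Fact p.Prime] {H : Subgroup G} {x : G}
    (hx : x ∈ Cfsg.fittingOf H) (ho : orderOf x = p ^ k) : x ∈ part p H := by
  obtain ⟨y, hy, rfl⟩ := hx
  have hn : (Cfsg.fittingSubgroup ↥H).Normal := by
    have := Components.fitting_characteristic (G := ↥H)
    infer_instance
  refine ⟨y, HallGen.mem_pCore_of_mem_nilpotent_normal (k := k) hn Components.fitting_isNilpotent hy ?_, rfl⟩
  rwa [← orderOf_injective H.subtype H.subtype_injective]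

theorem le_normalizer_zPart (p : ℕ) [Fact p.Prime] (H : Subgroup G) :
    H ≤ normalizer (zPart p H : Set G) :=
  (le_inf ((le_inf (le_normalizer_fittingOf H) ((le_normalizer_fittingOf H).trans
    (Transfer.normalizer_le_normalizer_centralizer _))).trans inf_normalizer_le_normalizer_inf)
    (le_normalizer_part p H)).trans inf_normalizer_le_normalizer_inf

theorem isPGroup_zPart (p : ℕ) [Fact p.Prime] (H : Subgroup G) : IsPGroup p (zPart p H) :=
  (isPGroup_part p H).to_le inf_le_right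

theorem zPart_ne_bot {p : ℕ} [Fact p.Prime] {H : Subgroup G}
    (hd : p ∣ Nat.card (Cfsg.fittingOf H)) : zPart p H ≠ ⊥ := by
  intro hb
  set F := Cfsg.fittingOf H
  obtain ⟨x, hx⟩ := exists_prime_orderOf_dvd_card' (G := F) p hd
  have := isNilpotent_fittingOf H
  set P := (part p H).subgroupOf F
  have hPn : P.Normal :=
    normal_subgroupOf_of_le_normalizer ((fittingOf_le H).trans (le_normalizer_part p H))
  have hxP : x ∈ P := mem_part_of_mem x.2 (k := 1) (by rw [pow_one]; exact (orderOf_coe x).trans hx)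
  have hPne : P ≠ ⊥ := fun e => by
    rw [e, mem_bot] at hxP
    rw [hxP, orderOf_one] at hx
    exact (Fact.out : p.Prime).ne_one hx.symm
  obtain ⟨⟨z, hzP, hzc⟩, hz1⟩ :=
    Subgroup.ne_bot_iff_exists_ne_one.mp (Core.inf_center_ne_bot_of_isNilpotent P hPne)
  refine hz1 (Subtype.ext (Subtype.ext (mem_bot.mp (hb.le (show (z : G) ∈ zPart p H from
    ⟨⟨z.2, mem_centralizer_iff.mpr fun y hy => ?_⟩, hzP⟩)))))
  exact congrArg Subtype.val (mem_center_iff.mp hzc ⟨y, hy⟩)

omit [Finite G] in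
theorem orderOf_coprime_fitting {q : ℕ} {H : Subgroup G} (hq : q.Prime)
    (hqF : ¬ q ∣ Nat.card (Cfsg.fittingOf H)) {x : G} (hx : ∃ k, orderOf x = q ^ k) :
    (orderOf x).Coprime (Nat.card (Cfsg.fittingOf H)) := by
  obtain ⟨k, hk⟩ := hx
  rw [hk]
  exact Nat.Coprime.pow_left k (hq.coprime_iff_not_dvd.mpr hqF)

/-- An element of order prime to `|F|` centralising a subgroup `M` with `C_F(M) ≤ M` centralises `F`. -/
theorem mem_centralizer_fitting {H M : Subgroup G}
    (hCM : Cfsg.fittingOf H ⊓ centralizer (M : Set G) ≤ M) (hM : M ≤ Cfsg.fittingOf H) {x : G}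
    (hxH : x ∈ H) (hxM : x ∈ centralizer (M : Set G))
    (hcop : (orderOf x).Coprime (Nat.card (Cfsg.fittingOf H))) :
    x ∈ centralizer (Cfsg.fittingOf H : Set G) := by
  refine OddLocal.centralizes_of_selfcentralizing_fixed (A := zpowers x) (isNilpotent_fittingOf H)
    ((zpowers_le.mpr hxH).trans (le_normalizer_fittingOf H)) (by rwa [Nat.card_zpowers]) ?_
    (mem_zpowers x)
  intro y hy
  have hMx : M ≤ Cfsg.fittingOf H ⊓ centralizer (zpowers x : Set G) := by
    refine le_inf hM fun m hm => mem_centralizer_iff.mpr ?_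
    rintro _ ⟨j, rfl⟩
    have h : Commute x m := (mem_centralizer_iff.mp hxM m hm).symm
    exact h.zpow_left j
  exact hMx (hCM ⟨hy.1, centralizer_le (fun m hm => hMx hm) hy.2⟩)

/-- A solvable subgroup of `X = C_H(F)` normalised by `X` lies in `F`. -/
theorem le_fitting_of_solvable {H N : Subgroup G}
    (hNX : N ≤ H ⊓ centralizer (Cfsg.fittingOf H : Set G)) (hN : Group.IsSolvable N)
    (hn : H ⊓ centralizer (Cfsg.fittingOf H : Set G) ≤ normalizer (N : Set G)) :
    N ≤ Cfsg.fittingOf H := by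
  set X := H ⊓ centralizer (Cfsg.fittingOf H : Set G) with hX
  set FN := Cfsg.fittingOf N
  have hXFN : X ≤ normalizer (FN : Set G) := by
    have := Components.fitting_characteristic (G := ↥N)
    intro x hx
    have h1 : (N.subgroupOf (normalizer (N : Set G))).Normal := inferInstance
    rw [mem_normalizer_iff_map_conj_eq]
    have hmap : N.map (MulAut.conj x).toMonoidHom = N :=
      mem_normalizer_iff_map_conj_eq.mp (hn hx)
    let e : ↥N ≃* ↥N :=
      (N.equivMapOfInjective (MulAut.conj x).toMonoidHom (MulAut.conj x).injective).trans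
        (MulEquiv.subgroupCongr hmap)
    have he := Components.fitting_map_equiv e
    conv_rhs => rw [show FN = (Cfsg.fittingSubgroup ↥N).map N.subtype from rfl, ← he]
    rw [Subgroup.map_map]
    rw [show FN = (Cfsg.fittingSubgroup ↥N).map N.subtype from rfl, Subgroup.map_map]
    rfl
  -- the Fitting subgroup of `X` lies in `F`
  have hFX : ∀ U : Subgroup G, U ≤ X → X ≤ normalizer (U : Set G) → Group.IsNilpotent U →
      U ≤ Cfsg.fittingOf H := by
    intro U hUX hXU hU
    have hHX : H ≤ normalizer (X : Set G) :=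
      (le_inf le_normalizer ((le_normalizer_fittingOf H).trans
        (Transfer.normalizer_le_normalizer_centralizer _))).trans inf_normalizer_le_normalizer_inf
    have hXn : (X.subgroupOf H).Normal := normal_subgroupOf_of_le_normalizer hHX
    set XH := X.subgroupOf H
    have := Components.fitting_characteristic (G := ↥XH)
    have hUH : U ≤ H := hUX.trans inf_le_left
    have hUn : ((U.subgroupOf H).subgroupOf XH).Normal := by
      refine normal_subgroupOf_of_le_normalizer fun y hy => mem_normalizer_iff.mpr fun z => ?_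
      exact mem_normalizer_iff.mp (hXU hy) (z : G)
    have hUnil : Group.IsNilpotent ((U.subgroupOf H).subgroupOf XH) :=
      Group.nilpotent_of_surjective
        (((subgroupOfEquivOfLe hUH).symm.trans
          (subgroupOfEquivOfLe (comap_mono hUX : U.subgroupOf H ≤ XH)).symm)).toMonoidHom
        (MulEquiv.surjective _)
    have h1 : (U.subgroupOf H).subgroupOf XH ≤ Cfsg.fittingSubgroup ↥XH :=
      Components.le_fitting hUn hUnil
    have h2 : (Cfsg.fittingSubgroup ↥XH).map XH.subtype ≤ Cfsg.fittingSubgroup ↥H := by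
      refine Components.le_fitting inferInstance ?_
      have := Components.fitting_isNilpotent (G := ↥XH)
      exact Group.nilpotent_of_surjective
        ((Cfsg.fittingSubgroup ↥XH).equivMapOfInjective XH.subtype XH.subtype_injective).toMonoidHom
        (MulEquiv.surjective _)
    intro u hu
    exact ⟨⟨u, hUH hu⟩, h2 ⟨⟨⟨u, hUH hu⟩, hUX hu⟩, h1 hu, rfl⟩, rfl⟩
  have hFNF : FN ≤ Cfsg.fittingOf H :=
    hFX FN ((fittingOf_le N).trans hNX) hXFN (isNilpotent_fittingOf N)
  intro x hx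
  refine hFNF ⟨⟨x, hx⟩, ?_, rfl⟩
  refine Components.centralizer_fitting_le_of_isSolvable (mem_centralizer_iff.mpr fun y hy => Subtype.ext ?_)
  exact mem_centralizer_iff.mp (hNX hx).2 (y : G) (hFNF ⟨y, hy, rfl⟩)

variable {H M R : Subgroup G}

/-- The core of Bender's lemma: invariant `q`-subgroups lie in `O_{p'}(R)`. -/
theorem le_pPrime {p s q : ℕ} [Fact p.Prime] [Fact s.Prime] [Fact q.Prime] (hsp : s ≠ p)
    (hpF : p ∣ Nat.card (Cfsg.fittingOf H)) (hsF : s ∣ Nat.card (Cfsg.fittingOf H))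
    (hqF : ¬ q ∣ Nat.card (Cfsg.fittingOf H))
    (hZH : ∀ r : ℕ, r.Prime → r ∣ Nat.card (Cfsg.fittingOf H) →
      centralizer (zPart r H : Set G) ≤ H)
    (hM : M ≤ Cfsg.fittingOf H) (hCM : Cfsg.fittingOf H ⊓ centralizer (M : Set G) ≤ M)
    (hR : Group.IsSolvable R) (hMR : M ≤ normalizer (R : Set G))
    (hXR : H ⊓ centralizer (Cfsg.fittingOf H : Set G) ≤ normalizer (R : Set G))
    {Y : Subgroup G} (hYR : Y ≤ R) (hY : IsPGroup q Y) (hMY : M ≤ normalizer (Y : Set G)) :
    Y ≤ (Cfsg.pPrimeCore p ↥R).map R.subtype := by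
  set F := Cfsg.fittingOf H with hF
  set Ms := M ⊓ part s H with hMs
  set Mp := M ⊓ part p H with hMp
  have hzM : ∀ r : ℕ, r.Prime → zPart r H ≤ M := fun r _ z hz =>
    hCM ⟨hz.1.1, centralizer_le (fun m hm => hM hm) hz.1.2⟩
  have hCs : centralizer (Ms : Set G) ≤ H := le_trans (centralizer_le (fun z hz =>
    (⟨hzM s Fact.out hz, hz.2⟩ : z ∈ Ms))) (hZH s Fact.out hsF)
  have hCp : centralizer (Mp : Set G) ≤ H := le_trans (centralizer_le (fun z hz =>
    (⟨hzM p Fact.out hz, hz.2⟩ : z ∈ Mp))) (hZH p Fact.out hpF)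
  have hMHs : M ≤ normalizer (part s H : Set G) :=
    (hM.trans (fittingOf_le H)).trans (le_normalizer_part s H)
  -- `C_Y(M_s) = 1`
  have hfpf : Y ⊓ centralizer (Ms : Set G) = ⊥ := by
    refine eq_bot_iff.mpr fun y hy => ?_
    have hyH : y ∈ H := hCs hy.2
    obtain ⟨k, hk⟩ := hY ⟨y, hy.1⟩
    have hyo : (orderOf y).Coprime (Nat.card F) := by
      obtain ⟨j, -, hj⟩ := (Nat.dvd_prime_pow Fact.out).mp
        (orderOf_dvd_of_pow_eq_one (congrArg Subtype.val hk : y ^ q ^ k = 1))
      exact orderOf_coprime_fitting Fact.out hqF ⟨j, hj⟩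
    have hyM : y ∈ centralizer (M : Set G) := by
      refine mem_centralizer_iff.mpr fun m hm => ?_
      have hc : m * y * m⁻¹ * y⁻¹ ∈ Y ⊓ F := by
        refine ⟨Y.mul_mem ((mem_normalizer_iff.mp (hMY hm) y).mp hy.1) (Y.inv_mem hy.1), ?_⟩
        rw [show m * y * m⁻¹ * y⁻¹ = m * (y * m⁻¹ * y⁻¹) by group]
        exact F.mul_mem (hM hm)
          ((mem_normalizer_iff.mp (le_normalizer_fittingOf H hyH) _).mp (F.inv_mem (hM hm)))
      have hb : Y ⊓ F = ⊥ := by
        obtain ⟨n, hn⟩ := IsPGroup.iff_card.mp hY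
        exact (disjoint_of_coprime_natCard (by
          rw [hn]; exact Nat.Coprime.pow_left n ((Fact.out : q.Prime).coprime_iff_not_dvd.mpr hqF))).eq_bot
      rw [hb, mem_bot, mul_inv_eq_one, mul_inv_eq_iff_eq_mul] at hc
      exact hc
    have hyF := mem_centralizer_fitting hCM hM hyH hyM hyo
    set X := H ⊓ centralizer (F : Set G)
    have hXF : R ⊓ X ≤ F := le_fitting_of_solvable inf_le_right
      (Core.isSolvable_of_le hR inf_le_left)
      ((le_inf hXR le_normalizer).trans inf_normalizer_le_normalizer_inf)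
    have : y ∈ F := hXF ⟨hYR hy.1, hyH, hyF⟩
    exact mem_bot.mpr (orderOf_eq_one_iff.mp
      (Nat.eq_one_of_dvd_coprimes hyo dvd_rfl (F.orderOf_dvd_natCard this)))
  -- pass to `N / O_{p'}(R)`
  set N := normalizer (R : Set G)
  set R0 := R.subgroupOf N with hR0
  have hR0n : R0.Normal := normal_in_normalizer
  have hR0s : Group.IsSolvable R0 :=
    Group.isSolvable_of_surjective (f := (subgroupOfEquivOfLe (le_normalizer : R ≤ N)).symm.toMonoidHom)
      (MulEquiv.surjective _)
  set O0 := (Cfsg.pPrimeCore p ↥R0).map R0.subtype with hO0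
  have := Components.pPrimeCore_characteristic (G := ↥R0) p
  have hO0n : O0.Normal := inferInstance
  set π := QuotientGroup.mk' O0
  have hR0b : (R0.map π).Normal := Normal.map hR0n π (QuotientGroup.mk'_surjective O0)
  set f := π.comp R0.subtype with hf
  have hker : f.ker = Cfsg.pPrimeCore p ↥R0 := by
    ext x
    rw [MonoidHom.mem_ker, hf, MonoidHom.comp_apply, QuotientGroup.mk'_apply, QuotientGroup.eq_one_iff]
    exact ⟨fun ⟨y, hy, e⟩ => R0.subtype_injective e ▸ hy, fun hx => ⟨x, hx, rfl⟩⟩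
  have hfR : f.range = R0.map π := by
    rw [hf, MonoidHom.range_comp, Subgroup.range_subtype]
  have e : ↥R0 ⧸ Cfsg.pPrimeCore p ↥R0 ≃* ↥(R0.map π) :=
    ((QuotientGroup.quotientMulEquivOfEq hker.symm).trans
      (QuotientGroup.quotientKerEquivRange f)).trans (MulEquiv.subgroupCongr hfR)
  have hcore : Cfsg.pPrimeCore p ↥(R0.map π) = ⊥ := by
    rw [← Components.pPrimeCore_map_equiv p e, Core.pPrimeCore_quotient_pPrimeCore p ↥R0, Subgroup.map_bot]
  have hsolb : Group.IsSolvable ↥(R0.map π) :=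
    Group.isSolvable_of_surjective (f := e.toMonoidHom) e.surjective
  have hcon := Core.centralizer_pCore_le_of_pPrimeCore_eq_bot hcore
  have := Components.pCore_characteristic (G := ↥(R0.map π)) p
  set Qb := (Cfsg.pCore p ↥(R0.map π)).map (R0.map π).subtype with hQb
  have hQn : Qb.Normal := inferInstance
  have hQp : IsPGroup p Qb := (Core.isPGroup_pCore p _).map _
  have hMN : M ≤ N := hMR
  -- `M_s` centralises the fixed points of `M_p` on `Qb`
  have hOp : (Nat.card O0).Coprime p := by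
    rw [hO0, card_map_of_injective R0.subtype_injective]
    exact Core.coprime_card_pPrimeCore p ↥R0
  have hMpp : IsPGroup p (Mp.subgroupOf N) := ((isPGroup_part p H).to_le inf_le_right).comap_subtype
  have hcomm : ∀ a ∈ Ms, ∀ b ∈ Mp, a * b = b * a := by
    intro a ha b hb
    have hd : part s H ⊓ part p H = ⊥ := by
      obtain ⟨i, hi⟩ := IsPGroup.iff_card.mp (isPGroup_part s H)
      obtain ⟨j, hj⟩ := IsPGroup.iff_card.mp (isPGroup_part p H)
      exact (disjoint_of_coprime_natCard (by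
        rw [hi, hj]; exact Nat.coprime_pow_primes i j Fact.out Fact.out hsp)).eq_bot
    have hc : a * b * a⁻¹ * b⁻¹ ∈ part s H ⊓ part p H := by
      refine ⟨?_, Subgroup.mul_mem _ ((mem_normalizer_iff.mp
        (le_normalizer_part p H (part_le s H ha.2)) b).mp hb.2) (inv_mem hb.2)⟩
      rw [show a * b * a⁻¹ * b⁻¹ = a * (b * a⁻¹ * b⁻¹) by group]
      exact Subgroup.mul_mem _ ha.2 ((mem_normalizer_iff.mp
        (le_normalizer_part s H (part_le p H hb.2)) _).mp (inv_mem ha.2))
    rw [hd, mem_bot, mul_inv_eq_one, mul_inv_eq_iff_eq_mul] at hc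
    exact hc
  have hMsQ : ∀ m : ↥N, (m : G) ∈ Ms → π m ∈ centralizer (Qb : Set (↥N ⧸ O0)) := by
    intro m hm
    have hmo : ∃ i, orderOf (m : G) = s ^ i := by
      obtain ⟨i, hi⟩ := isPGroup_part s H ⟨_, hm.2⟩
      obtain ⟨j, -, hj⟩ := (Nat.dvd_prime_pow Fact.out).mp
        (orderOf_dvd_of_pow_eq_one (congrArg Subtype.val hi : (m : G) ^ s ^ i = 1))
      exact ⟨j, hj⟩
    obtain ⟨i, hi⟩ := hmo
    refine LocalEvenB.mem_centralizer_of_axb (B := (Mp.subgroupOf N).map π) (R := Qb) ?_ hQp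
      (hMpp.map π) ((Core.le_normalizer_of_normal _ Qb)) (Core.le_normalizer_of_normal ⊤ Qb (mem_top _))
      ?_ ?_
    · refine Nat.Coprime.coprime_dvd_left (orderOf_map_dvd π m) ?_
      rw [← Subgroup.orderOf_coe, hi]
      exact Nat.Coprime.pow_left i ((Nat.coprime_primes Fact.out Fact.out).mpr hsp)
    · refine mem_centralizer_iff.mpr ?_
      rintro _ ⟨b, hb, rfl⟩
      rw [← map_mul, ← map_mul]
      exact congrArg π (Subtype.ext (hcomm m hm b hb).symm)
    · refine mem_centralizer_iff.mpr fun t ht => ?_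
      obtain ⟨htQ, htc⟩ := ht
      rw [← PLocal.map_centralizer_eq O0 hOp hMpp] at htc
      obtain ⟨t0, ht0, rfl⟩ := htc
      have htH : (t0 : G) ∈ H := hCp (mem_centralizer_iff.mpr fun b hb =>
        congrArg Subtype.val (mem_centralizer_iff.mp ht0 ⟨b, hMN hb.1⟩ hb))
      -- the commutator is an `s`-element of `F` with image in a `p`-group
      set c := m * t0 * m⁻¹ * t0⁻¹ with hc
      have hcs : (c : G) ∈ part s H := by
        show (m : G) * t0 * (m : G)⁻¹ * (t0 : G)⁻¹ ∈ part s H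
        rw [show (m : G) * t0 * (m : G)⁻¹ * (t0 : G)⁻¹ = m * ((t0 : G) * (m : G)⁻¹ * (t0 : G)⁻¹) by
          group]
        exact Subgroup.mul_mem _ hm.2 ((mem_normalizer_iff.mp
          (le_normalizer_part s H htH) _).mp (inv_mem hm.2))
      have hcQ : π c ∈ Qb := by
        rw [hc, map_mul, map_mul, map_mul, map_inv, map_inv]
        exact Qb.mul_mem (hQn.conj_mem _ htQ _) (Qb.inv_mem htQ)
      obtain ⟨i1, hi1⟩ := isPGroup_part s H ⟨_, hcs⟩
      obtain ⟨i2, hi2⟩ := hQp ⟨_, hcQ⟩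
      have h1 : π c ^ s ^ i1 = 1 := by
        rw [← map_pow, show c ^ s ^ i1 = 1 from Subtype.ext (by
          have := congrArg Subtype.val hi1
          simpa using this), map_one]
      have hc1 : π c = 1 := orderOf_eq_one_iff.mp (Nat.eq_one_of_dvd_coprimes
        (Nat.coprime_pow_primes i1 i2 Fact.out Fact.out hsp) (orderOf_dvd_of_pow_eq_one h1)
        (orderOf_dvd_of_pow_eq_one (congrArg Subtype.val hi2)))
      rw [hc, map_mul, map_mul, map_mul, map_inv, map_inv, mul_inv_eq_one,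
        mul_inv_eq_iff_eq_mul] at hc1
      exact hc1.symm
  -- `Y = [Y, M_s]` centralises `Qb`
  have hMsY : Ms ≤ normalizer (Y : Set G) := inf_le_left.trans hMY
  have hcopY : (Nat.card Ms).Coprime (Nat.card Y) := by
    obtain ⟨i, hi⟩ := IsPGroup.iff_card.mp
      ((isPGroup_part s H).to_le (inf_le_right : Ms ≤ part s H))
    obtain ⟨j, hj⟩ := IsPGroup.iff_card.mp hY
    rw [hi, hj]
    exact Nat.coprime_pow_primes i j Fact.out Fact.out fun e => hqF (e ▸ hsF)
  have hYs : Group.IsSolvable Ms := by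
    have := ((isPGroup_part s H).to_le (inf_le_right : Ms ≤ part s H)).isNilpotent
    infer_instance
  have hYc : ⁅Y, Ms⁆ = Y := by
    have h := Core.commutator_sup_centralizer hMsY hcopY (Or.inl hYs)
    rwa [hfpf, sup_bot_eq] at h
  have hle : ⁅Y, Ms⁆ ≤ ((centralizer (Qb : Set (↥N ⧸ O0))).comap π).map N.subtype := by
    rw [commutator_le]
    intro y hy m hm
    have hyN : y ∈ N := le_normalizer (hYR hy)
    refine ⟨⁅(⟨y, hyN⟩ : ↥N), ⟨m, hMN hm.1⟩⁆, ?_, rfl⟩
    have hCn : (centralizer (Qb : Set (↥N ⧸ O0))).Normal := inferInstance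
    show π ⁅(⟨y, hyN⟩ : ↥N), ⟨m, hMN hm.1⟩⁆ ∈ centralizer (Qb : Set (↥N ⧸ O0))
    rw [map_commutatorElement, commutatorElement_def]
    exact Subgroup.mul_mem _ (hCn.conj_mem _ (hMsQ ⟨m, hMN hm.1⟩ hm) _)
      (inv_mem (hMsQ ⟨m, hMN hm.1⟩ hm))
  intro y hy
  obtain ⟨y0, hy0, rfl⟩ := hle (hYc.ge hy)
  have hyR : y0 ∈ R0 := hYR hy
  have hyc : (⟨π y0, y0, hyR, rfl⟩ : ↥(R0.map π)) ∈ Cfsg.pCore p ↥(R0.map π) :=
    hcon (mem_centralizer_iff.mpr fun z hz => Subtype.ext
      (mem_centralizer_iff.mp hy0 (z : ↥N ⧸ O0) ⟨z, hz, rfl⟩))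
  have hy1 : π y0 = 1 := by
    obtain ⟨i, hi⟩ := hY ⟨_, hy⟩
    obtain ⟨j, hj⟩ := Core.isPGroup_pCore p _ ⟨_, hyc⟩
    have h1 : π y0 ^ q ^ i = 1 := by
      rw [← map_pow, show y0 ^ q ^ i = 1 from Subtype.ext (by
        have := congrArg Subtype.val hi
        simpa using this), map_one]
    refine orderOf_eq_one_iff.mp (Nat.eq_one_of_dvd_coprimes
      (Nat.coprime_pow_primes i j Fact.out Fact.out fun e : q = p => hqF (e ▸ hpF))
      (orderOf_dvd_of_pow_eq_one h1) (orderOf_dvd_of_pow_eq_one ?_))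
    have := congrArg (fun z : Cfsg.pCore p ↥(R0.map π) => ((z : ↥(R0.map π)) : ↥N ⧸ O0)) hj
    simpa using this
  obtain ⟨z, hz, hzy⟩ := (QuotientGroup.eq_one_iff y0).mp hy1
  let e0 := subgroupOfEquivOfLe (le_normalizer : R ≤ N)
  refine ⟨e0 z, ?_, congrArg Subtype.val hzy⟩
  rw [← Components.pPrimeCore_map_equiv p e0]
  exact ⟨z, hz, rfl⟩

/-- The largest `M`-invariant `q`-subgroup of `R`. -/
theorem exists_largest {q : ℕ} [Fact q.Prime]
    (hF2 : 2 ≤ (Nat.card (Cfsg.fittingOf H)).primeFactors.card)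
    (hqF : ¬ q ∣ Nat.card (Cfsg.fittingOf H))
    (hZH : ∀ r : ℕ, r.Prime → r ∣ Nat.card (Cfsg.fittingOf H) →
      centralizer (zPart r H : Set G) ≤ H)
    (hM : M ≤ Cfsg.fittingOf H) (hCM : Cfsg.fittingOf H ⊓ centralizer (M : Set G) ≤ M)
    (hR : Group.IsSolvable R) (hMR : M ≤ normalizer (R : Set G))
    (hXR : H ⊓ centralizer (Cfsg.fittingOf H : Set G) ≤ normalizer (R : Set G)) :
    ∃ Q : Subgroup G, Q ≤ R ∧ IsPGroup q Q ∧ M ≤ normalizer (Q : Set G) ∧
      (∀ Y : Subgroup G, Y ≤ R → IsPGroup q Y → M ≤ normalizer (Y : Set G) → Y ≤ Q) ∧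
      Q ≤ Cfsg.piCoreOf (Cfsg.primesNotDvd (Nat.card (Cfsg.fittingOf H))) R ∧
      ¬ q ∣ Q.relIndex (Cfsg.piCoreOf (Cfsg.primesNotDvd (Nat.card (Cfsg.fittingOf H))) R) := by
  set F := Cfsg.fittingOf H with hF
  set π := Cfsg.primesNotDvd (Nat.card F) with hπ
  set U := Cfsg.piCoreOf π R with hU
  have hUR : U ≤ R := map_subtype_le _
  have hUπ := TransitivityHyp.isPiSubgroup_piCoreOf π R
  have hMU : M ≤ normalizer (U : Set G) := by
    intro m hm
    let e : ↥R ≃* ↥R :=
      (R.equivMapOfInjective (MulAut.conj m).toMonoidHom (MulAut.conj m).injective).trans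
        (MulEquiv.subgroupCongr (mem_normalizer_iff_map_conj_eq.mp (hMR hm)))
    have hle : (Cfsg.piCore π ↥R).map e.toMonoidHom ≤ Cfsg.piCore π ↥R :=
      Components.le_piCore (Normal.map inferInstance _ e.surjective) fun r hr hd => by
        rw [card_map_of_injective (f := e.toMonoidHom) e.injective] at hd
        exact Components.piCore_isPiSubgroup π r hr hd
    rw [mem_normalizer_iff_map_conj_eq]
    refine eq_of_le_of_card_ge ?_ (Transfer.card_map_conj m U).ge
    rintro _ ⟨_, ⟨x, hx, rfl⟩, rfl⟩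
    exact ⟨e x, hle ⟨x, hx, rfl⟩, rfl⟩
  -- every invariant `q`-subgroup lies in `U`
  have hall : ∀ Y : Subgroup G, Y ≤ R → IsPGroup q Y → M ≤ normalizer (Y : Set G) → Y ≤ U := by
    intro Y hYR hY hMY
    have hJ : ∀ y : ↥R, (y : G) ∈ Y → y ∈ ⨅ p : {p : ℕ // p ∈ (Nat.card F).primeFactors},
        Cfsg.pPrimeCore (p : ℕ) ↥R := by
      intro y hy
      rw [mem_iInf]
      rintro ⟨p, hp⟩
      obtain ⟨hpp, hpF, -⟩ := Nat.mem_primeFactors.mp hp
      obtain ⟨s, hs, hsp⟩ := Finset.exists_mem_ne (by omega : 1 < (Nat.card F).primeFactors.card) p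
      obtain ⟨hss, hsF, -⟩ := Nat.mem_primeFactors.mp hs
      have := Fact.mk hpp
      have := Fact.mk hss
      obtain ⟨z, hz, hzy⟩ := le_pPrime hsp hpF hsF hqF hZH hM hCM hR hMR hXR hYR hY hMY hy
      rwa [← R.subtype_injective hzy]
    set J := ⨅ p : {p : ℕ // p ∈ (Nat.card F).primeFactors}, Cfsg.pPrimeCore (p : ℕ) ↥R with hJdef
    have hJU : J ≤ Cfsg.piCore π ↥R := by
      refine Components.le_piCore (normal_iInf_normal fun p => inferInstance) fun r hr hd => ⟨hr, fun hrF => ?_⟩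
      have hrmem : r ∈ (Nat.card F).primeFactors := Nat.mem_primeFactors.mpr ⟨hr, hrF, Nat.card_pos.ne'⟩
      have := Fact.mk hr
      exact hr.coprime_iff_not_dvd.mp (Core.coprime_card_pPrimeCore r ↥R).symm
        (hd.trans (card_dvd_of_le (iInf_le (fun p : {p : ℕ // p ∈ (Nat.card F).primeFactors} =>
          Cfsg.pPrimeCore (p : ℕ) ↥R) ⟨r, hrmem⟩)))
    exact fun y hy => ⟨⟨y, hYR hy⟩, hJU (hJ ⟨y, hYR hy⟩ hy), rfl⟩
  have hMs : Group.IsSolvable M := by
    have := isNilpotent_fittingOf H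
    exact Core.isSolvable_of_le (inferInstance : Group.IsSolvable F) hM
  have hcop : (Nat.card M).Coprime (Nat.card U) :=
    Nat.coprime_of_dvd fun k hk hkM hkU => (hUπ k hk hkU).2 (hkM.trans (card_dvd_of_le hM))
  obtain ⟨S, hS⟩ := Core.exists_invariant_sylow hMU hcop (Or.inl hMs) q
  refine ⟨(S : Subgroup U).map U.subtype, (map_subtype_le _).trans hUR, S.2.map _, hS,
    fun Y hYR hY hMY => ?_, map_subtype_le _, ?_⟩
  · obtain ⟨T, hYT, hT⟩ := Core.exists_invariant_sylow_ge hMU hcop (Or.inl hMs)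
      (hall Y hYR hY hMY) hY hMY
    obtain ⟨c, hc, hcT⟩ := Core.invariant_sylow_conj hMU hcop (Or.inl hMs) S T hS hT
    suffices hc1 : c = 1 by
      rw [hc1, one_smul] at hcT
      exact hcT ▸ hYT
    refine Subtype.ext ?_
    obtain ⟨p, hp⟩ := Finset.card_pos.mp (by omega : 0 < (Nat.card F).primeFactors.card)
    obtain ⟨hpp, hpF, -⟩ := Nat.mem_primeFactors.mp hp
    have := Fact.mk hpp
    have hcH : (c : G) ∈ H := hZH p hpp hpF (centralizer_le
      (fun z hz => hCM ⟨hz.1.1, centralizer_le (fun m hm => hM hm) hz.1.2⟩) hc)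
    have hco : (orderOf (c : G)).Coprime (Nat.card F) := Nat.coprime_of_dvd fun k hk hkc hkF =>
      (hUπ k hk (hkc.trans (U.orderOf_dvd_natCard c.2))).2 hkF
    have hcF := mem_centralizer_fitting hCM hM hcH hc hco
    have hRX := le_fitting_of_solvable (H := H)
      (N := R ⊓ (H ⊓ centralizer (F : Set G))) inf_le_right (Core.isSolvable_of_le hR inf_le_left)
      ((le_inf hXR le_normalizer).trans inf_normalizer_le_normalizer_inf)
    exact orderOf_eq_one_iff.mp (Nat.eq_one_of_dvd_coprimes hco dvd_rfl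
      (F.orderOf_dvd_natCard (hRX ⟨hUR c.2, hcH, hcF⟩)))
  · rw [relIndex, subgroupOf, comap_map_eq_self_of_injective U.subtype_injective]
    exact S.not_dvd_index


end CfsgLib.TwoGroups.Bender
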