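import Cfsg.Agent.Lib.TwoGroups.TwoColoursFree

/-!
Owner: helper12. The uniqueness theorem for minimal simple groups of odd order.
-/

set_option autoImplicit false

namespace CfsgLib.TwoGroups.SCNUnique

open Subgroup

variable {G : Type*} [Group G] [Finite G] {p : ℕ} [Fact p.Prime]

/-- Every elementary subgroup of rank three lies in one maximal subgroup. -/
theorem inUniqueMaximal_elementary (hG : Cfsg.IsMinSimpleOddOrder G)
    {E : Subgroup G} (hE : Cfsg.IsElementaryAbelian p E) (hE3 : p ^ 3 ≤ Nat.card E) :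
    Cfsg.InUniqueMaximal E := by
  have hp : p.Prime := Fact.out
  obtain ⟨S, hS⟩ := (Signalizer.elementary_isPGroup hE).exists_le_sylow
  set P := (S : Subgroup G) with hP
  have hp2 : p ≠ 2 := Uniqueness.odd_prime hG
    (Uniqueness.prime_dvd_of_elementary hE ((Nat.le_self_pow (by omega) p).trans hE3))
  have hE2 : p ^ 2 ≤ Nat.card E := (Nat.pow_le_pow_right hp.pos (by omega)).trans hE3
  have hr : ¬ Cfsg.PRankLE p 2 P := by
    intro h
    have h1 := h (E.subgroupOf P) ⟨⟨fun u v => Subtype.ext (Subtype.ext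
      (Signalizer.elementary_comm hE u.2 v.2))⟩⟩ (fun a ha => Subtype.ext (hE.2 _ ha))
    rw [Nat.card_congr (subgroupOfEquivOfLe hS).toEquiv] at h1
    have := (Nat.pow_lt_pow_right hp.one_lt (show 2 < 3 by omega)).trans_le hE3
    omega
  have hnc : ¬ IsCyclic P := fun h => Uniqueness.not_isCyclic_of_elementary hE hE2
    (isCyclic_of_injective (inclusion hS) (inclusion_injective _))
  obtain ⟨E₀, hEn, hE₀, hE₀2⟩ := Transfer.exists_normal_elementary_card_sq hp2 S.2 hnc
  obtain ⟨A, -, hAn, hAc, hAC, hA3⟩ :=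
    OddLocal.RankThree.exists_large_normal_abelian hp2 S.2 hr E₀ hE₀ hE₀2
  set A' := A.map P.subtype with hA'
  have hA'3 : ¬ Cfsg.PRankLE p 2 ↥A' := by
    intro hk
    refine hA3 fun X hX hXe => ?_
    have e := A.equivMapOfInjective P.subtype P.subtype_injective
    have := hk (X.map e.toMonoidHom) inferInstance (by
      rintro _ ⟨y, hy, rfl⟩
      rw [← map_pow, hXe y hy, map_one])
    rwa [card_map_of_injective e.injective] at this
  have hSCN : Cfsg.IsSCN P A' := by
    refine ⟨map_subtype_le _, fun x hx => ?_, le_antisymm (fun x hx => ?_)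
      (le_inf (map_subtype_le _) ?_)⟩
    · exact le_normalizer_map P.subtype ⟨⟨x, hx⟩,
        (Core.le_normalizer_of_normal ⊤ A) (mem_top _), rfl⟩
    · refine ⟨⟨x, hx.1⟩, hAC.le (mem_centralizer_iff.mpr fun a ha => Subtype.ext ?_), rfl⟩
      exact mem_centralizer_iff.mp hx.2 (a : G) ⟨a, ha, rfl⟩
    · rintro _ ⟨a, ha, rfl⟩
      refine mem_centralizer_iff.mpr ?_
      rintro _ ⟨b, hb, rfl⟩
      exact congrArg Subtype.val (mem_centralizer_iff.mp (hAC.ge ha) b hb)
  have hU := TwoColours.inUniqueMaximal hG S hSCN hA'3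
  obtain ⟨B, hBA, hB, hB3⟩ := Uniqueness.exists_elementary_of_not_rank hA'3
  have hAc' : IsMulCommutative A' := inferInstance
  exact Uniqueness.inUniqueMaximal_of_rank_three hG
    (Uniqueness.inUniqueMaximal_of_centralizing hG hU hB
      ((Nat.pow_le_pow_right hp.pos (by omega)).trans hB3)
      (hBA.trans (le_centralizer_iff_isMulCommutative.mpr hAc'))) hB hB3 hE hE3

/-- The uniqueness theorem. -/
theorem uniqueness (hG : Cfsg.IsMinSimpleOddOrder G) {K : Subgroup G}
    (hK : K ≠ ⊤) (hK2 : ¬ Cfsg.RankLE 1 K)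
    (hK3 : ¬ Cfsg.RankLE 2 K ∨ ¬ Cfsg.RankLE 2 (centralizer (K : Set G))) :
    Cfsg.InUniqueMaximal K := by
  simp only [Cfsg.RankLE, not_forall] at hK2 hK3
  obtain ⟨r, hr, hK2⟩ := hK2
  rcases hK3 with ⟨q, hq, h3⟩ | ⟨q, hq, h3⟩
  · have := Fact.mk hq
    obtain ⟨E, hEK, hE, hE3⟩ := Uniqueness.exists_elementary_of_not_rank h3
    exact Uniqueness.inUniqueMaximal_mono (inUniqueMaximal_elementary hG hE hE3) hK hEK
  · have := Fact.mk hq
    obtain ⟨E, hEC, hE, hE3⟩ := Uniqueness.exists_elementary_of_not_rank h3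
    have := Fact.mk hr
    obtain ⟨F, hFK, hF, hF2⟩ := Uniqueness.exists_elementary_of_not_rank hK2
    exact Uniqueness.inUniqueMaximal_mono
      (Uniqueness.inUniqueMaximal_of_centralizing hG
        (inUniqueMaximal_elementary (p := q) hG hE hE3) hF hF2
        (hFK.trans (le_centralizer_iff.mp hEC))) hK hFK

end CfsgLib.TwoGroups.SCNUnique
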