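import Cfsg.Agent.Lib.TwoGroups.SigmaTrans
import Cfsg.Agent.Lib.OddLocal.RankTwoSolvable
import Cfsg.Agent.S1451
import Mathlib.GroupTheory.Focal

/-!
Owner: helper12. `M_α` is a Hall subgroup.
-/

set_option autoImplicit false

namespace CfsgLib.TwoGroups.AlphaCore

open Subgroup
open scoped commutatorElement

variable {G : Type*} [Group G] [Finite G] {p : ℕ} [Fact p.Prime] {M : Subgroup G}

/-- A Sylow subgroup for `p ∈ σ(M)` lies in `M'`. -/
theorem sylow_le_derived (hG : Cfsg.IsMinSimpleOddOrder G)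
    (hM : IsCoatom M) (hp : p ∈ Cfsg.sigma M) (P : Sylow p M) :
    (P : Subgroup M).map M.subtype ≤ ⁅M, M⁆ := by
  obtain ⟨S, hS⟩ := SigmaTrans.sigma_sylow hp P
  have hSM : (S : Subgroup G) ≤ M := hS ▸ map_subtype_le _
  have htop : _root_.commutator G = ⊤ := by
    have := hG.2.1
    rcases IsSimpleGroup.eq_bot_or_eq_top_of_normal (_root_.commutator G) inferInstance with h | h
    · exact absurd ⟨⟨fun a b => commutatorElement_eq_one_iff_mul_comm.mp (mem_bot.mp (h ▸
        commutator_mem_commutator (mem_top a) (mem_top b)))⟩⟩ hG.2.2.1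
    · exact h
  rw [← hS]
  intro s hs
  have h1 : s ∈ (S : Subgroup G).focalSubgroup := by
    rw [← Subgroup.commutator_inf_eq_focalSubgroup S, htop]
    exact ⟨mem_top s, hs⟩
  refine (closure_le _).mpr ?_ h1
  rintro g ⟨hg, x, hx, u, rfl⟩
  by_cases hx1 : x = 1
  · subst hx1
    simp
  have hux : u * x * u⁻¹ ∈ M := by
    have h2 : u * x * u⁻¹ = (x⁻¹ * ⁅x, u⁆)⁻¹ := by simp [commutatorElement_def, mul_assoc]
    rw [h2]
    exact inv_mem (mul_mem (inv_mem (hSM hx)) (hSM hg))
  obtain ⟨m, hm, c, hc', rfl⟩ := (SigmaTrans.factor_conj hG hM hp (X := zpowers x)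
    (S.2.to_le (zpowers_le.mpr hx)) (by rwa [Ne, zpowers_eq_bot]) (zpowers_le.mpr (hSM hx))).1 u (by
      rw [MonoidHom.map_zpowers, zpowers_le]
      simpa using hux)
  have hcx : x * c = c * x := mem_centralizer_iff.mp hc' x (mem_zpowers x)
  have h3 : ⁅x, m * c⁆ = ⁅x, m⁆ := by
    rw [commutatorElement_def, commutatorElement_def]
    calc x * (m * c) * x⁻¹ * (m * c)⁻¹ = x * m * (c * x⁻¹) * c⁻¹ * m⁻¹ := by group
      _ = x * m * (x⁻¹ * c) * c⁻¹ * m⁻¹ := by
        rw [(show Commute x c from hcx).inv_left.eq]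
      _ = x * m * x⁻¹ * m⁻¹ := by group
  rw [h3]
  exact commutator_mem_commutator (hSM hx) hm

/-- The structure of `M / M_α`. -/
theorem structure_quotient (hG : Cfsg.IsMinSimpleOddOrder G)
    (hM : IsCoatom M) :
    Group.IsNilpotent ↥(_root_.commutator (↥M ⧸ Cfsg.piCore (Cfsg.alpha M) ↥M)) ∧
      (∀ q : ℕ, q.Prime → q ∈ Cfsg.alpha M →
        ¬ q ∣ Nat.card (↥M ⧸ Cfsg.piCore (Cfsg.alpha M) ↥M)) ∧
      Cfsg.RankLE 2 (↥M ⧸ Cfsg.piCore (Cfsg.alpha M) ↥M) := by
  set α := Cfsg.alpha M with hα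
  set O := Cfsg.piCore α ↥M with hO
  set π := QuotientGroup.mk' O with hπ
  have hOpi := Components.piCore_isPiSubgroup (G := ↥M) α
  have := hG.2.2.2 M hM.1
  have hsol : Group.IsSolvable (↥M ⧸ O) :=
    Group.isSolvable_of_surjective (f := π) (QuotientGroup.mk'_surjective O)
  have hodd : Odd (Nat.card (↥M ⧸ O)) :=
    (hG.1.of_dvd_nat M.card_subgroup_dvd_card).of_dvd_nat (card_quotient_dvd_card O)
  have hcore : ∀ q : ℕ, q.Prime → q ∈ α → Cfsg.pCore q (↥M ⧸ O) = ⊥ := by
    intro q hq hqα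
    have := Fact.mk hq
    set Q := Cfsg.pCore q (↥M ⧸ O)
    have hQn : Q.Normal := Components.pCore_normal q
    have hle : Q.comap π ≤ O := by
      refine Components.le_piCore (hQn.comap π) fun r hr hd => ?_
      obtain ⟨k, hk⟩ := IsPGroup.iff_card.mp (Core.isPGroup_pCore q (↥M ⧸ O))
      have h1 : Nat.card (Q.comap π) = Nat.card O * Nat.card Q := by
        have := (O.subgroupOf (Q.comap π)).card_mul_index
        have hOQ : O ≤ Q.comap π := fun x hx => by
          rw [mem_comap, hπ, QuotientGroup.mk'_apply, (QuotientGroup.eq_one_iff x).mpr hx]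
          exact one_mem _
        rw [Nat.card_congr (subgroupOfEquivOfLe hOQ).toEquiv] at this
        rw [← this]
        congr 1
        show O.relIndex (Q.comap π) = _
        have h2 := relIndex_ker (K := Q.comap π) π
        rw [QuotientGroup.ker_mk'] at h2
        rw [h2]
        exact congrArg (fun K : Subgroup (↥M ⧸ O) => Nat.card K)
          (map_comap_eq_self_of_surjective (QuotientGroup.mk'_surjective O) Q)
      rw [h1, hk] at hd
      rcases (Nat.Prime.dvd_mul hr).mp hd with h | h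
      · exact hOpi r hr h
      · rwa [(Nat.prime_dvd_prime_iff_eq hr hq).mp (hr.dvd_of_dvd_pow h)]
    rw [eq_bot_iff]
    intro x hx
    obtain ⟨y, rfl⟩ := QuotientGroup.mk'_surjective O x
    exact mem_bot.mpr ((QuotientGroup.eq_one_iff y).mpr (hle hx))
  have hlow : ∀ q : ℕ, q.Prime → q ∉ α → Cfsg.PRankLE q 2 (↥M ⧸ O) := by
    intro q hq hqα
    have := Fact.mk hq
    refine OddLocal.RankTwoAut.prankLE_quotient (not_not.mp fun h => hqα ⟨hq, h⟩) O ?_
    exact (hq.coprime_iff_not_dvd.mpr fun hd => hqα (hOpi q hq hd)).symm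
  have hrF : Cfsg.RankLE 2 (Cfsg.fittingSubgroup (↥M ⧸ O)) := by
    intro q hq E hE hEe
    have := Fact.mk hq
    rw [← card_map_of_injective (K := E) (Cfsg.fittingSubgroup (↥M ⧸ O)).subtype_injective]
    by_cases hqα : q ∈ α
    · have hle : E.map (Cfsg.fittingSubgroup (↥M ⧸ O)).subtype ≤ Cfsg.pCore q (↥M ⧸ O) := by
        rintro _ ⟨e, he, rfl⟩
        obtain ⟨j, -, hj⟩ := (Nat.dvd_prime_pow hq).mp
          (orderOf_dvd_of_pow_eq_one (show e ^ q ^ 1 = 1 by rw [pow_one]; exact hEe e he))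
        exact HallGen.mem_pCore_of_mem_nilpotent_normal (k := j) Components.fitting_normal
          Components.fitting_isNilpotent e.2 ((orderOf_coe e).trans hj)
      rw [hcore q hq hqα, le_bot_iff] at hle
      rw [hle, card_bot]
      exact Nat.one_le_pow _ _ hq.pos
    · refine hlow q hq hqα _ inferInstance ?_
      rintro _ ⟨e, he, rfl⟩
      rw [← map_pow, hEe e he, map_one]
  obtain ⟨hnil, -, -⟩ := Cfsg.Agent.S1451.result hodd (Or.inr hrF)
  have hndvd : ∀ q : ℕ, q.Prime → q ∈ α → ¬ q ∣ Nat.card (↥M ⧸ O) := by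
    intro q hq hqα hd
    have := Fact.mk hq
    obtain ⟨P⟩ : Nonempty (Sylow q M) := inferInstance
    set Pb := P.mapSurjective (QuotientGroup.mk'_surjective O)
    have hle : (Pb : Subgroup (↥M ⧸ O)) ≤ Cfsg.pCore q (↥M ⧸ O) := by
      intro x hx
      obtain ⟨k, hk⟩ := Pb.2 ⟨x, hx⟩
      obtain ⟨j, -, hj⟩ := (Nat.dvd_prime_pow hq).mp
        (orderOf_dvd_of_pow_eq_one (congrArg Subtype.val hk : x ^ q ^ k = 1))
      refine HallGen.mem_pCore_of_mem_nilpotent_normal (k := j)
        (inferInstance : (_root_.commutator (↥M ⧸ O)).Normal) hnil ?_ hj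
      rw [Sylow.coe_mapSurjective] at hx
      obtain ⟨y, hy, rfl⟩ := hx
      have h1 : (y : G) ∈ ⁅M, M⁆ := sylow_le_derived hG hM
        (SigmaTrans.alpha_subset_sigma hG hM hqα) P ⟨y, hy, rfl⟩
      rw [← map_subtype_commutator] at h1
      obtain ⟨z, hz, e⟩ := h1
      have h2 : π z ∈ (_root_.commutator ↥M).map π := ⟨z, hz, rfl⟩
      rw [M.subtype_injective e] at h2
      refine (show (_root_.commutator ↥M).map π ≤ _root_.commutator (↥M ⧸ O) from ?_) h2
      rw [_root_.commutator_def, _root_.commutator_def, map_commutator]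
      exact commutator_mono le_top le_top
    exact Pb.ne_bot_of_dvd_card hd (le_bot_iff.mp (hle.trans (hcore q hq hqα).le))
  refine ⟨hnil, hndvd, fun q hq => ?_⟩
  by_cases hqα : q ∈ α
  · intro E hE hEe
    have := Fact.mk hq
    obtain ⟨k, hk⟩ := IsPGroup.iff_card.mp
      (show IsPGroup q E from fun e => ⟨1, Subtype.ext (by rw [pow_one]; exact hEe e e.2)⟩)
    rcases Nat.eq_zero_or_pos k with rfl | hk0
    · rw [hk, pow_zero]
      exact Nat.one_le_pow _ _ hq.pos
    · exact absurd (((dvd_pow_self q hk0.ne').trans hk.symm.dvd).trans E.card_subgroup_dvd_card)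
        (hndvd q hq hqα)
  · exact hlow q hq hqα

/-- S1405. -/
theorem alphaCore_hall (hG : Cfsg.IsMinSimpleOddOrder G)
    (hM : IsCoatom M) :
    Cfsg.IsPiHallOf (Cfsg.alpha M) (Cfsg.alphaCore M) M ∧
      Cfsg.IsPiHall (Cfsg.alpha M) (Cfsg.alphaCore M) ∧
      Cfsg.alphaCore M ≤ Cfsg.sigmaCore M ∧
      Cfsg.RankLE 2 (↥M ⧸ Cfsg.piCore (Cfsg.alpha M) ↥M) ∧
      Group.IsNilpotent ↥((_root_.commutator ↥M).map
        (QuotientGroup.mk' (Cfsg.piCore (Cfsg.alpha M) ↥M))) := by
  obtain ⟨hnil, hndvd, hr⟩ := structure_quotient hG hM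
  have hpi := Components.piCore_isPiSubgroup (G := ↥M) (Cfsg.alpha M)
  have hrel : (Cfsg.alphaCore M).relIndex M = (Cfsg.piCore (Cfsg.alpha M) ↥M).index := by
    rw [relIndex, Cfsg.alphaCore]
    exact congrArg Subgroup.index (comap_map_eq_self_of_injective M.subtype_injective _)
  have hcard : Nat.card (Cfsg.alphaCore M) = Nat.card (Cfsg.piCore (Cfsg.alpha M) ↥M) :=
    card_map_of_injective M.subtype_injective
  have h1 : ∀ q : ℕ, q.Prime → q ∣ Nat.card (Cfsg.alphaCore M) → q ∈ Cfsg.alpha M := by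
    intro q hq hd
    exact hpi q hq (hcard ▸ hd)
  have h2 : ∀ q : ℕ, q.Prime → q ∈ Cfsg.alpha M → ¬ q ∣ (Cfsg.alphaCore M).relIndex M := by
    intro q hq hqα hd
    rw [hrel, index_eq_card] at hd
    exact hndvd q hq hqα hd
  refine ⟨⟨map_subtype_le _, h1, h2⟩, ⟨h1, fun q hq hqα hd => ?_⟩, ?_, hr, ?_⟩
  · have := Fact.mk hq
    have h3 : (Cfsg.alphaCore M).index = (Cfsg.alphaCore M).relIndex M * M.index :=
      (relIndex_mul_index (map_subtype_le _)).symm
    rw [h3] at hd
    rcases hq.dvd_mul.mp hd with h | h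
    · exact h2 q hq hqα h
    · obtain ⟨P⟩ : Nonempty (Sylow q M) := inferInstance
      obtain ⟨S, hS⟩ := SigmaTrans.sigma_sylow (SigmaTrans.alpha_subset_sigma hG hM hqα) P
      exact S.not_dvd_index (h.trans (index_dvd_of_le (hS ▸ map_subtype_le _)))
  · refine map_mono (Components.le_piCore inferInstance fun q hq hd => ?_)
    have := Fact.mk hq
    exact SigmaTrans.alpha_subset_sigma hG hM (hpi q hq hd)
  · have hle : (_root_.commutator ↥M).map (QuotientGroup.mk' (Cfsg.piCore (Cfsg.alpha M) ↥M)) =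
        _root_.commutator (↥M ⧸ Cfsg.piCore (Cfsg.alpha M) ↥M) := by
      rw [_root_.commutator_def, _root_.commutator_def, map_commutator,
        map_top_of_surjective _ (QuotientGroup.mk'_surjective _)]
    rw [hle]
    exact hnil

end CfsgLib.TwoGroups.AlphaCore
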