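import Mathlib
import Cfsg.Agent.Lib.Char.Burnside

/-!
Anisotropic quadratic maps from an elementary abelian `2`-group to a group of order at most `4`:
their isometry groups are solvable.
-/

set_option autoImplicit false
set_option linter.style.haveILetI false

namespace CfsgLib.AnisotropicQuad

theorem zmodTwo_cases : ∀ a : ZMod 2, a = 0 ∨ a = 1 := by decide

variable {V : Type*} [AddCommGroup V]

/-- A quadratic function which is `1` off `{0, u}` lives on a space with at most `8` vectors. -/
theorem ones (hV : ∀ x : V, x + x = 0) (f : V → ZMod 2) (u : V)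
    (hD : ∀ x y z : V, (f (x + (y + z)) + f x + f (y + z)) =
      (f (x + y) + f x + f y) + (f (x + z) + f x + f z))
    (h1 : ∀ x : V, x ≠ 0 → x ≠ u → f x = 1) :
    Nat.card V ≤ 8 ∧ (u = 0 → Nat.card V ≤ 4) := by
  classical
  suffices h : ∃ x y : V, ∀ z : V, z = 0 ∨ z = u ∨ z = x ∨ z = x + u ∨ z = y ∨ z = y + u ∨
      z = y + x ∨ z = y + x + u by
    obtain ⟨x, y, h⟩ := h
    constructor
    · let L : List V := [0, u, x, x + u, y, y + u, y + x, y + x + u]
      have : Function.Surjective (fun i : Fin 8 => L.get ⟨i, i.2⟩) := fun z => by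
        rcases h z with h | h | h | h | h | h | h | h
        exacts [⟨0, h.symm⟩, ⟨1, h.symm⟩, ⟨2, h.symm⟩, ⟨3, h.symm⟩, ⟨4, h.symm⟩, ⟨5, h.symm⟩,
          ⟨6, h.symm⟩, ⟨7, h.symm⟩]
      simpa using Nat.card_le_card_of_surjective _ this
    · rintro rfl
      let L : List V := [0, x, y, y + x]
      have : Function.Surjective (fun i : Fin 4 => L.get ⟨i, i.2⟩) := fun z => by
        rcases h z with h | h | h | h | h | h | h | h
        exacts [⟨0, h.symm⟩, ⟨0, h.symm⟩, ⟨1, h.symm⟩, ⟨1, by simp [h, L]⟩, ⟨2, h.symm⟩,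
          ⟨2, by simp [h, L]⟩, ⟨3, h.symm⟩, ⟨3, by simp [h, L]⟩]
      simpa using Nat.card_le_card_of_surjective _ this
  by_cases hx : ∃ x : V, x ≠ 0 ∧ x ≠ u
  swap
  · refine ⟨0, 0, fun z => ?_⟩
    by_contra hz
    push Not at hz
    exact hx ⟨z, hz.1, hz.2.1⟩
  obtain ⟨x, hx0, hxu⟩ := hx
  by_cases hy : ∃ y : V, y ≠ 0 ∧ y ≠ u ∧ y ≠ x ∧ y ≠ x + u
  swap
  · refine ⟨x, 0, fun z => ?_⟩
    by_contra hz
    push Not at hz
    exact hy ⟨z, hz.1, hz.2.1, hz.2.2.1, hz.2.2.2.1⟩
  obtain ⟨y, hy0, hyu, hyx, hyxu⟩ := hy
  refine ⟨x, y, fun z => ?_⟩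
  by_contra hz
  push Not at hz
  obtain ⟨hz0, hzu, hzx, hzxu, hzy, hzyu, hzyx, hzyxu⟩ := hz
  have he : ∀ a b c : V, a + b = c → b = a + c := fun a b c h => by
    rw [← h, ← add_assoc, hV, zero_add]
  have hb : ∀ w : V, w ≠ 0 → w ≠ u → w ≠ x → w ≠ x + u → f (x + w) + f x + f w = 1 := by
    intro w w0 wu wx wxu
    rw [h1 x hx0 hxu, h1 w w0 wu, h1 (x + w) (fun h => wx (by simpa using he _ _ _ h))
      (fun h => wxu (he _ _ _ h))]
    decide
  have h := hD x y z
  rw [hb y hy0 hyu hyx hyxu, hb z hz0 hzu hzx hzxu,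
    hb (y + z) (fun h => hzy (by simpa using he _ _ _ h)) (fun h => hzyu (he _ _ _ h))
      (fun h => hzyx (he _ _ _ h)) (fun h => hzyxu (by rw [add_assoc]; exact he _ _ _ h))] at h
  revert h
  decide

/-- The indicator of the complement of a subgroup of index at most two. -/
theorem indicator_add {W : Type*} [AddCommGroup W] [Finite W] (hW : ∀ w : W, w + w = 0)
    (c : W) (hc : (c ≠ 0 ∧ Nat.card W ≤ 4) ∨ Nat.card W ≤ 2) :
    ∃ l : W →+ ZMod 2, l c = 0 ∧ ∀ w : W, w ≠ 0 → w ≠ c → l w = 1 := by
  classical
  have key : ∀ a b : W, a ≠ 0 → a ≠ c → b ≠ 0 → b ≠ c → a + b = 0 ∨ a + b = c := by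
    intro a b a0 ac b0 bc
    by_contra hab
    push Not at hab
    have hne : b ≠ a := fun h => hab.1 (by rw [h, hW])
    rcases hc with ⟨hc0, h4⟩ | h2
    · have hne' : b ≠ a + c := fun h => hab.2 (by rw [h, ← add_assoc, hW, zero_add])
      have hac : a + c ≠ 0 := fun h => ac (by
        have := congrArg (fun t => t + c) h
        simpa [add_assoc, hW] using this)
      have hc' : ({0, c, a, a + c, b} : Finset W).card = 5 := by
        rw [Finset.card_insert_of_notMem, Finset.card_insert_of_notMem,
          Finset.card_insert_of_notMem, Finset.card_insert_of_notMem, Finset.card_singleton]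
        · simpa using hne'.symm
        · simp [hc0, hne.symm]
        · simp [ac.symm, bc.symm, a0]
        · simp [hc0.symm, a0.symm, b0.symm, Ne.symm hac]
      haveI := Fintype.ofFinite W
      have := Finset.card_le_univ ({0, c, a, a + c, b} : Finset W)
      rw [hc', ← Nat.card_eq_fintype_card] at this
      omega
    · haveI := Fintype.ofFinite W
      have hc' : ({0, a, b} : Finset W).card = 3 := by
        rw [Finset.card_insert_of_notMem, Finset.card_insert_of_notMem, Finset.card_singleton]
        · simpa using hne.symm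
        · simp [a0.symm, b0.symm]
      have := Finset.card_le_univ ({0, a, b} : Finset W)
      rw [hc', ← Nat.card_eq_fintype_card] at this
      omega
  refine ⟨AddMonoidHom.mk' (fun w => if w = 0 ∨ w = c then 0 else 1) ?_, if_pos (Or.inr rfl),
    fun w w0 wc => if_neg (by simp [w0, wc])⟩
  intro a b
  have cancel : ∀ p r s : W, p + r = s → r = p + s := fun p r s h => by
    rw [← h, ← add_assoc, hW, zero_add]
  by_cases ha : a = 0 ∨ a = c
  · by_cases hb : b = 0 ∨ b = c
    · rw [if_pos ha, if_pos hb, if_pos]
      · simp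
      · rcases ha with rfl | rfl <;> rcases hb with rfl | rfl <;> simp [hW]
    · rw [if_pos ha, if_neg hb, if_neg]
      · simp
      · push Not at hb
        rcases ha with rfl | rfl
        · simpa using hb
        · rintro (h | h)
          · exact hb.2 (by simpa using cancel _ _ _ h)
          · exact hb.1 (by simpa [hW] using cancel _ _ _ h)
  · by_cases hb : b = 0 ∨ b = c
    · rw [if_neg ha, if_pos hb, if_neg]
      · simp
      · push Not at ha
        rcases hb with rfl | rfl
        · simpa using ha
        · rw [add_comm]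
          rintro (h | h)
          · exact ha.2 (by simpa using cancel _ _ _ h)
          · exact ha.1 (by simpa [hW] using cancel _ _ _ h)
    · rw [if_neg ha, if_neg hb, if_pos]
      · decide
      · push Not at ha hb
        exact key a b ha.1 ha.2 hb.1 hb.2

theorem character_sum [Fintype V] (f : V → ZMod 2)
    (hD : ∀ x y z : V, (f (x + (y + z)) + f x + f (y + z)) =
      (f (x + y) + f x + f y) + (f (x + z) + f x + f z))
    (hnd : ∀ y : V, y ≠ 0 → ∃ x, f (y + x) + f y + f x ≠ 0) (hV : ∀ x : V, x + x = 0) :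
    ∃ S : ℤ, S * S = Nat.card V := by
  classical
  let s : ZMod 2 → ℤ := fun a => if a = 0 then 1 else -1
  have hs : ∀ a b, s (a + b) = s a * s b := by decide
  refine ⟨∑ x, s (f x), ?_⟩
  rw [Finset.sum_mul_sum]
  have h0 : f 0 = 0 := by
    have h := hD 0 0 0
    simp only [add_zero] at h
    rcases zmodTwo_cases (f 0) with h' | h' <;> rw [h'] at h ⊢
    exfalso; revert h; decide
  calc (∑ x, ∑ y, s (f x) * s (f y)) = ∑ x, ∑ y, s (f x) * s (f (y + x)) := by
        refine Finset.sum_congr rfl fun x _ => ?_
        exact (Fintype.sum_equiv (Equiv.addRight x) _ _ fun y => rfl).symm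
    _ = ∑ y, ∑ x, s (f y) * s (f (y + x) + f y + f x) := by
        rw [Finset.sum_comm]
        refine Finset.sum_congr rfl fun y _ => Finset.sum_congr rfl fun x _ => ?_
        rw [← hs, ← hs]
        congr 1
        generalize f (y + x) = a
        generalize f x = b
        generalize f y = c
        revert a b c
        decide
    _ = Nat.card V := by
        rw [Finset.sum_eq_single 0]
        · simp [h0, s, ← Nat.card_eq_fintype_card, show ∀ a : ZMod 2, a + a = 0 by decide]
        · intro y _ hy
          rw [← Finset.mul_sum]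
          obtain ⟨x₀, hx₀⟩ := hnd y hy
          have he : (∑ x, s (f (y + x) + f y + f x)) = ∑ x, -s (f (y + x) + f y + f x) := by
            refine (Fintype.sum_equiv (Equiv.addRight x₀) _ _ fun x => ?_).symm
            show -s (f (y + x) + f y + f x) = s (f (y + (x + x₀)) + f y + f (x + x₀))
            rw [hD y x x₀, hs, (zmodTwo_cases _).resolve_left hx₀]
            rw [← hs]
            generalize f (y + x) + f y + f x = b
            revert b
            decide
          rw [Finset.sum_neg_distrib] at he
          have : (∑ x, s (f (y + x) + f y + f x)) = 0 := by omega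
          rw [this, mul_zero]
        · simp

section Main

variable [Finite V] {W : Type*} [AddCommGroup W] [Finite W] (q : V → W)

/-- `u ↦ (x ↦ q (u + x) + q u + q x)`. -/
def polarHom (hD : ∀ x y z : V, (q (x + (y + z)) + q x + q (y + z)) =
      (q (x + y) + q x + q y) + (q (x + z) + q x + q z)) (u : V) : V →+ W :=
  AddMonoidHom.mk' (fun x => q (u + x) + q u + q x) fun x y => hD u x y

variable (hV : ∀ x : V, x + x = 0) (hW : ∀ w : W, w + w = 0) (hW4 : Nat.card W ≤ 4)
  (hD : ∀ x y z : V, (q (x + (y + z)) + q x + q (y + z)) =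
      (q (x + y) + q x + q y) + (q (x + z) + q x + q z))
  (hq : ∀ x, x ≠ 0 → q x ≠ 0)

include hV hW in
theorem q_zero (hD : ∀ x y z : V, (q (x + (y + z)) + q x + q (y + z)) =
      (q (x + y) + q x + q y) + (q (x + z) + q x + q z)) : q 0 = 0 := by
  have h := hD 0 0 0
  simp only [add_zero, hW, zero_add] at h
  exact h

include hV hW hW4 hD hq in
theorem card_ker_le (u : V) (hu : u ≠ 0) :
    Nat.card (polarHom q hD u).ker ≤ 8 ∧ u ∈ (polarHom q hD u).ker := by
  have huK : u ∈ (polarHom q hD u).ker := by
    rw [AddMonoidHom.mem_ker]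
    show q (u + u) + q u + q u = 0
    rw [hV, q_zero q hV hW hD, zero_add, hW]
  refine ⟨?_, huK⟩
  obtain ⟨l, hlc, hl⟩ := indicator_add hW (q u) (Or.inl ⟨hq u hu, hW4⟩)
  refine (ones (fun x => Subtype.ext (hV x)) (fun x : (polarHom q hD u).ker => l (q (x : V)))
    ⟨u, huK⟩ (fun x y z => ?_) fun x hx0 hxu => ?_).1
  · simp only [AddSubgroup.coe_add, ← map_add]
    rw [hD]
  · have hx0' : (x : V) ≠ 0 := fun h => hx0 (Subtype.ext h)
    refine hl _ (hq _ hx0') fun he => ?_
    have hk : q (u + (x : V)) + q u + q (x : V) = 0 := x.2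
    rw [he, add_assoc, hW, add_zero] at hk
    refine hq _ (fun h => hxu (Subtype.ext ?_)) hk
    have := congrArg (fun t => u + t) h
    simpa [← add_assoc, hV] using this

include hV in
theorem exists_card_eq_two_pow : ∃ n, Nat.card V = 2 ^ n := by
  letI : Module (ZMod 2) V := AddCommGroup.zmodModule (fun x => by rw [two_nsmul]; exact hV x)
  exact ⟨_, by rw [Module.natCard_eq_pow_finrank (K := ZMod 2), Nat.card_zmod]⟩

include hV hW hW4 hD hq in
theorem card_le_sixteen : Nat.card V ≤ 16 := by
  by_contra h16
  push Not at h16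
  have hprod : ∀ u : V, Nat.card (polarHom q hD u).range * Nat.card (polarHom q hD u).ker =
      Nat.card V := fun u => by
    rw [AddSubgroup.card_eq_card_quotient_mul_card_addSubgroup (polarHom q hD u).ker,
      Nat.card_congr (QuotientAddGroup.quotientKerEquivRange (polarHom q hD u)).toEquiv]
  have hr : ∀ u : V, Nat.card (polarHom q hD u).range ≤ 4 := fun u =>
    (Finite.card_subtype_le _).trans hW4
  haveI : Nontrivial V := Finite.one_lt_card_iff_nontrivial.1 (by omega)
  obtain ⟨u₀, hu₀⟩ := exists_ne (0 : V)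
  obtain ⟨n, hn⟩ := exists_card_eq_two_pow hV
  have h32 : Nat.card V = 32 := by
    have h1 : Nat.card V ≤ 32 := by
      have := Nat.mul_le_mul (hr u₀) (card_ker_le q hV hW hW4 hD hq u₀ hu₀).1
      rw [hprod u₀] at this
      omega
    rw [hn] at h1 h16 ⊢
    have h2 : n ≤ 5 := (Nat.pow_le_pow_iff_right (a := 2) (by norm_num)).1 (by omega)
    have h3 : 4 < n := (Nat.pow_lt_pow_iff_right (a := 2) (by norm_num)).1 (by omega)
    rw [show n = 5 by omega]
    norm_num
  have hsurj : ∀ u : V, u ≠ 0 → Function.Surjective (polarHom q hD u) := fun u hu => by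
    rw [← AddMonoidHom.range_eq_top]
    apply AddSubgroup.eq_top_of_le_card
    have h1 := hprod u
    have h2 := (card_ker_le q hV hW hW4 hD hq u hu).1
    have h3 := hr u
    nlinarith
  by_cases hW2 : ∃ c : W, c ≠ 0
  swap
  · push Not at hW2
    exact hq u₀ hu₀ (hW2 _)
  obtain ⟨c, hc⟩ := hW2
  obtain ⟨l, hl⟩ : ∃ l : W →+ ZMod 2, ∃ w, l w ≠ 0 := by
    by_cases h2 : ∃ w : W, w ≠ 0 ∧ w ≠ c
    · obtain ⟨w, hw0, hwc⟩ := h2
      obtain ⟨l, -, hl⟩ := indicator_add hW c (Or.inl ⟨hc, hW4⟩)
      exact ⟨l, w, by rw [hl w hw0 hwc]; decide⟩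
    · push Not at h2
      have h2' : Nat.card W ≤ 2 := by
        have : Function.Surjective (fun b : Bool => if b then c else 0) := fun w => by
          by_cases hw : w = 0
          · exact ⟨false, hw.symm⟩
          · exact ⟨true, (h2 w hw).symm⟩
        simpa using Nat.card_le_card_of_surjective _ this
      obtain ⟨l, -, hl⟩ := indicator_add hW (0 : W) (Or.inr h2')
      exact ⟨l, c, by rw [hl c hc hc]; decide⟩
  obtain ⟨w, hw⟩ := hl
  haveI := Fintype.ofFinite V
  obtain ⟨S, hS⟩ := character_sum (fun x => l (q x)) (fun x y z => by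
    simp only [← map_add]; rw [hD]) (fun y hy => by
      obtain ⟨x, hx⟩ := hsurj y hy w
      exact ⟨x, by rw [← map_add, ← map_add, show q (y + x) + q y + q x = w from hx]; exact hw⟩) hV
  rw [h32] at hS
  have h5 : S.natAbs * S.natAbs = 32 := by
    have := congrArg Int.natAbs hS
    rwa [Int.natAbs_mul, Int.natAbs_natCast] at this
  have h6 : S.natAbs ≤ 5 := by nlinarith
  generalize S.natAbs = k at h5 h6
  interval_cases k <;> omega

variable {G : Type*} [Group G] [Finite G] [DistribMulAction G V] [FaithfulSMul G V]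
  (hinv : ∀ (g : G) (v : V), q (g • v) = q v)

include hV hW hW4 hD hq hinv in
/-- The group of isometries of an anisotropic quadratic map is solvable. -/
theorem isSolvable : Group.IsSolvable G := by
  classical
  by_contra hns
  obtain ⟨p, hp, hp5, hpd⟩ : ∃ p, p.Prime ∧ 5 ≤ p ∧ p ∣ Nat.card G := by
    by_contra hno
    push Not at hno
    refine hns (CfsgLib.Burnside.isSolvable_of_card_eq (p := 2) (q := 3)
      (a := (Nat.card G).factorization 2) (b := (Nat.card G).factorization 3)
      Nat.prime_two Nat.prime_three ?_)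
    conv_lhs => rw [← Nat.factorization_prod_pow_eq_self (Nat.card_pos (α := G)).ne']
    rw [Finsupp.prod_of_support_subset _ (s := ({2, 3} : Finset ℕ)) ?_ _ (by simp)]
    · simp
    intro r hr
    rw [Nat.support_factorization, Nat.mem_primeFactors] at hr
    by_contra hmem
    simp only [Finset.mem_insert, Finset.mem_singleton, not_or] at hmem
    refine hno r hr.1 ?_ hr.2.1
    by_contra hlt
    push Not at hlt
    have := hr.1.two_le
    interval_cases r <;> first | omega | exact absurd hr.1 (by decide)
  haveI := Fact.mk hp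
  obtain ⟨g, hg⟩ := exists_prime_orderOf_dvd_card' p hpd
  set P := Subgroup.zpowers g
  have hP : IsPGroup p P := IsPGroup.of_card (n := 1) (by rw [Nat.card_zpowers, hg, pow_one])
  -- every invariant set has as many points as fixed points, modulo `p`
  have hmod : ∀ A : Set V, (∀ x : G, ∀ v ∈ A, x ∈ P → x • v ∈ A) →
      Nat.card A ≡ Nat.card {v : V // v ∈ A ∧ g • v = v} [MOD p] := by
    intro A hA
    let σ : SubMulAction P V :=
      { carrier := A, smul_mem' := fun x v hv => hA x v hv x.2 }
    refine (hP.card_modEq_card_fixedPoints (α := σ)).trans (congrArg (· % p) (Nat.card_congr ?_))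
    refine
      { toFun := fun v => ⟨v.1, v.1.2, congrArg Subtype.val (v.2 ⟨g, Subgroup.mem_zpowers g⟩)⟩
        invFun := fun v => ⟨⟨v.1, v.2.1⟩, fun x => Subtype.ext ?_⟩
        left_inv := fun v => rfl
        right_inv := fun v => rfl }
    show (x : G) • (v : V) = v
    have hle : P ≤ MulAction.stabilizer G (v : V) := Subgroup.zpowers_le.2 v.2.2
    exact hle x.2
  let F : AddSubgroup V :=
    { carrier := {v | g • v = v}
      add_mem' := fun {a b} ha hb => by
        show g • (a + b) = a + b
        rw [smul_add, ha, hb]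
      zero_mem' := smul_zero g
      neg_mem' := fun {a} ha => by
        show g • -a = -a
        rw [smul_neg, ha] }
  obtain ⟨n, hn⟩ := exists_card_eq_two_pow hV
  have hn4 : n ≤ 4 := (Nat.pow_le_pow_iff_right (a := 2) (by norm_num)).1 <| by
    rw [← hn]; exact card_le_sixteen q hV hW hW4 hD hq
  obtain ⟨m, hmn, hm⟩ := (Nat.dvd_prime_pow Nat.prime_two).1 (hn ▸ F.card_addSubgroup_dvd_card)
  have hmlt : m < n := by
    refine lt_of_le_of_ne hmn fun he => ?_
    have htop : F = ⊤ := AddSubgroup.eq_top_of_card_eq F (by rw [hm, he, hn])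
    have h1 : g = 1 := FaithfulSMul.eq_of_smul_eq_smul (α := V) fun v => by
      rw [one_smul]; exact (htop ▸ AddSubgroup.mem_top v : v ∈ F)
    rw [h1, orderOf_one] at hg
    exact hp.ne_one hg.symm
  have hmodV : 2 ^ n ≡ 2 ^ m [MOD p] := by
    have h := hmod Set.univ fun _ _ _ _ => Set.mem_univ _
    rw [Nat.card_univ, hn] at h
    refine h.trans (congrArg (· % p) ?_)
    rw [← hm]
    exact Nat.card_congr ((Equiv.subtypeEquivRight fun v => ⟨fun h => h.2, fun h => ⟨Set.mem_univ _, h⟩⟩))
  have hcases : (n = 4 ∧ m = 0 ∧ p = 5) ∨ (n = 4 ∧ m = 1 ∧ p = 7) ∨ (n = 3 ∧ m = 0 ∧ p = 7) := by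
    have h := (Nat.modEq_iff_dvd' (Nat.pow_le_pow_right (by omega) hmlt.le)).1 hmodV.symm
    have hle := Nat.le_of_dvd (Nat.sub_pos_of_lt (Nat.pow_lt_pow_right (by omega) hmlt)) h
    interval_cases n <;> interval_cases m <;> norm_num at h hle <;>
      interval_cases p <;> first | omega | (norm_num at h hp)
  have hfib : ∀ c : W, ∀ x : G, ∀ v ∈ {v : V | q v = c}, x ∈ P → x • v ∈ {v : V | q v = c} :=
    fun c x v hv _ => (hinv x v).trans hv
  -- every non-zero value is taken
  have hval : 3 ≤ n → ∀ c : W, c ≠ 0 → ∃ v : V, q v = c := by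
    intro h3 c hc
    by_contra hno
    push Not at hno
    obtain ⟨l, -, hl⟩ := indicator_add hW c (Or.inl ⟨hc, hW4⟩)
    have h := (ones hV (fun x => l (q x)) 0 (fun x y z => by simp only [← map_add]; rw [hD])
      fun x hx _ => hl _ (hq x hx) (hno x)).2 rfl
    rw [hn] at h
    have := Nat.pow_le_pow_right (show 0 < 2 by norm_num) h3
    omega
  have hW3 : 3 ≤ n → Nat.card W = 4 := by
    intro h3
    by_contra hne
    have h2 : Nat.card W ≤ 2 := by
      letI : Module (ZMod 2) W := AddCommGroup.zmodModule (fun x => by rw [two_nsmul]; exact hW x)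
      have hk := Module.natCard_eq_pow_finrank (K := ZMod 2) (V := W)
      rw [Nat.card_zmod] at hk
      rw [hk] at hne hW4 ⊢
      have : Module.finrank (ZMod 2) W ≤ 2 := (Nat.pow_le_pow_iff_right (a := 2) (by norm_num)).1 hW4
      interval_cases (Module.finrank (ZMod 2) W) <;> omega
    obtain ⟨l, -, hl⟩ := indicator_add hW (0 : W) (Or.inr h2)
    have h := (ones hV (fun x => l (q x)) 0 (fun x y z => by simp only [← map_add]; rw [hD])
      fun x hx _ => hl _ (hq x hx) (hq x hx)).2 rfl
    rw [hn] at h
    have := Nat.pow_le_pow_right (show 0 < 2 by norm_num) h3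
    omega
  have hfree : m = 0 → ∀ A : Set V, (∀ x : G, ∀ v ∈ A, x ∈ P → x • v ∈ A) → (0 : V) ∉ A →
      p ∣ Nat.card A := by
    intro hm0 A hA h0
    have hb : F = ⊥ := AddSubgroup.card_eq_one.1 (by rw [hm, hm0, pow_zero])
    refine Nat.modEq_zero_iff_dvd.1 ((hmod A hA).trans (congrArg (· % p) ?_))
    haveI : IsEmpty {v : V // v ∈ A ∧ g • v = v} := ⟨fun v => h0 (by
      have : (v : V) ∈ F := v.2.2
      rw [hb, AddSubgroup.mem_bot] at this
      exact this ▸ v.2.1)⟩
    exact Nat.card_of_isEmpty
  have hq0 : q 0 = 0 := q_zero q hV hW hD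
  haveI := Fintype.ofFinite V
  haveI := Fintype.ofFinite W
  have hfibcard : 3 ≤ n → m = 0 → (∀ c : W, c ≠ 0 → p ≤ Nat.card {v : V // q v = c}) ∧
      ∑ c ∈ Finset.univ.erase (0 : W), Nat.card {v : V // q v = c} = 2 ^ n - 1 := by
    intro h3 hm0
    constructor
    · intro c hc
      haveI : Nonempty {v : V // q v = c} := let ⟨v, hv⟩ := hval h3 c hc; ⟨⟨v, hv⟩⟩
      refine Nat.le_of_dvd Nat.card_pos (hfree hm0 {v : V | q v = c} (hfib c) fun h => hc ?_)
      exact (h : q 0 = c) ▸ hq0
    · have h1 : ∑ c : W, Nat.card {v : V // q v = c} = 2 ^ n := by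
        rw [← Nat.card_sigma, Nat.card_congr (Equiv.sigmaFiberEquiv q), hn]
      rw [← Finset.sum_erase_add _ _ (Finset.mem_univ (0 : W))] at h1
      have h0 : Nat.card {v : V // q v = 0} = 1 := by
        rw [Nat.card_eq_one_iff_unique]
        exact ⟨⟨fun a b => Subtype.ext ((by_contra fun h => hq _ h a.2 : (a : V) = 0).trans
          (by_contra fun h => hq _ h b.2 : (b : V) = 0).symm)⟩, ⟨⟨0, hq0⟩⟩⟩
      omega
  rcases hcases with ⟨rfl, rfl, rfl⟩ | ⟨rfl, rfl, rfl⟩ | ⟨rfl, rfl, rfl⟩
  · -- three orbits of length five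
    obtain ⟨hge, hsum⟩ := hfibcard (by omega) rfl
    have hW4' := hW3 (by omega)
    have h5 : ∀ c : W, c ≠ 0 → Nat.card {v : V // q v = c} = 5 := by
      intro c hc
      refine le_antisymm ?_ (hge c hc)
      have hcard : (Finset.univ.erase (0 : W)).card = 3 := by
        rw [Finset.card_erase_of_mem (Finset.mem_univ _), Finset.card_univ,
          ← Nat.card_eq_fintype_card, hW4']
      have := Finset.sum_le_sum (s := (Finset.univ.erase (0 : W)).erase c) (f := fun _ => 5)
        (g := fun c => Nat.card {v : V // q v = c})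
        (fun c hc => hge c (Finset.ne_of_mem_erase (Finset.mem_of_mem_erase hc)))
      rw [Finset.sum_const, Finset.card_erase_of_mem (Finset.mem_erase.2 ⟨hc, Finset.mem_univ _⟩),
        hcard, smul_eq_mul] at this
      rw [← Finset.add_sum_erase _ _ (Finset.mem_erase.2 ⟨hc, Finset.mem_univ c⟩)] at hsum
      omega
    haveI : Nontrivial W := Finite.one_lt_card_iff_nontrivial.1 (by omega)
    obtain ⟨c, hc⟩ := exists_ne (0 : W)
    let e : Fin 5 ≃ {v : V // q v = c} :=
      ((Finite.equivFin _).trans (finCongr (h5 c hc))).symm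
    let a : Fin 5 → V := fun i => (e i : V)
    have ha : Function.Injective a := Subtype.val_injective.comp e.injective
    have haA : ∀ i, q (a i) = c := fun i => (e i).2
    have hsurjA : ∀ v, q v = c → ∃ i, a i = v := fun v hv => ⟨e.symm ⟨v, hv⟩, by simp [a]⟩
    let σ : G → Fin 5 → Fin 5 := fun x i => e.symm ⟨x • a i, (hinv x _).trans (haA i)⟩
    have hσ : ∀ x i, a (σ x i) = x • a i := fun x i => by simp [a, σ]
    let π : G →* Equiv.Perm (Fin 5) := MonoidHom.toHomPerm
      { toFun := σ
        map_one' := funext fun i => ha (by rw [hσ, one_smul]; rfl)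
        map_mul' := fun x y => funext fun i => ha (by
          show a (σ (x * y) i) = a (σ x (σ y i))
          rw [hσ, hσ, hσ, mul_smul]) }
    have hπ : ∀ x i, a (π x i) = x • a i := hσ
    -- the five vectors span
    have hspan : AddSubgroup.closure (Set.range a) = ⊤ := by
      set S := AddSubgroup.closure (Set.range a)
      have hinvS : ∀ x : G, ∀ v ∈ (S : Set V) \ {0}, x ∈ P → x • v ∈ (S : Set V) \ {0} := by
        rintro x v ⟨hv, hv0⟩ -
        refine ⟨?_, fun h => hv0 ((smul_eq_zero_iff_eq x).1 h)⟩
        have hle : S ≤ S.comap (DistribMulAction.toAddMonoidHom V x) := by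
          rw [AddSubgroup.closure_le]
          rintro _ ⟨i, rfl⟩
          exact AddSubgroup.subset_closure ⟨π x i, hπ x i⟩
        exact hle hv
      have hd := hfree rfl _ hinvS (by simp)
      rw [Nat.card_coe_set_eq, Set.ncard_diff_singleton_of_mem S.zero_mem,
        ← Nat.card_coe_set_eq] at hd
      have h6 : 6 ≤ Nat.card S := by
        have hin : Function.Injective (fun o : Option (Fin 5) => o.elim (0 : S)
            fun i => ⟨a i, AddSubgroup.subset_closure ⟨i, rfl⟩⟩) := by
          rintro (_ | i) (_ | j) h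
          · rfl
          · exact absurd (congrArg Subtype.val h).symm (fun h0 => hc (by
              rw [← haA j, show a j = 0 from h0, hq0]))
          · exact absurd (congrArg Subtype.val h) (fun h0 => hc (by
              rw [← haA i, show a i = 0 from h0, hq0]))
          · exact congrArg some (ha (Subtype.mk.inj (show (⟨a i, _⟩ : S) = ⟨a j, _⟩ from h)))
        simpa using Nat.card_le_card_of_injective _ hin
      obtain ⟨k, hk4, hk⟩ := (Nat.dvd_prime_pow Nat.prime_two).1 (hn ▸ S.card_addSubgroup_dvd_card)
      refine AddSubgroup.eq_top_of_card_eq S ?_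
      change 5 ∣ Nat.card S - 1 at hd
      rw [hk] at hd h6
      rw [hk, hn]
      interval_cases k <;> first | rfl | (norm_num at hd; done) | (norm_num at h6; done)
    have hπinj : Function.Injective π := by
      rw [injective_iff_map_eq_one]
      intro x hx
      refine FaithfulSMul.eq_of_smul_eq_smul (α := V) fun v => ?_
      rw [one_smul]
      have hle : AddSubgroup.closure (Set.range a) ≤
          AddMonoidHom.eqLocus (DistribMulAction.toAddMonoidHom V x) (AddMonoidHom.id V) := by
        rw [AddSubgroup.closure_le]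
        rintro _ ⟨i, rfl⟩
        show x • a i = a i
        rw [← hπ, hx]
        rfl
      exact hle (hspan ▸ AddSubgroup.mem_top v)
    have halt : alternatingGroup (Fin 5) ≤ π.range := by
      by_contra hnle
      apply hns
      haveI : Group.IsSolvable ↥(π.range.subgroupOf (alternatingGroup (Fin 5))) := by
        set H := π.range.subgroupOf (alternatingGroup (Fin 5))
        have hd := H.card_subgroup_dvd_card
        have h60 : Nat.card (alternatingGroup (Fin 5)) = 60 := by
          rw [nat_card_alternatingGroup, Nat.card_eq_fintype_card, Fintype.card_fin]; rfl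
        have hidx := H.card_mul_index
        rw [h60] at hidx
        have hne : Nat.card H ≠ 60 := fun h => hnle (by
          have : H = ⊤ := Subgroup.eq_top_of_card_eq H (h.trans h60.symm)
          rwa [Subgroup.subgroupOf_eq_top] at this)
        have h30 : Nat.card H ≠ 30 := fun h => by
          rw [h] at hidx
          have hN := Subgroup.normal_of_index_eq_two (H := H) (by omega)
          haveI := alternatingGroup.isSimpleGroup_five
          rcases IsSimpleGroup.eq_bot_or_eq_top_of_normal H hN with hb | ht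
          · rw [hb, Subgroup.card_bot] at h; omega
          · rw [ht, Subgroup.card_top, h60] at h; omega
        rw [h60] at hd
        have hmem : Nat.card H ∈ Nat.divisors 60 := Nat.mem_divisors.2 ⟨hd, by norm_num⟩
        rw [show Nat.divisors 60 = ({1, 2, 3, 4, 5, 6, 10, 12, 15, 20, 30, 60} : Finset ℕ) by decide]
          at hmem
        simp only [Finset.mem_insert, Finset.mem_singleton] at hmem
        rcases hmem with h | h | h | h | h | h | h | h | h | h | h | h
        · exact CfsgLib.Burnside.isSolvable_of_card_eq (p := 2) (q := 3) (a := 0) (b := 0) Nat.prime_two Nat.prime_three h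
        · exact CfsgLib.Burnside.isSolvable_of_card_eq (p := 2) (q := 3) (a := 1) (b := 0) Nat.prime_two Nat.prime_three h
        · exact CfsgLib.Burnside.isSolvable_of_card_eq (p := 2) (q := 3) (a := 0) (b := 1) Nat.prime_two Nat.prime_three h
        · exact CfsgLib.Burnside.isSolvable_of_card_eq (p := 2) (q := 3) (a := 2) (b := 0) Nat.prime_two Nat.prime_three h
        · exact CfsgLib.Burnside.isSolvable_of_card_eq (p := 2) (q := 5) (a := 0) (b := 1) Nat.prime_two Nat.prime_five h
        · exact CfsgLib.Burnside.isSolvable_of_card_eq (p := 2) (q := 3) (a := 1) (b := 1) Nat.prime_two Nat.prime_three h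
        · exact CfsgLib.Burnside.isSolvable_of_card_eq (p := 2) (q := 5) (a := 1) (b := 1) Nat.prime_two Nat.prime_five h
        · exact CfsgLib.Burnside.isSolvable_of_card_eq (p := 2) (q := 3) (a := 2) (b := 1) Nat.prime_two Nat.prime_three h
        · exact CfsgLib.Burnside.isSolvable_of_card_eq (p := 3) (q := 5) (a := 1) (b := 1) Nat.prime_three Nat.prime_five h
        · exact CfsgLib.Burnside.isSolvable_of_card_eq (p := 2) (q := 5) (a := 2) (b := 1) Nat.prime_two Nat.prime_five h
        · exact absurd h h30
        · exact absurd h hne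
      let sg : π.range →* ℤˣ := Equiv.Perm.sign.comp π.range.subtype
      haveI : Group.IsSolvable π.range := by
        refine Group.isSolvable_of_ker_le_range (G' := ↥(π.range.subgroupOf (alternatingGroup (Fin 5))))
          { toFun := fun x => ⟨(x.1 : Equiv.Perm (Fin 5)), x.2⟩, map_one' := rfl, map_mul' := fun _ _ => rfl }
          sg fun x hx => ?_
        exact ⟨⟨⟨(x : Equiv.Perm (Fin 5)), hx⟩, x.2⟩, rfl⟩
      exact Group.isSolvable_of_surjective
        (f := (MonoidHom.ofInjective hπinj).symm.toMonoidHom) (MonoidHom.ofInjective hπinj).symm.surjective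
    -- all sums of two of the five vectors have the same value
    have hrot : ∀ i j k : Fin 5, i ≠ j → j ≠ k → i ≠ k → q (a i + a j) = q (a j + a k) := by
      intro i j k hij hjk hik
      have hmem : Equiv.swap i j * Equiv.swap j k ∈ alternatingGroup (Fin 5) := by
        rw [Equiv.Perm.mem_alternatingGroup, map_mul, Equiv.Perm.sign_swap hij,
          Equiv.Perm.sign_swap hjk]
        rfl
      obtain ⟨x, hx⟩ := halt hmem
      rw [← hinv x (a i + a j), smul_add, ← hπ, ← hπ, hx]
      simp [Equiv.Perm.mul_apply, Equiv.swap_apply_of_ne_of_ne hij hik,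
        Equiv.swap_apply_of_ne_of_ne hik.symm hjk.symm]
    have hpair : ∀ i j k l : Fin 5, i ≠ j → k ≠ l → q (a i + a j) = q (a k + a l) := by
      have h1 : ∀ i j l : Fin 5, i ≠ j → i ≠ l → q (a i + a j) = q (a i + a l) := fun i j l hij hil => by
        rcases eq_or_ne j l with rfl | hjl
        · rfl
        rw [add_comm (a i) (a j)]
        exact hrot j i l hij.symm hil hjl
      intro i j k l hij hkl
      rcases eq_or_ne i k with rfl | hik
      · exact h1 i j l hij hkl
      · rw [h1 i j k hij hik, add_comm (a i) (a k), h1 k i l hik.symm hkl]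
    have hsum0 : ∑ i, a i = 0 := by
      have : (∑ i, a i) ∈ F := by
        show g • ∑ i, a i = ∑ i, a i
        rw [Finset.smul_sum]
        exact Fintype.sum_equiv (π g) _ _ fun i => (hπ g i).symm
      rwa [AddSubgroup.card_eq_one.1 (show Nat.card F = 1 by rw [hm, pow_zero]),
        AddSubgroup.mem_bot] at this
    have cancel : ∀ x y z : V, x + y = z → y = x + z := fun x y z h => by
      rw [← h, ← add_assoc, hV, zero_add]
    have hne : a 0 + a 1 ≠ 0 := fun h => by
      exact absurd (ha (show a 1 = a 0 by simpa using cancel _ _ _ h)) (by decide)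
    have h4 : ∀ i j k l : Fin 5, i < j → k < l → a i + a j = a k + a l → i = k ∧ j = l := by
      intro i j k l hij hkl h
      by_cases hik : i = k
      · subst hik; exact ⟨rfl, ha (add_left_cancel h)⟩
      by_cases hjl : j = l
      · subst hjl; exact ⟨ha (add_right_cancel h), rfl⟩
      by_cases hil : i = l
      · subst hil
        rw [add_comm (a k)] at h
        exact absurd (ha (add_left_cancel h)) (by omega)
      by_cases hjk : j = k
      · subst hjk
        rw [add_comm (a j)] at h
        exact absurd (ha (add_right_cancel h)) (by omega)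
      exfalso
      have hex : ∀ i j k l : Fin 5, i ≠ j → k ≠ l → i ≠ k → i ≠ l → j ≠ k → j ≠ l →
          ∃ w, (Finset.univ : Finset (Fin 5)) = {i, j, k, l, w} ∧ w ≠ i ∧ w ≠ j ∧ w ≠ k ∧ w ≠ l := by
        decide
      obtain ⟨w, hu, hwi, hwj, hwk, hwl⟩ := hex i j k l hij.ne hkl.ne hik hil hjk hjl
      rw [hu, Finset.sum_insert (by simp [hij.ne, hik, hil, hwi.symm]),
        Finset.sum_insert (by simp [hjk, hjl, hwj.symm]),
        Finset.sum_insert (by simp [hkl.ne, hwk.symm]),
        Finset.sum_insert (by simp [hwl.symm]), Finset.sum_singleton, ← add_assoc, h,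
        ← add_assoc, ← add_assoc] at hsum0
      rw [show a k + a l + a k + a l + a w = (a k + a k) + (a l + a l) + a w by abel, hV, hV,
        zero_add, zero_add] at hsum0
      exact hc (by rw [← haA w, hsum0, hq0])
    have h5' := h5 _ (hq _ hne)
    let T := {x : Fin 5 × Fin 5 // x.1 < x.2}
    let f : T → {v : V // q v = q (a 0 + a 1)} := fun x =>
      ⟨a x.1.1 + a x.1.2, hpair _ _ _ _ x.2.ne (by decide)⟩
    have hf : Function.Injective f := fun x y h => Subtype.ext (Prod.ext_iff.2
      (h4 _ _ _ _ x.2 y.2 (congrArg Subtype.val h)))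
    have h10 : Nat.card T = 10 := by rw [Nat.card_eq_fintype_card]; decide
    have := Nat.card_le_card_of_injective f hf
    omega
  · -- an element of order seven with a fixed vector
    obtain ⟨u, hu, hu0⟩ : ∃ u ∈ F, u ≠ 0 := by
      by_contra h
      push Not at h
      have hb : F = ⊥ := (AddSubgroup.eq_bot_iff_forall _).2 h
      rw [hb, AddSubgroup.card_bot] at hm
      norm_num at hm
    obtain ⟨hK8, huK⟩ := card_ker_le q hV hW hW4 hD hq u hu0
    have hinvK : ∀ x : G, ∀ v ∈ ((polarHom q hD u).ker : Set V), x ∈ P →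
        x • v ∈ ((polarHom q hD u).ker : Set V) := by
      intro x v hv hx
      have hle : P ≤ MulAction.stabilizer G u := Subgroup.zpowers_le.2 hu
      show q (u + x • v) + q u + q (x • v) = 0
      rw [show u + x • v = x • (u + v) by rw [smul_add, show x • u = u from hle hx], hinv, hinv]
      exact hv
    have hk := hmod _ hinvK
    have hfix : Nat.card {v : V // v ∈ ((polarHom q hD u).ker : Set V) ∧ g • v = v} = 2 := by
      rw [← pow_one 2, ← hm]
      refine Nat.card_congr (Equiv.subtypeEquivRight fun v => ⟨fun h => h.2, fun h => ⟨?_, h⟩⟩)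
      rcases eq_or_ne v 0 with rfl | hv
      · exact zero_mem _
      rcases eq_or_ne v u with rfl | hvu
      · exact huK
      exfalso
      haveI := Fintype.ofFinite F
      have h3 : ({0, ⟨u, hu⟩, ⟨v, h⟩} : Finset F).card = 3 := by
        rw [Finset.card_insert_of_notMem, Finset.card_insert_of_notMem, Finset.card_singleton]
        · simpa [Subtype.ext_iff] using hvu.symm
        · simp [Subtype.ext_iff, hu0.symm, hv.symm]
      have := Finset.card_le_univ ({0, ⟨u, hu⟩, ⟨v, h⟩} : Finset F)
      rw [h3, ← Nat.card_eq_fintype_card, hm] at this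
      omega
    rw [hfix] at hk
    have hprod : Nat.card (polarHom q hD u).range * Nat.card (polarHom q hD u).ker = 2 ^ 4 := by
      rw [← hn, AddSubgroup.card_eq_card_quotient_mul_card_addSubgroup (polarHom q hD u).ker,
        Nat.card_congr (QuotientAddGroup.quotientKerEquivRange (polarHom q hD u)).toEquiv]
    have hr : Nat.card (polarHom q hD u).range ≤ 4 := (Finite.card_subtype_le _).trans hW4
    obtain ⟨k, -, hk'⟩ := (Nat.dvd_prime_pow Nat.prime_two).1
      (show Nat.card (polarHom q hD u).ker ∣ 2 ^ 4 from Dvd.intro_left _ hprod)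
    change Nat.card (polarHom q hD u).ker ≡ 2 [MOD 7] at hk
    rw [hk'] at hk hK8 hprod
    have hk2 : 4 ≤ 2 ^ k := by nlinarith
    have hk3 : k ≤ 3 := (Nat.pow_le_pow_iff_right (a := 2) (by norm_num)).1 (by omega)
    interval_cases k <;> simp [Nat.ModEq] at hk hk2
  · -- an element of order seven on eight vectors
    obtain ⟨hge, hsum⟩ := hfibcard le_rfl rfl
    have hcard : (Finset.univ.erase (0 : W)).card = 3 := by
      rw [Finset.card_erase_of_mem (Finset.mem_univ _), Finset.card_univ,
        ← Nat.card_eq_fintype_card, hW3 le_rfl]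
    have := Finset.sum_le_sum (s := Finset.univ.erase (0 : W)) (f := fun _ => 7)
      (g := fun c => Nat.card {v : V // q v = c}) (fun c hc => hge c (Finset.ne_of_mem_erase hc))
    rw [Finset.sum_const, hcard, smul_eq_mul, hsum] at this
    omega

end Main

end CfsgLib.AnisotropicQuad
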