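import Cfsg.Agent.Lib.TwoGroups.BenderSubnormal

/-!
Bender: overgroups of a large subnormal subgroup of `F*` of a maximal subgroup of a simple group.
-/

set_option autoImplicit false
set_option linter.style.haveILetI false

namespace CfsgLib.TwoGroups.BenderMaximal

open Subgroup CfsgLib.TwoGroups.BenderSubnormal

theorem main {G : Type*} [Group G] [Finite G] [IsSimpleGroup G]
    (A : Subgroup G) (hA : IsCoatom A) (S : Subgroup G)
    (hSF : S ≤ (Cfsg.generalizedFittingSubgroup ↥A).map A.subtype)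
    (hSsn : (S.subgroupOf ((Cfsg.generalizedFittingSubgroup ↥A).map A.subtype)).IsSubnormal)
    (hSC : (Cfsg.generalizedFittingSubgroup ↥A).map A.subtype ⊓ Subgroup.centralizer (S : Set G) ≤ S)
    (B : Subgroup G) (hSB : S ≤ B) :
    (∀ q : ℕ, q.Prime → ¬ q ∣ Nat.card (Cfsg.fittingSubgroup ↥A) →
      (Cfsg.pCore q ↥B).map B.subtype ⊓ A = ⊥) ∧
    (∀ p : ℕ, p.Prime → p ∣ Nat.card (Cfsg.fittingSubgroup ↥A) →
      ∀ x ∈ (Cfsg.pCore p ↥B).map B.subtype,
      ∀ y ∈ (Cfsg.pResidual p ↥(Cfsg.generalizedFittingSubgroup ↥A)).map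
        ((Cfsg.generalizedFittingSubgroup ↥A).subtype),
      x * (A.subtype y) = (A.subtype y) * x) := by
  set F := Cfsg.generalizedFittingSubgroup ↥A
  haveI := Components.gFitting_normal (G := A)
  set S' : Subgroup A := S.subgroupOf A
  have hS'F : S' ≤ F := fun x hx => by
    obtain ⟨f, hf, hfx⟩ := hSF (Subgroup.mem_subgroupOf.1 hx)
    rwa [← A.subtype_injective hfx]
  have hSn : S'.IsSubnormal := by
    refine Subgroup.IsSubnormal.trans hS'F ?_ Components.gFitting_normal.isSubnormal
    have h := hSsn.comap (A.subtype.subgroupMap F)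
    rwa [show S'.subgroupOf F = (S.subgroupOf (F.map A.subtype)).comap (A.subtype.subgroupMap F)
      from rfl]
  have hC : F ⊓ Subgroup.centralizer (S' : Set A) ≤ S' := by
    intro x hx
    obtain ⟨hx1, hx2⟩ := Subgroup.mem_inf.1 hx
    refine Subgroup.mem_subgroupOf.2 (hSC ⟨⟨x, hx1, rfl⟩, Subgroup.mem_centralizer_iff.2 fun s hs => ?_⟩)
    obtain ⟨f, -, rfl⟩ := hSF hs
    exact congrArg A.subtype (Subgroup.mem_centralizer_iff.1 hx2 f hs)
  have hSA : S ≤ A := hSF.trans (Subgroup.map_subtype_le _)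
  -- the `r`-core of `B` inside `A`
  have hcore : ∀ r : ℕ, r.Prime →
      IsPGroup r (((Cfsg.pCore r ↥B).map B.subtype).comap A.subtype) ∧
      S' ≤ Subgroup.normalizer ((((Cfsg.pCore r ↥B).map B.subtype).comap A.subtype : Subgroup A) : Set A) ∧
      S ≤ Subgroup.normalizer (((Cfsg.pCore r ↥B).map B.subtype : Subgroup G) : Set G) ∧
      IsPGroup r ((Cfsg.pCore r ↥B).map B.subtype) := by
    intro r hr
    haveI := Fact.mk hr
    have hp : IsPGroup r ((Cfsg.pCore r ↥B).map B.subtype) :=
      (Components.pCore_isPGroup (G := B) r).map _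
    have hn : S ≤ Subgroup.normalizer (((Cfsg.pCore r ↥B).map B.subtype : Subgroup G) : Set G) :=
      hSB.trans (LocalEvenB.le_normalizer_pCoreOf (p := r) B)
    refine ⟨hp.comap_of_injective _ A.subtype_injective, fun s hs => ?_, hn, hp⟩
    have h1 := Subgroup.mem_normalizer_iff.1 (hn (Subgroup.mem_subgroupOf.1 hs))
    exact Subgroup.mem_normalizer_iff.2 fun y => h1 (A.subtype y)
  refine ⟨fun q hq hnd => ?_, fun p hp hdvd x hx y hy => ?_⟩
  · haveI := Fact.mk hq
    obtain ⟨h1, h2, -, -⟩ := hcore q hq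
    have h := eq_bot_of_not_dvd hS'F hSn hC hnd h1 h2
    refine (Subgroup.eq_bot_iff_forall _).2 fun x hx => ?_
    have hx' : (⟨x, hx.2⟩ : A) ∈ ((Cfsg.pCore q ↥B).map B.subtype).comap A.subtype := hx.1
    rw [h, Subgroup.mem_bot] at hx'
    exact congrArg Subtype.val hx'
  · haveI := Fact.mk hp
    obtain ⟨h1, h2, hn, hP⟩ := hcore p hp
    set P := (Cfsg.pCore p ↥B).map B.subtype
    set U := coPart A p
    have hQ : ∀ (a : A), (a : G) ∈ P → U ≤ Subgroup.centralizer ({a} : Set A) := fun a ha =>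
      (coPart_le_centralizer hS'F hSn hC h1 h2).trans
        (Subgroup.centralizer_le (Set.singleton_subset_iff.2 ha))
    obtain ⟨y', hy', rfl⟩ := hy
    have hyU : (y' : A) ∈ U := by
      have hle : Cfsg.pResidual p ↥F ≤ U.subgroupOf F := Transfer.pResidual_le_iff.2 fun g hg =>
        Subgroup.mem_subgroupOf.2 (mem_coPart g.2 (by rwa [Subgroup.orderOf_coe]))
      exact Subgroup.mem_subgroupOf.1 (hle hy')
    by_cases hU : U = ⊥
    · rw [hU, Subgroup.mem_bot] at hyU
      simp [hyU]
    -- normalizers of nontrivial normal subgroups of `A`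
    have hnorm : ∀ W : Subgroup A, W.Normal → W ≠ ⊥ →
        Subgroup.centralizer ((W.map A.subtype : Subgroup G) : Set G) ≤ A := by
      intro W hW hW1
      have h3 : A ≤ Subgroup.normalizer ((W.map A.subtype : Subgroup G) : Set G) := by
        have key : ∀ (a : A) (y : G), y ∈ W.map A.subtype → (a : G) * y * (a : G)⁻¹ ∈ W.map A.subtype := by
          rintro a _ ⟨w, hw, rfl⟩
          exact ⟨a * w * a⁻¹, hW.conj_mem w hw a, rfl⟩
        intro a ha
        refine Subgroup.mem_normalizer_iff.2 fun y => ⟨key ⟨a, ha⟩ y, fun h => ?_⟩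
        simpa [mul_assoc] using key ⟨a, ha⟩⁻¹ _ h
      rcases h3.eq_or_lt with h4 | h4
      · exact (Subgroup.centralizer_le_normalizer _).trans h4.symm.le
      · exfalso
        have h5 := hA.2 _ h4
        haveI : (W.map A.subtype).Normal := Subgroup.normalizer_eq_top_iff.1 h5
        rcases Subgroup.Normal.eq_bot_or_eq_top (inferInstance : (W.map A.subtype).Normal) with h6 | h6
        · exact hW1 ((Subgroup.map_eq_bot_iff_of_injective _ A.subtype_injective).1 h6)
        · exact hA.1 (top_unique (h6 ▸ Subgroup.map_subtype_le W))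
    have hO : Cfsg.pCore p A ≠ ⊥ := pCore_ne_bot_of_dvd hdvd
    set Z := (coreCentre A p).map A.subtype
    have hZA : Subgroup.centralizer (Z : Set G) ≤ A :=
      hnorm _ (coreCentre_normal p) (coreCentre_ne_bot hO)
    have hfix : ∀ s ∈ S', (orderOf s).Coprime p →
        (s : G) ∈ Subgroup.centralizer (P : Set G) := by
      intro s hs hso
      have hsU : s ∈ U := mem_coPart (hS'F hs) hso
      have hsZ : (s : G) ∈ Subgroup.centralizer (Z : Set G) := by
        refine Subgroup.mem_centralizer_iff.2 ?_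
        rintro _ ⟨z, hz, rfl⟩
        exact congrArg A.subtype
          (Subgroup.mem_centralizer_iff.1 (coPart_le_centralizer_pCore p hsU) z hz.1)
      refine LocalEvenB.mem_centralizer_of_axb (B := Z) (by rwa [Subgroup.orderOf_coe]) hP
        (((Components.pCore_isPGroup (G := A) p).to_le inf_le_left).map _) ?_
        (hn (Subgroup.mem_subgroupOf.1 hs)) hsZ ?_
      · rintro _ ⟨z, hz, rfl⟩
        exact hn (Subgroup.mem_subgroupOf.1 (coreCentre_le hS'F hSn hC hz))
      · refine Subgroup.mem_centralizer_iff.2 fun r hr => ?_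
        have hrA : r ∈ A := hZA hr.2
        exact congrArg A.subtype (Subgroup.mem_centralizer_iff.1 (hQ ⟨r, hrA⟩ hr.1 hsU) _
          (Set.mem_singleton (⟨r, hrA⟩ : A)))
    have hPA : P ≤ A := by
      obtain ⟨W, hWn, hW1, hWS⟩ : ∃ W : Subgroup A, W.Normal ∧ W ≠ ⊥ ∧
          W ≤ (Subgroup.centralizer (P : Set G)).comap A.subtype := by
        by_cases hE : Cfsg.layer A = ⊥
        · obtain ⟨l, hl, hne, hl1⟩ : ∃ l, l.Prime ∧ l ≠ p ∧ Cfsg.pCore l A ≠ ⊥ := by
            by_contra hcon
            push Not at hcon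
            exact hU (le_bot_iff.1 (coPart_le_iff.2 ⟨hE.le, fun l hl hne => (hcon l hl hne).le⟩))
          haveI := Fact.mk hl
          refine ⟨_, coreCentre_normal l, coreCentre_ne_bot hl1, fun z hz => hfix z
            (coreCentre_le hS'F hSn hC hz) ?_⟩
          obtain ⟨k, hk⟩ := Components.pCore_isPGroup l ⟨z, hz.1⟩
          exact Nat.Coprime.coprime_dvd_left (orderOf_dvd_of_pow_eq_one (congrArg Subtype.val hk))
            (((Nat.coprime_primes hl hp).2 hne).pow_left k)
        · exact ⟨_, Components.layer_normal, hE, Components.perfect_le_of_coprime (p := p)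
            Components.layer_perfect fun z hz hzo => hfix z (layer_le hSn hC hz) hzo⟩
      exact (Subgroup.le_centralizer_iff.1 (Subgroup.map_le_iff_le_comap.2 hWS)).trans (hnorm W hWn hW1)
    exact congrArg A.subtype (Subgroup.mem_centralizer_iff.1 (hQ ⟨x, hPA hx⟩ hx hyU) _
      (Set.mem_singleton (⟨x, hPA hx⟩ : A)))

end CfsgLib.TwoGroups.BenderMaximal
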