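import Cfsg.Agent.Lib.Components.FStar
import Cfsg.Agent.Lib.Components.PLayer
import Cfsg.Agent.Lib.Core.Nilpotent
import Cfsg.Agent.Lib.LocalEven.PClosed
import Cfsg.Agent.Lib.LocalEvenB.CharP
import Cfsg.Agent.Lib.Transfer.PResidual

/-!
Subnormal subgroups `S` of `F*(A)` with `C_{F*(A)}(S) ≤ S`, and the `r`-subgroups that they normalize.
-/

set_option autoImplicit false
set_option linter.style.haveILetI false

namespace CfsgLib.TwoGroups.BenderSubnormal

open Subgroup

variable {A : Type*} [Group A] [Finite A]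

omit [Finite A] in
/-- An element lies in a subgroup as soon as all its powers of prime power order do. -/
theorem mem_of_primePowers [Finite A] {x : A} {H : Subgroup A}
    (h : ∀ l k j : ℕ, l.Prime → orderOf (x ^ k) = l ^ j → x ^ k ∈ H) : x ∈ H := by
  have hd : orderOf x ∣ Nat.card ↥(H ⊓ Subgroup.zpowers x : Subgroup A) := by
    refine (Nat.dvd_iff_prime_pow_dvd_dvd _ _).2 fun l j hl hlj => ?_
    have ho : orderOf (x ^ (orderOf x / l ^ j)) = l ^ j :=
      orderOf_pow_orderOf_div (orderOf_pos x).ne' hlj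
    have hm : x ^ (orderOf x / l ^ j) ∈ (H ⊓ Subgroup.zpowers x : Subgroup A) :=
      ⟨h l _ j hl ho, Subgroup.npow_mem_zpowers x _⟩
    rw [← ho]
    exact (Subgroup.orderOf_mk _ hm).symm ▸ orderOf_dvd_natCard (G := ↥(H ⊓ Subgroup.zpowers x : Subgroup A)) ⟨_, hm⟩
  have heq : H ⊓ Subgroup.zpowers x = Subgroup.zpowers x :=
    Subgroup.eq_of_le_of_card_ge inf_le_right (by
      rw [Nat.card_zpowers]
      exact Nat.le_of_dvd Nat.card_pos hd)
  exact inf_eq_right.1 heq (Subgroup.mem_zpowers x)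

theorem fitting_power_mem_pCore {f : A} (hf : f ∈ Cfsg.fittingSubgroup A) {l j : ℕ}
    (ho : orderOf f = l ^ j) : f ∈ Cfsg.pCore l A := by
  haveI := Components.fitting_isNilpotent (G := A)
  have hle : Subgroup.zpowers f ≤ Cfsg.fittingSubgroup A := Subgroup.zpowers_le.2 hf
  have hsn : (Subgroup.zpowers f).IsSubnormal :=
    Subgroup.IsSubnormal.trans hle (Core.isSubnormal_of_isNilpotent _)
      Components.fitting_normal.isSubnormal
  exact Components.subnormal_pGroup_le_pCore hsn
    (IsPGroup.of_card (n := j) (by rw [Nat.card_zpowers, ho])) (Subgroup.mem_zpowers f)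

theorem fitting_le_of_pCore_le {H : Subgroup A}
    (h : ∀ l : ℕ, l.Prime → Cfsg.pCore l A ≤ H) : Cfsg.fittingSubgroup A ≤ H :=
  fun f hf => mem_of_primePowers fun l k _ hl ho => h l hl
    (fitting_power_mem_pCore (Subgroup.pow_mem _ hf k) ho)

theorem gFitting_le {H : Subgroup A} (hE : Cfsg.layer A ≤ H)
    (h : ∀ l : ℕ, l.Prime → Cfsg.pCore l A ≤ H) : Cfsg.generalizedFittingSubgroup A ≤ H :=
  sup_le hE (fitting_le_of_pCore_le h)

theorem pCore_comm_of_ne {l m : ℕ} [Fact l.Prime] [Fact m.Prime] (hlm : l ≠ m) {x y : A}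
    (hx : x ∈ Cfsg.pCore l A) (hy : y ∈ Cfsg.pCore m A) : x * y = y * x := by
  haveI := Components.pCore_normal (G := A) l
  haveI := Components.pCore_normal (G := A) m
  exact Subgroup.commute_of_normal_of_disjoint _ _ inferInstance inferInstance
    (IsPGroup.disjoint_of_ne (p₁ := l) (p₂ := m) hlm _ _ (Components.pCore_isPGroup l)
      (Components.pCore_isPGroup m)) x y hx hy

theorem layer_le_centralizer_fitting :
    Cfsg.layer A ≤ Subgroup.centralizer (Cfsg.fittingSubgroup A : Set A) :=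
  Subgroup.commutator_eq_bot_iff_le_centralizer.1 Components.layer_commutes_fitting

/-- The part of `F*` of order prime to `r`. -/
def coPart (A : Type*) [Group A] (r : ℕ) : Subgroup A :=
  Cfsg.layer A ⊔ ⨆ l : {l : ℕ // l.Prime ∧ l ≠ r}, Cfsg.pCore l.1 A

theorem coPart_le_iff {r : ℕ} {H : Subgroup A} :
    coPart A r ≤ H ↔ Cfsg.layer A ≤ H ∧ ∀ l : ℕ, l.Prime → l ≠ r → Cfsg.pCore l A ≤ H := by
  unfold coPart
  rw [sup_le_iff, iSup_le_iff]
  exact and_congr_right fun _ => ⟨fun h l hl hne => h ⟨l, hl, hne⟩, fun h l => h l.1 l.2.1 l.2.2⟩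

theorem coPart_normal (r : ℕ) : (coPart A r).Normal := by
  haveI := Components.layer_normal (G := A)
  haveI : (⨆ l : {l : ℕ // l.Prime ∧ l ≠ r}, Cfsg.pCore l.1 A).Normal :=
    @Subgroup.iSup_normal A _ _ (fun l : {l : ℕ // l.Prime ∧ l ≠ r} => Cfsg.pCore l.1 A)
      (fun l => Components.pCore_normal l.1)
  exact Subgroup.sup_normal _ _

theorem gFitting_le_coPart_sup (r : ℕ) :
    Cfsg.generalizedFittingSubgroup A ≤ coPart A r ⊔ Cfsg.pCore r A := by
  refine gFitting_le (le_sup_left.trans le_sup_left) fun l hl => ?_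
  rcases eq_or_ne l r with rfl | hne
  · exact le_sup_right
  · exact ((coPart_le_iff.1 le_rfl).2 l hl hne).trans le_sup_left

/-- Elements of `F*` of order prime to `r` lie in the `r'`-part. -/
theorem mem_coPart {r : ℕ} [Fact r.Prime] {g : A} (hg : g ∈ Cfsg.generalizedFittingSubgroup A)
    (hgo : (orderOf g).Coprime r) : g ∈ coPart A r := by
  haveI := coPart_normal (A := A) r
  obtain ⟨m, hm, x, hx, rfl⟩ := Subgroup.mem_sup_of_normal_left.1 (gFitting_le_coPart_sup r hg)
  rw [← QuotientGroup.eq_one_iff, ← orderOf_eq_one_iff]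
  obtain ⟨k, hk⟩ := Components.pCore_isPGroup r ⟨x, hx⟩
  have hk' : x ^ r ^ k = 1 := congrArg Subtype.val hk
  have h1 : orderOf ((m * x : A) : A ⧸ coPart A r) ∣ r ^ k := by
    refine orderOf_dvd_of_pow_eq_one ?_
    rw [QuotientGroup.mk_mul, (QuotientGroup.eq_one_iff m).2 hm, one_mul, ← QuotientGroup.mk_pow, hk',
      QuotientGroup.mk_one]
  exact Nat.eq_one_of_dvd_coprimes (hgo.pow_right k)
    (orderOf_map_dvd (QuotientGroup.mk' (coPart A r)) (m * x)) h1

theorem coPart_le_centralizer_pCore (r : ℕ) [Fact r.Prime] :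
    coPart A r ≤ Subgroup.centralizer (Cfsg.pCore r A : Set A) := by
  refine coPart_le_iff.2 ⟨layer_le_centralizer_fitting.trans
    (Subgroup.centralizer_le (Components.pCore_le_fitting r)), fun l hl hne x hx => ?_⟩
  haveI := Fact.mk hl
  exact Subgroup.mem_centralizer_iff.2 fun y hy => pCore_comm_of_ne hne.symm hy hx

variable {S : Subgroup A} (hSF : S ≤ Cfsg.generalizedFittingSubgroup A) (hSn : S.IsSubnormal)
  (hC : Cfsg.generalizedFittingSubgroup A ⊓ Subgroup.centralizer (S : Set A) ≤ S)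

include hSn hC in
theorem layer_le : Cfsg.layer A ≤ S := by
  refine Components.layer_le_iff.2 fun L hL => ?_
  rcases Components.component_le_or_commutes hL hSn with h | h
  · exact h
  · exact fun x hx => hC ⟨Components.component_le_gFitting hL hx,
      Subgroup.commutator_eq_bot_iff_le_centralizer.1 h hx⟩

include hSF hSn hC in
/-- An element of `O_l(A)` centralizing `S ∩ O_l(A)` lies in `S`. -/
theorem pCore_inf_centralizer_le {l : ℕ} [Fact l.Prime] :
    Cfsg.pCore l A ⊓ Subgroup.centralizer ((S ⊓ Cfsg.pCore l A : Subgroup A) : Set A) ≤ S := by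
  intro x hx
  obtain ⟨hx1, hx2⟩ := Subgroup.mem_inf.1 hx
  refine hC ⟨Components.fitting_le_gFitting (Components.pCore_le_fitting l hx1),
    Subgroup.mem_centralizer_iff.2 fun s hs => ?_⟩
  haveI := Components.layer_normal (G := A)
  obtain ⟨e, he, f, hf, rfl⟩ := Subgroup.mem_sup_of_normal_left.1
    (show s ∈ Cfsg.layer A ⊔ Cfsg.fittingSubgroup A from hSF hs)
  have hfS : f ∈ S := (Subgroup.mul_mem_cancel_left _ (layer_le hSn hC he)).1 hs
  have hex : e * x = x * e :=
    ((Subgroup.mem_centralizer_iff.1 (layer_le_centralizer_fitting he)) x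
      (Components.pCore_le_fitting l hx1)).symm
  have hfx : f ∈ Subgroup.centralizer ({x} : Set A) := by
    refine mem_of_primePowers fun m k j hm ho => ?_
    haveI := Fact.mk hm
    have hfm := fitting_power_mem_pCore (Subgroup.pow_mem _ hf k) ho
    rw [Subgroup.mem_centralizer_singleton_iff]
    rcases eq_or_ne m l with rfl | hne
    · exact Subgroup.mem_centralizer_iff.1 hx2 _ ⟨Subgroup.pow_mem _ hfS k, hfm⟩
    · exact pCore_comm_of_ne hne hfm hx1
  rw [mul_assoc, Subgroup.mem_centralizer_singleton_iff.1 hfx, ← mul_assoc, hex, mul_assoc]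

include hSF hSn in
/-- Elements of `S` of order prime to `r` centralize an `r`-subgroup normalized by `S`. -/
theorem coprime_mem_centralizer {r : ℕ} [Fact r.Prime] {Q : Subgroup A} (hQ : IsPGroup r Q)
    (hSQ : S ≤ Subgroup.normalizer (Q : Set A)) {s : A} (hs : s ∈ S)
    (hso : (orderOf s).Coprime r) : s ∈ Subgroup.centralizer (Q : Set A) := by
  refine Subgroup.mem_centralizer_iff.2 fun q hq => ?_
  set W : Subgroup A := Q ⊔ S
  have hidx : ∃ k, (S.subgroupOf W).index = r ^ k := by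
    obtain ⟨a, ha⟩ := IsPGroup.iff_card.1 hQ
    have h0 : S.relIndex W ∣ r ^ a := by
      have h1 := (S.subgroupOf W).card_mul_index
      rw [Nat.card_congr (Subgroup.subgroupOfEquivOfLe (le_sup_right : S ≤ W)).toEquiv] at h1
      have h2 := Components.card_sup_dvd_mul hSQ
      rw [show Nat.card ↥(Q ⊔ S) = Nat.card W from rfl, ← h1, mul_comm (Nat.card Q)] at h2
      rw [← ha]
      exact Nat.dvd_of_mul_dvd_mul_left Nat.card_pos h2
    obtain ⟨b, -, hb⟩ := (Nat.dvd_prime_pow Fact.out).1 h0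
    exact ⟨b, hb⟩
  have hres := LocalEven.pResidual_le_of_subnormal (hSn.subgroupOf (K := W)) hidx
  set t := q * s * q⁻¹
  have htW : t ∈ W :=
    W.mul_mem (W.mul_mem (Subgroup.mem_sup_left hq) (Subgroup.mem_sup_right hs))
      (W.inv_mem (Subgroup.mem_sup_left hq))
  have hto : orderOf t = orderOf s := MulEquiv.orderOf_eq (MulAut.conj q) s
  have htS : t ∈ S := hres (Transfer.mem_pResidual_of_coprime (g := (⟨t, htW⟩ : W))
    (by rwa [Subgroup.orderOf_mk, hto]))
  set z := t * s⁻¹
  have hzS : z ∈ S := S.mul_mem htS (S.inv_mem hs)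
  have hzQ : z ∈ Q := by
    have h1 : s * q⁻¹ * s⁻¹ ∈ Q := (Subgroup.mem_normalizer_iff.1 (hSQ hs) _).1 (Q.inv_mem hq)
    have := Q.mul_mem hq h1
    simpa [z, t, mul_assoc] using this
  have hSQn : ((Q ⊓ S).subgroupOf S).Normal :=
    Subgroup.normal_subgroupOf_of_le_normalizer
      ((le_inf hSQ Subgroup.le_normalizer).trans Subgroup.inf_normalizer_le_normalizer_inf)
  have hsn : (Q ⊓ S : Subgroup A).IsSubnormal :=
    Subgroup.IsSubnormal.trans inf_le_right hSQn.isSubnormal hSn
  have hzc : z ∈ Cfsg.pCore r A :=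
    Components.subnormal_pGroup_le_pCore hsn (hQ.to_le inf_le_left) ⟨hzQ, hzS⟩
  have hcomm : Commute z s := Subgroup.mem_centralizer_iff.1
    (coPart_le_centralizer_pCore r (mem_coPart (hSF hs) hso)) z hzc
  have hts : t = z * s := by simp [z, mul_assoc]
  have hz1 : z ^ orderOf s = 1 := by
    have := pow_orderOf_eq_one t
    rw [hto, hts, hcomm.mul_pow, pow_orderOf_eq_one, mul_one] at this
    exact this
  obtain ⟨k, hk⟩ := hQ ⟨z, hzQ⟩
  have hz : z = 1 := orderOf_eq_one_iff.1 (Nat.eq_one_of_dvd_coprimes (hso.pow_right k)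
    (orderOf_dvd_of_pow_eq_one hz1) (orderOf_dvd_of_pow_eq_one (congrArg Subtype.val hk)))
  rw [hz, one_mul] at hts
  exact mul_inv_eq_iff_eq_mul.1 hts

include hSF hSn hC in
/-- An `r`-subgroup normalized by `S` centralizes the `r'`-part of `F*`. -/
theorem coPart_le_centralizer {r : ℕ} [Fact r.Prime] {Q : Subgroup A} (hQ : IsPGroup r Q)
    (hSQ : S ≤ Subgroup.normalizer (Q : Set A)) :
    coPart A r ≤ Subgroup.centralizer (Q : Set A) := by
  refine coPart_le_iff.2 ⟨?_, fun l hl hne => ?_⟩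
  · exact Components.perfect_le_of_coprime (p := r) Components.layer_perfect fun x hx hxo =>
      coprime_mem_centralizer hSF hSn hQ hSQ (layer_le hSn hC hx) hxo
  haveI := Fact.mk hl
  have hfix : S ⊓ Cfsg.pCore l A ≤ Subgroup.centralizer (Q : Set A) := fun b hb => by
    refine coprime_mem_centralizer hSF hSn hQ hSQ hb.1 ?_
    obtain ⟨k, hk⟩ := Components.pCore_isPGroup l ⟨b, hb.2⟩
    exact Nat.Coprime.coprime_dvd_left (orderOf_dvd_of_pow_eq_one (congrArg Subtype.val hk))
      (((Nat.coprime_primes hl Fact.out).2 hne).pow_left k)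
  refine Subgroup.le_centralizer_iff.1 fun q hq => ?_
  have hqB : q ∈ Subgroup.centralizer ((S ⊓ Cfsg.pCore l A : Subgroup A) : Set A) :=
    Subgroup.le_centralizer_iff.1 hfix hq
  haveI := Components.pCore_normal (G := A) l
  refine LocalEvenB.mem_centralizer_of_axb (B := S ⊓ Cfsg.pCore l A) ?_
    (Components.pCore_isPGroup l) ((Components.pCore_isPGroup l).to_le inf_le_right)
    Subgroup.le_normalizer_of_normal (Subgroup.le_normalizer_of_normal (H := Cfsg.pCore l A)
      (Subgroup.mem_top q)) hqB ?_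
  · obtain ⟨k, hk⟩ := hQ ⟨q, hq⟩
    exact Nat.Coprime.coprime_dvd_left (orderOf_dvd_of_pow_eq_one (congrArg Subtype.val hk))
      (((Nat.coprime_primes Fact.out hl).2 hne.symm).pow_left k)
  · refine Subgroup.centralizer_le (fun x hx => ?_) hqB
    exact ⟨pCore_inf_centralizer_le hSF hSn hC hx, (Subgroup.mem_inf.1 hx).1⟩

include hSF hSn hC in
/-- If `r` does not divide `|F(A)|`, an `r`-subgroup normalized by `S` is trivial. -/
theorem eq_bot_of_not_dvd {r : ℕ} [Fact r.Prime] (hr : ¬ r ∣ Nat.card (Cfsg.fittingSubgroup A))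
    {Q : Subgroup A} (hQ : IsPGroup r Q) (hSQ : S ≤ Subgroup.normalizer (Q : Set A)) : Q = ⊥ := by
  have hsmall : ∀ z : A, z ∈ Cfsg.fittingSubgroup A → ∀ k, z ^ r ^ k = 1 → z = 1 := by
    intro z hz k hk
    refine orderOf_eq_one_iff.1 (Nat.eq_one_of_dvd_coprimes
      (Nat.Coprime.pow_right k ((Nat.Prime.coprime_iff_not_dvd Fact.out).2 hr).symm)
      ?_ (orderOf_dvd_of_pow_eq_one hk))
    rw [← Subgroup.orderOf_mk z hz]
    exact orderOf_dvd_natCard _
  have h0 : Cfsg.pCore r A = ⊥ := (Subgroup.eq_bot_iff_forall _).2 fun z hz => by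
    obtain ⟨k, hk⟩ := Components.pCore_isPGroup r ⟨z, hz⟩
    exact hsmall z (Components.pCore_le_fitting r hz) k (congrArg Subtype.val hk)
  have hF : Cfsg.generalizedFittingSubgroup A ≤ Subgroup.centralizer (Q : Set A) := by
    have := gFitting_le_coPart_sup (A := A) r
    rw [h0, sup_bot_eq] at this
    exact this.trans (coPart_le_centralizer hSF hSn hC hQ hSQ)
  haveI := Components.gFitting_normal (G := A)
  set F := Cfsg.generalizedFittingSubgroup A
  set Z := Subgroup.centralizer (F : Set A) ⊓ F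
  have hQC : Q ≤ Subgroup.centralizer (F : Set A) := Subgroup.le_centralizer_iff.1 hF
  have hQZ : Q ≤ Z := le_inf hQC (hQC.trans Components.centralizer_gFitting_le)
  haveI : IsMulCommutative Z := ⟨⟨fun a b => Subtype.ext
    (Subgroup.mem_centralizer_iff.1 (Subgroup.mem_inf.1 b.2).1 _ (Subgroup.mem_inf.1 a.2).2)⟩⟩
  have hZf : Z ≤ Cfsg.fittingSubgroup A :=
    Components.le_fitting (Subgroup.normal_inf_normal _ _)
      (letI : CommGroup Z := { (inferInstance : Group Z) with mul_comm := fun a b => mul_comm' a b }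
       inferInstance)
  refine (Subgroup.eq_bot_iff_forall _).2 fun z hz => ?_
  obtain ⟨k, hk⟩ := hQ ⟨z, hz⟩
  exact hsmall z (hZf (hQZ hz)) k (congrArg Subtype.val hk)

/-- The centre of `O_l(A)`. -/
def coreCentre (A : Type*) [Group A] (l : ℕ) : Subgroup A :=
  Cfsg.pCore l A ⊓ Subgroup.centralizer (Cfsg.pCore l A : Set A)

theorem coreCentre_normal (l : ℕ) : (coreCentre A l).Normal := by
  haveI := Components.pCore_normal (G := A) l
  exact Subgroup.normal_inf_normal _ _

include hSF hSn hC in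
theorem coreCentre_le {l : ℕ} [Fact l.Prime] : coreCentre A l ≤ S :=
  (inf_le_inf_left _ (Subgroup.centralizer_le inf_le_right)).trans
    (pCore_inf_centralizer_le hSF hSn hC)

theorem coreCentre_ne_bot {l : ℕ} [Fact l.Prime] (h : Cfsg.pCore l A ≠ ⊥) :
    coreCentre A l ≠ ⊥ := by
  haveI := (Subgroup.nontrivial_iff_ne_bot _).2 h
  have hn := (Components.pCore_isPGroup (G := A) l).center_nontrivial
  obtain ⟨⟨z, hz⟩, hz1⟩ := exists_ne (1 : Subgroup.center (Cfsg.pCore l A))
  intro hbot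
  have hmem : (z : A) ∈ coreCentre A l :=
    ⟨z.2, Subgroup.mem_centralizer_iff.2 fun y hy =>
      congrArg Subtype.val (Subgroup.mem_center_iff.1 hz ⟨y, hy⟩)⟩
  rw [hbot, Subgroup.mem_bot] at hmem
  exact hz1 (Subtype.ext (Subtype.ext hmem))

theorem pCore_ne_bot_of_dvd {l : ℕ} [Fact l.Prime] (h : l ∣ Nat.card (Cfsg.fittingSubgroup A)) :
    Cfsg.pCore l A ≠ ⊥ := by
  obtain ⟨f, hf⟩ := exists_prime_orderOf_dvd_card' l h
  intro hbot
  have := fitting_power_mem_pCore f.2 (l := l) (j := 1) (by rw [Subgroup.orderOf_coe, hf, pow_one])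
  rw [hbot, Subgroup.mem_bot, ← orderOf_eq_one_iff, Subgroup.orderOf_coe, hf] at this
  exact (Fact.out : l.Prime).ne_one this

end CfsgLib.TwoGroups.BenderSubnormal
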