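import Cfsg.Agent.Lib.TwoGroups.NormalRankTwoBasic
import Cfsg.Agent.Lib.PGroups.Basic
import Cfsg.Prelude.Def_Transfer

/-!
2-groups of order at least `2 ^ 14` whose fourth upper central term has order 16 (Rudvalis type):
the centralizer `W` of `Z₃` has Frattini subgroup `Z₃`.
-/

set_option autoImplicit false
set_option linter.style.haveILetI false
set_option linter.unusedSectionVars false

namespace CfsgLib.TwoGroups.CentralSixteen

open Subgroup
open scoped commutatorElement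

variable {T : Type*} [Group T] [Finite T]

/-- The hypotheses. -/
structure Setting (T : Type*) [Group T] (W : Subgroup T) : Prop where
  isP : IsPGroup 2 T
  big : 2 ^ 14 ≤ Nat.card T
  four : Nat.card (Subgroup.upperCentralSeries T 4) = 16
  hW : W = centralizer (Subgroup.upperCentralSeries T 3 : Set T)
  hc : Nat.card (frattini W) ≤ 8
  hd : ∀ U : Subgroup W, U.index ≤ 16 → frattini W ≤ U

/-- An index two avoiding subgroup. -/
theorem exists_avoid {W U0 : Subgroup T} {a : T} (hU : U0 ≤ W) (ha : a ∈ W) (haU : a ∉ U0)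
    (hsq : ∀ x ∈ W, x ^ 2 ∈ U0) (hcom : ∀ x ∈ W, ∀ y ∈ W, x * y * x⁻¹ * y⁻¹ ∈ U0) :
    ∃ K : Subgroup T, U0 ≤ K ∧ K ≤ W ∧ a ∉ K ∧ K.relIndex W = 2 ∧
      ∀ x ∈ W, ∀ y ∈ W, x ∉ K → y ∉ K → x * y ∈ K := by
  classical
  let s : Set (Subgroup T) := {K | U0 ≤ K ∧ K ≤ W ∧ a ∉ K}
  haveI : Fintype (Subgroup T) := Fintype.ofFinite _
  obtain ⟨K, hKs, hmax⟩ := s.toFinset.exists_max_image (fun K => Nat.card K)
    (Set.toFinset_nonempty.2 ⟨U0, le_rfl, hU, haU⟩)
  obtain ⟨hUK, hKW, haK⟩ := Set.mem_toFinset.1 hKs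
  have hcov : ∀ x ∈ W, x ∉ K → a⁻¹ * x ∈ K := by
    intro x hx hxK
    let K' : Subgroup T :=
      { carrier := {y | y ∈ W ∧ (y ∈ K ∨ x⁻¹ * y ∈ K)}
        one_mem' := ⟨W.one_mem, Or.inl K.one_mem⟩
        mul_mem' := by
          rintro p q ⟨hp, hp'⟩ ⟨hq, hq'⟩
          refine ⟨W.mul_mem hp hq, ?_⟩
          rcases hp' with hp' | hp' <;> rcases hq' with hq' | hq'
          · exact Or.inl (K.mul_mem hp' hq')
          · refine Or.inr ?_
            rw [show x⁻¹ * (p * q) = (x⁻¹ * p * (x⁻¹)⁻¹ * p⁻¹) * p * (x⁻¹ * q) by group]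
            exact K.mul_mem (K.mul_mem (hUK (hcom _ (W.inv_mem hx) _ hp)) hp') hq'
          · refine Or.inr ?_
            rw [show x⁻¹ * (p * q) = (x⁻¹ * p) * q by group]
            exact K.mul_mem hp' hq'
          · refine Or.inl ?_
            rw [show p * q = x ^ 2 * (x⁻¹ * (x⁻¹ * p) * (x⁻¹)⁻¹ * (x⁻¹ * p)⁻¹) * (x⁻¹ * p) * (x⁻¹ * q) by
              simp only [pow_two]; group]
            exact K.mul_mem (K.mul_mem (K.mul_mem (hUK (hsq x hx))
              (hUK (hcom _ (W.inv_mem hx) _ (W.mul_mem (W.inv_mem hx) hp)))) hp') hq'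
        inv_mem' := by
          rintro p ⟨hp, hp'⟩
          refine ⟨W.inv_mem hp, hp'.imp (fun h => K.inv_mem h) fun h => ?_⟩
          rw [show x⁻¹ * p⁻¹ = (x ^ 2)⁻¹ * (x * p⁻¹ * x⁻¹ * (p⁻¹)⁻¹) * (x⁻¹ * p)⁻¹ by
            simp only [pow_two]; group]
          exact K.mul_mem (K.mul_mem (K.inv_mem (hUK (hsq x hx))) (hUK (hcom _ hx _ (W.inv_mem hp))))
            (K.inv_mem h) }
    by_contra hcon
    have hKK' : K ≤ K' := fun y hy => ⟨hKW hy, Or.inl hy⟩
    have haK' : a ∉ K' := by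
      rintro ⟨-, h | h⟩
      · exact haK h
      · apply hcon
        have := K.inv_mem h
        rwa [mul_inv_rev, inv_inv] at this
    have hK's : K' ∈ s := ⟨hUK.trans hKK', fun y hy => hy.1, haK'⟩
    have := Subgroup.eq_of_le_of_card_ge hKK' (hmax K' (Set.mem_toFinset.2 hK's))
    exact hxK (this ▸ (⟨hx, Or.inr (by rw [inv_mul_cancel]; exact K.one_mem)⟩ : x ∈ K'))
  have hprod : ∀ x ∈ W, ∀ y ∈ W, x ∉ K → y ∉ K → x * y ∈ K := by
    intro x hx y hy hxK hyK
    rw [show x * y = a ^ 2 * (a⁻¹ * (a⁻¹ * x) * (a⁻¹)⁻¹ * (a⁻¹ * x)⁻¹) * (a⁻¹ * x) * (a⁻¹ * y) by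
      simp only [pow_two]; group]
    exact K.mul_mem (K.mul_mem (K.mul_mem (hUK (hsq a ha))
      (hUK (hcom _ (W.inv_mem ha) _ (W.mul_mem (W.inv_mem ha) hx)))) (hcov x hx hxK)) (hcov y hy hyK)
  refine ⟨K, hUK, hKW, haK, ?_, hprod⟩
  rw [Subgroup.relIndex, Subgroup.index_eq_two_iff]
  refine ⟨⟨a, ha⟩, fun b => ?_⟩
  show Xor ((b : T) * a ∈ K) ((b : T) ∈ K)
  by_cases hb : (b : T) ∈ K
  · exact Or.inr ⟨hb, fun h => haK ((K.mul_mem_cancel_left hb).1 h)⟩
  · exact Or.inl ⟨hprod _ b.2 a ha hb haK, hb⟩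

theorem exists_central_step (hP : IsPGroup 2 T) {N : Subgroup T} [hN : N.Normal] (k : ℕ)
    (h : ¬ N ≤ Subgroup.upperCentralSeries T k) :
    ∃ x ∈ N, x ∈ Subgroup.upperCentralSeries T (k + 1) ∧ x ∉ Subgroup.upperCentralSeries T k := by
  classical
  set Z := Subgroup.upperCentralSeries T k
  let s : Set (Subgroup T) := {M | M.Normal ∧ M ≤ N ∧ ¬ M ≤ Z}
  haveI : Fintype (Subgroup T) := Fintype.ofFinite _
  obtain ⟨M, hMs, hmin⟩ := s.toFinset.exists_min_image (fun M => Nat.card M)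
    (Set.toFinset_nonempty.2 ⟨N, hN, le_rfl, h⟩)
  obtain ⟨hMn, hMN, hMZ⟩ := Set.mem_toFinset.1 hMs
  have hM' : ⁅M, (⊤ : Subgroup T)⁆ ≤ Z := by
    by_contra hcon
    have hle : ⁅M, (⊤ : Subgroup T)⁆ ≤ M := Subgroup.commutator_le_left _ _
    have he := Subgroup.eq_of_le_of_card_ge hle (hmin _ (Set.mem_toFinset.2
      ⟨inferInstance, hle.trans hMN, hcon⟩))
    exact NormalRankTwo.not_le_commutator_sup hP hMZ (he.ge.trans le_sup_left)
  obtain ⟨x, hxM, hxZ⟩ := SetLike.not_le_iff_exists.1 hMZ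
  exact ⟨x, hMN hxM, Subgroup.mem_upperCentralSeries_succ_iff.2 fun y =>
    hM' (commutator_mem_commutator hxM (mem_top y)), hxZ⟩

namespace Setting

variable {W : Subgroup T} (S : Setting T W)

local notation "Z" i:max => Subgroup.upperCentralSeries T i

include S

theorem card_Z (i : ℕ) (hi : i ≤ 4) : Nat.card (Z i) = 2 ^ i := by
  haveI : Fact (Nat.Prime 2) := ⟨Nat.prime_two⟩
  have hstrict : ∀ j, j < 4 → Nat.card (Z j) < Nat.card (Z (j + 1)) := by
    intro j hj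
    have hle : Z j ≤ Z (j + 1) := Subgroup.upperCentralSeries_mono T (Nat.le_succ j)
    refine lt_of_le_of_ne (Subgroup.card_le_of_le hle) fun he => ?_
    have h4 : Nat.card (Z j) ≤ 16 := S.four ▸ Subgroup.card_le_of_le (Subgroup.upperCentralSeries_mono T (by omega))
    have hne : ¬ (⊤ : Subgroup T) ≤ Z j := fun h => by
      have := Subgroup.card_le_of_le h
      rw [Subgroup.card_top] at this
      have := S.big
      omega
    obtain ⟨x, -, hx1, hx0⟩ := exists_central_step S.isP (N := ⊤) j hne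
    exact hx0 ((Subgroup.eq_of_le_of_card_ge hle he.ge).symm ▸ hx1)
  choose e he using fun j => IsPGroup.iff_card.1 (S.isP.to_subgroup (Z j))
  have hlt : ∀ j, j < 4 → e j < e (j + 1) := fun j hj => by
    have := hstrict j hj
    rw [he, he] at this
    exact (Nat.pow_lt_pow_iff_right Nat.one_lt_two).1 this
  have h4 : e 4 = 4 := by
    have := S.four
    rw [he] at this
    exact Nat.pow_right_injective le_rfl (this.trans (by norm_num))
  have h0 : e 0 < e 1 := hlt 0 (by norm_num)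
  have h1 : e 1 < e 2 := hlt 1 (by norm_num)
  have h2 : e 2 < e 3 := hlt 2 (by norm_num)
  have h3 : e 3 < e 4 := hlt 3 (by norm_num)
  rw [he]
  interval_cases i <;> congr 1 <;> omega

theorem le_of_not_le {N : Subgroup T} (hN : N.Normal) : ∀ k, k < 4 → ¬ N ≤ Z k → Z (k + 1) ≤ N := by
  haveI : Fact (Nat.Prime 2) := ⟨Nat.prime_two⟩
  intro k
  induction k with
  | zero =>
    intro _ h
    haveI := hN
    obtain ⟨x, hxN, hx1, hx0⟩ := exists_central_step S.isP 0 h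
    have hlt : (Z 0) ≤ N ⊓ Z 1 := by rw [Subgroup.upperCentralSeries_zero]; exact bot_le
    have hc : Nat.card (Z 0) < Nat.card (N ⊓ Z 1 : Subgroup T) :=
      lt_of_le_of_ne (Subgroup.card_le_of_le hlt) fun he =>
        hx0 ((Subgroup.eq_of_le_of_card_ge hlt he.ge).symm ▸ ⟨hxN, hx1⟩)
    rw [S.card_Z 0 (by norm_num)] at hc
    exact (Subgroup.eq_of_le_of_card_ge (inf_le_right : N ⊓ Z 1 ≤ Z 1) (by
      rw [S.card_Z 1 (by norm_num)]; omega)).ge.trans inf_le_left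
  | succ k ih =>
    intro hk h
    have hle : Z (k + 1) ≤ N := ih (by omega) fun hc => h (hc.trans (Subgroup.upperCentralSeries_mono T (Nat.le_succ k)))
    haveI := hN
    obtain ⟨x, hxN, hx1, hx0⟩ := exists_central_step S.isP (k + 1) h
    have hle' : Z (k + 1) ≤ N ⊓ Z (k + 2) := le_inf hle (Subgroup.upperCentralSeries_mono T (Nat.le_succ _))
    have hc : Nat.card (Z (k + 1)) < Nat.card (N ⊓ Z (k + 2) : Subgroup T) :=
      lt_of_le_of_ne (Subgroup.card_le_of_le hle') fun he =>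
        hx0 ((Subgroup.eq_of_le_of_card_ge hle' he.ge).symm ▸ ⟨hxN, hx1⟩)
    obtain ⟨j, hj⟩ := IsPGroup.iff_card.1 (S.isP.to_subgroup (N ⊓ Z (k + 2)))
    rw [S.card_Z (k + 1) (by omega), hj] at hc
    have hj' := (Nat.pow_lt_pow_iff_right Nat.one_lt_two).1 hc
    exact (Subgroup.eq_of_le_of_card_ge (inf_le_right : N ⊓ Z (k + 2) ≤ Z (k + 2)) (by
      rw [S.card_Z (k + 2) (by omega), hj]; exact Nat.pow_le_pow_right two_pos hj')).ge.trans inf_le_left

theorem le_Z_of_card {N : Subgroup T} (hN : N.Normal) {k : ℕ} (hk : k < 4) (h : Nat.card N ≤ 2 ^ k) :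
    N ≤ Z k := by
  by_contra hcon
  have h1 := Subgroup.card_le_of_le (S.le_of_not_le hN k hk hcon)
  rw [S.card_Z (k + 1) (by omega), pow_succ] at h1
  have := Nat.one_le_two_pow (n := k)
  omega

theorem W_normal : W.Normal := by rw [S.hW]; infer_instance

/-- `T / W` has order at most 8: three elements determine the action on `Z₃`. -/
theorem index_W_le : W.index ≤ 8 := by
  classical
  haveI : Fact (Nat.Prime 2) := ⟨Nat.prime_two⟩
  have h0 : Z 0 = ⊥ := Subgroup.upperCentralSeries_zero T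
  have hstep : ∀ j, j < 3 → ∃ a ∈ Z (j + 1), a ∉ Z j ∧ ∀ x ∈ Z (j + 1), x ∈ Z j ∨ a⁻¹ * x ∈ Z j := by
    intro j hj
    have hle : Z j ≤ Z (j + 1) := Subgroup.upperCentralSeries_mono T (Nat.le_succ j)
    have hi : (Z j).relIndex (Z (j + 1)) = 2 := by
      have h := Subgroup.relIndex_mul_relIndex ⊥ (Z j) (Z (j + 1)) bot_le hle
      rw [relIndex_bot_left, relIndex_bot_left, S.card_Z j (by omega), S.card_Z (j + 1) (by omega),
        pow_succ] at h
      exact Nat.eq_of_mul_eq_mul_left (pow_pos two_pos j) h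
    obtain ⟨a, ha⟩ := Subgroup.index_eq_two_iff.1 hi
    have haZ : (a : T) ∉ Z j := fun h => by
      have := ha 1
      simp [Xor, mem_subgroupOf, h, Subgroup.one_mem] at this
    refine ⟨a, a.2, haZ, fun x hx => ?_⟩
    by_cases hxj : x ∈ Z j
    · exact Or.inl hxj
    right
    have h' : (a : T)⁻¹ ∈ Z (j + 1) := inv_mem a.2
    have hn : (a : T)⁻¹ ∉ Z j := fun h => haZ (inv_inv (a : T) ▸ inv_mem h)
    exact (Subgroup.mul_mem_iff_of_index_two hi (a := ⟨_, h'⟩) (b := ⟨x, hx⟩)).2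
      ⟨fun h => absurd h hn, fun h => absurd h hxj⟩
  obtain ⟨a2, ha2, -, hg2⟩ := hstep 1 (by norm_num)
  obtain ⟨a3, ha3, -, hg3⟩ := hstep 2 (by norm_num)
  have hmove : ∀ (k : ℕ) (g x : T), x ∈ Z (k + 1) → g * x * g⁻¹ * x⁻¹ ∈ Z k := fun k g x hx => by
    have h := inv_mem (Subgroup.mem_upperCentralSeries_succ_iff.1 hx g)
    rwa [commutatorElement_inv, commutatorElement_def] at h
  let F : T ⧸ W → (Z 1 : Subgroup T) × (Z 2 : Subgroup T) := fun q =>
    (⟨_, hmove 1 q.out a2 ha2⟩, ⟨_, hmove 2 q.out a3 ha3⟩)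
  have hF : Function.Injective F := by
    intro p q h
    have e2 : p.out * a2 * p.out⁻¹ = q.out * a2 * q.out⁻¹ :=
      mul_right_cancel (congrArg (fun z : (Z 1 : Subgroup T) × (Z 2 : Subgroup T) => (z.1 : T)) h)
    have e3 : p.out * a3 * p.out⁻¹ = q.out * a3 * q.out⁻¹ :=
      mul_right_cancel (congrArg (fun z : (Z 1 : Subgroup T) × (Z 2 : Subgroup T) => (z.2 : T)) h)
    rw [← QuotientGroup.out_eq' p, ← QuotientGroup.out_eq' q, QuotientGroup.eq]
    set d := p.out⁻¹ * q.out with hd'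
    have hfix2 : d * a2 * d⁻¹ = a2 := by
      calc d * a2 * d⁻¹ = p.out⁻¹ * (q.out * a2 * q.out⁻¹) * p.out := by rw [hd']; group
        _ = a2 := by rw [← e2]; group
    have hfix3 : d * a3 * d⁻¹ = a3 := by
      calc d * a3 * d⁻¹ = p.out⁻¹ * (q.out * a3 * q.out⁻¹) * p.out := by rw [hd']; group
        _ = a3 := by rw [← e3]; group
    have h1 : ∀ x ∈ Z 1, d * x * d⁻¹ = x := fun x hx => by
      rw [Subgroup.upperCentralSeries_one, mem_center_iff] at hx
      rw [hx d, mul_inv_cancel_right]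
    have h2 : ∀ x ∈ Z 2, d * x * d⁻¹ = x := fun x hx => by
      rcases hg2 x hx with h' | h'
      · exact h1 x h'
      · calc d * x * d⁻¹ = (d * a2 * d⁻¹) * (d * (a2⁻¹ * x) * d⁻¹) := by group
          _ = x := by rw [hfix2, h1 _ h', mul_inv_cancel_left]
    have key : ∀ x ∈ Z 3, d * x * d⁻¹ = x := fun x hx => by
      rcases hg3 x hx with h' | h'
      · exact h2 x h'
      · calc d * x * d⁻¹ = (d * a3 * d⁻¹) * (d * (a3⁻¹ * x) * d⁻¹) := by group
          _ = x := by rw [hfix3, h2 _ h', mul_inv_cancel_left]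
    rw [S.hW]
    refine mem_centralizer_iff.2 fun x hx => ?_
    have := key x hx
    rw [mul_inv_eq_iff_eq_mul] at this
    exact this.symm
  have h := Nat.card_le_card_of_injective F hF
  rw [Nat.card_prod, S.card_Z 1 (by norm_num), S.card_Z 2 (by norm_num), ← Subgroup.index_eq_card] at h
  simpa using h

theorem card_W_ge : 2 ^ 11 ≤ Nat.card W := by
  have h := W.card_mul_index
  have := S.index_W_le
  have := S.big
  nlinarith

theorem Z3_le : Z 3 ≤ W := by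
  rw [S.hW, le_centralizer_iff_isMulCommutative]
  by_contra hna
  haveI hWn := S.W_normal
  have hW1 : ¬ W ≤ Z 1 := fun h => by
    have := Subgroup.card_le_of_le h
    rw [S.card_Z 1 (by norm_num)] at this
    have := S.card_W_ge
    omega
  have h2 := S.le_of_not_le hWn 1 (by norm_num) hW1
  -- so `Z₂` centralizes `Z₃`, whence `Z₃` is abelian
  apply hna
  obtain ⟨a, haZ, ha⟩ : ∃ a ∈ Z 3, ∀ x ∈ Z 3, x ∈ Z 2 ∨ a⁻¹ * x ∈ Z 2 := by
    have hi : (Z 2).relIndex (Z 3) = 2 := by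
      have h := Subgroup.relIndex_mul_relIndex ⊥ (Z 2) (Z 3) bot_le (Subgroup.upperCentralSeries_mono T (by norm_num))
      rw [relIndex_bot_left, relIndex_bot_left, S.card_Z 2 (by norm_num), S.card_Z 3 (by norm_num)] at h
      omega
    obtain ⟨a, ha⟩ := Subgroup.index_eq_two_iff.1 hi
    have haZ : (a : T) ∉ Z 2 := fun h => by
      have := ha 1
      simp [Xor, mem_subgroupOf, h, Subgroup.one_mem] at this
    refine ⟨a, a.2, fun x hx => ?_⟩
    by_cases hxj : x ∈ Z 2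
    · exact Or.inl hxj
    exact Or.inr ((Subgroup.mul_mem_iff_of_index_two hi (a := ⟨_, inv_mem a.2⟩) (b := ⟨x, hx⟩)).2
      ⟨fun h => absurd (inv_inv (a : T) ▸ inv_mem h) haZ, fun h => absurd h hxj⟩)
  have hc2 : ∀ x ∈ Z 2, ∀ y ∈ Z 3, Commute x y := fun x hx y hy => by
    have h := h2 hx
    rw [S.hW] at h
    exact (mem_centralizer_iff.1 h y hy).symm
  refine ⟨⟨fun p q => Subtype.ext ?_⟩⟩
  show (p : T) * q = q * p
  rcases ha p p.2 with hp | hp
  · exact hc2 p hp q q.2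
  rcases ha q q.2 with hq | hq
  · exact (hc2 q hq p p.2).symm.eq
  have e : Commute (a * (a⁻¹ * (p : T))) (a * (a⁻¹ * (q : T))) := by
    refine Commute.mul_left (Commute.mul_right (Commute.refl a) ?_) (Commute.mul_right ?_ ?_)
    · exact (hc2 _ hq a haZ).symm
    · exact hc2 _ hp a haZ
    · exact hc2 _ hp _ (Subgroup.upperCentralSeries_mono T (by norm_num) hq)
  simpa [mul_inv_cancel_left] using e.eq

/-- The Frattini subgroup of `W`, inside `T`. -/
abbrev Phi (W : Subgroup T) : Subgroup T := (frattini W).map W.subtype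

theorem sq_mem_Phi {x : T} (hx : x ∈ W) : x ^ 2 ∈ (frattini W).map W.subtype := by
  haveI : Fact (Nat.Prime 2) := ⟨Nat.prime_two⟩
  exact ⟨⟨x, hx⟩ ^ 2, CfsgLib.PGroups.pow_mem_frattini (S.isP.to_subgroup W) _, rfl⟩

theorem comm_mem_Phi {x y : T} (hx : x ∈ W) (hy : y ∈ W) :
    x * y * x⁻¹ * y⁻¹ ∈ (frattini W).map W.subtype := by
  haveI : Fact (Nat.Prime 2) := ⟨Nat.prime_two⟩
  haveI := (S.isP.to_subgroup W).isNilpotent
  exact ⟨⁅(⟨x, hx⟩ : W), ⟨y, hy⟩⁆, CfsgLib.PGroups.commutator_le_frattini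
    (commutator_mem_commutator (mem_top _) (mem_top _)), rfl⟩

theorem Phi_normal : ((frattini W).map W.subtype).Normal := by
  haveI := S.W_normal
  infer_instance

/-- An invariant subgroup of `W` missing a fixed element has small index. -/
theorem index_le_of_fixed {j : ℕ} (hj : j ≤ 3) (hP : (frattini W).map W.subtype = Z j) :
    ∃ N : Subgroup T, N ≤ Z j ∧ N.relIndex W ≤ 2 ^ W.index := by
  classical
  haveI hWn := S.W_normal
  have hWj : ¬ W ≤ Z j := fun h => by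
    have := Subgroup.card_le_of_le h
    rw [S.card_Z j (by omega)] at this
    have := S.card_W_ge
    have := Nat.pow_le_pow_right two_pos hj
    omega
  obtain ⟨c, hcW, hc1, hc0⟩ := exists_central_step S.isP j hWj
  obtain ⟨K, hZK, hKW, hcK, hK2, hprod⟩ := exists_avoid (U0 := Z j) (hP ▸ map_subtype_le _) hcW hc0
    (fun x hx => hP ▸ S.sq_mem_Phi hx) (fun x hx y hy => hP ▸ S.comm_mem_Phi hx hy)
  have hKnW : ∀ w ∈ W, ∀ x ∈ K, w * x * w⁻¹ ∈ K := fun w hw x hx => by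
    rw [show w * x * w⁻¹ = (w * x * w⁻¹ * x⁻¹) * x by group]
    exact K.mul_mem (hZK (hP ▸ S.comm_mem_Phi hw (hKW hx))) hx
  let N : Subgroup T :=
    { carrier := {x | ∀ g : T, g * x * g⁻¹ ∈ K}
      one_mem' := fun g => by simp
      mul_mem' := fun {p q} hp hq g => by
        rw [show g * (p * q) * g⁻¹ = (g * p * g⁻¹) * (g * q * g⁻¹) by group]
        exact K.mul_mem (hp g) (hq g)
      inv_mem' := fun {p} hp g => by
        rw [show g * p⁻¹ * g⁻¹ = (g * p * g⁻¹)⁻¹ by group]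
        exact K.inv_mem (hp g) }
  have hNn : N.Normal := ⟨fun x hx g h => by
    rw [show h * (g * x * g⁻¹) * h⁻¹ = (h * g) * x * (h * g)⁻¹ by group]
    exact hx (h * g)⟩
  have hNW : N ≤ W := fun x hx => hKW (by simpa using hx 1)
  refine ⟨N, ?_, ?_⟩
  · by_contra hcon
    have := S.le_of_not_le hNn j (by omega) hcon hc1
    exact hcK (by simpa using this 1)
  let φ : W → (T ⧸ W) → Bool := fun x q => decide (q.out * (x : T) * q.out⁻¹ ∈ K)
  have hφ : ∀ x y : W, φ x = φ y → (x : T)⁻¹ * y ∈ N := by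
    intro x y h g
    obtain ⟨w, hw⟩ : ∃ w ∈ W, g = (QuotientGroup.mk g : T ⧸ W).out * w :=
      ⟨(QuotientGroup.mk g : T ⧸ W).out⁻¹ * g, by
        rw [← QuotientGroup.eq, QuotientGroup.out_eq'], by group⟩
    set r := (QuotientGroup.mk g : T ⧸ W).out
    have hxyW : (x : T)⁻¹ * y ∈ W := W.mul_mem (W.inv_mem x.2) y.2
    have hK' : r * ((x : T)⁻¹ * y) * r⁻¹ ∈ K := by
      have hb := congrFun h (QuotientGroup.mk g)
      simp only [φ, decide_eq_decide] at hb
      have hxr : r * (x : T) * r⁻¹ ∈ W := hWn.conj_mem _ x.2 r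
      have hyr : r * (y : T) * r⁻¹ ∈ W := hWn.conj_mem _ y.2 r
      rw [show r * ((x : T)⁻¹ * y) * r⁻¹ = (r * x * r⁻¹)⁻¹ * (r * y * r⁻¹) by group]
      by_cases hxK : r * (x : T) * r⁻¹ ∈ K
      · exact K.mul_mem (K.inv_mem hxK) (hb.1 hxK)
      · exact hprod _ (W.inv_mem hxr) _ hyr (fun h => hxK (by simpa using K.inv_mem h))
          (fun h => hxK (hb.2 h))
    have hr : r * (w * ((x : T)⁻¹ * y) * w⁻¹) * r⁻¹ ∈ K := by
      rw [show r * (w * ((x : T)⁻¹ * y) * w⁻¹) * r⁻¹ =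
        (r * w * r⁻¹) * (r * ((x : T)⁻¹ * y) * r⁻¹) * (r * w * r⁻¹)⁻¹ by group]
      exact hKnW _ (hWn.conj_mem _ hw.1 r) _ hK'
    rw [hw.2]
    simpa [mul_assoc] using hr
  have hinj : Function.Injective (fun q : W ⧸ N.subgroupOf W => φ q.out) := fun p q h => by
    rw [← QuotientGroup.out_eq' p, ← QuotientGroup.out_eq' q, QuotientGroup.eq, mem_subgroupOf]
    exact hφ _ _ h
  refine (Nat.card_le_card_of_injective _ hinj).trans ?_
  rw [Nat.card_fun, Subgroup.index_eq_card]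
  simp

theorem Phi_eq : (frattini W).map W.subtype = Z 3 ∧ W.index = 8 ∧ Nat.card T = 2 ^ 14 ∧
    Nat.card W = 2 ^ 11 := by
  haveI : Fact (Nat.Prime 2) := ⟨Nat.prime_two⟩
  set P := (frattini W).map W.subtype
  have hcP : Nat.card P ≤ 8 := by
    rw [← Nat.card_congr ((frattini W).equivMapOfInjective _ W.subtype_injective).toEquiv]
    exact S.hc
  obtain ⟨j, hj⟩ := IsPGroup.iff_card.1 (S.isP.to_subgroup P)
  have hj3 : j ≤ 3 := (Nat.pow_le_pow_iff_right Nat.one_lt_two).1 (hj ▸ hcP)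
  have hPj : P = Z j := Subgroup.eq_of_le_of_card_ge (S.le_Z_of_card S.Phi_normal (by omega) hj.le)
    (by rw [S.card_Z j (by omega), hj])
  obtain ⟨N, hN, hidx⟩ := S.index_le_of_fixed hj3 hPj
  have hlag : (Z j).relIndex W * 2 ^ j = Nat.card W := by
    have h := Subgroup.relIndex_mul_relIndex ⊥ (Z j) W bot_le (hPj ▸ map_subtype_le _)
    rw [relIndex_bot_left, relIndex_bot_left, S.card_Z j (by omega), mul_comm] at h
    exact h
  have hle : (Z j).relIndex W ≤ 2 ^ W.index :=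
    le_trans (Nat.le_of_dvd (Nat.pos_of_ne_zero Subgroup.index_ne_zero_of_finite)
      (relIndex_dvd_of_le_left _ hN)) hidx
  have hT := W.card_mul_index
  have hi := S.index_W_le
  have h8 : 2 ^ W.index ≤ 256 := le_trans (Nat.pow_le_pow_right two_pos hi) (by norm_num)
  have hbig := S.big
  have hW11 : Nat.card W ≤ 2 ^ W.index * 2 ^ j := hlag ▸ Nat.mul_le_mul_right _ hle
  have h2j : 2 ^ j ≤ 8 := le_trans (Nat.pow_le_pow_right two_pos hj3) (by norm_num)
  have hW' : Nat.card W ≤ 2048 := le_trans (le_trans hW11 (Nat.mul_le_mul h8 h2j)) (by norm_num)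
  have hidx8 : W.index = 8 := by nlinarith
  have hcW : Nat.card W = 2 ^ 11 := by nlinarith
  have hj3' : j = 3 := by
    by_contra hne
    have : 2 ^ j ≤ 4 := le_trans (Nat.pow_le_pow_right two_pos (show j ≤ 2 by omega)) (by norm_num)
    have := le_trans hW11 (Nat.mul_le_mul h8 this)
    omega
  refine ⟨hj3' ▸ hPj, hidx8, ?_, hcW⟩
  rw [← hT, hidx8, hcW]; norm_num

theorem not_small {U : Subgroup T} (hUW : U ≤ W) (hidx : U.relIndex W ≤ 16) : Z 3 ≤ U := by
  rw [← S.Phi_eq.1, Subgroup.map_le_iff_le_comap]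
  exact S.hd _ hidx

/-- An index eight subgroup containing `a ∈ Z₃`, elementary modulo a subgroup missing `a`, is absurd. -/
theorem false_of_elementary {U D : Subgroup T} {a : T} (hUW : U ≤ W) (hidx : U.relIndex W ≤ 8)
    (hDU : D ≤ U) (ha : a ∈ Z 3) (haU : a ∈ U) (haD : a ∉ D)
    (hsq : ∀ x ∈ U, x ^ 2 ∈ D) (hcom : ∀ x ∈ U, ∀ y ∈ U, x * y * x⁻¹ * y⁻¹ ∈ D) : False := by
  obtain ⟨K, -, hKU, haK, hK2, -⟩ := exists_avoid hDU haU haD hsq hcom
  refine haK (S.not_small (hKU.trans hUW) ?_ ha)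
  rw [← Subgroup.relIndex_mul_relIndex K U W hKU hUW, hK2]
  omega

theorem Z3_central {x w : T} (hx : x ∈ Z 3) (hw : w ∈ W) : Commute x w := by
  rw [S.hW] at hw
  exact mem_centralizer_iff.1 hw x hx

/-- Commutators of `W` cover `Z₃` modulo `Z₂`. -/
theorem exists_commutator_not_mem : ∃ x ∈ W, ∃ y ∈ W, x * y * x⁻¹ * y⁻¹ ∉ Z 2 := by
  classical
  by_contra hcon
  push Not at hcon
  obtain ⟨hPhi, -, -, hcW⟩ := S.Phi_eq
  obtain ⟨a, ha3, ha2⟩ : ∃ a ∈ Z 3, a ∉ Z 2 := by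
    by_contra h
    push Not at h
    have := Subgroup.card_le_of_le (show Z 3 ≤ Z 2 from h)
    rw [S.card_Z 3 (by norm_num), S.card_Z 2 (by norm_num)] at this
    omega
  haveI : (Z 2).Normal := inferInstance
  let U : Subgroup T :=
    { carrier := {x | x ∈ W ∧ x ^ 2 ∈ Z 2}
      one_mem' := ⟨W.one_mem, by simp⟩
      mul_mem' := by
        rintro p q ⟨hp, hp'⟩ ⟨hq, hq'⟩
        refine ⟨W.mul_mem hp hq, ?_⟩
        rw [show (p * q) ^ 2 = p ^ 2 * ((p⁻¹) * q * (p⁻¹)⁻¹ * q⁻¹) * q ^ 2 by simp only [pow_two]; group]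
        exact mul_mem (mul_mem hp' (hcon _ (W.inv_mem hp) _ hq)) hq'
      inv_mem' := by
        rintro p ⟨hp, hp'⟩
        exact ⟨W.inv_mem hp, by rw [inv_pow]; exact inv_mem hp'⟩ }
  have hUW : U ≤ W := fun x hx => hx.1
  have hZU : Z 2 ≤ U := fun x hx =>
    ⟨S.Z3_le (Subgroup.upperCentralSeries_mono T (by norm_num) hx), pow_mem hx 2⟩
  have hidx : U.relIndex W ≤ 2 := by
    by_cases hWU : W ≤ U
    · rw [Subgroup.relIndex_eq_one.2 hWU]; norm_num
    obtain ⟨v, hv, hvU⟩ := SetLike.not_le_iff_exists.1 hWU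
    refine le_of_eq ?_
    rw [Subgroup.relIndex, Subgroup.index_eq_two_iff]
    refine ⟨⟨v, hv⟩, fun b => ?_⟩
    show Xor ((b : T) * v ∈ U) ((b : T) ∈ U)
    by_cases hb : (b : T) ∈ U
    · exact Or.inr ⟨hb, fun h => hvU ((U.mul_mem_cancel_left hb).1 h)⟩
    · refine Or.inl ⟨⟨W.mul_mem b.2 hv, ?_⟩, hb⟩
      rw [show ((b : T) * v) ^ 2 = (b : T) ^ 2 * ((b : T)⁻¹ * v * ((b : T)⁻¹)⁻¹ * v⁻¹) * v ^ 2 by
        simp only [pow_two]; group]
      have h2 : ∀ z ∈ W, z ∉ U → z ^ 2 ∈ Z 3 ∧ z ^ 2 ∉ Z 2 := fun z hz hzU =>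
        ⟨hPhi ▸ S.sq_mem_Phi hz, fun h => hzU ⟨hz, h⟩⟩
      obtain ⟨hb3, hb2⟩ := h2 b b.2 hb
      obtain ⟨hv3, hv2⟩ := h2 v hv hvU
      have hi : (Z 2).relIndex (Z 3) = 2 := by
        have h := Subgroup.relIndex_mul_relIndex ⊥ (Z 2) (Z 3) bot_le (Subgroup.upperCentralSeries_mono T (by norm_num))
        rw [relIndex_bot_left, relIndex_bot_left, S.card_Z 2 (by norm_num), S.card_Z 3 (by norm_num)] at h
        omega
      have hc := hcon _ (W.inv_mem b.2) _ hv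
      have hmul := (Subgroup.mul_mem_iff_of_index_two hi (a := ⟨_, hb3⟩) (b := ⟨_, hv3⟩)).2
        ⟨fun h => absurd h hb2, fun h => absurd h hv2⟩
      have e : (b : T) ^ 2 * ((b : T)⁻¹ * v * ((b : T)⁻¹)⁻¹ * v⁻¹) =
          ((b : T)⁻¹ * v * ((b : T)⁻¹)⁻¹ * v⁻¹) * (b : T) ^ 2 :=
        S.Z3_central hb3 (S.Z3_le (Subgroup.upperCentralSeries_mono T (by norm_num) hc))
      rw [e, mul_assoc]
      exact mul_mem hc hmul
  exact S.false_of_elementary hUW (by omega) hZU ha3 ⟨S.Z3_le ha3, by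
    have h3 : a ^ 2 ∈ Z 3 := pow_mem ha3 2
    have hi : (Z 2).relIndex (Z 3) = 2 := by
      have h := Subgroup.relIndex_mul_relIndex ⊥ (Z 2) (Z 3) bot_le (Subgroup.upperCentralSeries_mono T (by norm_num))
      rw [relIndex_bot_left, relIndex_bot_left, S.card_Z 2 (by norm_num), S.card_Z 3 (by norm_num)] at h
      omega
    exact Subgroup.sq_mem_of_index_two hi ⟨a, ha3⟩⟩ ha2 (fun x hx => hx.2)
    (fun x hx y hy => hcon x hx.1 y hy.1)

theorem derived : (commutator W).map W.subtype = Z 3 ∧ ∀ z ∈ Z 3, z ^ 2 = 1 := by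
  haveI : Fact (Nat.Prime 2) := ⟨Nat.prime_two⟩
  obtain ⟨hPhi, -, -, -⟩ := S.Phi_eq
  haveI := S.W_normal
  haveI := (S.isP.to_subgroup W).isNilpotent
  set D := (commutator W).map W.subtype
  have hD3 : D ≤ Z 3 := hPhi ▸ Subgroup.map_mono CfsgLib.PGroups.commutator_le_frattini
  have hD : D = Z 3 := by
    refine le_antisymm hD3 (S.le_of_not_le inferInstance 2 (by norm_num) fun h => ?_)
    obtain ⟨x, hx, y, hy, hxy⟩ := S.exists_commutator_not_mem
    exact hxy (h ⟨⁅(⟨x, hx⟩ : W), ⟨y, hy⟩⁆, commutator_mem_commutator (mem_top _) (mem_top _), rfl⟩)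
  refine ⟨hD, ?_⟩
  let E : Subgroup T :=
    { carrier := {z | z ∈ Z 3 ∧ z ^ 2 = 1}
      one_mem' := ⟨one_mem _, one_pow 2⟩
      mul_mem' := by
        rintro p q ⟨hp, hp'⟩ ⟨hq, hq'⟩
        refine ⟨mul_mem hp hq, ?_⟩
        rw [(S.Z3_central hp (S.Z3_le hq)).mul_pow, hp', hq', one_mul]
      inv_mem' := by
        rintro p ⟨hp, hp'⟩
        exact ⟨inv_mem hp, by rw [inv_pow, hp', inv_one]⟩ }
  have hcomm : D ≤ E := by
    rw [Subgroup.map_le_iff_le_comap, commutator_def, Subgroup.commutator_le]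
    intro p _ q _
    have hc3 : (p : T) * q * (p : T)⁻¹ * (q : T)⁻¹ ∈ Z 3 := hPhi ▸ S.comm_mem_Phi p.2 q.2
    refine ⟨hc3, ?_⟩
    show ((p : T) * q * (p : T)⁻¹ * (q : T)⁻¹) ^ 2 = 1
    set c := (p : T) * q * (p : T)⁻¹ * (q : T)⁻¹ with hc
    have h1 : (p : T) * c = c * p := (S.Z3_central hc3 p.2).eq.symm
    have h2 : Commute ((p : T) ^ 2) q := S.Z3_central (hPhi ▸ S.sq_mem_Phi p.2) q.2
    have h3 : (p : T) ^ 2 * q * ((p : T) ^ 2)⁻¹ = c * (c * q) := by
      calc (p : T) ^ 2 * q * ((p : T) ^ 2)⁻¹ = ((p : T) * c * (p : T)⁻¹) * ((p : T) * q * (p : T)⁻¹) := by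
            rw [hc, pow_two]; group
        _ = c * (c * q) := by rw [h1, mul_inv_cancel_right, hc]; group
    rw [h2.eq, mul_inv_cancel_right, ← mul_assoc] at h3
    rw [pow_two]
    exact (mul_eq_right.1 h3.symm)
  exact fun z hz => (hcomm (hD ▸ hz)).2

/-- Weak closure: a conjugate of `W` inside `T` with Frattini subgroup of index... -/
theorem eq_of_similar {W' P' : Subgroup T} (hcard : Nat.card W' = Nat.card W) (hP' : Nat.card P' = 8)
    (hcent : W' ≤ centralizer (P' : Set T)) (hsq : ∀ x ∈ W', x ^ 2 ∈ P')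
    (hcom : ∀ x ∈ W', ∀ y ∈ W', x * y * x⁻¹ * y⁻¹ ∈ P')
    (hsmall : ∀ U : Subgroup T, U ≤ W' → U.relIndex W' ≤ 16 → P' ≤ U) : W' = W := by
  haveI := S.W_normal
  obtain ⟨hPhi, h8, -, -⟩ := S.Phi_eq
  set U := W ⊓ W'
  have hidx' : U.relIndex W' ≤ 8 := by
    rw [show U = W ⊓ W' from rfl, Subgroup.inf_relIndex_right, ← h8]
    exact Nat.le_of_dvd (Nat.pos_of_ne_zero Subgroup.index_ne_zero_of_finite) (relIndex_dvd_index_of_normal W W')
  have hidx : U.relIndex W ≤ 8 := by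
    have h1 := Subgroup.relIndex_mul_relIndex ⊥ U W bot_le inf_le_left
    have h2 := Subgroup.relIndex_mul_relIndex ⊥ U W' bot_le inf_le_right
    rw [relIndex_bot_left, relIndex_bot_left] at h1 h2
    rw [hcard, ← h1] at h2
    rw [← Nat.eq_of_mul_eq_mul_left Nat.card_pos h2]
    exact hidx'
  have h3U : Z 3 ≤ U := S.not_small inf_le_left (by omega)
  have hPU : P' ≤ U := hsmall U inf_le_right (by omega)
  by_cases h3P : Z 3 ≤ P'
  · have he : Z 3 = P' := Subgroup.eq_of_le_of_card_ge h3P (by rw [hP', S.card_Z 3 (by norm_num)]; norm_num)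
    refine Subgroup.eq_of_le_of_card_ge ?_ hcard.ge
    rw [S.hW, he]
    exact hcent
  · exfalso
    obtain ⟨a, ha, haP⟩ := SetLike.not_le_iff_exists.1 h3P
    exact S.false_of_elementary inf_le_left hidx (D := Z 3 ⊓ P') (inf_le_left.trans h3U) ha (h3U ha)
      (fun h => haP h.2) (fun x hx => ⟨hPhi ▸ S.sq_mem_Phi hx.1, hsq x hx.2⟩)
      (fun x hx y hy => ⟨hPhi ▸ S.comm_mem_Phi hx.1 hy.1, hcom x hx.2 y hy.2⟩)

/-- An automorphism of odd order is trivial. -/
theorem aut_trivial (α : MulAut T) {n : ℕ} (hn : Odd n) (hα : α ^ n = 1) (g : T) : α g = g := by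
  haveI : Fact (Nat.Prime 2) := ⟨Nat.prime_two⟩
  have hfix : ∀ y z : T, α y = y * z → α z = z → α y = y := by
    intro y z hy hz
    have hk : ∀ k : ℕ, (α ^ k) y = y * z ^ k := by
      intro k
      induction k with
      | zero => simp
      | succ k ih => rw [pow_succ', MulAut.mul_apply, ih, map_mul, hy, map_pow, hz, mul_assoc, ← pow_succ']
    have h1 := hk n
    rw [hα, MulAut.one_apply, eq_comm, mul_eq_left] at h1
    obtain ⟨j, hj⟩ := S.isP z
    have h2 : orderOf z ∣ Nat.gcd n (2 ^ j) :=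
      Nat.dvd_gcd (orderOf_dvd_of_pow_eq_one h1) (orderOf_dvd_of_pow_eq_one hj)
    rw [Nat.Coprime.gcd_eq_one (Nat.Coprime.pow_right _ (Nat.coprime_two_right.2 hn)), Nat.dvd_one,
      orderOf_eq_one_iff] at h2
    rw [hy, h2, mul_one]
  have hmap : ∀ i, ∀ x ∈ Z i, α x ∈ Z i := fun i x hx => by
    rw [← (inferInstance : (Subgroup.upperCentralSeries T i).Characteristic).fixed α] at hx
    exact hx
  have hZ : ∀ i, i ≤ 4 → ∀ x ∈ Z i, α x = x := by
    intro i
    induction i with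
    | zero => intro _ x hx; rw [Subgroup.upperCentralSeries_zero, mem_bot] at hx; rw [hx, map_one]
    | succ i ih =>
      intro hi x hx
      by_cases hxi : x ∈ Z i
      · exact ih (by omega) x hxi
      refine hfix x (x⁻¹ * α x) (by group) (ih (by omega) _ ?_)
      have hidx : (Z i).relIndex (Z (i + 1)) = 2 := by
        have h := Subgroup.relIndex_mul_relIndex ⊥ (Z i) (Z (i + 1)) bot_le (Subgroup.upperCentralSeries_mono T (Nat.le_succ i))
        rw [relIndex_bot_left, relIndex_bot_left, S.card_Z i (by omega), S.card_Z (i + 1) hi, pow_succ] at h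
        exact Nat.eq_of_mul_eq_mul_left (pow_pos two_pos i) h
      refine (Subgroup.mul_mem_iff_of_index_two hidx (a := ⟨x⁻¹, inv_mem hx⟩) (b := ⟨α x, hmap _ x hx⟩)).2
        ⟨fun h => absurd (inv_inv x ▸ inv_mem h) hxi, fun h => absurd ?_ hxi⟩
      rw [← (inferInstance : (Subgroup.upperCentralSeries T i).Characteristic).fixed α]
      exact h
  obtain ⟨hPhi, -, -, -⟩ := S.Phi_eq
  haveI := S.W_normal
  have hαW : ∀ w ∈ W, α w ∈ W := by
    intro w hw
    rw [S.hW] at hw ⊢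
    refine mem_centralizer_iff.2 fun x hx => ?_
    rw [← hZ 3 (by norm_num) x hx, ← map_mul, mem_centralizer_iff.1 hw x hx, map_mul]
  have hmod : ∀ g : T, g⁻¹ * α g ∈ W := by
    intro g
    rw [S.hW]
    refine mem_centralizer_iff.2 fun x hx => ?_
    have hg : g * x * g⁻¹ ∈ Z 3 := (inferInstance : (Z 3).Normal).conj_mem x hx g
    have h := hZ 3 (by norm_num) _ hg
    rw [map_mul, map_mul, map_inv, hZ 3 (by norm_num) x hx] at h
    calc x * (g⁻¹ * α g) = g⁻¹ * (g * x * g⁻¹) * α g := by group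
      _ = g⁻¹ * α g * x := by rw [← h]; group
  have hV : ∀ w ∈ W, ∀ v ∈ W, v * w * v⁻¹ * w⁻¹ ∈ Z 3 := fun w hw v hv => hPhi ▸ S.comm_mem_Phi hv hw
  haveI hZ3n : (Z 3).Normal := inferInstance
  let N : Subgroup T :=
    { carrier := {z | z ∈ W ∧ ∃ x ∈ W, x⁻¹ * α x * z⁻¹ ∈ Z 3}
      one_mem' := ⟨W.one_mem, 1, W.one_mem, by simp⟩
      mul_mem' := by
        rintro p q ⟨hp, x, hx, hx'⟩ ⟨hq, y, hy, hy'⟩
        refine ⟨W.mul_mem hp hq, x * y, W.mul_mem hx hy, ?_⟩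
        have hd : x⁻¹ * α x ∈ W := W.mul_mem (W.inv_mem hx) (hαW x hx)
        have e : (x * y)⁻¹ * α (x * y) * (p * q)⁻¹ =
            (y⁻¹ * (x⁻¹ * α x) * (y⁻¹)⁻¹ * (x⁻¹ * α x)⁻¹) * ((x⁻¹ * α x) * (y⁻¹ * α y * q⁻¹) * (x⁻¹ * α x)⁻¹) *
              (x⁻¹ * α x * p⁻¹) := by
          rw [map_mul]; group
        rw [e]
        exact mul_mem (mul_mem (hV _ hd _ (W.inv_mem hy)) (hZ3n.conj_mem _ hy' _)) hx'
      inv_mem' := by
        rintro p ⟨hp, x, hx, hx'⟩
        refine ⟨W.inv_mem hp, x⁻¹, W.inv_mem hx, ?_⟩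
        have hd : x⁻¹ * α x ∈ W := W.mul_mem (W.inv_mem hx) (hαW x hx)
        have e : x⁻¹⁻¹ * α x⁻¹ * p⁻¹⁻¹ =
            (x * (x⁻¹ * α x)⁻¹ * x⁻¹ * (x⁻¹ * α x)⁻¹⁻¹) * ((x⁻¹ * α x)⁻¹ * p) := by
          rw [map_inv]; group
        rw [e]
        refine mul_mem (hV _ (W.inv_mem hd) _ hx) ?_
        have := hZ3n.conj_mem _ (inv_mem hx') (x⁻¹ * α x)⁻¹
        simpa [mul_assoc] using this }
  have hNn : N.Normal := by
    refine ⟨fun z hz g => ?_⟩
    obtain ⟨hzW, x, hx, hx'⟩ := hz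
    refine ⟨S.W_normal.conj_mem z hzW g, g * x * g⁻¹, S.W_normal.conj_mem x hx g, ?_⟩
    set w := g⁻¹ * α g with hw
    have hwW : w ∈ W := hmod g
    have e : (g * x * g⁻¹)⁻¹ * α (g * x * g⁻¹) * (g * z * g⁻¹)⁻¹ =
        g * ((x⁻¹ * w * x⁻¹⁻¹ * w⁻¹) * (w * (x⁻¹ * α x) * w⁻¹ * (x⁻¹ * α x)⁻¹) * (x⁻¹ * α x * z⁻¹)) * g⁻¹ := by
      rw [map_mul, map_mul, map_inv, show α g = g * w by rw [hw]; group]; group
    rw [e]
    exact hZ3n.conj_mem _ (mul_mem (mul_mem (hV _ hwW _ (W.inv_mem hx))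
      (hV _ (W.mul_mem (W.inv_mem hx) (hαW x hx)) _ hwW)) hx') g
  have hN : N ≤ Z 3 := by
    by_contra hcon
    have h4 := S.le_of_not_le hNn 3 (by norm_num) hcon
    obtain ⟨c, hc4, hc3⟩ : ∃ c ∈ Z 4, c ∉ Z 3 := by
      by_contra h
      push Not at h
      have := Subgroup.card_le_of_le (show Z 4 ≤ Z 3 from h)
      rw [S.card_Z 3 (by norm_num), S.four] at this
      omega
    obtain ⟨hcW, x, hx, hx'⟩ := h4 hc4
    apply hc3
    set z := x⁻¹ * α x with hz
    have hz4 : z ∈ Z 4 := by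
      rw [show z = (z * c⁻¹) * c by group]
      exact mul_mem (Subgroup.upperCentralSeries_mono T (by norm_num) hx') hc4
    have := hfix x z (by rw [hz]; group) (hZ 4 le_rfl z hz4)
    rw [hz, this, inv_mul_cancel, one_mul] at hx'
    exact inv_inv c ▸ inv_mem hx'
  have hW : ∀ w ∈ W, α w = w := by
    intro w hw
    have hmem : w⁻¹ * α w ∈ N := ⟨W.mul_mem (W.inv_mem hw) (hαW w hw), w, hw, by simp⟩
    exact hfix w _ (by group) (hZ 3 (by norm_num) _ (hN hmem))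
  exact hfix g _ (by group) (hW _ (hmod g))

end Setting

end CfsgLib.TwoGroups.CentralSixteen
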