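import Cfsg.Agent.Lib.TwoGroups.CentralSeriesSixteen
import Mathlib.GroupTheory.SpecificGroups.Dihedral

/-!
In the setting `CentralSixteen.Setting`: the quotient by `W` is dihedral of order 8 and the centre
of `W` is `Z₃`.
-/

set_option autoImplicit false
set_option linter.style.haveILetI false
set_option linter.unusedSectionVars false

namespace CfsgLib.TwoGroups.CentralSixteen

open Subgroup DihedralGroup
open scoped commutatorElement

/-- The table identifying `U₃(2)`, in coordinates, with the dihedral group of order 8. -/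
def table : ZMod 2 × ZMod 2 × ZMod 2 → DihedralGroup 4 := fun x =>
  if x = (0, 0, 0) then r 0 else if x = (0, 0, 1) then r 2 else if x = (1, 1, 0) then r 1
  else if x = (1, 1, 1) then r 3 else if x = (1, 0, 0) then sr 0 else if x = (1, 0, 1) then sr 2
  else if x = (0, 1, 0) then sr 3 else sr 1

theorem table_mul : ∀ x y : ZMod 2 × ZMod 2 × ZMod 2,
    table (x.1 + y.1, x.2.1 + y.2.1, x.2.2 + y.2.2 + x.1 * y.2.1) = table x * table y := by
  decide

theorem table_one : ∀ x : ZMod 2 × ZMod 2 × ZMod 2, table x = 1 → x = 0 := by decide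

theorem table_moving : ∀ x : ZMod 2 × ZMod 2 × ZMod 2,
    table x = sr 1 ∨ table x = sr 3 → x.2.1 = 1 := by decide

/-- The possible values of the commutator form on a free module. -/
def fmodel (A C E : ZMod 2) : DihedralGroup 4 → ZMod 2 := fun d =>
  if d = r 1 ∨ d = r 3 then A else if d = r 2 then C + E
  else if d = sr 0 then C else if d = sr 2 then E else 0

/-- Five totally singular vectors. -/
def fiveList : Fin 5 → List (DihedralGroup 4) :=
  ![[r 2, sr 1], [r 1, sr 0], [r 0, sr 3], [r 3, sr 2], [r 0, r 1, r 3, sr 1]]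

/-- The quadratic form on products. -/
def qmodel (t : ZMod 2) (F : DihedralGroup 4 → ZMod 2) : List (DihedralGroup 4) → ZMod 2
  | [] => 0
  | a :: l => t + qmodel t F l + (l.map fun b => F (a⁻¹ * b)).sum

theorem five_B : ∀ A C E : ZMod 2, ∀ i j : Fin 5,
    ((fiveList i).map fun a => ((fiveList j).map fun b => fmodel A C E (a⁻¹ * b)).sum).sum = 0 := by
  decide +kernel

theorem five_Q : ∀ t A C E : ZMod 2, ∀ i : Fin 5, qmodel t (fmodel A C E) (fiveList i) = 0 := by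
  decide +kernel

/-- The image of a selection of the five vectors. -/
def selModel (v : Fin 5 → Bool) (d : DihedralGroup 4) : ZMod 2 :=
  (((List.finRange 5).filter v).map fun i =>
    ((fiveList i).map fun a => if d * a = 1 then (1 : ZMod 2) else 0).sum).sum

theorem selModel_rec : ∀ v : Fin 5 → Bool,
    v = ![decide (selModel v (r 2) = 1), decide (selModel v (sr 0) = 1),
      decide (selModel v (sr 3) = 1), decide (selModel v (sr 2) = 1),
      decide (selModel v (sr 1) + selModel v (r 2) = 1)] := by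
  decide +kernel

/-- All eight elements. -/
def allList : List (DihedralGroup 4) := [r 0, r 1, r 2, r 3, sr 0, sr 1, sr 2, sr 3]

theorem allList_sum : ∀ d : DihedralGroup 4,
    (allList.map fun a => if d * a = 1 then (1 : ZMod 2) else 0).sum = 1 := by decide +kernel

theorem eq_fmodel {f : DihedralGroup 4 → ZMod 2} (h0 : f (r 0) = 0) (h1 : f (sr 1) = 0)
    (h3 : f (sr 3) = 0) (hinv : ∀ d, f d⁻¹ = f d) (hall : (allList.map f).sum = 0) :
    f = fmodel (f (r 1)) (f (sr 0)) (f (sr 2)) := by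
  have hr3 : f (r 3) = f (r 1) := hinv (r 1)
  have hr2 : f (r 2) = f (sr 0) + f (sr 2) := by
    have h : f (r 0) + (f (r 1) + (f (r 2) + (f (r 3) + (f (sr 0) + (f (sr 1) + (f (sr 2) +
        (f (sr 3) + 0))))))) = 0 := hall
    rw [h0, h1, h3, hr3] at h
    revert h
    generalize f (r 1) = p
    generalize f (r 2) = q
    generalize f (sr 0) = u
    generalize f (sr 2) = v
    revert p q u v
    decide
  have key : ∀ d : DihedralGroup 4, d = r 0 ∨ d = r 1 ∨ d = r 2 ∨ d = r 3 ∨ d = sr 0 ∨ d = sr 1 ∨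
      d = sr 2 ∨ d = sr 3 := by decide
  have h0' : f 1 = 0 := h0
  funext d
  rcases key d with rfl | rfl | rfl | rfl | rfl | rfl | rfl | rfl <;>
    simp +decide [fmodel, h0', h1, h3, hr2, hr3]

theorem list_sum_apply {α β : Type*} [AddCommMonoid β] (l : List (α → β)) (a : α) :
    l.sum a = (l.map fun f => f a).sum := by
  induction l with
  | nil => rfl
  | cons f l ih => simp [ih]

/-- An involution power indexed by `ZMod 2`. -/
def pw {T : Type*} [Group T] (a : T) (x : ZMod 2) : T := if x = 0 then 1 else a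

theorem zmod2_cases : ∀ x : ZMod 2, x = 0 ∨ x = 1 := by decide

theorem pw_add {T : Type*} [Group T] {a : T} (ha : a ^ 2 = 1) (x y : ZMod 2) :
    pw a (x + y) = pw a x * pw a y := by
  rcases zmod2_cases x with rfl | rfl <;> rcases zmod2_cases y with rfl | rfl <;>
    simp +decide [pw, ← pow_two, ha]

variable {T : Type*} [Group T] [Finite T]

namespace Setting

variable {W : Subgroup T} (S : Setting T W)

local notation "Z" i:max => Subgroup.upperCentralSeries T i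

include S

theorem relIndex_step (i : ℕ) (hi : i < 4) : (Z i).relIndex (Z (i + 1)) = 2 := by
  have h := Subgroup.relIndex_mul_relIndex ⊥ (Z i) (Z (i + 1)) bot_le
    (Subgroup.upperCentralSeries_mono T (Nat.le_succ i))
  rw [relIndex_bot_left, relIndex_bot_left, S.card_Z i (by omega), S.card_Z (i + 1) (by omega),
    pow_succ] at h
  exact Nat.eq_of_mul_eq_mul_left (pow_pos two_pos i) h

theorem mul_mem_step {i : ℕ} (hi : i < 4) {x y : T} (hx : x ∈ Z (i + 1)) (hy : y ∈ Z (i + 1)) :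
    x * y ∈ Z i ↔ (x ∈ Z i ↔ y ∈ Z i) :=
  Subgroup.mul_mem_iff_of_index_two (S.relIndex_step i hi) (a := ⟨x, hx⟩) (b := ⟨y, hy⟩)

theorem exists_step (i : ℕ) (hi : i < 4) :
    ∃ a ∈ Z (i + 1), a ∉ Z i ∧ ∀ x ∈ Z (i + 1), x ∈ Z i ∨ a⁻¹ * x ∈ Z i := by
  obtain ⟨a, ha, haZ⟩ := SetLike.not_le_iff_exists.1 (fun h : Z (i + 1) ≤ Z i => by
    have := Subgroup.relIndex_eq_one.2 h
    rw [S.relIndex_step i hi] at this
    omega)
  refine ⟨a, ha, haZ, fun x hx => ?_⟩
  by_cases hxi : x ∈ Z i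
  · exact Or.inl hxi
  · exact Or.inr ((S.mul_mem_step hi (inv_mem ha) hx).2
      ⟨fun h => absurd (inv_inv a ▸ inv_mem h) haZ, fun h => absurd h hxi⟩)

/-- The action on `Z₃` identifies `T / W` with the dihedral group of order 8. -/
theorem exists_hom : ∃ f : T →* DihedralGroup 4, Function.Surjective f ∧ f.ker = W ∧
    ∀ g : T, f g = sr 1 ∨ f g = sr 3 → ∀ z ∈ Z 3, g * z * g⁻¹ = z → z ∈ Z 2 := by
  classical
  have hsq := S.derived.2
  have h0 : Z 0 = ⊥ := Subgroup.upperCentralSeries_zero T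
  have m12 : Z 1 ≤ Z 2 := Subgroup.upperCentralSeries_mono T (by norm_num)
  have m23 : Z 2 ≤ Z 3 := Subgroup.upperCentralSeries_mono T (by norm_num)
  obtain ⟨a1, ha1, ha1n, hg1⟩ := S.exists_step 0 (by norm_num)
  obtain ⟨a2, ha2, ha2n, hg2⟩ := S.exists_step 1 (by norm_num)
  obtain ⟨a3, ha3, ha3n, hg3⟩ := S.exists_step 2 (by norm_num)
  have hne1 : a1 ≠ 1 := fun h => ha1n (h ▸ one_mem _)
  have q1 : a1 ^ 2 = 1 := hsq a1 (m23 (m12 ha1))
  have q2 : a2 ^ 2 = 1 := hsq a2 (m23 ha2)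
  have hmove : ∀ (k : ℕ) (g x : T), x ∈ Z (k + 1) → g * x * g⁻¹ * x⁻¹ ∈ Z k := fun k g x hx => by
    have h := inv_mem (Subgroup.mem_upperCentralSeries_succ_iff.1 hx g)
    rwa [commutatorElement_inv, commutatorElement_def] at h
  have hZ1 : ∀ x ∈ Z 1, ∃ c, x = pw a1 c := by
    intro x hx
    rcases hg1 x hx with h | h <;> rw [h0, mem_bot] at h
    · exact ⟨0, by simp [pw, h]⟩
    · exact ⟨1, by simp [pw, inv_mul_eq_one.1 h]⟩
  have hZ2 : ∀ x ∈ Z 2, ∃ b c, x = pw a2 b * pw a1 c := by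
    intro x hx
    rcases hg2 x hx with h | h
    · obtain ⟨c, hc⟩ := hZ1 x h
      exact ⟨0, c, by simp [pw] at hc ⊢; exact hc⟩
    · obtain ⟨c, hc⟩ := hZ1 _ h
      exact ⟨1, c, by rw [← hc]; simp [pw]⟩
  have hfix1 : ∀ (g : T) (c : ZMod 2), g * pw a1 c * g⁻¹ = pw a1 c := by
    intro g c
    have h : pw a1 c ∈ Z 1 := by
      rcases zmod2_cases c with rfl | rfl
      · rw [pw, if_pos rfl]; exact one_mem _
      · rw [pw, if_neg one_ne_zero]; exact ha1
    rw [Subgroup.upperCentralSeries_one, mem_center_iff] at h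
    rw [h g, mul_inv_cancel_right]
  have hex : ∀ g : T, ∃ p : ZMod 2 × ZMod 2 × ZMod 2,
      g * a2 * g⁻¹ = a2 * pw a1 p.1 ∧ g * a3 * g⁻¹ = a3 * (pw a2 p.2.1 * pw a1 p.2.2) := by
    intro g
    have e2 : a2⁻¹ * (g * a2 * g⁻¹) ∈ Z 1 := by
      rw [show a2⁻¹ * (g * a2 * g⁻¹) = a2⁻¹ * (g * a2 * g⁻¹ * a2⁻¹) * a2⁻¹⁻¹ by group]
      exact (inferInstance : (Z 1).Normal).conj_mem _ (hmove 1 g a2 ha2) _
    have e3 : a3⁻¹ * (g * a3 * g⁻¹) ∈ Z 2 := by
      rw [show a3⁻¹ * (g * a3 * g⁻¹) = a3⁻¹ * (g * a3 * g⁻¹ * a3⁻¹) * a3⁻¹⁻¹ by group]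
      exact (inferInstance : (Z 2).Normal).conj_mem _ (hmove 2 g a3 ha3) _
    obtain ⟨a, ha⟩ := hZ1 _ e2
    obtain ⟨b, c, hbc⟩ := hZ2 _ e3
    exact ⟨(a, b, c), by simp only; rw [← ha, mul_inv_cancel_left],
      by simp only; rw [← hbc, mul_inv_cancel_left]⟩
  choose p hp2 hp3 using hex
  have hinj1 : ∀ x y : ZMod 2, pw a1 x = pw a1 y → x = y := by
    intro x y h
    rcases zmod2_cases x with rfl | rfl <;> rcases zmod2_cases y with rfl | rfl <;>
      simp_all [pw]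
  have hmem1 : ∀ x : ZMod 2, pw a1 x ∈ Z 1 := fun x => by
    rcases zmod2_cases x with rfl | rfl
    · rw [pw, if_pos rfl]; exact one_mem _
    · rw [pw, if_neg one_ne_zero]; exact ha1
  have huniq : ∀ (g : T) (q : ZMod 2 × ZMod 2 × ZMod 2), g * a2 * g⁻¹ = a2 * pw a1 q.1 →
      g * a3 * g⁻¹ = a3 * (pw a2 q.2.1 * pw a1 q.2.2) → p g = q := by
    intro g q h2 h3
    have e1 := hinj1 _ _ (mul_left_cancel ((hp2 g).symm.trans h2))
    have e := mul_left_cancel ((hp3 g).symm.trans h3)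
    have eb : (p g).2.1 = q.2.1 := by
      have hm : (pw a2 (p g).2.1)⁻¹ * pw a2 q.2.1 ∈ Z 1 := by
        rw [show (pw a2 (p g).2.1)⁻¹ * pw a2 q.2.1 = pw a1 (p g).2.2 * (pw a1 q.2.2)⁻¹ by
          rw [eq_mul_inv_iff_mul_eq, mul_assoc, inv_mul_eq_iff_eq_mul]; exact e.symm]
        exact mul_mem (hmem1 _) (inv_mem (hmem1 _))
      rcases zmod2_cases (p g).2.1 with hx | hx <;> rcases zmod2_cases q.2.1 with hy | hy <;>
        simp_all [pw]
    rw [eb] at e
    exact Prod.ext e1 (Prod.ext eb (hinj1 _ _ (mul_left_cancel e)))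
  have hcj : ∀ (g : T) (b : ZMod 2), g * pw a2 b * g⁻¹ = pw a2 b * pw a1 ((p g).1 * b) := by
    intro g b
    rcases zmod2_cases b with rfl | rfl
    · simp [pw]
    · have h : pw a2 (1 : ZMod 2) = a2 := by simp [pw]
      rw [h, mul_one, hp2]
  have hmem2 : ∀ x : ZMod 2, pw a2 x ∈ Z 2 := fun x => by
    rcases zmod2_cases x with rfl | rfl <;> simp [pw, ha2]
  have hlaw : ∀ g h : T, p (g * h) = ((p g).1 + (p h).1, (p g).2.1 + (p h).2.1,
      (p g).2.2 + (p h).2.2 + (p g).1 * (p h).2.1) := by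
    intro g h
    refine huniq _ _ ?_ ?_
    · show g * h * a2 * (g * h)⁻¹ = a2 * pw a1 ((p g).1 + (p h).1)
      calc g * h * a2 * (g * h)⁻¹ = g * (h * a2 * h⁻¹) * g⁻¹ := by group
        _ = (g * a2 * g⁻¹) * (g * pw a1 (p h).1 * g⁻¹) := by rw [hp2 h]; group
        _ = a2 * pw a1 ((p g).1 + (p h).1) := by rw [hfix1, hp2, pw_add q1, mul_assoc]
    · show g * h * a3 * (g * h)⁻¹ = a3 * (pw a2 ((p g).2.1 + (p h).2.1) *
        pw a1 ((p g).2.2 + (p h).2.2 + (p g).1 * (p h).2.1))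
      have hcomm : ∀ x y : ZMod 2, pw a1 x * pw a2 y = pw a2 y * pw a1 x := fun x y =>
        (S.Z3_central (m23 (m12 (hmem1 x))) (S.Z3_le (m23 (hmem2 y)))).eq
      calc g * h * a3 * (g * h)⁻¹ = g * (h * a3 * h⁻¹) * g⁻¹ := by group
        _ = (g * a3 * g⁻¹) * ((g * pw a2 (p h).2.1 * g⁻¹) * (g * pw a1 (p h).2.2 * g⁻¹)) := by
          rw [hp3 h]; group
        _ = a3 * (pw a2 (p g).2.1 * (pw a1 (p g).2.2 * pw a2 (p h).2.1) *
              (pw a1 ((p g).1 * (p h).2.1) * pw a1 (p h).2.2)) := by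
          rw [hfix1, hcj, hp3]; group
        _ = _ := by
          rw [hcomm, add_comm ((p g).2.2 + (p h).2.2), ← add_assoc,
            add_comm ((p g).1 * (p h).2.1) (p g).2.2, pw_add q2, pw_add q1, pw_add q1]
          group
  let f : T →* DihedralGroup 4 := MonoidHom.mk' (fun g => table (p g)) fun g h => by
    rw [hlaw, table_mul]
  have hker : f.ker = W := by
    ext g
    rw [MonoidHom.mem_ker]
    constructor
    · intro hg
      have h : p g = 0 := table_one _ hg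
      have e2 : g * a2 * g⁻¹ = a2 := by rw [hp2, h]; simp [pw]
      have e3 : g * a3 * g⁻¹ = a3 := by rw [hp3, h]; simp [pw]
      have k1 : ∀ x ∈ Z 1, g * x * g⁻¹ = x := fun x hx => by
        obtain ⟨c, rfl⟩ := hZ1 x hx
        exact hfix1 g c
      have k2 : ∀ x ∈ Z 2, g * x * g⁻¹ = x := fun x hx => by
        rcases hg2 x hx with h' | h'
        · exact k1 x h'
        · calc g * x * g⁻¹ = (g * a2 * g⁻¹) * (g * (a2⁻¹ * x) * g⁻¹) := by group
            _ = x := by rw [e2, k1 _ h', mul_inv_cancel_left]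
      rw [S.hW]
      refine mem_centralizer_iff.2 fun x hx => ?_
      have k3 : g * x * g⁻¹ = x := by
        rcases hg3 x hx with h' | h'
        · exact k2 x h'
        · calc g * x * g⁻¹ = (g * a3 * g⁻¹) * (g * (a3⁻¹ * x) * g⁻¹) := by group
            _ = x := by rw [e3, k2 _ h', mul_inv_cancel_left]
      exact (mul_inv_eq_iff_eq_mul.1 k3).symm
    · intro hg
      have k : ∀ x ∈ Z 3, g * x * g⁻¹ = x := fun x hx => by
        rw [mul_inv_eq_iff_eq_mul]; exact (S.Z3_central hx hg).eq.symm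
      show table (p g) = 1
      rw [huniq g 0 (by rw [k _ (m23 ha2)]; simp [pw]) (by rw [k _ ha3]; simp [pw])]
      rfl
  refine ⟨f, ?_, hker, ?_⟩
  · rw [← MonoidHom.range_eq_top]
    refine Subgroup.eq_top_of_card_eq _ ?_
    rw [← Subgroup.index_ker, hker, S.Phi_eq.2.1, DihedralGroup.nat_card]
  · intro g hg z hz hfix
    rcases hg3 z hz with h | h
    · exact h
    exfalso
    have hb : (p g).2.1 = 1 := table_moving _ hg
    set y := a3⁻¹ * z with hy
    have hd : g * y * g⁻¹ * y⁻¹ ∈ Z 1 := hmove 1 g y h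
    have e : a3 * (pw a2 (p g).2.1 * pw a1 (p g).2.2) * (g * y * g⁻¹) = a3 * y := by
      rw [← hp3, hy, mul_inv_cancel_left]
      calc g * a3 * g⁻¹ * (g * (a3⁻¹ * z) * g⁻¹) = g * z * g⁻¹ := by group
        _ = z := hfix
    rw [hb, mul_assoc a3, mul_left_cancel_iff] at e
    apply ha2n
    have e' : pw a2 (1 : ZMod 2) = (pw a1 (p g).2.2 * (g * y * g⁻¹ * y⁻¹))⁻¹ := by
      rw [eq_inv_iff_mul_eq_one]
      calc pw a2 (1 : ZMod 2) * (pw a1 (p g).2.2 * (g * y * g⁻¹ * y⁻¹)) =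
          (pw a2 (1 : ZMod 2) * pw a1 (p g).2.2 * (g * y * g⁻¹)) * y⁻¹ := by group
        _ = 1 := by rw [e, mul_inv_cancel]
    have : pw a2 (1 : ZMod 2) ∈ Z 1 := e' ▸ inv_mem (mul_mem (hmem1 _) hd)
    simpa [pw] using this

/-- `W / Z₃` is the regular module of `T / W` if some element of `Z₄ \\ Z₃` is central in `W`. -/
theorem exists_regular (hcon : ¬ (center W).map W.subtype ≤ Z 3) :
    ∃ (f : T →* DihedralGroup 4) (c : W) (e : DihedralGroup 4 → W)
      (Φ : W → DihedralGroup 4 → ZMod 2),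
      Function.Surjective f ∧ f.ker = W ∧
      (∀ g : T, f g = sr 1 ∨ f g = sr 3 → ∀ z ∈ Z 3, g * z * g⁻¹ = z → z ∈ Z 2) ∧
      c ∈ center W ∧ (∀ x y, Φ (x * y) = Φ x + Φ y) ∧ (∀ x : W, (x : T) ∈ Z 3 → Φ x = 0) ∧
      (∀ x y : W, Φ x = Φ y → (x : T)⁻¹ * y ∈ Z 3) ∧
      (∀ b d, Φ (e b) d = if d * b = 1 then 1 else 0) ∧ (Φ c = fun _ => 1) ∧
      ∀ (g : T) (d : DihedralGroup 4),
        (e (f g * d) : T)⁻¹ * (g * (e d : T) * g⁻¹) ∈ Z 3 := by
  classical
  haveI hWn := S.W_normal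
  have hZ4C := S.le_of_not_le (N := (center W).map W.subtype) inferInstance 3 (by norm_num) hcon
  obtain ⟨hPhi, -, -, hcW⟩ := S.Phi_eq
  obtain ⟨f, hsurj, hker, hmoving⟩ := S.exists_hom
  obtain ⟨c, hc4, hc3, -⟩ := S.exists_step 3 (by norm_num)
  obtain ⟨cW, hcW', hcc⟩ := hZ4C hc4
  obtain rfl : (cW : T) = c := hcc
  obtain ⟨K, hZK, hKW, hcK, hK2, -⟩ := exists_avoid (U0 := Z 3) S.Z3_le cW.2 hc3
    (fun x hx => hPhi ▸ S.sq_mem_Phi hx) (fun x hx y hy => hPhi ▸ S.comm_mem_Phi hx hy)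
  have hZ3n : (Z 3).Normal := inferInstance
  have hco : ∀ (x y : W), (x : T) * y * (x : T)⁻¹ * (y : T)⁻¹ ∈ Z 3 := fun x y =>
    hPhi ▸ S.comm_mem_Phi x.2 y.2
  -- conjugation on `W / Z₃` depends on `f` only
  have hcong : ∀ (g g' : T), f g = f g' → ∀ x : W,
      g * (x : T) * g⁻¹ * (g' * (x : T) * g'⁻¹)⁻¹ ∈ Z 3 := by
    intro g g' h x
    have hw : g'⁻¹ * g ∈ W := by
      rw [← hker, MonoidHom.mem_ker, map_mul, map_inv, h, inv_mul_cancel]
    rw [show g * (x : T) * g⁻¹ * (g' * (x : T) * g'⁻¹)⁻¹ =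
      g' * ((g'⁻¹ * g) * x * (g'⁻¹ * g)⁻¹ * (x : T)⁻¹) * g'⁻¹ by group]
    exact hZ3n.conj_mem _ (hco ⟨_, hw⟩ x) g'
  -- the indicator modulo `K`
  have hKiff : ∀ {x y : T}, x ∈ W → y ∈ W → (x * y ∈ K ↔ (x ∈ K ↔ y ∈ K)) := fun {x y} hx hy =>
    Subgroup.mul_mem_iff_of_index_two hK2 (a := ⟨x, hx⟩) (b := ⟨y, hy⟩)
  choose τ hτ using hsurj
  let Φ : W → DihedralGroup 4 → ZMod 2 := fun x d =>
    if τ d * (x : T) * (τ d)⁻¹ ∈ K then 0 else 1
  have hΦmul : ∀ x y : W, Φ (x * y) = Φ x + Φ y := by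
    intro x y
    funext d
    have h : τ d * ((x : T) * y) * (τ d)⁻¹ ∈ K ↔
        (τ d * (x : T) * (τ d)⁻¹ ∈ K ↔ τ d * (y : T) * (τ d)⁻¹ ∈ K) := by
      rw [show τ d * ((x : T) * y) * (τ d)⁻¹ = (τ d * x * (τ d)⁻¹) * (τ d * y * (τ d)⁻¹) by group]
      exact hKiff (hWn.conj_mem _ x.2 (τ d)) (hWn.conj_mem _ y.2 (τ d))
    simp only [Φ, Pi.add_apply, Subgroup.coe_mul]
    by_cases h1 : τ d * (x : T) * (τ d)⁻¹ ∈ K <;> by_cases h2 : τ d * (y : T) * (τ d)⁻¹ ∈ K <;>
      simp only [h1, h2, h, iff_true, iff_false, not_true, not_false_iff, if_true, if_false] <;>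
      decide
  have hΦK : ∀ (g : T) (x : W), g * (x : T) * g⁻¹ ∈ K ↔ Φ x (f g) = 0 := by
    intro g x
    have h := hcong g (τ (f g)) (hτ _).symm x
    have hiff : g * (x : T) * g⁻¹ ∈ K ↔ τ (f g) * (x : T) * (τ (f g))⁻¹ ∈ K := by
      rw [show g * (x : T) * g⁻¹ = (g * (x : T) * g⁻¹ * (τ (f g) * (x : T) * (τ (f g))⁻¹)⁻¹) *
        (τ (f g) * (x : T) * (τ (f g))⁻¹) by group]
      exact K.mul_mem_cancel_left (hZK h)
    rw [hiff]
    by_cases h' : τ (f g) * (x : T) * (τ (f g))⁻¹ ∈ K <;> simp [Φ, h']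
  have hΦZ : ∀ x : W, (x : T) ∈ Z 3 → Φ x = 0 := fun x hx => funext fun d =>
    if_pos (hZK (hZ3n.conj_mem _ hx _))
  have hΦinj : ∀ x : W, Φ x = 0 → (x : T) ∈ Z 3 := by
    let N : Subgroup T :=
      { carrier := {x | ∀ g : T, g * x * g⁻¹ ∈ K}
        one_mem' := fun g => by simp
        mul_mem' := fun {p q} hp hq g => by
          rw [show g * (p * q) * g⁻¹ = (g * p * g⁻¹) * (g * q * g⁻¹) by group]
          exact K.mul_mem (hp g) (hq g)
        inv_mem' := fun {p} hp g => by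
          rw [show g * p⁻¹ * g⁻¹ = (g * p * g⁻¹)⁻¹ by group]
          exact K.inv_mem (hp g) }
    have hNn : N.Normal := ⟨fun x hx g h => by
      rw [show h * (g * x * g⁻¹) * h⁻¹ = (h * g) * x * (h * g)⁻¹ by group]
      exact hx (h * g)⟩
    have hN : N ≤ Z 3 := by
      by_contra h
      exact hcK (by simpa using S.le_of_not_le hNn 3 (by norm_num) h hc4 1)
    exact fun x hx => hN fun g => (hΦK g x).2 (by rw [hx]; rfl)
  have hΦeq : ∀ x y : W, Φ x = Φ y → (x : T)⁻¹ * y ∈ Z 3 := fun x y h => by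
    refine hΦinj (x⁻¹ * y) ?_
    have h1 := hΦmul x (x⁻¹ * y)
    rw [mul_inv_cancel_left, ← h] at h1
    exact left_eq_add.1 h1
  have hΦsurj : ∀ v, ∃ x, Φ x = v := by
    let F : W ⧸ (Z 3).subgroupOf W → DihedralGroup 4 → ZMod 2 := fun q => Φ q.out
    have hF : Function.Injective F := fun p q h => by
      rw [← QuotientGroup.out_eq' p, ← QuotientGroup.out_eq' q, QuotientGroup.eq, mem_subgroupOf]
      exact hΦeq _ _ h
    have hcard : Nat.card (W ⧸ (Z 3).subgroupOf W) = Nat.card (DihedralGroup 4 → ZMod 2) := by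
      rw [Nat.card_fun, DihedralGroup.nat_card, Nat.card_zmod, ← Subgroup.index_eq_card]
      have h := Subgroup.relIndex_mul_relIndex ⊥ (Z 3) W bot_le S.Z3_le
      rw [relIndex_bot_left, relIndex_bot_left, S.card_Z 3 (by norm_num), hcW, Subgroup.relIndex] at h
      omega
    exact fun v => by
      obtain ⟨q, hq⟩ := (Nat.bijective_iff_injective_and_card F).2 ⟨hF, hcard⟩ |>.2 v
      exact ⟨q.out, hq⟩
  obtain ⟨w, hw⟩ := hΦsurj fun d => if d = 1 then 1 else 0
  -- the conjugates of `w`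
  let e : DihedralGroup 4 → W := fun d => ⟨τ d * w * (τ d)⁻¹, hWn.conj_mem _ w.2 _⟩
  have hΦe : ∀ b d, Φ (e b) d = if d * b = 1 then 1 else 0 := by
    intro b d
    have h : Φ (e b) d = 0 ↔ Φ w (d * b) = 0 := by
      conv_lhs => rw [← hτ d]
      rw [← hΦK]
      show τ d * (τ b * (w : T) * (τ b)⁻¹) * (τ d)⁻¹ ∈ K ↔ _
      rw [show τ d * (τ b * (w : T) * (τ b)⁻¹) * (τ d)⁻¹ = (τ d * τ b) * (w : T) * (τ d * τ b)⁻¹ by
        group, hΦK, map_mul, hτ, hτ]
    rw [hw] at h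
    beta_reduce at h
    by_cases hdb : d * b = 1
    · rw [if_pos hdb] at h ⊢
      exact (zmod2_cases _).resolve_left fun h' => one_ne_zero (h.1 h')
    · rw [if_neg hdb] at h ⊢
      exact h.2 rfl
  refine ⟨f, cW, e, Φ, fun d => ⟨_, hτ d⟩, hker, hmoving, hcW', hΦmul, hΦZ, hΦeq, hΦe, ?_, ?_⟩
  · funext d
    refine if_neg fun h => hcK ?_
    have h3 := Subgroup.mem_upperCentralSeries_succ_iff.1 hc4 (τ d)
    rw [commutatorElement_def] at h3
    rw [show (cW : T) = ((cW : T) * τ d * (cW : T)⁻¹ * (τ d)⁻¹) * (τ d * cW * (τ d)⁻¹) by group]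
    exact K.mul_mem (hZK h3) h
  · intro g d
    rw [hZ3n.mem_comm_iff]
    show g * (τ d * (w : T) * (τ d)⁻¹) * g⁻¹ * (τ (f g * d) * (w : T) * (τ (f g * d))⁻¹)⁻¹ ∈ Z 3
    rw [show g * (τ d * (w : T) * (τ d)⁻¹) * g⁻¹ = (g * τ d) * (w : T) * (g * τ d)⁻¹ by group]
    exact hcong _ _ (by rw [map_mul, hτ, hτ]) w

/-- The centre of `W` is `Z₃`. -/
theorem center_le : (center W).map W.subtype ≤ Z 3 := by
  classical
  haveI hWn := S.W_normal
  by_contra hcon
  obtain ⟨hPhi, -, -, hcW⟩ := S.Phi_eq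
  obtain ⟨f, cW, e, Φ, hsurj, hker, hmoving, hcW', hΦmul, hΦZ, hΦeq, hΦe, hΦc, heq⟩ :=
    S.exists_regular hcon
  choose τ hτ using hsurj
  have hsq3 := S.derived.2
  obtain ⟨a, ha3, ha2, -⟩ := S.exists_step 2 (by norm_num)
  have hZ3n : (Z 3).Normal := inferInstance
  have hZ2n : (Z 2).Normal := inferInstance
  have hco : ∀ (x y : W), (x : T) * y * (x : T)⁻¹ * (y : T)⁻¹ ∈ Z 3 := fun x y =>
    hPhi ▸ S.comm_mem_Phi x.2 y.2
  -- the commutator form
  let ε : T → ZMod 2 := fun z => if z ∈ Z 2 then 0 else 1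
  have hε : ∀ {x y : T}, x ∈ Z 3 → y ∈ Z 3 → ε (x * y) = ε x + ε y := fun {x y} hx hy => by
    have h := S.mul_mem_step (i := 2) (by norm_num) hx hy
    by_cases h1 : x ∈ Z 2 <;> by_cases h2 : y ∈ Z 2 <;>
      simp only [ε, h1, h2, h, iff_true, iff_false, not_true, not_false_iff, if_true, if_false] <;>
      decide
  have hεconj : ∀ g z : T, ε (g * z * g⁻¹) = ε z := fun g z => by
    have : g * z * g⁻¹ ∈ Z 2 ↔ z ∈ Z 2 :=
      ⟨fun h => by simpa [mul_assoc] using hZ2n.conj_mem _ h g⁻¹, fun h => hZ2n.conj_mem _ h g⟩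
    simp only [ε, this]
  have hεinv : ∀ z : T, ε z⁻¹ = ε z := fun z => by simp [ε]
  let B : W → W → ZMod 2 := fun x y => ε ((x : T) * y * (x : T)⁻¹ * (y : T)⁻¹)
  have hBsymm : ∀ x y, B x y = B y x := fun x y => by
    simp only [B]
    rw [← hεinv]
    exact congrArg ε (by group)
  have hBl : ∀ x y z, B (x * y) z = B x z + B y z := fun x y z => by
    simp only [B, Subgroup.coe_mul]
    rw [show (x : T) * y * z * ((x : T) * y)⁻¹ * (z : T)⁻¹ =
      ((x : T) * ((y : T) * z * (y : T)⁻¹ * (z : T)⁻¹) * (x : T)⁻¹) *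
        ((x : T) * z * (x : T)⁻¹ * (z : T)⁻¹) by group]
    rw [hε (hZ3n.conj_mem _ (hco y z) _) (hco x z), hεconj, add_comm]
  have hBZ : ∀ x y : W, (x : T) ∈ Z 3 → B x y = 0 := fun x y hx => by
    have h : (x : T) * y * (x : T)⁻¹ * (y : T)⁻¹ = 1 := by
      rw [(S.Z3_central hx y.2).eq, mul_inv_cancel_right, mul_inv_cancel]
    simp [B, ε, h]
  have hBcongr : ∀ x x' y : W, (x : T)⁻¹ * x' ∈ Z 3 → B x' y = B x y := fun x x' y h => by
    rw [show x' = x * ⟨(x : T)⁻¹ * x', W.mul_mem (W.inv_mem x.2) x'.2⟩ from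
      Subtype.ext (by simp), hBl, hBZ ⟨_, W.mul_mem (W.inv_mem x.2) x'.2⟩ y h, add_zero]
  have hBconj : ∀ (g : T) (x y : W),
      B ⟨g * x * g⁻¹, hWn.conj_mem _ x.2 g⟩ ⟨g * y * g⁻¹, hWn.conj_mem _ y.2 g⟩ = B x y :=
    fun g x y => by
      simp only [B]
      rw [show g * (x : T) * g⁻¹ * (g * y * g⁻¹) * (g * x * g⁻¹)⁻¹ * (g * y * g⁻¹)⁻¹ =
        g * ((x : T) * y * (x : T)⁻¹ * (y : T)⁻¹) * g⁻¹ by group, hεconj]
  let F : DihedralGroup 4 → ZMod 2 := fun d => B (e 1) (e d)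
  have hBe : ∀ b d, B (e b) (e d) = F (b⁻¹ * d) := by
    intro b d
    have h1 : ∀ d', B (⟨τ b * (e d' : T) * (τ b)⁻¹, hWn.conj_mem _ (e d').2 _⟩) =
        B (e (b * d')) := by
      intro d'
      funext y
      refine hBcongr _ _ y ?_
      show (e (b * d') : T)⁻¹ * (τ b * (e d' : T) * (τ b)⁻¹) ∈ Z 3
      simpa [hτ] using heq (τ b) d'
    show B (e b) (e d) = B (e 1) (e (b⁻¹ * d))
    rw [← hBconj (τ b) (e 1) (e (b⁻¹ * d)), h1, mul_one, hBsymm, hBsymm (e b) ⟨_, _⟩, h1,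
      mul_inv_cancel_left]
  -- products
  have hΦone : Φ 1 = 0 := hΦZ 1 (one_mem _)
  have hΦprod : ∀ l : List W, Φ l.prod = (l.map Φ).sum := by
    intro l
    induction l with
    | nil => simpa using hΦone
    | cons x l ih => simp [hΦmul, ih]
  have hBprod : ∀ (l : List W) (y : W), B l.prod y = (l.map fun x => B x y).sum := by
    intro l y
    induction l with
    | nil => simpa using hBZ 1 y (one_mem _)
    | cons x l ih => simp [hBl, ih]
  have hBlist : ∀ l l' : List (DihedralGroup 4), B (l.map e).prod (l'.map e).prod =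
      (l.map fun b => (l'.map fun d => F (b⁻¹ * d)).sum).sum := by
    intro l l'
    rw [hBprod, List.map_map]
    refine congrArg List.sum (List.map_congr_left fun b _ => ?_)
    show B (e b) _ = _
    rw [hBsymm, hBprod, List.map_map]
    refine congrArg List.sum (List.map_congr_left fun d _ => ?_)
    show B (e d) (e b) = _
    rw [hBsymm, hBe]
  let Q : W → ZMod 2 := fun x => ε ((x : T) ^ 2)
  have hQmul : ∀ x y, Q (x * y) = Q x + Q y + B x y := by
    intro x y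
    have hx2 : (x : T) ^ 2 ∈ Z 3 := hPhi ▸ S.sq_mem_Phi x.2
    have hy2 : (y : T) ^ 2 ∈ Z 3 := hPhi ▸ S.sq_mem_Phi y.2
    have hB : ε ((x : T)⁻¹ * y * ((x : T)⁻¹)⁻¹ * (y : T)⁻¹) = B x⁻¹ y := rfl
    have hBinv : B x⁻¹ y = B x y := by
      have h := hBl x x⁻¹ y
      rw [mul_inv_cancel, hBZ 1 y (one_mem _)] at h
      rw [eq_comm] at h
      rcases zmod2_cases (B x y) with h1 | h1 <;> rcases zmod2_cases (B x⁻¹ y) with h2 | h2 <;>
        rw [h1, h2] at h ⊢ <;> revert h <;> decide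
    show ε (((x : T) * y) ^ 2) = _
    rw [show ((x : T) * y) ^ 2 = (x : T) ^ 2 * ((x : T)⁻¹ * y * ((x : T)⁻¹)⁻¹ * (y : T)⁻¹) *
      (y : T) ^ 2 by simp only [pow_two]; group]
    have hc' : (x : T)⁻¹ * y * ((x : T)⁻¹)⁻¹ * (y : T)⁻¹ ∈ Z 3 := hco x⁻¹ y
    rw [hε (mul_mem hx2 hc') hy2, hε hx2 hc', hB, hBinv]
    simp only [Q]
    abel
  have hQZ : ∀ x : W, (x : T) ∈ Z 3 → Q x = 0 := fun x hx => by simp [Q, ε, hsq3 _ hx]
  have hQe : ∀ d, Q (e d) = Q (e 1) := fun d => by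
    have h := heq (τ d) 1
    rw [hτ, mul_one] at h
    have hW' : τ d * (e 1 : T) * (τ d)⁻¹ ∈ W := hWn.conj_mem _ (e 1).2 _
    set x : W := ⟨_, W.mul_mem (W.inv_mem (e d).2) hW'⟩
    have h2 : Q (e d * x) = Q (e 1) := by
      show ε (((e d : T) * ((e d : T)⁻¹ * (τ d * (e 1 : T) * (τ d)⁻¹))) ^ 2) = _
      rw [mul_inv_cancel_left, conj_pow, hεconj]
    rwa [hQmul, hQZ x h, hBsymm, hBZ x (e d) h, add_zero, add_zero] at h2
  have hQlist : ∀ l : List (DihedralGroup 4), Q (l.map e).prod = qmodel (Q (e 1)) F l := by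
    intro l
    induction l with
    | nil => simpa [qmodel] using hQZ 1 (one_mem _)
    | cons b l ih =>
      have h := hBlist [b] l
      simp only [List.map_cons, List.map_nil, List.prod_cons, List.prod_nil, mul_one,
        List.sum_cons, List.sum_nil, add_zero] at h
      rw [List.map_cons, List.prod_cons, hQmul, hQe, ih, h]
      rfl
  -- the values of the form
  have hF0 : F (r 0) = 0 := by
    show B (e 1) (e 1) = 0
    simp [B, ε]
  have hFinv : ∀ d, F d⁻¹ = F d := fun d => by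
    have h1 := hBe d 1
    rw [mul_one] at h1
    rw [← h1, hBsymm]
  have hFmov : ∀ d : DihedralGroup 4, d = sr 1 ∨ d = sr 3 → d * d = 1 → F d = 0 := by
    intro d hd hdd
    have hfd : f (τ d) = sr 1 ∨ f (τ d) = sr 3 := by rw [hτ]; exact hd
    set v := τ d * (e 1 : T) * (τ d)⁻¹ with hv
    have hvW : v ∈ W := hWn.conj_mem _ (e 1).2 _
    have h1 : F d = B (e 1) ⟨v, hvW⟩ := by
      show B (e 1) (e d) = _
      rw [hBsymm, hBsymm (e 1) ⟨v, hvW⟩]
      refine (hBcongr _ _ _ ?_).symm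
      show (e d : T)⁻¹ * v ∈ Z 3
      simpa [hτ] using heq (τ d) 1
    rw [h1]
    set z := (e 1 : T) * v * (e 1 : T)⁻¹ * v⁻¹ with hz
    have hz3 : z ∈ Z 3 := hco (e 1) ⟨v, hvW⟩
    show ε z = 0
    refine if_pos (hmoving (τ d) hfd z hz3 ?_)
    -- the conjugate of `v` is `e 1` up to a central element
    set u := τ d * v * (τ d)⁻¹ with hu
    have huw : (e 1 : T)⁻¹ * u ∈ Z 3 := by
      have h := heq (τ d * τ d) 1
      rw [map_mul, hτ, hdd, mul_one] at h
      rwa [show τ d * τ d * (e 1 : T) * (τ d * τ d)⁻¹ = u by rw [hu, hv]; group] at h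
    have hcen : Commute ((e 1 : T)⁻¹ * u) v := S.Z3_central huw hvW
    calc τ d * z * (τ d)⁻¹ = v * u * v⁻¹ * u⁻¹ := by rw [hz, hu, hv]; group
      _ = v * (e 1 : T) * (((e 1 : T)⁻¹ * u) * v⁻¹) * ((e 1 : T)⁻¹ * u)⁻¹ * (e 1 : T)⁻¹ := by group
      _ = z⁻¹ := by rw [hcen.inv_right.eq, hz]; group
      _ = z := inv_eq_of_mul_eq_one_right (pow_two z ▸ hsq3 z hz3)
  have hFall : (allList.map F).sum = 0 := by
    have hΦall : Φ (allList.map e).prod = fun _ => 1 := funext fun d => by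
      rw [hΦprod, List.map_map, list_sum_apply, List.map_map, ← allList_sum d]
      exact congrArg List.sum (List.map_congr_left fun b _ => hΦe b d)
    have h0 : B (e 1) cW = 0 := by
      have h : (e 1 : T) * cW * (e 1 : T)⁻¹ * (cW : T)⁻¹ = 1 := by
        have := congrArg Subtype.val (mem_center_iff.1 hcW' (e 1))
        simp only [Subgroup.coe_mul] at this
        rw [this, mul_inv_cancel_right, mul_inv_cancel]
      simp [B, ε, h]
    rw [hBsymm, hBcongr _ _ _ (hΦeq _ _ (hΦall.trans hΦc.symm)), hBprod, List.map_map] at h0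
    rw [← h0]
    refine congrArg List.sum (List.map_congr_left fun d _ => ?_)
    exact hBsymm _ _
  have hFmodel := eq_fmodel hF0 (hFmov _ (Or.inl rfl) (by decide)) (hFmov _ (Or.inr rfl) (by decide))
    hFinv hFall
  -- an elementary subgroup of index eight
  let u : Fin 5 → W := fun i => ((fiveList i).map e).prod
  let U : Subgroup W := closure (((Z 3).subgroupOf W : Set W) ∪ Set.range u)
  have hBu : ∀ i j, B (u i) (u j) = 0 := fun i j => by
    rw [hBlist, hFmodel]; exact five_B _ _ _ i j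
  have hBU : ∀ x ∈ U, ∀ y ∈ U, B x y = 0 := by
    have h1 : ∀ (y : W), (∀ i, B (u i) y = 0) → ∀ x ∈ U, B x y = 0 := by
      intro y hy x hx
      induction hx using Subgroup.closure_induction with
      | mem x hx =>
        rcases hx with hx | ⟨i, rfl⟩
        · exact hBZ x y hx
        · exact hy i
      | one => exact hBZ 1 y (one_mem _)
      | mul p q _ _ hp hq => rw [hBl, hp, hq, add_zero]
      | inv p _ hp =>
        have h := hBl p p⁻¹ y
        rwa [mul_inv_cancel, hBZ 1 y (one_mem _), hp, zero_add, eq_comm] at h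
    intro x hx y hy
    refine h1 y (fun i => ?_) x hx
    rw [hBsymm]
    exact h1 _ (fun j => hBu j i) y hy
  have hQU : ∀ x ∈ U, Q x = 0 := by
    intro x hx
    induction hx using Subgroup.closure_induction with
    | mem x hx =>
      rcases hx with hx | ⟨i, rfl⟩
      · exact hQZ x hx
      · rw [hQlist, hFmodel]; exact five_Q _ _ _ _ i
    | one => exact hQZ 1 (one_mem _)
    | mul p q hp' hq' hp hq => rw [hQmul, hp, hq, hBU p hp' q hq', add_zero, add_zero]
    | inv p hp' hp =>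
      show ε ((p : T)⁻¹ ^ 2) = 0
      rw [inv_pow, hεinv]
      exact hp
  let P : (Fin 5 → Bool) → W := fun v => (((List.finRange 5).filter v).map u).prod
  have hΦP : ∀ v d, Φ (P v) d = selModel v d := by
    intro v d
    rw [hΦprod, List.map_map, list_sum_apply, List.map_map]
    refine congrArg List.sum (List.map_congr_left fun i _ => ?_)
    show Φ (u i) d = _
    rw [hΦprod, List.map_map, list_sum_apply, List.map_map]
    exact congrArg List.sum (List.map_congr_left fun b _ => hΦe b d)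
  have hPU : ∀ v, P v ∈ U := fun v => U.list_prod_mem fun x hx => by
    obtain ⟨i, -, rfl⟩ := List.mem_map.1 hx
    exact subset_closure (Or.inr ⟨i, rfl⟩)
  let J : (Fin 5 → Bool) × (Z 3 : Subgroup T) → U := fun q =>
    ⟨P q.1 * ⟨(q.2 : T), S.Z3_le q.2.2⟩, U.mul_mem (hPU _) (subset_closure (Or.inl q.2.2))⟩
  have hJ : Function.Injective J := by
    rintro ⟨v, z⟩ ⟨v', z'⟩ h
    have h' : P v * ⟨(z : T), S.Z3_le z.2⟩ = P v' * ⟨(z' : T), S.Z3_le z'.2⟩ := congrArg Subtype.val h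
    have hv := congrArg Φ h'
    rw [hΦmul, hΦmul, hΦZ ⟨(z : T), S.Z3_le z.2⟩ z.2, hΦZ ⟨(z' : T), S.Z3_le z'.2⟩ z'.2, add_zero,
      add_zero] at hv
    have hvv : v = v' := by
      rw [selModel_rec v, selModel_rec v']
      simp only [← hΦP, hv]
    subst hvv
    exact Prod.ext rfl (Subtype.ext (congrArg (fun x : W => (x : T)) (mul_left_cancel h')))
  have hcardU : 256 ≤ Nat.card U := by
    refine le_trans (le_of_eq ?_) (Nat.card_le_card_of_injective J hJ)
    rw [Nat.card_prod, Nat.card_fun, S.card_Z 3 (by norm_num)]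
    simp
  refine S.false_of_elementary (U := U.map W.subtype) (D := Z 2) (a := a) (map_subtype_le _) ?_ ?_
    ha3 ⟨⟨a, S.Z3_le ha3⟩, subset_closure (Or.inl ha3), rfl⟩ ha2 ?_ ?_
  · rw [Subgroup.relIndex, Subgroup.subgroupOf,
      Subgroup.comap_map_eq_self_of_injective W.subtype_injective]
    have h := U.card_mul_index
    rw [hcW] at h
    nlinarith
  · intro x hx
    have hx3 : x ∈ Z 3 := Subgroup.upperCentralSeries_mono T (by norm_num) hx
    exact ⟨⟨x, S.Z3_le hx3⟩, subset_closure (Or.inl hx3), rfl⟩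
  · rintro _ ⟨x, hx, rfl⟩
    have h := hQU x hx
    simp only [Q, ε] at h
    by_contra hn
    simp only [Subgroup.coe_subtype] at hn
    rw [if_neg hn] at h
    exact one_ne_zero h
  · rintro _ ⟨x, hx, rfl⟩ _ ⟨y, hy, rfl⟩
    have h := hBU x hx y hy
    simp only [B, ε] at h
    by_contra hn
    simp only [Subgroup.coe_subtype] at hn
    rw [if_neg hn] at h
    exact one_ne_zero h

end Setting

end CfsgLib.TwoGroups.CentralSixteen
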