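import Cfsg.Agent.Lib.TwoGroups.NonNilpotentTI
import Cfsg.Agent.Lib.OddLocal.KappaDecomp

/-!
Owner: helper12. Bender–Glauberman, Theorem 15.2, from the order of `K*` for type `P₁`.
-/

set_option autoImplicit false
set_option linter.unusedSectionVars false

namespace CfsgLib.TwoGroups.Chapter15

open Subgroup
open scoped commutatorElement

variable {G : Type*} [Group G] [Finite G] {M K U : Subgroup G}

/-- `K*` has prime order when `K ≠ 1`, `U = 1` (a consequence of Theorem 14.7). -/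
def StarPrime (G : Type*) [Group G] [Finite G] : Prop :=
  ∀ M K U : Subgroup G, IsCoatom M → Cfsg.IsSigmaDecomposition M K U → K ≠ ⊥ → U = ⊥ →
    (Nat.card ↥(NonNilpotent.star M K)).Prime

/-- Hall `κ(M)`-subgroups are cyclic (Theorem 14.7). -/
def KappaCyclic (G : Type*) [Group G] [Finite G] : Prop :=
  ∀ M K : Subgroup G, IsCoatom M → Cfsg.IsPiHallOf (Cfsg.kappa M) K M → IsCyclic K

theorem derived_lt (hG : Cfsg.IsMinSimpleOddOrder G) (hM : IsCoatom M) : ⁅M, M⁆ < M := by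
  refine lt_of_le_of_ne (commutator_le_self M) fun e => ?_
  have hs : Group.IsSolvable M := hG.2.2.2 M hM.1
  have : Nontrivial M := (Subgroup.nontrivial_iff_ne_bot M).mpr (ProperPLength.maximal_ne_bot hG hM)
  have h := Group.IsSolvable.commutator_lt_top_of_nontrivial M
  refine h.ne (map_injective M.subtype_injective ?_)
  rw [map_subtype_commutator, e, ← MonoidHom.range_eq_map, range_subtype]

theorem U_ne_bot (hG : Cfsg.IsMinSimpleOddOrder G) (hM : IsCoatom M) (h : Cfsg.IsSigmaDecomposition M K U)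
    (hK : K = ⊥) : U ≠ ⊥ := by
  intro hU
  have hc := SigmaFactor.isComplIn hG hM h
  rw [hK, hU, bot_sup_eq] at hc
  refine (derived_lt hG hM).not_ge fun m hm => ?_
  obtain ⟨a, ha, b, hb, rfl⟩ := hc.2.2.2 m hm
  rw [mem_bot.mp ha, one_mul]
  exact OddLocal.BetaCore.sigmaCore_le_derived hG hM hb

theorem exists_pair_of_ne (hG : Cfsg.IsMinSimpleOddOrder G) (hM : IsCoatom M) (hS : StarPrime G)
    (h : Cfsg.IsSigmaDecomposition M K U) (hn : ¬ Group.IsNilpotent (Cfsg.sigmaCore M)) :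
    U = ⊥ ∧ K ≠ ⊥ ∧ ∃ Q D : Subgroup G, NonNilpotent.Pair M K U Q D := by
  have hU : U = ⊥ := by_contra fun hU => hn (TypeP2.isNilpotent_sigmaCore hG hM h hU)
  have hK : K ≠ ⊥ := fun hK => U_ne_bot hG hM h hK hU
  exact ⟨hU, hK, NonNilpotent.exists_pair ⟨hG, hM, h, hK, hU, hn, hS M K U hM h hK hU⟩⟩

theorem not_nilpotent_of_ne (hG : Cfsg.IsMinSimpleOddOrder G) (hM : IsCoatom M)
    (hne : Cfsg.fittingHallOf M ≠ Cfsg.sigmaCore M) : ¬ Group.IsNilpotent (Cfsg.sigmaCore M) := fun hn =>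
  hne (OddLocal.Support.sigmaCore_eq_fittingHallOf hG hM hn).symm

theorem exists_decomposition (hG : Cfsg.IsMinSimpleOddOrder G) (hM : IsCoatom M) (hC : KappaCyclic G) :
    ∃ K U : Subgroup G, Cfsg.IsSigmaDecomposition M K U := by
  have : Group.IsSolvable M := hG.2.2.2 M hM.1
  obtain ⟨H, hH⟩ := Core.exists_piHall (G := ↥M) (Cfsg.kappa M)
  have hK : Cfsg.IsPiHallOf (Cfsg.kappa M) (H.map M.subtype) M := ⟨map_subtype_le _,
    fun s hs hsd => hH.1 s hs (by rwa [card_map_of_injective M.subtype_injective] at hsd),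
    fun s hs hsπ hsd => hH.2 s hs hsπ (by
      rwa [relIndex, subgroupOf, comap_map_eq_self_of_injective M.subtype_injective] at hsd)⟩
  obtain ⟨U, -, hU, hn, -⟩ := OddLocal.Kappa.exists_decomp hG hM hK
  exact ⟨_, U, hC M _ hM hK, hK, hU, hn⟩

/-- Theorem 15.2 (a). -/
theorem hall_chain (hG : Cfsg.IsMinSimpleOddOrder G) (hM : IsCoatom M) (hS : StarPrime G) (hC : KappaCyclic G) :
    Cfsg.fittingHallOf M ≠ ⊥ ∧ Cfsg.fittingHallOf M ≤ Cfsg.sigmaCore M ∧ Cfsg.sigmaCore M ≤ ⁅M, M⁆ ∧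
      ⁅M, M⁆ < M ∧
      Group.IsNilpotent ↥((commutator ↥M).map (QuotientGroup.mk' (Cfsg.fittingHall ↥M))) := by
  refine ⟨?_, FittingStructure.fittingHallOf_le_sigmaCore hG hM,
    OddLocal.BetaCore.sigmaCore_le_derived hG hM, derived_lt hG hM, ?_⟩
  · by_cases hn : Group.IsNilpotent (Cfsg.sigmaCore M)
    · rw [← OddLocal.Support.sigmaCore_eq_fittingHallOf hG hM hn]
      exact TauTwo.sigmaCore_ne_bot hG hM
    · obtain ⟨K, U, h⟩ := exists_decomposition hG hM hC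
      obtain ⟨-, -, Q, D, d⟩ := exists_pair_of_ne hG hM hS h hn
      intro e
      exact d.setup.hq.ne_one (by
        rw [le_bot_iff.mp ((d.star_le.trans d.le_fittingHall).trans e.le), card_bot])
  by_cases hn : Group.IsNilpotent (Cfsg.sigmaCore M)
  swap
  · obtain ⟨K, U, h⟩ := exists_decomposition hG hM hC
    obtain ⟨-, -, Q, D, d⟩ := exists_pair_of_ne hG hM hS h hn
    exact d.quotient_nilpotent
  set π := QuotientGroup.mk' (Cfsg.fittingHall ↥M)
  have hc : ∀ a ∈ commutator ↥M, ∀ b ∈ commutator ↥M, π a * π b = π b * π a := by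
    intro a ha b hb
    rw [← commutatorElement_eq_one_iff_mul_comm, ← map_commutatorElement]
    refine (QuotientGroup.eq_one_iff _).mpr ?_
    have h1 : (⁅a, b⁆ : M).1 ∈ ⁅⁅M, M⁆, ⁅M, M⁆⁆ := by
      have h2 : (⁅a, b⁆ : M).1 ∈ (⁅commutator ↥M, commutator ↥M⁆).map M.subtype :=
        ⟨_, commutator_mem_commutator ha hb, rfl⟩
      rwa [map_commutator, map_subtype_commutator] at h2
    have h3 := FittingStructure.second_derived_le hG hM h1
    rw [OddLocal.Support.sigmaCore_eq_fittingHallOf hG hM hn] at h3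
    obtain ⟨y, hy, e⟩ := h3
    exact (show y = ⁅a, b⁆ from Subtype.ext e) ▸ hy
  refine @CommGroup.isNilpotent _
    { (inferInstance : Group ↥((commutator ↥M).map π)) with mul_comm := fun a b => ?_ }
  obtain ⟨_, u, hu, rfl⟩ := a
  obtain ⟨_, v, hv, rfl⟩ := b
  exact Subtype.ext (hc u hu v hv)

/-- Theorem 15.2 (b). -/
theorem second_derived (hG : Cfsg.IsMinSimpleOddOrder G) (hM : IsCoatom M) (hS : StarPrime G) (hC : KappaCyclic G) :
    ⁅⁅M, M⁆, ⁅M, M⁆⁆ ≤ Cfsg.fittingOf M ∧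
      Cfsg.fittingOf M = (M ⊓ centralizer (Cfsg.fittingHallOf M : Set G)) ⊔ Cfsg.fittingHallOf M ∧
      ((Cfsg.kappa M).Nonempty → Cfsg.fittingOf M ≤ ⁅M, M⁆) := by
  obtain ⟨K, U, h⟩ := exists_decomposition hG hM hC
  refine ⟨?_, ?_, fun ⟨t, ht⟩ => FittingStructure.fitting_le_derived hG hM h fun hK => ?_⟩
  · by_cases hn : Group.IsNilpotent (Cfsg.sigmaCore M)
    · exact (FittingStructure.second_derived_le hG hM).trans (OddLocal.FittingSigma.le_fittingOf
        (TauTwo.sigmaCore_le M) (TauTwo.le_normalizer_sigmaCore M) hn)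
    · obtain ⟨-, -, Q, D, d⟩ := exists_pair_of_ne hG hM hS h hn
      exact d.second_derived_le
  · by_cases hn : Group.IsNilpotent (Cfsg.sigmaCore M)
    · exact FittingStructure.fitting_eq_of_nilpotent hG hM hn
    · obtain ⟨-, -, Q, D, d⟩ := exists_pair_of_ne hG hM hS h hn
      exact d.fitting_eq
  · refine h.hall.2.2 t ht.1 ht ?_
    rw [hK, relIndex_bot_left]
    exact ht.2.1

/-- Theorem 15.2 (c), short form. -/
theorem fitting_hall_ne (hG : Cfsg.IsMinSimpleOddOrder G) (hM : IsCoatom M) (hS : StarPrime G)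
    (h : Cfsg.IsSigmaDecomposition M K U) (hne : Cfsg.fittingHallOf M ≠ Cfsg.sigmaCore M) :
    U = ⊥ ∧ Cfsg.IsTISubset (Cfsg.fittingOf M : Set G) ∧ (Nat.card K).Prime := by
  obtain ⟨hU, -, Q, D, d⟩ := exists_pair_of_ne hG hM hS h (not_nilpotent_of_ne hG hM hne)
  exact ⟨hU, d.fitting_isTISubset, d.card_K_prime⟩

/-- Theorem 15.2 (c). -/
theorem fitting_hall_ne_structure (hG : Cfsg.IsMinSimpleOddOrder G) (hM : IsCoatom M) (hS : StarPrime G)
    (h : Cfsg.IsSigmaDecomposition M K U) (hne : Cfsg.fittingHallOf M ≠ Cfsg.sigmaCore M) :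
    U = ⊥ ∧ Cfsg.sigmaCore M = ⁅M, M⁆ ∧ (Nat.card K).Prime ∧ (Nat.card ↥(NonNilpotent.star M K)).Prime ∧
      Nat.card ↥(NonNilpotent.star M K) ∣ Nat.card (Cfsg.fittingHallOf M) ∧
      Nat.card ↥(NonNilpotent.star M K) ∈ Cfsg.beta M ∧
      ∃ Q : Subgroup G, Q ≤ Cfsg.fittingHallOf M ∧ M ≤ normalizer (Q : Set G) ∧
        IsPGroup (Nat.card ↥(NonNilpotent.star M K)) Q ∧
        ¬ Nat.card ↥(NonNilpotent.star M K) ∣ Q.relIndex (Cfsg.sigmaCore M) ∧
        ∀ D : Subgroup G, Cfsg.IsComplIn Q D (Cfsg.sigmaCore M) →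
          Group.IsNilpotent D ∧ M ≤ normalizer ((Q ⊓ centralizer (D : Set G) : Subgroup G) : Set G) ∧
          Q ⊓ centralizer (D : Set G) < Q ∧
          Nat.card Q = Nat.card ↥(Q ⊓ centralizer (D : Set G)) *
            Nat.card ↥(NonNilpotent.star M K) ^ Nat.card K ∧
          (∀ a ∈ Q, ∀ b ∈ Q, a ^ Nat.card ↥(NonNilpotent.star M K) ∈ Q ⊓ centralizer (D : Set G) ∧
            a * b * a⁻¹ * b⁻¹ ∈ Q ⊓ centralizer (D : Set G)) ∧
          ∀ N : Subgroup G, Q ⊓ centralizer (D : Set G) < N → N < Q → ¬ M ≤ normalizer (N : Set G) := by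
  obtain ⟨hU, -, Q, D, d⟩ := exists_pair_of_ne hG hM hS h (not_nilpotent_of_ne hG hM hne)
  refine ⟨hU, d.setup.derived.symm, d.card_K_prime, d.setup.hq,
    card_dvd_of_le (d.star_le.trans d.le_fittingHall), d.mem_beta, Q, d.le_fittingHall, d.normal, d.isp, d.sylow,
    fun D' hD' => ?_⟩
  obtain ⟨hnil, e⟩ := d.any_complement hD'
  rw [e]
  exact ⟨hnil, d.normalizer_Q₀, d.Q₀_lt, d.card_Q, fun a ha b hb => ⟨d.pow_mem ha, d.comm_mem ha hb⟩,
    fun N h1 h2 => d.minimal h1 h2⟩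

end CfsgLib.TwoGroups.Chapter15
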