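import Mathlib
import Cfsg.Agent.Lib.Components.FStar
import Cfsg.Agent.Lib.PLocal.PConstrained

/-!
`F*(G)` is a `p`-group exactly when `C(O_p(G)) ≤ O_p(G)`.
-/

set_option autoImplicit false
set_option linter.style.haveILetI false

namespace CfsgLib.TwoGroups

open Subgroup

variable {G : Type*} [Group G] [Finite G] {p : ℕ} [hp : Fact p.Prime]

theorem isPGroup_of_no_other_prime
    (h : ∀ q : ℕ, q.Prime → q ≠ p → ∀ x : G, orderOf x ≠ q) : IsPGroup p G :=
  IsPGroup.of_card (n := (Nat.card G).primeFactorsList.length)
    (Nat.eq_prime_pow_of_unique_prime_dvd Nat.card_pos.ne' fun {q} hq hqd => by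
      by_contra hne
      haveI := Fact.mk hq
      obtain ⟨x, hx⟩ := exists_prime_orderOf_dvd_card' (G := G) q hqd
      exact h q hq hne x hx)

theorem isPGroup_gFitting_iff :
    IsPGroup p (Cfsg.generalizedFittingSubgroup G) ↔
      centralizer (Cfsg.pCore p G : Set G) ≤ Cfsg.pCore p G := by
  constructor
  · intro h
    have hle := Components.le_pCore Components.gFitting_normal h
    exact ((centralizer_le hle).trans Components.centralizer_gFitting_le).trans hle
  · intro hc
    refine (Components.pCore_isPGroup p).to_le (sup_le ?_ ?_)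
    · refine le_trans ?_ hc
      rw [← commutator_eq_bot_iff_le_centralizer, eq_bot_iff]
      exact (commutator_mono le_rfl (Components.pCore_le_fitting p)).trans
        Components.layer_commutes_fitting.le
    · haveI hFn := Components.fitting_normal (G := G)
      haveI := Components.fitting_isNilpotent (G := G)
      refine Components.le_pCore hFn (isPGroup_of_no_other_prime fun q hq hqp x hx => ?_)
      haveI := Fact.mk hq
      have hxq : IsPGroup q (zpowers x) :=
        IsPGroup.of_card (n := 1) (by rw [Nat.card_zpowers, hx, pow_one])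
      obtain ⟨Q, hQ⟩ := hxq.exists_le_sylow
      haveI : (Q : Subgroup (Cfsg.fittingSubgroup G)).Normal := by
        have h03 : Group.IsNilpotent (Cfsg.fittingSubgroup G) ↔ ∀ (r : ℕ) (_ : Fact r.Prime)
            (S : Sylow r (Cfsg.fittingSubgroup G)), (S : Subgroup (Cfsg.fittingSubgroup G)).Normal :=
          (Group.isNilpotent_of_finite_tfae (G := Cfsg.fittingSubgroup G)).out 0 3
        exact h03.mp ‹_› q ⟨hq⟩ Q
      set P := (Cfsg.pCore p G).subgroupOf (Cfsg.fittingSubgroup G) with hP
      haveI : (Cfsg.pCore p G).Normal := Components.pCore_normal p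
      haveI : P.Normal := Subgroup.Normal.subgroupOf inferInstance _
      have hd : Disjoint (Q : Subgroup (Cfsg.fittingSubgroup G)) P :=
        IsPGroup.disjoint_of_ne q p hqp _ _ Q.2
          ((Components.pCore_isPGroup p).comap_of_injective _ (Subgroup.subtype_injective _))
      have hxc : (x : G) ∈ centralizer (Cfsg.pCore p G : Set G) := by
        rw [mem_centralizer_iff]
        intro y hy
        exact congrArg Subtype.val (Subgroup.commute_of_normal_of_disjoint _ _ inferInstance
          inferInstance hd x ⟨y, Components.pCore_le_fitting p hy⟩ (hQ (mem_zpowers x))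
          (mem_subgroupOf.2 hy)).eq.symm
      obtain ⟨k, hk⟩ := Components.pCore_isPGroup p ⟨_, hc hxc⟩
      have hd2 : q ∣ p ^ k := by
        rw [← hx, ← Subgroup.orderOf_coe]
        exact orderOf_dvd_of_pow_eq_one (congrArg Subtype.val hk)
      exact hqp ((Nat.prime_dvd_prime_iff_eq hq hp.out).1 (hq.dvd_of_dvd_pow hd2))

/-- A group with a normal subgroup of `p`-power index in which `C(O_p) ≤ O_p` has this property. -/
theorem centralizer_pCore_le_of_normal {N : Subgroup G} [N.Normal]
    (hc : centralizer (Cfsg.pCore p N : Set N) ≤ Cfsg.pCore p N) (hq : IsPGroup p (G ⧸ N)) :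
    centralizer (Cfsg.pCore p G : Set G) ≤ Cfsg.pCore p G := by
  haveI : (Cfsg.pCore p G).Normal := Components.pCore_normal p
  haveI : (centralizer (Cfsg.pCore p G : Set G)).Normal := normal_centralizer
  set C := centralizer (Cfsg.pCore p G : Set G) with hC
  have hNC : IsPGroup p ↥(C.subgroupOf N) := by
    refine (Components.pCore_isPGroup p).to_le (fun x hx => hc ?_)
    rw [mem_centralizer_iff]
    intro y hy
    refine Subtype.ext (mem_centralizer_iff.1 (mem_subgroupOf.1 hx) (y : G) ?_)
    have h2 : (y : G) ∈ (Cfsg.pCore p N).map N.subtype := mem_map_of_mem _ hy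
    rw [Components.pCore_subnormal p (Subgroup.Normal.isSubnormal inferInstance)] at h2
    exact (mem_inf.1 h2).1
  refine Components.le_pCore inferInstance fun x => ?_
  obtain ⟨k, hk⟩ := hq ((x : G) : G ⧸ N)
  rw [← QuotientGroup.mk_pow, QuotientGroup.eq_one_iff] at hk
  obtain ⟨j, hj⟩ := hNC ⟨⟨(x : G) ^ p ^ k, hk⟩, mem_subgroupOf.2 (pow_mem x.2 _)⟩
  refine ⟨k + j, Subtype.ext ?_⟩
  have h1 : ((x : G) ^ p ^ k) ^ p ^ j = 1 := congrArg (fun z : C.subgroupOf N => ((z : N) : G)) hj
  rw [SubmonoidClass.coe_pow, pow_add, pow_mul, h1, OneMemClass.coe_one]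

/-- If `F*(C(V))` is a `p`-group and the `p`-group `U` contains `V` then `F*(C(U))` is one. -/
theorem centralizer_pCore_le_of_le {V : Subgroup G}
    (hV : centralizer (Cfsg.pCore p (centralizer (V : Set G)) : Set (centralizer (V : Set G))) ≤
      Cfsg.pCore p (centralizer (V : Set G))) :
    ∀ U : Subgroup G, IsPGroup p U → V ≤ U →
      centralizer (Cfsg.pCore p (centralizer (U : Set G)) : Set (centralizer (U : Set G))) ≤
        Cfsg.pCore p (centralizer (U : Set G)) := by
  intro U
  induction h : Nat.card U using Nat.strong_induction_on generalizing U with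
  | _ n ih =>
    intro hU hVU
    rcases eq_or_ne V U with rfl | hne
    · exact hV
    obtain ⟨W, hW, hmax⟩ := Set.Finite.exists_maximalFor (id : Subgroup G → Subgroup G)
      {W : Subgroup G | V ≤ W ∧ W < U} (Set.toFinite _) ⟨V, le_rfl, lt_of_le_of_ne hVU hne⟩
    obtain ⟨hVW, hWU⟩ := hW
    have hcW := ih (Nat.card W) (h ▸ lt_of_le_of_ne (card_le_of_le hWU.le)
      fun e => hWU.ne (eq_of_le_of_card_ge hWU.le e.ge)) W rfl (hU.to_le hWU.le) hVW
    -- `W` is normalised by `U`
    have hUN : U ≤ normalizer (W : Set G) := by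
      by_contra hle
      have hlt2 : U ⊓ normalizer (W : Set G) < U :=
        lt_of_le_of_ne inf_le_left fun e => hle (inf_eq_left.1 e)
      have hWlt : W < U ⊓ normalizer (W : Set G) := by
        have := hU.isNilpotent
        have hlt : W.subgroupOf U < ⊤ := lt_top_iff_ne_top.2 fun e =>
          not_le_of_gt hWU (subgroupOf_eq_top.1 e)
        have h2 := Group.normalizerCondition_of_isNilpotent (G := U) _ hlt
        refine lt_of_le_of_ne (le_inf hWU.le le_normalizer) fun e => h2.ne ?_
        rw [← subgroupOf_normalizer_eq hWU.le]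
        ext x
        refine ⟨fun hx => le_normalizer (mem_subgroupOf.1 hx), fun hx => ?_⟩
        rw [mem_subgroupOf, e]
        exact ⟨x.2, hx⟩
      exact absurd (hmax ⟨hVW.trans hWlt.le, hlt2⟩ hWlt.le) (not_le_of_gt hWlt)
    set K := centralizer (W : Set G) with hK
    have hUK : U ≤ normalizer (K : Set G) := hUN.trans (le_normalizer_iff.2 fun g hg y hy => by
      rw [hK, mem_centralizer_iff] at hy ⊢
      intro v hv
      have h1 := hy _ ((mem_normalizer_iff''.1 hg v).1 hv)
      calc v * (g * y * g⁻¹) = g * ((g⁻¹ * v * g) * y) * g⁻¹ := by group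
        _ = g * (y * (g⁻¹ * v * g)) * g⁻¹ := by rw [h1]
        _ = g * y * g⁻¹ * v := by group)
    set X := K ⊔ U with hX
    have hKX : K ≤ X := le_sup_left
    have hUX : U ≤ X := le_sup_right
    have hXN : X ≤ normalizer (K : Set G) := sup_le le_normalizer hUK
    haveI : (K.subgroupOf X).Normal := (normal_subgroupOf_iff_le_normalizer hKX).2 hXN
    have hXc : centralizer (Cfsg.pCore p X : Set X) ≤ Cfsg.pCore p X := by
      refine centralizer_pCore_le_of_normal (N := K.subgroupOf X)
        (PLocal.centralizer_pCore_le_congr (subgroupOfEquivOfLe hKX).symm hcW) ?_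
      have hpi : IsPGroup p ((U.subgroupOf X).map (QuotientGroup.mk' (K.subgroupOf X))) :=
        (hU.comap_of_injective X.subtype X.subtype_injective).map _
      have htop : (U.subgroupOf X).map (QuotientGroup.mk' (K.subgroupOf X)) = ⊤ := by
        apply comap_injective (QuotientGroup.mk'_surjective (K.subgroupOf X))
        rw [comap_map_eq, comap_top, QuotientGroup.ker_mk', ← subgroupOf_sup hUX hKX,
          subgroupOf_eq_top, hX, sup_comm]
      exact hpi.of_equiv ((MulEquiv.subgroupCongr htop).trans topEquiv)
    set U' := U.subgroupOf X with hU'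
    have hloc := (PLocal.centralizer_pCore_le_local (p := p) hXc
      (P := U') (X := centralizer (U' : Set X))
      (hU.comap_of_injective X.subtype X.subtype_injective) le_rfl (centralizer_le_normalizer _)
      (Or.inr le_rfl)).2
    have hCU : centralizer (U : Set G) ≤ X := (centralizer_le hWU.le).trans hKX
    have hC' : centralizer (U' : Set X) = (centralizer (U : Set G)).subgroupOf X := by
      ext x
      rw [mem_subgroupOf, mem_centralizer_iff, mem_centralizer_iff]
      exact ⟨fun hh u hu => congrArg Subtype.val (hh ⟨u, hUX hu⟩ (mem_subgroupOf.2 hu)),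
        fun hh u hu => Subtype.ext (hh _ (mem_subgroupOf.1 hu))⟩
    exact PLocal.centralizer_pCore_le_congr
      ((MulEquiv.subgroupCongr hC').trans (subgroupOfEquivOfLe hCU)) hloc

end CfsgLib.TwoGroups
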