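import Cfsg.Agent.Lib.OddLocal.OddStable

/-!
Owner: helper12. In a solvable group of odd order with trivial `p'`-core a Sylow `p`-subgroup with
cyclic derived subgroup is normal.
-/

set_option autoImplicit false

namespace CfsgLib.TwoGroups.CyclicDerived

open Subgroup
open scoped commutatorElement

variable {G : Type*} [Group G] [Finite G] {p : ℕ} [Fact p.Prime]

/-- Quadratic action on the Frattini quotient of a normal `p`-subgroup. -/
theorem mem_pCore_of_noSL' (hp : p ≠ 2) (h : CfsgLib.PLocal.SLTwo.NoSL p G) (P : Subgroup G) [P.Normal]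
    (hP : IsPGroup p P) {a : G} (hq : ⁅⁅P, zpowers a⁆, zpowers a⁆ ≤ (frattini P).map P.subtype) :
    (QuotientGroup.mk a : G ⧸ centralizer (P : Set G))
      ∈ Cfsg.pCore p (G ⧸ centralizer (P : Set G)) := by
  classical
  set N := (frattini P).map P.subtype with hN
  haveI : N.Normal := inferInstance
  obtain ⟨D, hDn, hle, ⟨k, hk⟩, haD⟩ :=
    CfsgLib.PLocal.SLTwo.isPStableOnSection_of_noSL hp h P N (CfsgLib.PLocal.SLTwo.frattini_section_elementary P hP) a hq
  haveI := hDn
  have hpow : ∀ d ∈ D, ∃ j, d ^ p ^ j ∈ centralizer (P : Set G) := by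
    intro d hd
    haveI : (Cfsg.sectionKernel P N).Normal := by
      rw [Cfsg.sectionKernel]
      haveI : (P.map (QuotientGroup.mk' N)).Normal :=
        Subgroup.Normal.map ‹P.Normal› _ (QuotientGroup.mk'_surjective _)
      infer_instance
    set z := d ^ p ^ k with hz
    have hzK : z ∈ Cfsg.sectionKernel P N := by
      have h1 := pow_index_mem ((Cfsg.sectionKernel P N).subgroupOf D) (⟨d, hd⟩ : D)
      rw [← relIndex, hk] at h1
      simpa [mem_subgroupOf, hz] using h1
    obtain ⟨e, m, hm, hem⟩ := Nat.exists_eq_pow_mul_and_not_dvd (orderOf_pos z).ne' p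
      (Fact.out : p.Prime).ne_one
    refine ⟨k + e, ?_⟩
    rw [pow_add, pow_mul, ← hz]
    set y := z ^ p ^ e with hy
    have hyo : orderOf y = m := by
      rw [hy, orderOf_pow_of_dvd (pow_ne_zero _ (Fact.out : p.Prime).ne_zero) ⟨m, hem⟩, hem,
        Nat.mul_div_cancel_left _ (pow_pos (Fact.out : p.Prime).pos _)]
    have hyK : y ∈ Cfsg.sectionKernel P N := pow_mem hzK _
    have hcop : (Nat.card (zpowers y)).Coprime (Nat.card (frattini P)) := by
      obtain ⟨j, hj⟩ := IsPGroup.iff_card.1 (hP.to_subgroup (frattini P))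
      rw [Nat.card_zpowers, hyo, hj]
      exact (((Fact.out : p.Prime).coprime_iff_not_dvd.2 hm).symm).pow_right j
    have hA : zpowers y ≤ normalizer (P : Set G) := by
      rw [normalizer_eq_top]; exact le_top
    have := CfsgLib.Core.centralizes_of_centralizes_frattini_quotient hA hcop (by
      intro b hb x hx
      have hbK : b ∈ Cfsg.sectionKernel P N := (zpowers_le.2 hyK) hb
      have hc := mem_centralizer_iff.1 (mem_comap.1 hbK) _ (mem_map_of_mem (QuotientGroup.mk' N) hx)
      rw [← QuotientGroup.eq_one_iff]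
      show (QuotientGroup.mk' N) (b * x * b⁻¹ * x⁻¹) = 1
      rw [map_mul, map_mul, map_mul, map_inv, map_inv, ← hc, mul_inv_cancel_right, mul_inv_cancel])
    rw [mem_centralizer_iff]
    intro x hx
    exact mem_centralizer_iff.1 (this (mem_zpowers y)) x hx
  have hDq : IsPGroup p (D.map (QuotientGroup.mk' (centralizer (P : Set G)))) := by
    rintro ⟨_, d, hd, rfl⟩
    obtain ⟨j, hj⟩ := hpow d hd
    exact ⟨j, Subtype.ext ((QuotientGroup.eq_one_iff _).2 hj)⟩
  haveI : (D.map (QuotientGroup.mk' (centralizer (P : Set G)))).Normal :=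
    Subgroup.Normal.map hDn _ (QuotientGroup.mk'_surjective _)
  exact CfsgLib.Core.le_pCore hDq (mem_map_of_mem _ haD)

theorem le_pCore_of_cyclic_commutator [Group.IsSolvable G] (hodd : Odd (Nat.card G)) (hp : p ≠ 2)
    (h : Cfsg.pPrimeCore p G = ⊥) (S : Sylow p G)
    (hS : IsCyclic ↥⁅(S : Subgroup G), (S : Subgroup G)⁆) :
    (S : Subgroup G) ≤ Cfsg.pCore p G := by
  intro a ha
  set P := Cfsg.pCore p G with hPdef
  have hPp : IsPGroup p P := Core.isPGroup_pCore p G
  have hPS : P ≤ (S : Subgroup G) := Core.pCore_le_sylow S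
  set C := P ⊓ ⁅(S : Subgroup G), (S : Subgroup G)⁆ with hC
  have hCc : IsCyclic C :=
    isCyclic_of_injective (inclusion (inf_le_right : C ≤ _)) (inclusion_injective _)
  obtain ⟨⟨c, hc⟩, hgen⟩ := hCc.exists_generator
  have hgenC : ∀ y ∈ C, ∃ i : ℤ, c ^ i = y := fun y hy => by
    obtain ⟨i, hi⟩ := mem_zpowers_iff.mp (hgen ⟨y, hy⟩)
    exact ⟨i, congrArg Subtype.val hi⟩
  have hPn : P.Normal := inferInstance
  have hza : zpowers a ≤ (S : Subgroup G) := zpowers_le.mpr ha
  have h1 : ⁅P, zpowers a⁆ ≤ C :=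
    le_inf (commutator_le_left P _) (commutator_mono hPS hza)
  have hnC : ∀ x ∈ zpowers a, ∀ y ∈ C, x * y * x⁻¹ ∈ C := fun x hx y hy =>
    ⟨hPn.conj_mem y hy.1 x, (mem_normalizer_iff.mp
      (show x ∈ normalizer ((⁅(S : Subgroup G), (S : Subgroup G)⁆ : Subgroup G) : Set G) from
        Transfer.map_conj_eq_self_iff.mp (by
          rw [map_commutator, Transfer.map_conj_eq_self_iff.mpr (le_normalizer (hza hx))])) y).mp hy.2⟩
  set F := (frattini P).map P.subtype with hF
  have hcp : c ^ p ∈ F := ⟨⟨c, hc.1⟩ ^ p, PGroups.pow_mem_frattini hPp _, rfl⟩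
  have h2 : ⁅C, zpowers a⁆ ≤ F := by
    rw [commutator_le]
    intro y hy x hx
    obtain ⟨i, rfl⟩ := hgenC y hy
    by_cases hc1 : c = 1
    · simp [hc1]
    obtain ⟨j, hj⟩ := hgenC _ (hnC x hx c hc)
    have hxj : ∀ n : ℕ, x ^ n * c * (x ^ n)⁻¹ = c ^ (j ^ n) := by
      intro n
      induction n with
      | zero => simp
      | succ n ih =>
        calc x ^ (n + 1) * c * (x ^ (n + 1))⁻¹ = x * (x ^ n * c * (x ^ n)⁻¹) * x⁻¹ := by
              rw [pow_succ']; group
          _ = (x * c * x⁻¹) ^ (j ^ n) := by rw [ih, conj_zpow]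
          _ = c ^ (j ^ (n + 1)) := by rw [← hj, ← zpow_mul, pow_succ']
    obtain ⟨k, hk⟩ := S.2 ⟨x, hza hx⟩
    have hk' : x ^ p ^ k = 1 := congrArg Subtype.val hk
    have he := hxj (p ^ k)
    rw [hk', one_mul, inv_one, mul_one] at he
    have hdiv : (p : ℤ) ∣ j ^ (p ^ k) - 1 := by
      have h3 : c ^ (j ^ (p ^ k) - 1) = 1 := by rw [zpow_sub, ← he, zpow_one, mul_inv_cancel]
      refine (Int.natCast_dvd_natCast.mpr ?_).trans (orderOf_dvd_iff_zpow_eq_one.mpr h3)
      obtain ⟨e, he'⟩ := hPp ⟨c, hc.1⟩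
      obtain ⟨f, -, hf⟩ := (Nat.dvd_prime_pow (Fact.out : p.Prime)).mp
        (orderOf_dvd_of_pow_eq_one (congrArg Subtype.val he' : c ^ p ^ e = 1))
      rw [hf]
      refine dvd_pow_self p fun hf0 => ?_
      rw [hf0, pow_zero, orderOf_eq_one_iff] at hf
      exact hc1 hf
    have hj1 : (p : ℤ) ∣ j - 1 := by
      rw [← ZMod.intCast_zmod_eq_zero_iff_dvd] at hdiv ⊢
      push_cast at hdiv ⊢
      rwa [ZMod.pow_card_pow] at hdiv
    obtain ⟨m, hm⟩ := hj1
    have h4 : ⁅c ^ i, x⁆ = (c ^ p) ^ (-(m * i)) := by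
      calc ⁅c ^ i, x⁆ = c ^ i * (x * c * x⁻¹) ^ (-i) := by
            rw [commutatorElement_def, conj_zpow, zpow_neg]; group
        _ = (c ^ p) ^ (-(m * i)) := by
            rw [← hj, ← zpow_mul, ← zpow_add, ← zpow_natCast c p, ← zpow_mul]
            congr 1
            linear_combination (-i) * hm
    rw [h4]
    exact zpow_mem hcp _
  have hm := mem_pCore_of_noSL' hp (OddLocal.noSL_of_odd hodd p) P hPp
    ((commutator_mono h1 le_rfl).trans h2)
  have hK : IsPGroup p ((Cfsg.pCore p (G ⧸ centralizer (P : Set G))).comap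
      (QuotientGroup.mk' (centralizer (P : Set G)))) :=
    (Core.isPGroup_pCore p _).comap_of_ker_isPGroup _ (by
      rw [QuotientGroup.ker_mk']
      exact hPp.to_le (OddLocal.centralizer_pCore_le_of_core_bot h))
  exact Core.le_pCore hK hm

/-- The product of the `p'`-core and a Sylow subgroup with cyclic derived subgroup is normal. -/
theorem sup_normal [Group.IsSolvable G] (hodd : Odd (Nat.card G)) (S : Sylow p G)
    (hS : IsCyclic (_root_.commutator (S : Subgroup G))) :
    (Cfsg.pPrimeCore p G ⊔ (S : Subgroup G)).Normal := by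
  set O := Cfsg.pPrimeCore p G with hO
  by_cases hp : p = 2
  · subst hp
    have hb : (S : Subgroup G) = ⊥ := by
      by_contra hne
      obtain ⟨k, hk⟩ := IsPGroup.iff_card.mp S.2
      have hk0 : k ≠ 0 := by
        rintro rfl
        exact hne (eq_bot_of_card_eq _ (by simpa using hk))
      obtain ⟨t, ht⟩ := hodd
      have h2 : 2 ∣ Nat.card G := ((dvd_pow_self 2 hk0).trans hk.symm.dvd).trans
        (S : Subgroup G).card_subgroup_dvd_card
      omega
    rw [hb, sup_bot_eq]
    infer_instance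
  set f := QuotientGroup.mk' O with hf
  have hsurj : Function.Surjective f := QuotientGroup.mk'_surjective O
  have hsol : Group.IsSolvable (G ⧸ O) := Group.isSolvable_of_surjective (f := f) hsurj
  set S' := S.mapSurjective hsurj with hS'
  have hc : IsCyclic ↥⁅(S' : Subgroup (G ⧸ O)), (S' : Subgroup (G ⧸ O))⁆ := by
    rw [hS', Sylow.coe_mapSurjective, ← map_commutator]
    have : IsCyclic ↥⁅(S : Subgroup G), (S : Subgroup G)⁆ := by
      rw [← map_subtype_commutator]
      exact isCyclic_of_surjective ((_root_.commutator ↥(S : Subgroup G)).equivMapOfInjective _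
        (S : Subgroup G).subtype_injective).toMonoidHom (MulEquiv.surjective _)
    exact isCyclic_of_surjective (f.subgroupMap ⁅(S : Subgroup G), (S : Subgroup G)⁆)
      (f.subgroupMap_surjective _)
  have hle := le_pCore_of_cyclic_commutator (hodd.of_dvd_nat (card_quotient_dvd_card O)) hp
    (Core.pPrimeCore_quotient_pPrimeCore p G) S' hc
  have e : O ⊔ (S : Subgroup G) = (Cfsg.pCore p (G ⧸ O)).comap f := by
    rw [← le_antisymm hle (Core.pCore_le_sylow S'), hS', Sylow.coe_mapSurjective,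
      comap_map_eq, hf, QuotientGroup.ker_mk', sup_comm]
  rw [e]
  infer_instance

end CfsgLib.TwoGroups.CyclicDerived
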