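import Cfsg.Agent.Lib.Transfer.Fusion

/-!
Owner: helper12. An even order simple group has order divisible by 12, 16 or 56.
-/

set_option autoImplicit false

namespace CfsgLib.TwoGroups.EvenOrder

open Subgroup

variable {G : Type*} [Group G] [Finite G]

theorem three_or_seven (hG : ¬ Cfsg.HasNormalPComplement 2 G) (S : Sylow 2 G)
    (h16 : ¬ 16 ∣ Nat.card G) : 12 ∣ Nat.card G ∨ 56 ∣ Nat.card G := by
  obtain ⟨k, hk⟩ := IsPGroup.iff_card.mp S.2
  have hk3 : k ≤ 3 := by
    by_contra h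
    exact h16 (((pow_dvd_pow 2 (show 4 ≤ k by omega)).trans hk.symm.dvd).trans
      (S : Subgroup G).card_subgroup_dvd_card)
  obtain ⟨Q, hQS, g, hgn, hgo, hgc⟩ : ∃ Q : Subgroup G, Q ≤ (S : Subgroup G) ∧
      ∃ g ∈ normalizer (Q : Set G), Nat.Coprime (orderOf g) 2 ∧ g ∉ centralizer (Q : Set G) := by
    by_contra hno
    push Not at hno
    exact hG (Transfer.hasNormalPComplement_of_centralizes S hno)
  set φ : MulAut Q := normalizerMonoidHom Q ⟨g, hgn⟩ with hφ
  have hφ1 : φ ≠ 1 := by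
    intro h
    refine hgc (mem_centralizer_iff.mpr fun x hx => ?_)
    have h1 := congrArg (fun e : MulAut Q => (e ⟨x, hx⟩ : G)) h
    simp [hφ] at h1
    exact (mul_inv_eq_iff_eq_mul.mp h1).symm
  have hdvd : orderOf φ ∣ orderOf g := by
    rw [← orderOf_mk (g : G) hgn, hφ]
    exact orderOf_map_dvd _ _
  obtain ⟨q, hq, hqd⟩ := Nat.exists_prime_and_dvd (fun h => hφ1 (orderOf_eq_one_iff.mp h))
  have := Fact.mk hq
  have hq2 : q ≠ 2 := by
    rintro rfl
    exact (Nat.Prime.coprime_iff_not_dvd Nat.prime_two).mp hgo.symm (hqd.trans hdvd)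
  have hqG : q ∣ Nat.card G := (hqd.trans hdvd).trans (orderOf_dvd_natCard g)
  set ψ := φ ^ (orderOf φ / q) with hψ
  have hψo : orderOf ψ = q := orderOf_pow_orderOf_div (orderOf_pos φ).ne' hqd
  have hψp : IsPGroup q (zpowers ψ) :=
    IsPGroup.of_card (n := 1) (by rw [Nat.card_zpowers, hψo, pow_one])
  set F : Subgroup Q := MonoidHom.eqLocus ψ.toMonoidHom (MonoidHom.id Q) with hF
  have hfix : MulAction.fixedPoints (zpowers ψ) Q = (F : Set Q) := by
    ext x
    constructor
    · exact fun h => h ⟨ψ, mem_zpowers ψ⟩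
    · intro h e
      obtain ⟨_, i, rfl⟩ := e
      have hs : ψ ∈ MulAction.stabilizer (MulAut Q) x := h
      exact zpow_mem hs i
  have hmod := hψp.card_modEq_card_fixedPoints Q
  rw [hfix] at hmod
  have hFlt : Nat.card F ≠ Nat.card Q := by
    intro h
    have hψ1 : ψ = 1 := MulEquiv.ext fun x =>
      ((eq_top_of_card_eq F h).ge (mem_top x) : x ∈ F)
    rw [hψ1, orderOf_one] at hψo
    exact hq.ne_one hψo.symm
  obtain ⟨a, ha⟩ := IsPGroup.iff_card.mp (S.2.to_le hQS)
  obtain ⟨b, hb⟩ := IsPGroup.iff_card.mp ((S.2.to_le hQS).to_subgroup F)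
  have hak : a ≤ k := (Nat.pow_le_pow_iff_right (by omega : 1 < 2)).mp
    (ha ▸ hk ▸ card_le_of_le hQS)
  have hba : b < a := by
    refine lt_of_le_of_ne ?_ (fun e => hFlt (by rw [hb, ha, e]))
    exact (Nat.pow_le_pow_iff_right (by omega : 1 < 2)).mp
      (ha ▸ hb ▸ Nat.le_of_dvd Nat.card_pos F.card_subgroup_dvd_card)
  rw [show Nat.card (F : Set Q) = Nat.card F from rfl, hb, ha] at hmod
  have hd : q ∣ 2 ^ a - 2 ^ b :=
    (Nat.modEq_iff_dvd' (Nat.pow_le_pow_right (by omega) hba.le)).mp hmod.symm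
  have h2a : 2 ^ a ∣ Nat.card G := ha ▸ Q.card_subgroup_dvd_card
  have h4 : ¬ q ∣ 2 := fun h => hq2 ((Nat.prime_dvd_prime_iff_eq hq Nat.prime_two).mp h)
  have hq4 : ¬ q ∣ 4 := fun h => h4 (hq.dvd_of_dvd_pow (show q ∣ 2 ^ 2 from h))
  have key : ∀ {m n : ℕ}, m.Coprime n → m ∣ Nat.card G → n ∣ Nat.card G → m * n ∣ Nat.card G :=
    fun h h1 h2 => h.mul_dvd_of_dvd_of_dvd h1 h2
  have ha3 : a ≤ 3 := hak.trans hk3
  have hq7 : q = 3 ∨ (q = 7 ∧ a = 3) := by
    interval_cases a <;> interval_cases b <;> norm_num at hd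
    all_goals first
      | exact absurd hd hq.ne_one
      | exact absurd hd h4
      | exact absurd hd hq4
      | exact Or.inl ((Nat.prime_dvd_prime_iff_eq hq Nat.prime_three).mp hd)
      | exact Or.inl ((Nat.prime_dvd_prime_iff_eq hq Nat.prime_three).mp
          ((hq.dvd_mul.mp (show q ∣ 2 * 3 from hd)).resolve_left h4))
      | exact Or.inr ⟨(Nat.prime_dvd_prime_iff_eq hq (by decide)).mp hd, rfl⟩
  rcases hq7 with rfl | ⟨rfl, rfl⟩
  · have h2 : 2 ≤ a := by
      by_contra h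
      obtain rfl : a = 1 := by omega
      obtain rfl : b = 0 := by omega
      norm_num at hd
    exact Or.inl (key (m := 4) (n := 3) (by norm_num) ((pow_dvd_pow 2 h2).trans h2a) hqG)
  · exact Or.inr (key (m := 8) (n := 7) (by norm_num) h2a hqG)

theorem result {G : Type*} [Group G] [Finite G] [IsSimpleGroup G]
    (hG : ¬ IsMulCommutative G) (h2 : Even (Nat.card G)) :
    12 ∣ Nat.card G ∨ 16 ∣ Nat.card G ∨ 56 ∣ Nat.card G := by
  by_cases h16 : 16 ∣ Nat.card G
  · exact Or.inr (Or.inl h16)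
  obtain ⟨S⟩ : Nonempty (Sylow 2 G) := inferInstance
  suffices hn : ¬ Cfsg.HasNormalPComplement 2 G by
    rcases three_or_seven hn S h16 with h | h
    · exact Or.inl h
    · exact Or.inr (Or.inr h)
  intro h
  obtain ⟨P, N, hN, hc⟩ := h
  have hcard := hc.card_mul
  rcases IsSimpleGroup.eq_bot_or_eq_top_of_normal N hN with rfl | rfl
  · rw [card_bot, one_mul] at hcard
    have htop : (P : Subgroup G) = ⊤ := eq_top_of_card_eq _ hcard
    have hp : IsPGroup 2 G := (htop ▸ P.2).of_equiv topEquiv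
    have : Nontrivial G := IsSimpleGroup.toNontrivial
    have := hp.center_nontrivial
    rcases IsSimpleGroup.eq_bot_or_eq_top_of_normal (center G) inferInstance with hb | ht
    · exact (nontrivial_iff_ne_bot (center G)).mp inferInstance hb
    · exact hG ⟨⟨fun x y => mem_center_iff.mp (ht.ge (mem_top y)) x⟩⟩
  · rw [card_top] at hcard
    have h1 : Nat.card (P : Subgroup G) = 1 := by
      have := Nat.card_pos (α := G)
      nlinarith
    exact P.not_dvd_index (by
      rw [eq_bot_of_card_eq _ h1, index_bot]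
      exact h2.two_dvd)

end CfsgLib.TwoGroups.EvenOrder
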