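import Cfsg.Agent.Lib.TwoGroups.KappaStar
import Cfsg.Agent.Lib.TwoGroups.Transitive
import Cfsg.Agent.Lib.HallGen.Basic

/-!
Owner: helper12. Fusion in Hall subgroups of `M_σ` (Bender–Glauberman, Corollary 15.3).
-/

set_option autoImplicit false
set_option linter.unusedSectionVars false

namespace CfsgLib.TwoGroups.HallFusion

open Subgroup
open TauTwo (IsPair)

variable {G : Type*} [Group G] [Finite G] {M H D : Subgroup G}

/-- A Hall subgroup of a nilpotent group contains all elements of order dividing its order. -/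
theorem mem_of_pow (hD : Group.IsNilpotent D) (hc : (Nat.card H).Coprime (H.relIndex D)) {x : G} (hx : x ∈ D)
    (hp : x ^ Nat.card H = 1) : x ∈ H := by
  have := hD
  have h2 : x ^ H.relIndex D ∈ H :=
    mem_subgroupOf.mp (HallGen.pow_index_mem_of_isNilpotent (H.subgroupOf D) ⟨x, hx⟩)
  have h3 : x ^ (Nat.card H).gcd (H.relIndex D) ∈ H := by
    rw [← zpow_natCast, Nat.gcd_eq_gcd_ab, zpow_add, zpow_mul, zpow_natCast, hp, one_zpow, one_mul, zpow_mul,
      zpow_natCast]
    exact zpow_mem h2 _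
  rwa [hc.gcd_eq_one, pow_one] at h3

theorem le_normalizer_of_conj {A N : Subgroup G} (h : ∀ a ∈ A, ∀ n ∈ N, a * n * a⁻¹ ∈ N) :
    A ≤ normalizer (N : Set G) := fun a ha =>
  mem_normalizer_iff.mpr fun n => ⟨h a ha n, fun hh => by simpa [mul_assoc] using h a⁻¹ (A.inv_mem ha) _ hh⟩

/-- Hall subgroups of nilpotent groups are normal. -/
theorem le_normalizer_of_nilpotent (hD : Group.IsNilpotent D) (hHD : H ≤ D)
    (hc : (Nat.card H).Coprime (H.relIndex D)) : D ≤ normalizer (H : Set G) := by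
  refine le_normalizer_of_conj fun d hd h hh => ?_
  refine mem_of_pow hD hc (D.mul_mem (D.mul_mem hd (hHD hh)) (D.inv_mem hd)) ?_
  have h1 : h ^ Nat.card H = 1 := congrArg Subtype.val (pow_card_eq_one' (x := (⟨h, hh⟩ : H)))
  rw [conj_pow, h1, mul_one, mul_inv_cancel]

/-- No prime of `κ(M)` centralizes a nontrivial Hall subgroup of `M_σ`. -/
theorem not_kappa (hG : Cfsg.IsMinSimpleOddOrder G) (hM : IsCoatom M) (hH : H ≤ Cfsg.sigmaCore M) (hH1 : H ≠ ⊥)
    (hHall : (Nat.card H).Coprime (H.relIndex (Cfsg.sigmaCore M))) {z : G} (hzM : z ∈ M)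
    (hzH : z ∈ centralizer (H : Set G)) {t : ℕ} (ht : t.Prime) (hd : t ∣ orderOf z) :
    t ∉ Cfsg.kappa M := by
  intro hκ
  have := Fact.mk ht
  set O := Cfsg.sigmaCore M with hO
  set w := z ^ (orderOf z / t) with hw
  have hwo : orderOf w = t := orderOf_pow_orderOf_div (orderOf_pos z).ne' hd
  set X := zpowers w with hX
  have hXc : Nat.card X = t := by rw [hX, Nat.card_zpowers, hwo]
  have hXM : X ≤ M := zpowers_le.mpr (pow_mem hzM _)
  have hHX : H ≤ centralizer (X : Set G) := le_centralizer_iff.mp (zpowers_le.mpr (pow_mem hzH _))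
  have : Group.IsSolvable M := hG.2.2.2 M hM.1
  obtain ⟨L, hL, hXL⟩ := Core.exists_piHall_ge (G := ↥M) (π := Cfsg.kappa M) (K := X.subgroupOf M)
    fun s hs hsd => by
      rw [Nat.card_congr (subgroupOfEquivOfLe hXM).toEquiv, hXc] at hsd
      rwa [(Nat.prime_dvd_prime_iff_eq hs ht).mp hsd]
  set K := L.map M.subtype with hK'
  have hK : Cfsg.IsPiHallOf (Cfsg.kappa M) K M := ⟨map_subtype_le _,
    fun s hs hsd => hL.1 s hs (by rwa [hK', card_map_of_injective M.subtype_injective] at hsd),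
    fun s hs hsπ hsd => hL.2 s hs hsπ (by
      rwa [relIndex, subgroupOf, hK', comap_map_eq_self_of_injective M.subtype_injective] at hsd)⟩
  have hXK : X ≤ K := (map_subgroupOf_eq_of_le hXM).ge.trans (map_mono hXL)
  have hK1 : K ≠ ⊥ := fun e => ht.ne_one (by rw [← hXc, le_bot_iff.mp (hXK.trans e.le), card_bot])
  obtain ⟨E, d⟩ := OddLocal.Kappa.exists_data hG hM hK hK1
  have hstar : H ≤ O ⊓ centralizer (K : Set G) := (le_inf hH hHX).trans (d.fixed X (hXc.symm ▸ ht) hXK).le
  obtain ⟨q, hq, hqd⟩ := Nat.exists_prime_and_dvd (fun e : Nat.card H = 1 => hH1 (eq_bot_of_card_eq _ e))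
  have := Fact.mk hq
  obtain ⟨S⟩ : Nonempty (Sylow q H) := inferInstance
  have hSO : ((S : Subgroup H).map H.subtype) ≤ O := (map_subtype_le _).trans hH
  have hnd : ¬ q ∣ (((S : Subgroup H).map H.subtype).subgroupOf O).index := by
    intro h
    change q ∣ ((S : Subgroup H).map H.subtype).relIndex O at h
    rw [← relIndex_mul_relIndex _ H O (map_subtype_le _) hH] at h
    rcases hq.dvd_mul.mp h with h1 | h1
    · rw [relIndex, subgroupOf, comap_map_eq_self_of_injective H.subtype_injective] at h1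
      exact S.not_dvd_index h1
    · exact hq.not_dvd_one (hHall ▸ Nat.dvd_gcd hqd h1)
  obtain ⟨-, -, h3, -⟩ := Cfsg.Agent.S1431.result hG M hM K hK hK1
  refine (h3 q hq (hqd.trans (card_dvd_of_le hstar))
    (IsPGroup.toSylow ((S.2.map H.subtype).comap_subtype (K := O)) hnd)).2.2 ?_
  rw [show ((IsPGroup.toSylow ((S.2.map H.subtype).comap_subtype (K := O)) hnd : Sylow q O) : Subgroup O) =
    ((S : Subgroup H).map H.subtype).subgroupOf O from rfl, map_subgroupOf_eq_of_le hSO]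
  exact (map_subtype_le _).trans hstar

/-- The `σ(M)'`-part of `C_M(H)` is cyclic. -/
theorem centralizer_eq (hG : Cfsg.IsMinSimpleOddOrder G) (hM : IsCoatom M) (hH : H ≤ Cfsg.sigmaCore M)
    (hH1 : H ≠ ⊥) (hHall : (Nat.card H).Coprime (H.relIndex (Cfsg.sigmaCore M))) :
    ∃ X : Subgroup G, IsCyclic X ∧ (∀ p : ℕ, p.Prime → p ∣ Nat.card X → p ∈ Cfsg.tau2 M) ∧
      M ⊓ centralizer (H : Set G) = (Cfsg.sigmaCore M ⊓ centralizer (H : Set G)) ⊔ X := by
  set O := Cfsg.sigmaCore M with hO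
  set C := M ⊓ centralizer (H : Set G) with hC
  have : Group.IsSolvable C := CfsgLib.Core.isSolvable_of_le (hG.2.2.2 M hM.1) inf_le_left
  obtain ⟨L, hL⟩ := Core.exists_piHall (G := ↥C) {r | r.Prime ∧ r ∉ Cfsg.sigma M}
  set X := L.map C.subtype with hX
  have hXC : X ≤ C := map_subtype_le _
  have hXσ : ∀ r : ℕ, r.Prime → r ∣ Nat.card X → r ∉ Cfsg.sigma M := fun r hr hd =>
    (hL.1 r hr (by rwa [hX, card_map_of_injective C.subtype_injective] at hd)).2
  have hfac : C ≤ (O ⊓ centralizer (H : Set G)) ⊔ X := relIndex_eq_one.mp (by_contra fun hne => by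
    obtain ⟨r, hr, hd⟩ := Nat.exists_prime_and_dvd hne
    have hd1 : r ∣ (O ⊓ centralizer (H : Set G)).relIndex C :=
      hd.trans (relIndex_dvd_of_le_left C le_sup_left)
    by_cases hrσ : r ∈ Cfsg.sigma M
    · obtain ⟨⟨-, -, hidx⟩, -, -⟩ := OddLocal.SigmaCore.sigmaCore_hall hG hM
      refine hidx r hr hrσ (hd1.trans ?_)
      have hOM : O ≤ M := TauTwo.sigmaCore_le M
      have hN : (O.subgroupOf M).Normal :=
        (normal_subgroupOf_iff_le_normalizer hOM).mpr (TauTwo.le_normalizer_sigmaCore M)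
      have h1 : O.relIndex C ∣ O.relIndex M := by
        rw [← relIndex_subgroupOf (K := C) (L := M) (hKL := inf_le_left)]
        exact relIndex_dvd_index_of_normal _ _
      have h2 : O ⊓ centralizer (H : Set G) ⊓ C = O ⊓ C := by
        rw [hC, inf_assoc, show centralizer (H : Set G) ⊓ (M ⊓ centralizer (H : Set G)) = M ⊓ centralizer (H : Set G)
          from inf_eq_right.mpr inf_le_right]
      rwa [← inf_relIndex_right, h2, inf_relIndex_right]
    · refine hL.2 r hr ⟨hr, hrσ⟩ ?_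
      have h1 : ((O ⊓ centralizer (H : Set G)) ⊔ X).relIndex C ∣ X.relIndex C :=
        relIndex_dvd_of_le_left C le_sup_right
      have h3 : X.relIndex C = L.index := by
        rw [hX, relIndex, subgroupOf, comap_map_eq_self_of_injective C.subtype_injective]
      exact hd.trans (h3 ▸ h1))
  obtain ⟨E, hE, hXE⟩ := TauTwo.exists_complement_ge hG hM (hXC.trans inf_le_left) hXσ
  obtain ⟨B, -, -, hBc, hB, -⟩ := SigmaFactor.exists_abelian hG hM hE
  obtain ⟨y, hy, hy1⟩ := H.bot_or_exists_ne_one.resolve_left hH1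
  have hτ : ∀ x ∈ X, ∀ t : ℕ, t.Prime → t ∣ orderOf x → t ∈ Cfsg.tau2 M := fun x hx t ht hd =>
    SigmaFactor.mem_tau2 hG hM ⟨(hXC hx).1, y, hH hy, hy1, (mem_centralizer_iff.mp (hXC hx).2 y hy).symm⟩ ht hd
      (hXσ t ht (hd.trans (Subgroup.orderOf_dvd_natCard _ hx)))
      (not_kappa hG hM hH hH1 hHall (hXC hx).1 (hXC hx).2 ht hd)
  have hXB : X ≤ B := fun x hx =>
    hB x (hXE hx) ⟨(hXC hx).1, y, hH hy, hy1, (mem_centralizer_iff.mp (hXC hx).2 y hy).symm⟩ (hτ x hx)
  have hcomm : IsMulCommutative X := ⟨⟨fun a b => by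
    have h1 := congrArg Subtype.val (hBc.is_comm.comm ⟨(a : G), hXB a.2⟩ ⟨(b : G), hXB b.2⟩)
    exact Subtype.ext h1⟩⟩
  have hdvd : ∀ p : ℕ, p.Prime → p ∣ Nat.card X → p ∈ Cfsg.tau2 M := fun p hp hd => by
    have := Fact.mk hp
    obtain ⟨x, hx⟩ := exists_prime_orderOf_dvd_card' (G := X) p hd
    exact hτ x x.2 p hp (by rw [orderOf_coe, hx])
  refine ⟨X, ?_, hdvd, le_antisymm hfac (sup_le (inf_le_inf_right _ (TauTwo.sigmaCore_le M)) hXC)⟩
  have : Group.IsNilpotent X := @CommGroup.isNilpotent _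
    { (inferInstance : Group X) with mul_comm := fun a b => hcomm.is_comm.comm a b }
  have : IsZGroup X := ⟨fun p hp P => by
    have := Fact.mk hp
    have h1 : Cfsg.PRankLE p 1 X := by
      by_contra h
      obtain ⟨A, hA, hAX⟩ := TauTwo.exists_isPair h
      have := TauTwo.sigma_inf_centralizer hG hM hA (hAX.trans (hXC.trans inf_le_left))
        (hdvd p hp (hA.dvd_card.trans (card_dvd_of_le hAX))).2.1
      exact hH1 (le_bot_iff.mp ((le_inf hH (le_centralizer_iff.mp (hAX.trans (hXC.trans inf_le_right)))).trans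
        this.le))
    have := TauTwo.sylow_cyclic_of_rank_one hG h1 (P.2.map X.subtype) (map_subtype_le _)
    exact isCyclic_of_surjective ((P : Subgroup X).equivMapOfInjective X.subtype X.subtype_injective).symm
      (MulEquiv.surjective _)⟩
  infer_instance

/-- Elements of a Hall subgroup conjugate in `M_σ` are conjugate by its normalizer. -/
theorem conj_sigmaCore (hG : Cfsg.IsMinSimpleOddOrder G) (hM : IsCoatom M) (hH : H ≤ Cfsg.sigmaCore M)
    (hHall : (Nat.card H).Coprime (H.relIndex (Cfsg.sigmaCore M))) {x o : G} (hx : x ∈ H)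
    (ho : o ∈ Cfsg.sigmaCore M) (hy : o * x * o⁻¹ ∈ H) :
    ∃ n ∈ M ⊓ normalizer (H : Set G), n * x * n⁻¹ = o * x * o⁻¹ := by
  set O := Cfsg.sigmaCore M with hO
  have hOM : O ≤ M := TauTwo.sigmaCore_le M
  by_cases hn : Group.IsNilpotent O
  · exact ⟨o, ⟨hOM ho, le_normalizer_of_nilpotent hn hH hHall ho⟩, rfl⟩
  obtain ⟨K, U, hd⟩ := Chapter15.exists_decomposition hG hM (Chapter15.kappaCyclic hG)
  obtain ⟨-, -, Q, D, d⟩ := Chapter15.exists_pair_of_ne hG hM (Chapter15.starPrime hG) hd hn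
  set q := Nat.card ↥(NonNilpotent.star M K) with hq'
  have := Fact.mk d.setup.hq
  by_cases hq : q ∣ Nat.card H
  · -- `H` is normal in `M_σ`
    obtain ⟨S⟩ : Nonempty (Sylow q H) := inferInstance
    set T := (S : Subgroup H).map H.subtype with hT
    have hTQ : T ≤ Q := by
      intro a ha
      obtain ⟨j, hj⟩ := IsPGroup.iff_orderOf.mp (S.2.map H.subtype) ⟨a, ha⟩
      rw [← orderOf_coe] at hj
      refine FittingStructure.mem_of_normal_index d.setup.hq d.le (hOM.trans d.normal) d.sylow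
        (hH (map_subtype_le _ ha)) hj
    have hQT : Q ≤ T := by
      refine relIndex_eq_one.mp (by_contra fun hne => ?_)
      obtain ⟨r, hr, hdr⟩ := Nat.exists_prime_and_dvd hne
      have hrq : r = q := by
        obtain ⟨k, hk⟩ := IsPGroup.iff_card.mp d.isp
        exact (Nat.prime_dvd_prime_iff_eq hr d.setup.hq).mp
          (hr.dvd_of_dvd_pow (hk ▸ hdr.trans ((T.subgroupOf Q).index_dvd_card)))
      subst hrq
      have h1 : q ∣ T.relIndex O := by
        rw [← relIndex_mul_relIndex T Q O hTQ d.le]; exact hdr.mul_right _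
      rw [← relIndex_mul_relIndex T H O (map_subtype_le _) hH] at h1
      rcases d.setup.hq.dvd_mul.mp h1 with h1 | h1
      · rw [hT, relIndex, subgroupOf, comap_map_eq_self_of_injective H.subtype_injective] at h1
        exact S.not_dvd_index h1
      · exact d.setup.hq.not_dvd_one (hHall ▸ Nat.dvd_gcd hq h1)
    have hQH : Q ≤ H := hQT.trans (map_subtype_le _)
    have hHD : (Nat.card ↥(H ⊓ D)).Coprime ((H ⊓ D).relIndex D) := by
      have : (Nat.card ↥(H ⊓ D)).Coprime (H.relIndex O) := hHall.coprime_dvd_left (card_dvd_of_le inf_le_left)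
      rw [inf_relIndex_right]
      refine this.coprime_dvd_right ?_
      refine dvd_of_eq ?_
      have hOeq : O = D ⊔ Q := le_antisymm (d.sigma_le_sup) (sup_le d.compl.2.1 d.le)
      refine Nat.eq_of_mul_eq_mul_left (Nat.card_pos (α := ↥(H ⊓ D))) ?_
      rw [← inf_relIndex_right, ← relIndex_bot_left (H ⊓ D), relIndex_mul_relIndex ⊥ _ D bot_le inf_le_right,
        relIndex_bot_left, relIndex_bot_left]
      have hc := NonNilpotent.card_complement d.compl d.normal
      have hH' : H = (H ⊓ D) ⊔ Q := le_antisymm (fun h hh => by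
        obtain ⟨a, ha, b, hb, rfl⟩ := d.compl.2.2.2 h (hH hh)
        exact mul_mem (mem_sup_right ha) (mem_sup_left ⟨(mul_mem_cancel_left (hQH ha)).mp hh, hb⟩))
        (sup_le inf_le_left hQH)
      have hcH : Nat.card H = Nat.card ↥(H ⊓ D) * Nat.card Q := by
        conv_lhs => rw [hH']
        exact Core.card_sup_of_disjoint _ _ (inf_le_right.trans (d.D_leM.trans d.normal))
          (le_bot_iff.mp ((inf_le_inf_right _ inf_le_right).trans (by rw [inf_comm, d.compl.2.2.1])))
      have h5 : Nat.card H * H.relIndex O = Nat.card O := by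
        rw [← relIndex_bot_left H, relIndex_mul_relIndex ⊥ H O bot_le hH, relIndex_bot_left]
      rw [hc, hcH] at h5
      exact Nat.eq_of_mul_eq_mul_right (Nat.card_pos (α := Q)) (by rw [← h5]; ring)
    have hDn := le_normalizer_of_nilpotent d.nilpotent_D (inf_le_right : H ⊓ D ≤ D) hHD
    have hDH : D ≤ normalizer (H : Set G) := by
      refine le_normalizer_of_conj fun e he h hh => ?_
      obtain ⟨a, ha, b, hb, rfl⟩ := d.compl.2.2.2 h (hH hh)
      have hb' : b ∈ H ⊓ D := ⟨(mul_mem_cancel_left (hQH ha)).mp hh, hb⟩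
      rw [show e * (a * b) * e⁻¹ = (e * a * e⁻¹) * (e * b * e⁻¹) by group]
      exact mul_mem (hQH ((mem_normalizer_iff.mp (d.normal (d.D_leM he)) a).mp ha))
        ((mem_normalizer_iff.mp (hDn he) b).mp hb').1
    obtain ⟨a, ha, b, hb, rfl⟩ := d.compl.2.2.2 o ho
    exact ⟨a * b, ⟨hOM ho, mul_mem (le_normalizer (hQH ha)) (hDH hb)⟩, rfl⟩
  · -- `H` is inside a nilpotent complement
    have : Group.IsSolvable O := CfsgLib.Core.isSolvable_of_le (hG.2.2.2 M hM.1) hOM
    have hDhall : Cfsg.IsPiHall {r | r.Prime ∧ r ≠ q} (D.subgroupOf O) := by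
      refine ⟨fun r hr hdr => ⟨hr, ?_⟩, fun r hr hrπ hdr => hrπ.2 ?_⟩
      · rintro rfl
        rw [Nat.card_congr (subgroupOfEquivOfLe d.compl.2.1).toEquiv] at hdr
        exact d.not_dvd_D hdr
      · obtain ⟨k, hk⟩ := IsPGroup.iff_card.mp d.isp
        have h1 : D.relIndex O = Nat.card Q := Nat.eq_of_mul_eq_mul_left (Nat.card_pos (α := D)) (by
          rw [← NonNilpotent.card_complement d.compl d.normal, ← relIndex_bot_left D,
            relIndex_mul_relIndex ⊥ D O bot_le d.compl.2.1, relIndex_bot_left])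
        change r ∣ D.relIndex O at hdr
        rw [h1, hk] at hdr
        exact (Nat.prime_dvd_prime_iff_eq hr d.setup.hq).mp (hr.dvd_of_dvd_pow hdr)
    obtain ⟨c, hc⟩ := Core.exists_conj_le_piHall hDhall (K := H.subgroupOf O) fun r hr hdr =>
      ⟨hr, fun e => hq (by rw [Nat.card_congr (subgroupOfEquivOfLe hH).toEquiv] at hdr; exact e ▸ hdr)⟩
    set D' := D.map (MulAut.conj ((c : G)⁻¹)).toMonoidHom with hD'
    have hcO : (c : G) ∈ O := c.2
    have hHD' : H ≤ D' := fun h hh => by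
      have h1 : (MulAut.conj c) • (⟨h, hH hh⟩ : O) ∈ D.subgroupOf O :=
        hc (smul_mem_pointwise_smul _ _ _ (mem_subgroupOf.mpr hh))
      refine Transfer.mem_map_conj.mpr ?_
      rw [inv_inv]
      simpa [mem_subgroupOf, MulAut.smul_def] using h1
    have hD'O : D' ≤ O := by
      rintro _ ⟨w, hw, rfl⟩
      exact O.mul_mem (O.mul_mem (O.inv_mem hcO) (d.compl.2.1 hw)) (O.inv_mem (O.inv_mem hcO))
    have hD'Q : D' ⊓ Q = ⊥ := by
      refine inf_eq_bot_of_coprime ?_
      rw [hD', Transfer.card_map_conj]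
      exact Nat.coprime_of_dvd fun r hr h1 h2 => d.not_dvd_D (by
        obtain ⟨k, hk⟩ := IsPGroup.iff_card.mp d.isp
        rwa [(Nat.prime_dvd_prime_iff_eq hr d.setup.hq).mp (hr.dvd_of_dvd_pow (hk ▸ h2))] at h1)
    have hnil : Group.IsNilpotent D' := d.nilp D' hD'O (by rw [hD'Q]; exact bot_le)
    have hD'H : D' ≤ normalizer (H : Set G) := le_normalizer_of_nilpotent hnil hHD' (by
      refine hHall.coprime_dvd_right ?_
      rw [← relIndex_mul_relIndex H D' O hHD' hD'O]
      exact dvd_mul_right _ _)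
    -- `o = a e`
    obtain ⟨a, ha, b, hb, hab⟩ := d.compl.2.2.2 _ (O.mul_mem (O.mul_mem hcO ho) (O.inv_mem hcO))
    set e := (c : G)⁻¹ * b * c with he
    set a' := (c : G)⁻¹ * a * c with ha'
    have heD : e ∈ D' := Transfer.mem_map_conj.mpr (by rw [he, inv_inv]; group; exact hb)
    have ha'Q : a' ∈ Q := (mem_normalizer_iff''.mp (d.normal (hOM hcO)) a).mp ha
    have hoe : o = a' * e := by
      rw [ha', he]
      calc o = (c : G)⁻¹ * ((c : G) * o * (c : G)⁻¹) * c := by group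
        _ = (c : G)⁻¹ * (a * b) * c := by rw [hab]
        _ = _ := by group
    set x' := e * x * e⁻¹ with hx'
    have hx'H : x' ∈ H := (mem_normalizer_iff.mp (hD'H heD) x).mp hx
    have hyx : o * x * o⁻¹ * x'⁻¹ ∈ D' ⊓ Q := by
      refine ⟨D'.mul_mem (hHD' hy) (D'.inv_mem (hHD' hx'H)), ?_⟩
      rw [show o * x * o⁻¹ * x'⁻¹ = a' * (x' * a'⁻¹ * x'⁻¹) by rw [hoe, hx']; group]
      exact Q.mul_mem ha'Q ((mem_normalizer_iff.mp (d.normal (hOM (hH hx'H))) _).mp (Q.inv_mem ha'Q))
    rw [hD'Q, mem_bot, mul_inv_eq_one] at hyx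
    exact ⟨e, ⟨hOM (hD'O heD), hD'H heD⟩, hyx.symm⟩

/-- Fusion in `H` is controlled by `N_M(H)`. -/
theorem fusion (hG : Cfsg.IsMinSimpleOddOrder G) (hM : IsCoatom M) (hH : H ≤ Cfsg.sigmaCore M)
    (hHall : (Nat.card H).Coprime (H.relIndex (Cfsg.sigmaCore M))) {x g : G} (hx : x ∈ H)
    (hy : g * x * g⁻¹ ∈ H) : ∃ n ∈ M ⊓ normalizer (H : Set G), n * x * n⁻¹ = g * x * g⁻¹ := by
  set O := Cfsg.sigmaCore M with hO
  have hOM : O ≤ M := TauTwo.sigmaCore_le M
  obtain ⟨m, hm, e⟩ := Transitive.exists_conj_in hG hM (hH hx) (hOM (hH hy))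
  have : (O.subgroupOf M).Normal :=
    (normal_subgroupOf_iff_le_normalizer hOM).mpr (TauTwo.le_normalizer_sigmaCore M)
  have hF := Core.hall_frattini (G := ↥M) (L := O.subgroupOf M) (H := H.subgroupOf M)
    (by have : Group.IsSolvable M := hG.2.2.2 M hM.1; infer_instance)
    (comap_mono hH) (by
      rw [relIndex_subgroupOf hOM, Nat.card_congr (subgroupOfEquivOfLe (hH.trans hOM)).toEquiv]
      exact hHall)
  obtain ⟨o, ho, n, hn, hmn⟩ := (Core.mem_sup_iff_mul' (Core.le_normalizer_of_normal _ (O.subgroupOf M))).mp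
    ((sup_comm (O.subgroupOf M) (normalizer (H.subgroupOf M : Set ↥M)) ▸ hF).ge (mem_top (⟨m, hm⟩ : ↥M)))
  have hnH : (n : G) ∈ normalizer (H : Set G) := by
    refine mem_normalizer_iff.mpr fun h => ⟨fun hh => ?_, fun hh => ?_⟩
    · exact (mem_normalizer_iff.mp hn ⟨h, hOM (hH hh)⟩).mp hh
    · have hhM : h ∈ M := by
        have := M.mul_mem (M.mul_mem (M.inv_mem n.2) (hOM (hH hh))) n.2
        simpa [mul_assoc] using this
      exact (mem_normalizer_iff.mp hn ⟨h, hhM⟩).mpr hh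
  have hm' : m = (o : G) * (n : G) := congrArg Subtype.val hmn
  set x' := (n : G) * x * (n : G)⁻¹ with hx'
  have hyo : g * x * g⁻¹ = (o : G) * x' * (o : G)⁻¹ := by rw [← e, hm', hx']; group
  obtain ⟨n', hn', e'⟩ := conj_sigmaCore hG hM hH hHall ((mem_normalizer_iff.mp hnH x).mp hx)
    (mem_subgroupOf.mp ho) (hyo ▸ hy)
  refine ⟨n' * n, mul_mem hn' ⟨n.2, hnH⟩, ?_⟩
  rw [hyo, ← e']
  group

end CfsgLib.TwoGroups.HallFusion
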