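import Mathlib

/-!
Roots in elements of odd order, and the dihedral group generated by two involutions.
-/

set_option autoImplicit false

namespace CfsgLib.TwoGroups

variable {G : Type*} [Group G]

theorem mul_self_of_orderOf_two {x : G} (hx : orderOf x = 2) : x * x = 1 := by
  have h := pow_orderOf_eq_one x
  rwa [hx, pow_two] at h

theorem inv_eq_of_orderOf_two {x : G} (hx : orderOf x = 2) : x⁻¹ = x :=
  inv_eq_of_mul_eq_one_right (mul_self_of_orderOf_two hx)

theorem orderOf_conj (g x : G) : orderOf (g * x * g⁻¹) = orderOf x := by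
  have h := (MulAut.conj g).orderOf_eq x
  simpa [MulAut.conj_apply] using h

theorem sq_inj_of_odd {a b : G} (ha : Odd (orderOf a)) (hb : Odd (orderOf b))
    (h : a * a = b * b) : a = b := by
  obtain ⟨i, hi⟩ := ha
  obtain ⟨j, hj⟩ := hb
  have hn : Odd (orderOf a * orderOf b) := Odd.mul ⟨i, hi⟩ ⟨j, hj⟩
  obtain ⟨m, hm⟩ := hn
  have e : ∀ x : G, x ^ (orderOf a * orderOf b) = 1 → (x * x) ^ (m + 1) = x := by
    intro x hx
    rw [← pow_two, ← pow_mul]
    have : 2 * (m + 1) = orderOf a * orderOf b + 1 := by omega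
    rw [this, pow_succ, hx, one_mul]
  calc a = (a * a) ^ (m + 1) := (e a (orderOf_dvd_iff_pow_eq_one.1 (dvd_mul_right _ _))).symm
    _ = (b * b) ^ (m + 1) := by rw [h]
    _ = b := e b (orderOf_dvd_iff_pow_eq_one.1 (dvd_mul_left _ _))

theorem odd_orderOf_pow {a : G} (ha : Odd (orderOf a)) (n : ℕ) : Odd (orderOf (a ^ n)) :=
  Odd.of_dvd_nat ha (orderOf_pow_dvd n)

theorem exists_sqrt_of_odd {a : G} (ha : Odd (orderOf a)) :
    ∃ n : ℕ, a ^ n * a ^ n = a := by
  obtain ⟨m, hm⟩ := ha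
  refine ⟨m + 1, ?_⟩
  rw [← pow_add]
  have : m + 1 + (m + 1) = orderOf a + 1 := by omega
  rw [this, pow_succ, pow_orderOf_eq_one, one_mul]

theorem eq_one_of_inv_eq_self_of_odd {a : G} (ha : Odd (orderOf a)) (h : a⁻¹ = a) : a = 1 := by
  refine sq_inj_of_odd ha (by simp) ?_
  nth_rewrite 1 [← h]
  simp

theorem conj_pow_eq_inv {x a : G} (h : x * a * x⁻¹ = a⁻¹) (n : ℕ) :
    x * a ^ n * x⁻¹ = (a ^ n)⁻¹ := by
  rw [← conj_pow, h, inv_pow]

/-- two involutions invert their product -/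
theorem conj_mul_of_involutions {x y : G} (hx : orderOf x = 2) (hy : orderOf y = 2) :
    x * (x * y) * x⁻¹ = (x * y)⁻¹ ∧ y * (x * y) * y⁻¹ = (x * y)⁻¹ := by
  constructor
  · rw [mul_inv_rev, inv_eq_of_orderOf_two hx, inv_eq_of_orderOf_two hy, ← mul_assoc,
      mul_self_of_orderOf_two hx, one_mul]
  · rw [mul_inv_rev, inv_eq_of_orderOf_two hx, inv_eq_of_orderOf_two hy, mul_assoc, mul_assoc,
      mul_self_of_orderOf_two hy, mul_one]

end CfsgLib.TwoGroups
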