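import Mathlib
import Cfsg.Prelude.Def_TwoFusion
import Cfsg.Agent.Lib.TwoGroups.OddPowers

/-!
Elementary properties of isolated involutions: products with conjugates have odd order, any
overgroup controls the fusion of the involution, behaviour in quotients.
-/

set_option autoImplicit false

namespace CfsgLib.TwoGroups

open Cfsg

variable {G : Type*} [Group G]

theorem isolated_conj {z : G} (hz : IsIsolatedInvolution z) (a : G) :
    IsIsolatedInvolution (a * z * a⁻¹) := by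
  refine ⟨by rw [orderOf_conj, hz.1], fun g hg => ?_⟩
  have key : ∀ b : G, MulAut.conj a⁻¹ b = a⁻¹ * b * a := fun b => by simp
  have h2 := hz.2 (a⁻¹ * g * a) (by
    have := hg.map (MulAut.conj a⁻¹).toMonoidHom
    have e1 : (MulAut.conj a⁻¹).toMonoidHom (a * z * a⁻¹) = z := by simp [mul_assoc]
    have e2 : (MulAut.conj a⁻¹).toMonoidHom (g * (a * z * a⁻¹) * g⁻¹) =
        a⁻¹ * g * a * z * (a⁻¹ * g * a)⁻¹ := by simp [mul_assoc]
    rwa [e1, e2] at this)
  calc g * (a * z * a⁻¹) * g⁻¹ = a * (a⁻¹ * g * a * z * (a⁻¹ * g * a)⁻¹) * a⁻¹ := by group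
    _ = a * z * a⁻¹ := by rw [h2]

/-- The product of an isolated involution with any conjugate has odd order. -/
theorem isolated_odd_mul [Finite G] {z : G} (hz : IsIsolatedInvolution z) (g : G) :
    Odd (orderOf (z * (g * z * g⁻¹))) := by
  set w := g * z * g⁻¹ with hw
  have hw2 : orderOf w = 2 := by rw [hw, orderOf_conj, hz.1]
  set k := z * w with hk
  obtain ⟨hzk, -⟩ := conj_mul_of_involutions hz.1 hw2
  rw [← hk] at hzk
  rw [← Nat.not_even_iff_odd]
  rintro ⟨m, hm⟩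
  have hpos : 0 < orderOf k := orderOf_pos k
  have hu : k ^ m ≠ 1 := pow_ne_one_of_lt_orderOf (by omega) (by omega)
  have hu2 : k ^ m * k ^ m = 1 := by rw [← pow_add, ← hm, pow_orderOf_eq_one]
  have hcomm : Commute z (k ^ m) := by
    have := conj_pow_eq_inv hzk m
    rw [inv_eq_of_mul_eq_one_right hu2] at this
    exact mul_inv_eq_iff_eq_mul.1 this
  have hzi : ∀ j : ℤ, k ^ j * z = z * k ^ (-j) := by
    intro j
    have h1 : z * k ^ (-j) * z⁻¹ = k ^ j := by
      rw [← conj_zpow, hzk, inv_zpow', neg_neg]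
    exact (mul_inv_eq_iff_eq_mul.1 h1).symm
  have target : ∃ a : G, a * z * a⁻¹ = z * k ^ m := by
    rcases Nat.even_or_odd m with ⟨j, hj⟩ | ⟨j, hj⟩
    · refine ⟨k ^ (-(j : ℤ)), ?_⟩
      rw [hzi, mul_assoc, ← zpow_neg, ← zpow_add, neg_neg, ← zpow_natCast k m, hj]
      push_cast; rfl
    · refine ⟨k ^ (-(j : ℤ)) * g, ?_⟩
      have hwk : w = z * k ^ (1 : ℤ) := by
        rw [zpow_one, hk, ← mul_assoc, mul_self_of_orderOf_two hz.1, one_mul]
      have e : k ^ (-(j : ℤ)) * g * z * (k ^ (-(j : ℤ)) * g)⁻¹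
          = k ^ (-(j : ℤ)) * w * (k ^ (-(j : ℤ)))⁻¹ := by rw [hw]; group
      rw [e, hwk, ← mul_assoc, hzi, neg_neg, ← zpow_neg, neg_neg, mul_assoc, mul_assoc,
        ← zpow_add, ← zpow_add, ← zpow_natCast k m, hj]
      congr 2; push_cast; ring
  obtain ⟨a, ha⟩ := target
  have := hz.2 a (by rw [ha]; exact (Commute.refl z).mul_right hcomm)
  rw [ha] at this
  exact hu (mul_eq_left.1 this)

/-- The element of odd order, a power of `y * z`, conjugating `z` to its conjugate `y`. -/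
theorem isolated_conjugator [Finite G] {z : G} (hz : IsIsolatedInvolution z) (g : G) :
    ∃ d : G, (∃ n : ℕ, (g * z * g⁻¹ * z) ^ n = d) ∧ Odd (orderOf d) ∧ z * d * z⁻¹ = d⁻¹ ∧
      d * z * d⁻¹ = g * z * g⁻¹ := by
  set w := g * z * g⁻¹ with hw
  have hw2 : orderOf w = 2 := by rw [hw, orderOf_conj, hz.1]
  have hodd : Odd (orderOf (w * z)) := by
    have : (z * w)⁻¹ = w * z := by
      rw [mul_inv_rev, inv_eq_of_orderOf_two hz.1, inv_eq_of_orderOf_two hw2]
    rw [← this, orderOf_inv]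
    exact isolated_odd_mul hz g
  obtain ⟨n, hn⟩ := exists_sqrt_of_odd hodd
  obtain ⟨-, hinv⟩ := conj_mul_of_involutions hw2 hz.1
  have hd := conj_pow_eq_inv hinv n
  refine ⟨(w * z) ^ n, ⟨n, rfl⟩, odd_orderOf_pow hodd n, hd, ?_⟩
  have h1 : (w * z) ^ n * z = z * ((w * z) ^ n)⁻¹ := by
    rw [← hd, inv_eq_of_orderOf_two hz.1, ← mul_assoc, ← mul_assoc, mul_self_of_orderOf_two hz.1,
      one_mul]
  have h2 : z * ((w * z) ^ n)⁻¹ = (w * z) ^ n * z := h1.symm
  calc (w * z) ^ n * z * ((w * z) ^ n)⁻¹ = (w * z) ^ n * (z * ((w * z) ^ n)⁻¹) := mul_assoc _ _ _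
    _ = (w * z) ^ n * ((w * z) ^ n * z) := by rw [h2]
    _ = w * z * z := by rw [← mul_assoc, hn]
    _ = w := by rw [mul_assoc, mul_self_of_orderOf_two hz.1, mul_one]

/-- Every overgroup of an isolated involution controls its fusion. -/
theorem isolated_fusion_control [Finite G] {z : G} (hz : IsIsolatedInvolution z) (H : Subgroup G)
    (hzH : z ∈ H) (g : G) (hg : g * z * g⁻¹ ∈ H) :
    ∃ h ∈ H, Odd (orderOf h) ∧ z * h * z⁻¹ = h⁻¹ ∧ h * z * h⁻¹ = g * z * g⁻¹ := by
  obtain ⟨d, ⟨n, hn⟩, h1, h2, h3⟩ := isolated_conjugator hz g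
  exact ⟨d, hn ▸ H.pow_mem (H.mul_mem hg hzH) n, h1, h2, h3⟩

theorem mem_centralizer_singleton_iff {z g : G} :
    g ∈ Subgroup.centralizer ({z} : Set G) ↔ Commute z g := by
  rw [Subgroup.mem_centralizer_iff]
  exact ⟨fun h => h z rfl, fun h x hx => by rw [Set.mem_singleton_iff.1 hx]; exact h⟩

theorem commute_iff_conj_eq {z g : G} : Commute z g ↔ g * z * g⁻¹ = z := by
  rw [mul_inv_eq_iff_eq_mul]
  exact ⟨fun h => h.eq.symm, fun h => h.symm⟩

/-- The image of the centralizer of an isolated involution under a homomorphism. -/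
theorem isolated_map_centralizer [Finite G] {P : Type*} [Group P] {z : G}
    (hz : IsIsolatedInvolution z) (f : G →* P) (g : G) (hg : Commute (f z) (f g)) :
    ∃ c ∈ Subgroup.centralizer ({z} : Set G), f c = f g := by
  obtain ⟨d, ⟨n, hn⟩, -, -, h3⟩ := isolated_conjugator hz g
  have h1 : f d = 1 := by
    rw [← hn, map_pow, map_mul, map_mul, map_mul, map_inv, (commute_iff_conj_eq.1 hg),
      ← map_mul, mul_self_of_orderOf_two hz.1, map_one, one_pow]
  refine ⟨d⁻¹ * g, mem_centralizer_singleton_iff.2 (commute_iff_conj_eq.2 ?_), by simp [h1]⟩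
  calc d⁻¹ * g * z * (d⁻¹ * g)⁻¹ = d⁻¹ * (g * z * g⁻¹) * d := by group
    _ = d⁻¹ * (d * z * d⁻¹) * d := by rw [h3]
    _ = z := by group

theorem isolated_map [Finite G] {P : Type*} [Group P] {z : G} (hz : IsIsolatedInvolution z)
    (f : G →* P) (hf : Function.Surjective f) (h1 : f z ≠ 1) :
    IsIsolatedInvolution (f z) := by
  have hz2 : f z * f z = 1 := by rw [← map_mul, mul_self_of_orderOf_two hz.1, map_one]
  refine ⟨orderOf_eq_prime (by rw [pow_two, hz2]) h1, fun q hq => ?_⟩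
  obtain ⟨g, rfl⟩ := hf q
  have hk : f (z * (g * z * g⁻¹)) = f z * (f g * f z * (f g)⁻¹) := by simp
  have hodd : Odd (orderOf (f z * (f g * f z * (f g)⁻¹))) := by
    rw [← hk]; exact (isolated_odd_mul hz g).of_dvd_nat (orderOf_map_dvd f _)
  have hsq : (f g * f z * (f g)⁻¹) * (f g * f z * (f g)⁻¹) = 1 := by
    calc _ = f g * (f z * f z) * (f g)⁻¹ := by group
      _ = 1 := by rw [hz2]; group
  set w := f g * f z * (f g)⁻¹
  have := eq_one_of_inv_eq_self_of_odd hodd (inv_eq_of_mul_eq_one_right (by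
    calc f z * w * (f z * w) = f z * (w * f z) * w := by group
      _ = f z * (f z * w) * w := by rw [hq.eq]
      _ = f z * f z * (w * w) := by group
      _ = 1 := by rw [hz2, hsq, one_mul]))
  calc w = f z * f z * w := by rw [hz2, one_mul]
    _ = f z * (f z * w) := mul_assoc _ _ _
    _ = f z := by rw [this, mul_one]

/-- The centralizer of an isolated involution controls the fusion of the elements it contains. -/
theorem isolated_centralizer_fusion [Finite G] {z : G} (hz : IsIsolatedInvolution z) {H : Subgroup G}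
    (hzH : z ∈ Subgroup.normalizer (H : Set G)) (x y : G) (_hx : x ∈ H) (_hy : y ∈ H)
    (hxz : Commute x z) (hyz : Commute y z) (h : G) (hh : h ∈ H) (hconj : h * x * h⁻¹ = y) :
    ∃ c ∈ H ⊓ Subgroup.centralizer ({z} : Set G), c * x * c⁻¹ = y := by
  suffices ∃ c ∈ H, Commute c z ∧ c * x * c⁻¹ = y by
    obtain ⟨c, h1, h2, h3⟩ := this
    exact ⟨c, ⟨h1, mem_centralizer_singleton_iff.2 h2.symm⟩, h3⟩
  have hz1 := hz.1
  obtain ⟨d, ⟨n, rfl⟩, -, -, hd⟩ := isolated_conjugator hz h⁻¹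
  have hwz : h⁻¹ * z * (h⁻¹)⁻¹ * z ∈ H := by
    have e : h⁻¹ * z * (h⁻¹)⁻¹ * z = h⁻¹ * (z * h * z⁻¹) := by
      rw [inv_eq_of_orderOf_two hz1]; group
    rw [e]
    exact H.mul_mem (H.inv_mem hh) ((Subgroup.mem_normalizer_iff.1 hzH h).1 hh)
  have hcomm : Commute x (h⁻¹ * z * (h⁻¹)⁻¹ * z) := by
    have h1 := hyz.map (MulAut.conj h⁻¹)
    simp only [MulAut.conj_apply] at h1
    have e : h⁻¹ * y * (h⁻¹)⁻¹ = x := by rw [← hconj]; group
    rw [e] at h1
    exact h1.mul_right hxz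
  set k := h⁻¹ * z * (h⁻¹)⁻¹ * z
  refine ⟨h * k ^ n, H.mul_mem hh (H.pow_mem hwz n), ?_, ?_⟩
  · refine (commute_iff_conj_eq.2 ?_).symm
    calc h * k ^ n * z * (h * k ^ n)⁻¹ = h * (k ^ n * z * (k ^ n)⁻¹) * h⁻¹ := by group
      _ = z := by rw [hd]; group
  · calc h * k ^ n * x * (h * k ^ n)⁻¹ = h * (k ^ n * x * (k ^ n)⁻¹) * h⁻¹ := by group
      _ = y := by rw [commute_iff_conj_eq.1 (hcomm.pow_right n), hconj]

end CfsgLib.TwoGroups
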