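import Cfsg.Agent.Lib.TwoGroups.SemiDihedralFusion
import Cfsg.Agent.Lib.TwoGroups.WreathedFusion
import Cfsg.Agent.Lib.TwoGroups.WreathedConclusions
import Cfsg.Agent.Lib.TwoGroups.Isolated
import Cfsg.Agent.Lib.ZStar.FusionCenter

/-!
Owner: helper12. With an isolated involution the centre of a quasi-dihedral or wreathed Sylow
2-subgroup is central modulo the odd core.
-/

set_option autoImplicit false

namespace CfsgLib.TwoGroups.IsolatedCenter

open Subgroup

variable {X : Type*} [Group X] [Finite X] {S : Sylow 2 X}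

theorem fix_of_isolated {z : X} (hz : Cfsg.IsIsolatedInvolution z) (hzS : z ∈ (S : Subgroup X))
    {g : X} (hg : g * z * g⁻¹ ∈ (S : Subgroup X)) : g * z * g⁻¹ = z := by
  have hodd := isolated_odd_mul hz g
  obtain ⟨k, hk⟩ := IsPGroup.iff_orderOf.mp S.2 ⟨_, mul_mem hzS hg⟩
  rw [orderOf_mk] at hk
  have h1 : z * (g * z * g⁻¹) = 1 := by
    refine orderOf_eq_one_iff.mp ?_
    rw [hk] at hodd ⊢
    rcases Nat.eq_zero_or_pos k with rfl | hk0
    · rfl
    · exact absurd hodd (Nat.not_odd_iff_even.mpr ((Nat.even_pow' hk0.ne').mpr even_two))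
  rw [← inv_eq_of_mul_eq_one_right h1, inv_eq_of_orderOf_two hz.1]

theorem mem_center_of_isolated {z : X} (hz : Cfsg.IsIsolatedInvolution z) (hzS : z ∈ (S : Subgroup X))
    {s : X} (hs : s ∈ (S : Subgroup X)) : s * z = z * s :=
  mul_inv_eq_iff_eq_mul.mp
    (fix_of_isolated hz hzS (mul_mem (mul_mem hs hzS) (inv_mem hs)))

theorem semiDihedral_center_eq {m : ℕ} {y : SemiDihedral m} (hy : ∀ v, v * y = y * v) (h1 : y ≠ 1) :
    y = SemiDihedral.rot (SemiDihedral.h m) := by
  induction y using SemiDihedral.cases' with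
  | hr b =>
    have h2 : SemiDihedral.ref 0 * SemiDihedral.rot b * (SemiDihedral.ref 0)⁻¹ = SemiDihedral.rot b := by
      rw [hy, mul_inv_cancel_right]
    rw [SemiDihedral.ref_conj_rot, SemiDihedral.rot_inj] at h2
    obtain ⟨c, hc⟩ := SemiDihedral.even_q (m := m)
    have hhq : SemiDihedral.h m * SemiDihedral.q m = 0 := by rw [hc]; exact half_mul_two (by omega) c
    have hb0 : SemiDihedral.h m * b = 0 := by
      linear_combination (-SemiDihedral.q m) * h2 + b * hhq + b * (SemiDihedral.h_eq (m := m))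
    have hb : 2 * b = 0 := by linear_combination hb0 - h2
    rcases two_mul_eq_zero (by omega) hb with rfl | rfl
    · exact absurd rfl h1
    · rfl
  | hs a =>
    exfalso
    have h2 : SemiDihedral.ref a * SemiDihedral.rot 1 * (SemiDihedral.ref a)⁻¹ =
        SemiDihedral.rot 1 := by
      rw [← hy, mul_inv_cancel_right]
    rw [SemiDihedral.ref_conj_rot, SemiDihedral.rot_inj, mul_one] at h2
    have h3 : (2 : ZMod (2 ^ (m + 3))) * 2 = 0 := by
      linear_combination -2 * h2 + SemiDihedral.two_mul_h (m := m)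
    have h4 : ((4 : ℕ) : ZMod (2 ^ (m + 3))) = 0 := by push_cast; linear_combination h3
    rw [ZMod.natCast_eq_zero_iff] at h4
    have h5 := Nat.le_of_dvd (by norm_num) ((pow_dvd_pow 2 (show 3 ≤ m + 3 by omega)).trans h4)
    norm_num at h5

theorem exists_diag {m : ℕ} {v : WreathTwo m} (hv : v ∈ center (WreathTwo m)) :
    ∃ c, v = WreathTwo.u c c := by
  rw [WreathTwo.center_eq] at hv
  obtain ⟨k, rfl⟩ := mem_powers_iff_mem_zpowers.mpr hv
  exact ⟨_, WreathTwo.u_pow 1 1 k⟩

theorem fixed_center (hS : Cfsg.IsQuasiDihedral (S : Subgroup X) ∨ Cfsg.IsWreathed (S : Subgroup X))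
    {z : X} (hzS : z ∈ (S : Subgroup X)) (hz : Cfsg.IsIsolatedInvolution z) {x : X}
    (hx : x ∈ (center (S : Subgroup X)).map (S : Subgroup X).subtype) :
    ZStar.Fixed (S : Subgroup X) x := by
  have hxS : x ∈ (S : Subgroup X) := map_subtype_le _ hx
  rcases hS with hS | hS
  · obtain ⟨m, f, hf, hfS⟩ := SemiDihedral.exists_model hS
    have hcen : ∀ w ∈ (S : Subgroup X), (∀ s ∈ (S : Subgroup X), s * w = w * s) → w ≠ 1 →
        w = f (SemiDihedral.rot (SemiDihedral.h m)) := by
      intro w hw hc hw1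
      obtain ⟨y, rfl⟩ := hfS.ge hw
      refine congrArg f (semiDihedral_center_eq (fun v => hf ?_)
        (fun e => hw1 (by rw [e, map_one])))
      rw [map_mul, map_mul]
      exact hc _ (hfS.le ⟨v, rfl⟩)
    have hzc := hcen z hzS (fun s hs => mem_center_of_isolated hz hzS hs)
      (fun e => by
        have := hz.1
        rw [e, orderOf_one] at this
        omega)
    refine ⟨hxS, fun g k hg => ?_⟩
    by_cases h1 : x ^ k = 1
    · rw [h1, mul_one, mul_inv_cancel]
    obtain ⟨x', hx', rfl⟩ := hx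
    have h2 : ((S : Subgroup X).subtype x') ^ k = z := by
      rw [hzc]
      refine hcen _ (pow_mem hxS k) (fun s hs => ?_) h1
      exact (show Commute s (x' : X) from
        congrArg Subtype.val (mem_center_iff.mp hx' ⟨s, hs⟩)).pow_right k
    rw [h2] at hg ⊢
    exact fix_of_isolated hz hzS hg
  · obtain ⟨m, f, -, hf, hfS⟩ := WreathTwo.exists_model hS
    rw [WreathTwo.center_map_eq hfS hf] at hx
    have hnb : ¬ WreathTwo.BaseFused f := by
      intro hb
      obtain ⟨v, hv⟩ := hfS.ge hzS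
      have hvc : v ∈ center (WreathTwo m) := mem_center_iff.mpr fun w => hf (by
        rw [map_mul, map_mul, hv]
        exact mem_center_of_isolated hz hzS (hfS.le ⟨w, rfl⟩))
      have hvo : orderOf v = 2 := by rw [← orderOf_injective f hf, hv, hz.1]
      have hvu : v = WreathTwo.u (WreathTwo.h m) (WreathTwo.h m) := by
        obtain ⟨c, rfl⟩ := exists_diag hvc
        rcases (WreathTwo.orderOf_eq_two_iff _).1 hvo with e | e | e | ⟨d, e⟩
        · exact e
        · obtain ⟨rfl, e'⟩ := WreathTwo.u_inj.1 e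
          exact absurd e' WreathTwo.h_ne
        · obtain ⟨rfl, e'⟩ := WreathTwo.u_inj.1 e
          exact absurd e'.symm WreathTwo.h_ne
        · exact absurd e (WreathTwo.u_ne_w _ _ _ _)
      obtain ⟨g, hg⟩ := isConj_iff.1 hb.symm
      rw [← hvu, hv] at hg
      have h1 := fix_of_isolated hz hzS (g := g) (by rw [hg]; exact hfS.le ⟨_, rfl⟩)
      rw [hg, ← hv, hvu] at h1
      exact WreathTwo.h_ne (WreathTwo.u_inj.1 (hf h1)).2.symm
    obtain ⟨v, hv, rfl⟩ := hx
    refine ⟨hxS, fun g k hg => ?_⟩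
    obtain ⟨c, hc⟩ := exists_diag ((center (WreathTwo m)).pow_mem hv k)
    rw [← map_pow, hc] at hg ⊢
    obtain ⟨y, hy⟩ := hfS.ge hg
    rw [← hy]
    refine congrArg f (WreathTwo.conj_center_eq hf hfS hnb (IsConj.symm (isConj_iff.2 ⟨g, hy.symm⟩)))

/-- The product of the odd core and the centre of the Sylow subgroup is normal. -/
theorem result (hS : Cfsg.IsQuasiDihedral (S : Subgroup X) ∨ Cfsg.IsWreathed (S : Subgroup X))
    {z : X} (hzS : z ∈ (S : Subgroup X)) (hz : Cfsg.IsIsolatedInvolution z) :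
    (Cfsg.oddCore X ⊔ (center (S : Subgroup X)).map (S : Subgroup X).subtype).Normal := by
  refine ⟨fun n hn g => ?_⟩
  have hle : Cfsg.oddCore X ⊔ (center (S : Subgroup X)).map (S : Subgroup X).subtype ≤
      (Cfsg.oddCore X ⊔ (center (S : Subgroup X)).map (S : Subgroup X).subtype).comap
        (MulAut.conj g).toMonoidHom := by
    refine sup_le (fun y hy => mem_sup_left ((inferInstance :
      (Cfsg.oddCore X).Normal).conj_mem y hy g)) fun x hx => ?_
    show g * x * g⁻¹ ∈ Cfsg.oddCore X ⊔ (center (S : Subgroup X)).map (S : Subgroup X).subtype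
    have h := ZStar.commutator_mem_oddCore_of_fixed S (fixed_center hS hzS hz hx) g
    have e : g * x * g⁻¹ = (x * g * x⁻¹ * g⁻¹)⁻¹ * x := by group
    rw [e]
    exact mul_mem (mem_sup_left (inv_mem h)) (mem_sup_right hx)
  exact hle hn

end CfsgLib.TwoGroups.IsolatedCenter
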