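import Mathlib.GroupTheory.PGroup
import Mathlib.GroupTheory.Nilpotent
import Mathlib.GroupTheory.Index
import Mathlib.Tactic.Group
import Mathlib.Data.Fintype.Card
import Mathlib.Data.Finset.Max

/-!
Maximal normal abelian subgroups of exponent at most 4 of a 2-group: they contain all elements of
order at most 4 of their centralizers, and squaring on cosets has small fibres.
-/

set_option autoImplicit false
set_option linter.style.haveILetI false

namespace CfsgLib.TwoGroups.NormalRankTwo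

open scoped commutatorElement

variable {P : Type*} [Group P] [Finite P]

/-- `W` is maximal among the normal abelian subgroups of exponent dividing 4. -/
structure Max (W : Subgroup P) : Prop where
  normal : W.Normal
  comm : ∀ a ∈ W, ∀ b ∈ W, a * b = b * a
  exp4 : ∀ a ∈ W, a ^ 4 = 1
  maximal : ∀ A : Subgroup P, A.Normal → (∀ a ∈ A, ∀ b ∈ A, a * b = b * a) →
    (∀ a ∈ A, a ^ 4 = 1) → W ≤ A → A ≤ W

theorem exists_max : ∃ W : Subgroup P, Max W := by
  classical
  let s : Set (Subgroup P) := {A | A.Normal ∧ (∀ a ∈ A, ∀ b ∈ A, a * b = b * a) ∧ ∀ a ∈ A, a ^ 4 = 1}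
  have hne : s.Nonempty := ⟨⊥, inferInstance, fun a ha b hb => by simp_all [Subgroup.mem_bot],
    fun a ha => by simp_all [Subgroup.mem_bot]⟩
  haveI : Fintype (Subgroup P) := Fintype.ofFinite _
  obtain ⟨W, hWs', hW'⟩ := s.toFinset.exists_max_image (fun A => Nat.card A)
    (Set.toFinset_nonempty.2 hne)
  have hWs := Set.mem_toFinset.1 hWs'
  have hW := fun A hA => hW' A (Set.mem_toFinset.2 hA)
  exact ⟨W, hWs.1, hWs.2.1, hWs.2.2, fun A h1 h2 h3 hWA =>
    (Subgroup.eq_of_le_of_card_ge hWA (hW A ⟨h1, h2, h3⟩)).ge⟩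

/-- The involutions of an abelian subgroup. -/
def omega {W : Subgroup P} (h : ∀ a ∈ W, ∀ b ∈ W, a * b = b * a) : Subgroup P where
  carrier := {w | w ∈ W ∧ w ^ 2 = 1}
  mul_mem' {a b} ha hb := ⟨W.mul_mem ha.1 hb.1, by
    rw [(show Commute a b from h a ha.1 b hb.1).mul_pow, ha.2, hb.2, one_mul]⟩
  one_mem' := ⟨W.one_mem, one_pow 2⟩
  inv_mem' {a} ha := ⟨W.inv_mem ha.1, by rw [inv_pow, ha.2, inv_one]⟩

/-- `g` inverts no element of order 4 of `W`. -/
def NoInv (W : Subgroup P) (g : P) : Prop := ∀ w ∈ W, g * w * g⁻¹ = w⁻¹ → w ^ 2 = 1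

/-- `g` centralizes no element of order 4 of `W`. -/
def NoFix (W : Subgroup P) (g : P) : Prop := ∀ w ∈ W, g * w * g⁻¹ = w → w ^ 2 = 1

theorem sq_eq_one_of_powers (hP : IsPGroup 2 P) (c : P)
    (h : ∀ k : ℕ, (c ^ k) ^ 4 = 1 → (c ^ k) ^ 2 = 1) : c ^ 2 = 1 := by
  haveI : Fact (Nat.Prime 2) := ⟨Nat.prime_two⟩
  obtain ⟨k, hk⟩ := hP c
  obtain ⟨j, -, hj⟩ := (Nat.dvd_prime_pow Nat.prime_two).1 (orderOf_dvd_of_pow_eq_one hk)
  by_cases hj2 : j ≤ 1
  · refine orderOf_dvd_iff_pow_eq_one.1 ?_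
    rw [hj]
    exact (pow_dvd_pow 2 hj2).trans (by norm_num)
  exfalso
  have h1 := h (2 ^ (j - 2)) (by
    rw [← pow_mul, show 2 ^ (j - 2) * 4 = 2 ^ j by
      rw [show (4 : ℕ) = 2 ^ 2 by norm_num, ← pow_add]; congr 1; omega, ← hj, pow_orderOf_eq_one])
  rw [← pow_mul, ← pow_succ] at h1
  have h2 := orderOf_dvd_of_pow_eq_one h1
  rw [hj, Nat.pow_dvd_pow_iff_le_right Nat.one_lt_two] at h2
  omega

theorem sq_eq_one_of_inverted (hP : IsPGroup 2 P) {W : Subgroup P} {g c : P}
    (hc : ∀ k : ℕ, (c ^ k) ^ 4 = 1 → c ^ k ∈ W) (hg : NoInv W g) (h : g * c * g⁻¹ = c⁻¹) :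
    c ^ 2 = 1 :=
  sq_eq_one_of_powers hP c fun k hk => hg _ (hc k hk) (by rw [← conj_pow, h, inv_pow])

theorem sq_eq_one_of_fixed (hP : IsPGroup 2 P) {W : Subgroup P} {g c : P}
    (hc : ∀ k : ℕ, (c ^ k) ^ 4 = 1 → c ^ k ∈ W) (hg : NoFix W g) (h : g * c * g⁻¹ = c) :
    c ^ 2 = 1 :=
  sq_eq_one_of_powers hP c fun k hk => hg _ (hc k hk) (by rw [← conj_pow, h])

theorem noInv_of_mem_centralizer {W : Subgroup P} {g : P}
    (hg : g ∈ Subgroup.centralizer (W : Set P)) : NoInv W g := by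
  intro w hw h
  rw [← Subgroup.mem_centralizer_iff.1 hg w hw, mul_inv_cancel_right] at h
  rw [pow_two]
  exact mul_eq_one_iff_eq_inv.2 h

theorem not_le_commutator_sup (hP : IsPGroup 2 P) {W N : Subgroup P} [W.Normal] (hNW : ¬ N ≤ W) :
    ¬ N ≤ ⁅N, (⊤ : Subgroup P)⁆ ⊔ W := by
  intro h
  haveI : Fact (Nat.Prime 2) := ⟨Nat.prime_two⟩
  haveI := hP.isNilpotent
  have hind : ∀ n, N ≤ Subgroup.lowerCentralSeries (⊤ : Subgroup P) n ⊔ W := by
    intro n
    induction n with
    | zero => simp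
    | succ n ih =>
      refine h.trans (sup_le ?_ le_sup_right)
      rw [Subgroup.commutator_le]
      intro x hx g _
      obtain ⟨a, ha, w, hw, rfl⟩ := Subgroup.mem_sup_of_normal_right.1 (ih hx)
      have e : ⁅a * w, g⁆ = (a * ⁅w, g⁆ * a⁻¹) * ⁅a, g⁆ := by
        simp only [commutatorElement_def]; group
      rw [e]
      refine Subgroup.mul_mem _ (Subgroup.mem_sup_right ?_) (Subgroup.mem_sup_left ?_)
      · refine ‹W.Normal›.conj_mem _ ?_ a
        rw [commutatorElement_def, mul_assoc, mul_assoc]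
        exact W.mul_mem hw (by rw [← mul_assoc]; exact ‹W.Normal›.conj_mem _ (W.inv_mem hw) g)
      · rw [Subgroup.lowerCentralSeries_succ]
        exact Subgroup.commutator_mem_commutator ha (Subgroup.mem_top g)
  obtain ⟨n, hn⟩ := (Subgroup.nilpotent_iff_lowerCentralSeries (G := P)).1 inferInstance
  have := hind n
  rw [hn, bot_sup_eq] at this
  exact hNW this

variable {W : Subgroup P}

theorem commute_of_mem (hW : Max W) {c w : P} (hc : c ∈ Subgroup.centralizer (W : Set P)) (hw : w ∈ W) :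
    c * w = w * c :=
  (Subgroup.mem_centralizer_iff.1 hc w hw).symm

theorem le_centralizer (hW : Max W) : W ≤ Subgroup.centralizer (W : Set P) := fun a ha =>
  Subgroup.mem_centralizer_iff.2 fun b hb => hW.comm b hb a ha

/-- `Ω₂` of the centralizer lies in `W`. -/
theorem mem_of_pow_four (hP : IsPGroup 2 P) (hW : Max W) {x : P}
    (hx : x ∈ Subgroup.centralizer (W : Set P)) (hx4 : x ^ 4 = 1) : x ∈ W := by
  haveI := hW.normal
  haveI : (Subgroup.centralizer (W : Set P)).Normal := inferInstance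
  suffices key : ∀ n, ∀ N : Subgroup P, N.Normal → N ≤ Subgroup.centralizer (W : Set P) →
      Nat.card N ≤ n → ∀ x ∈ N, x ^ 4 = 1 → x ∈ W from
    key _ _ inferInstance le_rfl le_rfl x hx hx4
  intro n
  induction n with
  | zero => intro N _ _ h; exact absurd h (by simp [Nat.card_pos.ne'])
  | succ n ih =>
    intro N hN hNC hcard x hxN hx4
    by_cases hNW : N ≤ W
    · exact hNW hxN
    set N' := ⁅N, (⊤ : Subgroup P)⁆ ⊔ W ⊓ N
    have hN'le : N' ≤ N := sup_le (Subgroup.commutator_le_left _ _) inf_le_right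
    have hlt : Nat.card N' < Nat.card N := by
      refine lt_of_le_of_ne (Subgroup.card_le_of_le hN'le) fun he => ?_
      exact not_le_commutator_sup hP hNW
        ((Subgroup.eq_of_le_of_card_ge hN'le he.ge).ge.trans (sup_le_sup_left inf_le_left _))
    have hIH : ∀ c ∈ N', c ^ 4 = 1 → c ∈ W := fun c hc => ih N' inferInstance (hN'le.trans hNC) (by omega) c hc
    have hpow : ∀ c ∈ N', ∀ k : ℕ, (c ^ k) ^ 4 = 1 → c ^ k ∈ W := fun c hc k => hIH _ (N'.pow_mem hc k)
    have hcN' : ∀ x ∈ N, ∀ g : P, x⁻¹ * (g * x * g⁻¹) ∈ N' := fun x hx g => by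
      refine Subgroup.mem_sup_left ?_
      have h := Subgroup.commutator_mem_commutator (N.inv_mem hx) (Subgroup.mem_top g)
      rw [commutatorElement_def] at h
      simpa [mul_assoc] using h
    have hclose : ∀ x ∈ N, x ^ 4 = 1 → (∀ g : P, x⁻¹ * (g * x * g⁻¹) ∈ W) → x ∈ W := by
      intro x hx h4 hg
      have hLn : (W ⊔ Subgroup.zpowers x).Normal := by
        refine ⟨fun a ha g => ?_⟩
        have hle : (W ⊔ Subgroup.zpowers x).map (MulAut.conj g).toMonoidHom ≤ W ⊔ Subgroup.zpowers x := by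
          rw [Subgroup.map_sup]
          refine sup_le ?_ ?_
          · rintro _ ⟨w, hw, rfl⟩
            exact Subgroup.mem_sup_left (hW.normal.conj_mem w hw g)
          · rw [MonoidHom.map_zpowers, Subgroup.zpowers_le]
            show g * x * g⁻¹ ∈ _
            rw [show g * x * g⁻¹ = x * (x⁻¹ * (g * x * g⁻¹)) by group]
            exact Subgroup.mul_mem _ (Subgroup.mem_sup_right (Subgroup.mem_zpowers x))
              (Subgroup.mem_sup_left (hg g))
        exact hle ⟨a, ha, rfl⟩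
      have hxc : ∀ i : ℤ, ∀ w ∈ W, Commute (x ^ i) w := fun i w hw =>
        (show Commute x w from commute_of_mem hW (hNC hx) hw).zpow_left i
      have hmem : ∀ a ∈ W ⊔ Subgroup.zpowers x, ∃ w ∈ W, ∃ i : ℤ, w * x ^ i = a := by
        intro a ha
        obtain ⟨w, hw, b, hb, rfl⟩ := Subgroup.mem_sup_of_normal_left.1 ha
        obtain ⟨i, rfl⟩ := Subgroup.mem_zpowers_iff.1 hb
        exact ⟨w, hw, i, rfl⟩
      refine hW.maximal _ hLn ?_ ?_ le_sup_left (Subgroup.mem_sup_right (Subgroup.mem_zpowers x))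
      · intro a ha b hb
        obtain ⟨w, hw, i, rfl⟩ := hmem a ha
        obtain ⟨v, hv, j, rfl⟩ := hmem b hb
        exact (((show Commute w v from hW.comm w hw v hv).mul_right (hxc j w hw).symm).mul_left
          ((hxc i v hv).mul_right (Commute.zpow_zpow_self x i j))).eq
      · intro a ha
        obtain ⟨w, hw, i, rfl⟩ := hmem a ha
        rw [(hxc i w hw).symm.mul_pow, hW.exp4 w hw, one_mul, ← zpow_natCast, ← zpow_mul, mul_comm,
          zpow_mul, zpow_natCast, h4, one_zpow]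
    have hinvol : ∀ x ∈ N, x ^ 2 = 1 → x ∈ W := by
      intro x hx h2
      refine hclose x hx (by rw [show 4 = 2 * 2 from rfl, pow_mul, h2, one_pow]) fun g => ?_
      set c := x⁻¹ * (g * x * g⁻¹) with hc
      have hc2 : x * c * x⁻¹ = c⁻¹ := by
        have hxx : x⁻¹ = x := inv_eq_of_mul_eq_one_right (by rw [← pow_two, h2])
        calc x * c * x⁻¹ = g * x * g⁻¹ * x⁻¹ := by simp only [hc]; group
          _ = g * x⁻¹ * g⁻¹ * x := by rw [hxx]
          _ = c⁻¹ := by simp only [hc]; group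
      refine hIH c (hcN' x hx g) ?_
      rw [show 4 = 2 * 2 from rfl, pow_mul, sq_eq_one_of_inverted hP (hpow c (hcN' x hx g))
        (noInv_of_mem_centralizer (hNC hx)) hc2, one_pow]
    refine hclose x hxN hx4 fun g => ?_
    set c := x⁻¹ * (g * x * g⁻¹) with hc
    set y := g * x * g⁻¹
    have hcN := hcN' x hxN g
    have hx2 : x ^ 2 ∈ W := hinvol _ (N.pow_mem hxN 2) (by rw [← pow_mul]; exact hx4)
    have hy2 : y ^ 2 ∈ W := by rw [conj_pow]; exact hW.normal.conj_mem _ hx2 g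
    set e := y ^ 2 * (x ^ 2)⁻¹ with he
    have heW : e ∈ W := W.mul_mem hy2 (W.inv_mem hx2)
    have he2 : e ^ 2 = 1 := by
      rw [(show Commute (y ^ 2) (x ^ 2)⁻¹ from hW.comm _ hy2 _ (W.inv_mem hx2)).mul_pow, inv_pow,
        ← pow_mul, ← pow_mul, conj_pow, show 2 * 2 = 4 from rfl, hx4]
      group
    have hcc : x * c * x⁻¹ = c⁻¹ * e := by
      symm
      calc c⁻¹ * e = y⁻¹ * (x * e) := by simp only [hc]; group
        _ = y⁻¹ * (e * x) := by rw [commute_of_mem hW (hNC hxN) heW]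
        _ = x * c * x⁻¹ := by simp only [hc, he, pow_two]; group
    have hce : Commute c⁻¹ e := commute_of_mem hW
      ((Subgroup.centralizer (W : Set P)).inv_mem (hNC (hN'le hcN))) heW
    have hc2 : (c ^ 2) ^ 2 = 1 := sq_eq_one_of_inverted hP (fun k => hpow _ (N'.pow_mem hcN 2) k)
      (noInv_of_mem_centralizer (hNC hxN))
      (by rw [← conj_pow, hcc, hce.mul_pow, he2, mul_one, inv_pow])
    exact hIH c hcN (by rw [show 4 = 2 * 2 from rfl, pow_mul]; exact hc2)

theorem powers_mem (hP : IsPGroup 2 P) (hW : Max W) {c : P}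
    (hc : c ∈ Subgroup.centralizer (W : Set P)) (k : ℕ) (h : (c ^ k) ^ 4 = 1) : c ^ k ∈ W :=
  mem_of_pow_four hP hW ((Subgroup.centralizer (W : Set P)).pow_mem hc k) h

/-- Squaring on `g M` has fibres of size at most `|Ω₁ W|`. -/
theorem card_le_omega_mul (hP : IsPGroup 2 P) (hW : Max W) {g : P} (hg : NoInv W g) {M : Subgroup P}
    (hM : M ≤ Subgroup.centralizer (W : Set P)) (S : Set P) (hS : ∀ m ∈ M, (g * m) ^ 2 ∈ S) :
    Nat.card M ≤ Nat.card (omega hW.comm) * Nat.card S := by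
  classical
  let f : M → P := fun m => (g * (m : P)) ^ 2
  let r : M → M := fun m => Function.invFun f (f m)
  have hr : ∀ m, f (r m) = f m := fun m => Function.invFun_eq ⟨m, rfl⟩
  have hd : ∀ m : M, ((r m : M) : P)⁻¹ * m ∈ omega hW.comm := by
    intro m
    set d := ((r m : M) : P)⁻¹ * m with hd
    set y := g * ((r m : M) : P) with hy
    have hdC : d ∈ Subgroup.centralizer (W : Set P) :=
      Subgroup.mul_mem _ (Subgroup.inv_mem _ (hM (r m).2)) (hM m.2)
    have hyd : y * d * y⁻¹ = d⁻¹ := by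
      have h : (y * d) ^ 2 = y ^ 2 := by
        rw [hy, hd, mul_assoc g, mul_inv_cancel_left]
        exact (hr m).symm
      have h'' : d * y * d = y := mul_left_cancel (a := y) (by
        rw [← pow_two, ← h, pow_two]; group)
      calc y * d * y⁻¹ = d⁻¹ * (d * y * d) * y⁻¹ := by group
        _ = d⁻¹ := by rw [h'', mul_inv_cancel_right]
    have hyi : NoInv W y := fun w hw h => hg w hw (by
      rw [← h, hy]
      calc g * w * g⁻¹ = g * (w * (r m : M) * ((r m : M) : P)⁻¹) * g⁻¹ := by rw [mul_inv_cancel_right]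
        _ = g * ((r m : M) * w * ((r m : M) : P)⁻¹) * g⁻¹ := by
          rw [← commute_of_mem hW (hM (r m).2) hw]
        _ = _ := by group)
    have h2 : d ^ 2 = 1 := sq_eq_one_of_inverted hP (powers_mem hP hW hdC) hyi hyd
    exact ⟨mem_of_pow_four hP hW hdC (by rw [show 4 = 2 * 2 from rfl, pow_mul, h2, one_pow]), h2⟩
  rw [← Nat.card_prod]
  refine Nat.card_le_card_of_injective (fun m : M => ((⟨_, hd m⟩ : omega hW.comm), (⟨f m, hS m m.2⟩ : S))) ?_
  intro a b h
  have h1 : f a = f b := congrArg (fun q => ((q.2 : S) : P)) h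
  have h2 : ((r a : M) : P)⁻¹ * a = ((r b : M) : P)⁻¹ * b := congrArg (fun q => ((q.1 : omega hW.comm) : P)) h
  have h3 : r a = r b := congrArg (Function.invFun f) h1
  rw [h3] at h2
  exact Subtype.ext (mul_left_cancel h2)

/-- The subgroup generated by the squares. -/
def sq (H : Subgroup P) : Subgroup P := Subgroup.closure {x | ∃ h ∈ H, h ^ 2 = x}

theorem sq_mem {H : Subgroup P} {h : P} (hh : h ∈ H) : h ^ 2 ∈ sq H :=
  Subgroup.subset_closure ⟨h, hh, rfl⟩

theorem sq_le (H : Subgroup P) : sq H ≤ H :=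
  (Subgroup.closure_le H).2 fun _ ⟨h, hh, e⟩ => e ▸ H.pow_mem hh 2

theorem sq_mono {H K : Subgroup P} (h : H ≤ K) : sq H ≤ sq K :=
  Subgroup.closure_mono fun _ ⟨a, ha, e⟩ => ⟨a, h ha, e⟩

theorem commutator_mem_sq {H : Subgroup P} {a b : P} (ha : a ∈ H) (hb : b ∈ H) :
    a * b * a⁻¹ * b⁻¹ ∈ sq H := by
  rw [show a * b * a⁻¹ * b⁻¹ = a ^ 2 * (a⁻¹ * b) ^ 2 * (b⁻¹) ^ 2 by simp only [pow_two]; group]
  exact Subgroup.mul_mem _ (Subgroup.mul_mem _ (sq_mem ha) (sq_mem (H.mul_mem (H.inv_mem ha) hb)))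
    (sq_mem (H.inv_mem hb))

theorem relIndex_sq_le (hP : IsPGroup 2 P) (hW : Max W) {M : Subgroup P}
    (hM : M ≤ Subgroup.centralizer (W : Set P)) :
    (sq M).relIndex M ≤ Nat.card (omega hW.comm) := by
  have h := card_le_omega_mul hP hW (g := 1) (noInv_of_mem_centralizer (one_mem _)) hM (sq M : Set P)
    (fun m hm => by rw [one_mul]; exact sq_mem hm)
  have h' : Nat.card (sq M) * (sq M).relIndex M = Nat.card M := by
    rw [← Subgroup.relIndex_bot_left, Subgroup.relIndex_mul_relIndex _ _ _ bot_le (sq_le M),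
      Subgroup.relIndex_bot_left]
  rw [← h', mul_comm] at h
  exact Nat.le_of_mul_le_mul_right h Nat.card_pos

/-- A first step above `W` inside its centralizer. -/
theorem exists_step (hP : IsPGroup 2 P) (hW : Max W) (hCW : ¬ Subgroup.centralizer (W : Set P) ≤ W) :
    ∃ c ∈ Subgroup.centralizer (W : Set P), c ∉ W ∧ c ^ 2 ∈ W ∧ ∀ g : P, g * c * g⁻¹ * c⁻¹ ∈ W := by
  haveI := hW.normal
  let s : Set (Subgroup P) := {N | N.Normal ∧ W ≤ N ∧ N ≤ Subgroup.centralizer (W : Set P) ∧ ¬ N ≤ W}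
  classical
  haveI : Fintype (Subgroup P) := Fintype.ofFinite _
  obtain ⟨N, hNs, hmin'⟩ := s.toFinset.exists_min_image (fun N => Nat.card N)
    (Set.toFinset_nonempty.2 ⟨_, inferInstance, le_centralizer hW, le_rfl, hCW⟩)
  obtain ⟨hN, hWN, hNC, hNW⟩ := Set.mem_toFinset.1 hNs
  have hmin := fun A hA => hmin' A (Set.mem_toFinset.2 hA)
  have hN'le : ⁅N, (⊤ : Subgroup P)⁆ ⊔ W ≤ N := sup_le (Subgroup.commutator_le_left _ _) hWN
  have hN'W : ⁅N, (⊤ : Subgroup P)⁆ ⊔ W ≤ W := by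
    by_contra hcon
    have h := hmin _ ⟨inferInstance, le_sup_right, hN'le.trans hNC, hcon⟩
    exact not_le_commutator_sup hP hNW (Subgroup.eq_of_le_of_card_ge hN'le h).ge
  obtain ⟨c, hcN, hcW⟩ := SetLike.not_le_iff_exists.1 hNW
  obtain ⟨k, hk⟩ := hP c
  have hex : ∃ j, c ^ 2 ^ (j + 1) ∈ W := ⟨k, by rw [pow_succ, pow_mul, hk, one_pow]; exact W.one_mem⟩
  classical
  refine ⟨c ^ 2 ^ Nat.find hex, hNC (N.pow_mem hcN _), ?_, by
    rw [← pow_mul, ← pow_succ]; exact Nat.find_spec hex, fun g => ?_⟩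
  · rcases hj : Nat.find hex with _ | j
    · simpa using hcW
    · exact Nat.find_min hex (show j < Nat.find hex by omega)
  · refine hN'W (Subgroup.mem_sup_left ?_)
    rw [Subgroup.commutator_comm, ← commutatorElement_def]
    exact Subgroup.commutator_mem_commutator (Subgroup.mem_top g) (N.pow_mem hcN _)

end CfsgLib.TwoGroups.NormalRankTwo
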