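import Cfsg.Prelude.Def_Transfer
import Cfsg.Agent.Lib.LocalEven.M24Sylow
import Cfsg.Agent.Lib.TwoGroups.NormalRankTwoBasic

/-!
A Sylow 2-subgroup of `M24` modulo its centre: its only abelian subgroup of order 64 is elementary,
and the centres of its maximal subgroups have order at most 8.
-/

set_option autoImplicit false
set_option linter.style.haveILetI false
set_option linter.unusedSectionVars false

namespace CfsgLib.TwoGroups.M24Quotient

open Cfsg Subgroup
open CfsgLib.Sporadic CfsgLib.LocalEven.M24Sylow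

theorem relIndex_le_index' {S : Type*} [Group S] [Finite S] (H K : Subgroup S) :
    H.relIndex K ≤ H.index :=
  (Subgroup.relIndex_le_of_le_right le_top
    (by rw [relIndex_top_right]; exact Subgroup.index_ne_zero_of_finite)).trans_eq
    (Subgroup.relIndex_top_right _)

section Abstract

variable {S : Type*} [Group S] [Finite S] {E : Subgroup S}

theorem eq_of_centralizers [IsMulCommutative E] (hE : Nat.card E = 64) (hS : Nat.card S = 512)
    (h1 : ∀ x ∉ E, Nat.card (E ⊓ centralizer {x} : Subgroup S) ≤ 16)
    (h2 : ∀ x ∉ E, ∀ y ∉ E, x⁻¹ * y ∉ E →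
      Nat.card (E ⊓ centralizer {x} ⊓ centralizer {y} : Subgroup S) ≤ 8)
    (h3 : Nat.card (E ⊓ center S : Subgroup S) ≤ 4)
    (B : Subgroup S) [IsMulCommutative B] (hB : Nat.card B = 64) : B = E := by
  classical
  by_contra hne
  obtain ⟨x, hxB, hxE⟩ := SetLike.not_le_iff_exists.1 fun h : B ≤ E =>
    hne (Subgroup.eq_of_le_of_card_ge h (by omega))
  have hcen : ∀ u ∈ B, E ⊓ B ≤ centralizer {u} := fun u hu e he =>
    mem_centralizer_singleton_iff.2 (congrArg Subtype.val
      (IsMulCommutative.is_comm.comm (⟨e, he.2⟩ : B) ⟨u, hu⟩))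
  have h16 : Nat.card (E ⊓ B : Subgroup S) ≤ 16 :=
    (Subgroup.card_le_of_le (le_inf inf_le_left (hcen x hxB))).trans (h1 x hxE)
  obtain ⟨y, hyB, hyE, hxy⟩ : ∃ y ∈ B, y ∉ E ∧ x⁻¹ * y ∉ E := by
    by_contra hcon
    push Not at hcon
    let F : B → Bool × (E ⊓ B : Subgroup S) := fun b =>
      if h : (b : S) ∈ E then (false, ⟨b, h, b.2⟩)
      else (true, ⟨x⁻¹ * b, hcon b b.2 h, B.mul_mem (B.inv_mem hxB) b.2⟩)
    have hF : Function.Injective F := by
      intro a b hab
      have h1 := congrArg Prod.fst hab
      have h2 := congrArg (fun q => (q.2 : S)) hab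
      by_cases ha : (a : S) ∈ E <;> by_cases hb : (b : S) ∈ E <;>
        simp [F, ha, hb] at h1 h2 <;> exact h2
    have h := Nat.card_le_card_of_injective F hF
    rw [Nat.card_prod, hB, Nat.card_eq_fintype_card (α := Bool), Fintype.card_bool] at h
    omega
  have h8 : Nat.card (E ⊓ B : Subgroup S) ≤ 8 :=
    (Subgroup.card_le_of_le (le_inf (le_inf inf_le_left (hcen x hxB)) (hcen y hyB))).trans
      (h2 x hxE y hyE hxy)
  let μ : E × B → S := fun p => (p.1 : S) * p.2
  have hidx : E.index = 8 := by
    have h := E.card_mul_index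
    rw [hE, hS] at h
    omega
  have hrel : E.relIndex B ≤ 8 := by
    rw [← hidx]
    exact (relIndex_le_index' _ _)
  have hmul := Subgroup.relIndex_mul_relIndex ⊥ (E ⊓ B) B bot_le inf_le_right
  rw [relIndex_bot_left, relIndex_bot_left, Subgroup.inf_relIndex_right, hB] at hmul
  have hI : Nat.card (E ⊓ B : Subgroup S) = 8 ∧ E.relIndex B = 8 := by
    constructor <;> nlinarith
  -- so `B` covers `S / E`
  have hsurj : ∀ s : S, ∃ b ∈ B, b⁻¹ * s ∈ E := by
    let ψ : B ⧸ E.subgroupOf B → S ⧸ E := Quotient.map' Subtype.val fun a b h => by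
      rw [QuotientGroup.leftRel_apply] at h ⊢
      exact h
    have hψ : Function.Injective ψ := by
      intro a b
      induction a using Quotient.inductionOn' with | h a => ?_
      induction b using Quotient.inductionOn' with | h b => ?_
      intro h
      refine Quotient.sound' ?_
      rw [QuotientGroup.leftRel_apply]
      exact (QuotientGroup.eq.1 h : (a : S)⁻¹ * b ∈ E)
    have hbij : Function.Bijective ψ := (Nat.bijective_iff_injective_and_card ψ).2 ⟨hψ, by
      rw [← Subgroup.index_eq_card, ← Subgroup.index_eq_card, hidx, ← hI.2]; rfl⟩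
    intro s
    obtain ⟨q, hq⟩ := hbij.2 (QuotientGroup.mk s)
    induction q using Quotient.inductionOn' with | h b => ?_
    exact ⟨b, b.2, QuotientGroup.eq.1 hq⟩
  have hcentral : E ⊓ B ≤ E ⊓ center S := by
    refine le_inf inf_le_left fun e he => mem_center_iff.2 fun s => ?_
    obtain ⟨b, hb, hbs⟩ := hsurj s
    have e1 : e * b = b * e := mem_centralizer_singleton_iff.1 (hcen b hb he)
    have e2 : e * (b⁻¹ * s) = (b⁻¹ * s) * e :=
      congrArg Subtype.val (IsMulCommutative.is_comm.comm (⟨e, he.1⟩ : E) ⟨_, hbs⟩)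
    calc s * e = b * (b⁻¹ * s * e) := by group
      _ = b * e * (b⁻¹ * s) := by rw [← e2, mul_assoc]
      _ = e * s := by rw [← e1]; group
  have h4 := (Subgroup.card_le_of_le hcentral).trans h3
  rw [hI.1] at h4
  omega

theorem center_le_eight (hE : Nat.card E = 64) (hS : Nat.card S = 512)
    (h1 : ∀ x ∉ E, Nat.card (E ⊓ centralizer {x} : Subgroup S) ≤ 16)
    (h2 : ∀ x ∉ E, ∀ y ∉ E, x⁻¹ * y ∉ E →
      Nat.card (E ⊓ centralizer {x} ⊓ centralizer {y} : Subgroup S) ≤ 8)
    (M : Subgroup S) (hM : M.index = 2) : Nat.card (center M) ≤ 8 := by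
  classical
  have hcM : Nat.card M = 256 := by
    have h := M.card_mul_index
    rw [hM, hS] at h
    omega
  set C := (center M).map M.subtype
  have hC : Nat.card (center M) = Nat.card C :=
    Nat.card_congr ((center M).equivMapOfInjective _ M.subtype_injective).toEquiv
  have hcom : ∀ c ∈ C, ∀ m ∈ M, c ∈ centralizer ({m} : Set S) := by
    rintro _ ⟨c, hc, rfl⟩ m hm
    exact mem_centralizer_singleton_iff.2
      (congrArg Subtype.val (mem_center_iff.1 hc ⟨m, hm⟩)).symm
  have hCE : C ≤ E := by
    intro c hc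
    by_contra hcE
    have h32 : 32 ≤ Nat.card (E ⊓ M : Subgroup S) := by
      have h := Subgroup.relIndex_mul_relIndex ⊥ (M ⊓ E) E bot_le inf_le_right
      rw [relIndex_bot_left, relIndex_bot_left, Subgroup.inf_relIndex_right, hE] at h
      have h' : M.relIndex E ≤ 2 := hM ▸ relIndex_le_index' _ _
      rw [inf_comm]
      nlinarith
    have hle : E ⊓ M ≤ E ⊓ centralizer {c} := le_inf inf_le_left fun e he =>
      mem_centralizer_singleton_iff.2 (mem_centralizer_singleton_iff.1 (hcom c hc e he.2)).symm
    have := (Subgroup.card_le_of_le hle).trans (h1 c hcE)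
    omega
  obtain ⟨x, hxM, hxE⟩ := SetLike.not_le_iff_exists.1 fun h : M ≤ E => by
    have := Subgroup.card_le_of_le h
    omega
  obtain ⟨y, hyM, hyE, hxy⟩ : ∃ y ∈ M, y ∉ E ∧ x⁻¹ * y ∉ E := by
    by_contra hcon
    push Not at hcon
    let F : M → Bool × E := fun b =>
      if h : (b : S) ∈ E then (false, ⟨b, h⟩) else (true, ⟨x⁻¹ * b, hcon b b.2 h⟩)
    have hF : Function.Injective F := by
      intro a b hab
      have h1 := congrArg Prod.fst hab
      have h2 := congrArg (fun q => (q.2 : S)) hab
      by_cases ha : (a : S) ∈ E <;> by_cases hb : (b : S) ∈ E <;>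
        simp [F, ha, hb] at h1 h2 <;> exact h2
    have h := Nat.card_le_card_of_injective F hF
    rw [Nat.card_prod, hE, hcM] at h
    simp at h
  rw [hC]
  exact (Subgroup.card_le_of_le (le_inf (le_inf hCE fun c hc => hcom c hc x hxM)
    fun c hc => hcom c hc y hyM)).trans (h2 x hxE y hyE hxy)

end Abstract

theorem pnorm_congr {σ : Equiv.Perm GolayPt} {p q : ℕ} (hp : Rep σ p) (hq : Rep σ q) :
    pmul p pone = pmul q pone := by
  have e : ∀ i, i < 24 → pget p (pget pone i) = pget q (pget pone i) := by
    intro i hi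
    have h1 : pget pone i = i := by
      have := Rep.one (pt i); rwa [ix_pt hi, Equiv.Perm.one_apply, ix_pt hi] at this
    rw [h1, ← ix_pt hi, hp, hq]
  rw [pmul, pmul]
  suffices H : ∀ n ≤ 24, (Nat.rec 0 (fun i acc =>
      Nat.lor acc (Nat.shiftLeft (pget p (pget pone i)) (Nat.mul 5 i))) n : ℕ) =
      Nat.rec 0 (fun i acc =>
        Nat.lor acc (Nat.shiftLeft (pget q (pget pone i)) (Nat.mul 5 i))) n from H 24 le_rfl
  intro n hn
  induction n with
  | zero => rfl
  | succ n ih => simp only [ih (by omega), e n (by omega)]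

/-- The packed value of a word in the generators. -/
noncomputable def wv (w : List ℕ) : ℕ :=
  List.rec pone (fun i _ acc => pmul (sylGens.getD i pone) acc) w

theorem gen_exists (i : ℕ) :
    ∃ g : syl, Rep ((g : ↥M24) : Equiv.Perm GolayPt) (sylGens.getD i pone) := by
  by_cases hi : i < sylGens.length
  · obtain ⟨h, hh⟩ := sylGens_lift _ (List.getElem_mem hi)
    refine ⟨⟨h, Subgroup.subset_closure ⟨_, List.getElem_mem hi, hh⟩⟩, ?_⟩
    rw [List.getD_eq_getElem _ _ hi]
    exact hh
  · refine ⟨1, ?_⟩
    rw [List.getD_eq_default _ _ (by omega)]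
    exact Rep.one

/-- The generators of `syl`. -/
noncomputable def gen (i : ℕ) : syl := (gen_exists i).choose

theorem gen_rep (i : ℕ) : Rep ((gen i : ↥M24) : Equiv.Perm GolayPt) (sylGens.getD i pone) :=
  (gen_exists i).choose_spec

theorem gen_rep_lt {i : ℕ} (hi : i < sylGens.length) :
    Rep ((gen i : ↥M24) : Equiv.Perm GolayPt) sylGens[i] := by
  have h := gen_rep i
  rwa [List.getD_eq_getElem _ _ hi] at h

theorem gen_ge {i : ℕ} (hi : 4 ≤ i) : gen i = 1 := by
  have h := gen_rep i
  rw [List.getD_eq_default _ _ (by simp [sylGens]; omega)] at h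
  exact Subtype.ext (Subtype.ext (h.unique Rep.one))

/-- The element of `syl` given by a word. -/
noncomputable def el (w : List ℕ) : syl := (w.map gen).prod

theorem rep_el : ∀ w : List ℕ, Rep ((el w : ↥M24) : Equiv.Perm GolayPt) (wv w)
  | [] => by simpa [el, wv] using Rep.one
  | i :: w => by
    have h := (gen_rep i).mul (rep_el w)
    simpa [el, wv] using h

/-- The normalized value. -/
noncomputable def cv (w : List ℕ) : ℕ := pmul (wv w) pone

theorem el_eq_of_cv {a b : List ℕ} (h : cv a = cv b) : el a = el b := by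
  have ha := (rep_el a).mul Rep.one
  have hb := (rep_el b).mul Rep.one
  rw [mul_one] at ha hb
  rw [cv, cv] at h
  rw [h] at ha
  exact Subtype.ext (Subtype.ext (ha.unique hb))

theorem cv_eq_of_el {a b : List ℕ} (h : el a = el b) : cv a = cv b :=
  pnorm_congr (rep_el a) (h ▸ rep_el b)

theorem el_append (a b : List ℕ) : el (a ++ b) = el a * el b := by
  simp [el, List.prod_append]

/-- The central involution. -/
def zw : List ℕ := [2, 2, 2, 2]

/-- Congruence modulo the centre. -/
noncomputable def eqz (a b : List ℕ) : Bool :=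
  Nat.beq (cv a) (cv b) || Nat.beq (cv a) (cv (zw ++ b))

theorem zw_commutes : [0, 1, 2, 3].all (fun i => Nat.beq (cv (zw ++ [i])) (cv ([i] ++ zw))) &&
    !Nat.beq (cv zw) (cv []) = true := by decide +kernel

theorem center_scan : sylElts.all (fun p =>
    !(sylGens.all (fun g => Nat.beq (pmul g p) (pmul p g))) ||
      Nat.beq (pmul p pone) (cv []) || Nat.beq (pmul p pone) (cv zw)) = true := by
  decide +kernel

theorem closure_gen : Subgroup.closure (Set.range gen) = ⊤ := by
  refine eq_top_iff.2 fun g _ => ?_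
  have key : ∀ x : ↥M24, ∀ hx : x ∈ syl, (⟨x, hx⟩ : syl) ∈ Subgroup.closure (Set.range gen) := by
    intro x hx
    induction hx using Subgroup.closure_induction with
    | mem y hy =>
      obtain ⟨p, hp, hr⟩ := hy
      obtain ⟨i, hi, rfl⟩ := List.getElem_of_mem hp
      refine Subgroup.subset_closure ⟨i, ?_⟩
      exact Subtype.ext (Subtype.ext ((gen_rep_lt hi).unique hr))
    | one => exact one_mem _
    | mul a b ha hb iha ihb => exact mul_mem iha ihb
    | inv a ha iha => exact inv_mem iha
  exact key g g.2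

theorem mem_center_syl_iff {g : syl} : g ∈ center syl ↔ g = el [] ∨ g = el zw := by
  constructor
  · intro hg
    obtain ⟨p, hp, hr⟩ := exists_rep_of_mem g.2
    have h := center_scan
    simp only [List.all_eq_true, Bool.or_eq_true, Bool.not_eq_true', Nat.beq_eq] at h
    rcases h p hp with (h | h) | h
    · exfalso
      obtain ⟨q, hq, hne⟩ := List.all_eq_false.1 h
      obtain ⟨i, hi, rfl⟩ := List.getElem_of_mem hq
      apply hne
      have hgi := gen_rep_lt hi
      have hc : gen i * g = g * gen i := mem_center_iff.1 hg (gen i)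
      have e1 := hgi.mul hr
      have e2 := hr.mul hgi
      rw [← Subgroup.coe_mul, ← Subgroup.coe_mul, hc] at e1
      rw [← Subgroup.coe_mul, ← Subgroup.coe_mul] at e2
      have hn : ∀ a b : ℕ, pmul (pmul a b) pone = pmul a b := fun a b => by
        simp only [pmul]
        have : ∀ j, j < 24 → pget pone j = j := fun j hj => by
          have := Rep.one (pt j); rwa [ix_pt hj, Equiv.Perm.one_apply, ix_pt hj] at this
        suffices H : ∀ n ≤ 24, (Nat.rec 0 (fun i acc => Nat.lor acc (Nat.shiftLeft
            (pget (Nat.rec 0 (fun i acc => Nat.lor acc (Nat.shiftLeft (pget a (pget b i))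
              (Nat.mul 5 i))) 24) (pget pone i)) (Nat.mul 5 i))) n : ℕ) =
            Nat.rec 0 (fun i acc => Nat.lor acc (Nat.shiftLeft (pget a (pget b i))
              (Nat.mul 5 i))) n from H 24 le_rfl
        intro n hn
        induction n with
        | zero => rfl
        | succ n ih =>
          show Nat.lor _ _ = Nat.lor _ _
          rw [ih (by omega), this n (by omega),
            pget_pmul_aux _ (fun i => pget_lt _ _), if_pos (show n < 24 by omega)]
      simp only [Nat.beq_eq]
      rw [← hn sylGens[i] p, ← hn p sylGens[i]]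
      exact pnorm_congr e1 e2
    · left
      refine Subtype.ext (Subtype.ext ?_)
      have h1 := hr.mul Rep.one
      have h2 := (rep_el []).mul Rep.one
      rw [mul_one] at h1 h2
      rw [h] at h1
      exact h1.unique h2
    · right
      refine Subtype.ext (Subtype.ext ?_)
      have h1 := hr.mul Rep.one
      have h2 := (rep_el zw).mul Rep.one
      rw [mul_one] at h1 h2
      rw [h] at h1
      exact h1.unique h2
  · rintro (rfl | rfl)
    · exact one_mem _
    · refine mem_center_iff.2 fun y => ?_
      have hy : y ∈ centralizer {el zw} := by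
        refine (closure_le _).2 ?_ (closure_gen.ge (mem_top y))
        rintro _ ⟨i, rfl⟩
        refine mem_centralizer_singleton_iff.2 ?_
        have h := zw_commutes
        simp only [Bool.and_eq_true, List.all_eq_true, Nat.beq_eq] at h
        by_cases hi : i < 4
        · have := el_eq_of_cv (h.1 i (by simp; omega))
          rw [el_append, el_append] at this
          simpa [el] using this.symm
        · rw [gen_ge (by omega), one_mul, mul_one]
      exact mem_centralizer_singleton_iff.1 hy

theorem card_center_syl : Nat.card (center syl) = 2 := by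
  have hne : el zw ≠ el [] := fun h => by
    have hz := zw_commutes
    simp only [Bool.and_eq_true, Bool.not_eq_true'] at hz
    rw [cv_eq_of_el h] at hz
    simp at hz
  rw [show Nat.card (center syl) = Nat.card ({el [], el zw} : Set syl) from
    Nat.card_congr (Equiv.setCongr (Set.ext fun g => mem_center_syl_iff.trans (by simp)))]
  rw [Nat.card_coe_set_eq, Set.ncard_pair hne.symm]

/-- The basis of the elementary subgroup. -/
def bw : List (List ℕ) := [[0], [1, 1], [2, 3], [3, 2], [1, 0, 1], [2, 0, 3]]

/-- Representatives of its cosets. -/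
def rw8 : List (List ℕ) := [[], [1], [2], [3], [1, 2], [1, 3], [2, 2], [1, 2, 2]]

/-- The elements of the elementary subgroup. -/
noncomputable def ew (j : ℕ) : List ℕ :=
  ((List.range 6).filter fun k => Nat.testBit j k).flatMap fun k => bw.getD k []

/-- The action of the generators on the cosets. -/
def coTab : List (List (ℕ × ℕ)) :=
  [[(0, 1), (1, 18), (2, 18), (3, 36), (4, 55), (5, 1), (6, 55), (7, 36)],
   [(1, 0), (0, 2), (4, 0), (5, 0), (2, 52), (3, 52), (7, 0), (6, 2)],
   [(2, 0), (5, 62), (6, 0), (0, 4), (1, 29), (7, 25), (3, 4), (4, 58)],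
   [(3, 0), (4, 10), (0, 8), (6, 43), (7, 23), (1, 52), (2, 35), (5, 41)]]

/-- The centralizers of the representatives. -/
def maskTab : List ℕ :=
  [18446744073709551615, 25333456579461285, 18014948265426945, 18014948265426945,
   675547162066968585, 270220104032305155, 382817653322567685, 11551821692414855685]

theorem ew_mul : forallLt 6 (fun k => forallLt 64 (fun j =>
    eqz (bw.getD k [] ++ ew j) (ew (j ^^^ 2 ^ k)))) = true := by decide +kernel

theorem bw_comm : forallLt 6 (fun k => forallLt 6 (fun l =>
    eqz (bw.getD k [] ++ bw.getD l []) (bw.getD l [] ++ bw.getD k [])) &&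
    eqz (bw.getD k [] ++ bw.getD k []) []) = true := by decide +kernel

theorem coTab_ok : forallLt 4 (fun g => forallLt 8 (fun i =>
    let e := (coTab.getD g []).getD i (0, 0)
    Nat.blt e.1 8 && Nat.blt e.2 64 &&
      eqz ([g] ++ rw8.getD i []) (rw8.getD e.1 [] ++ ew e.2))) = true := by decide +kernel

theorem maskTab_ok : forallLt 8 (fun i => forallLt 64 (fun j =>
    !eqz (rw8.getD i [] ++ ew j) (ew j ++ rw8.getD i []) ||
      Nat.testBit (maskTab.getD i 0) j)) = true := by decide +kernel

theorem maskTab_small :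
    forallLt 8 (fun i => Nat.beq i 0 ||
      (Nat.ble (countLt 64 (fun j => Nat.testBit (maskTab.getD i 0) j)) 16 &&
        forallLt 8 (fun k => Nat.beq k 0 || Nat.beq k i ||
          Nat.ble (countLt 64 (fun j => Nat.testBit (maskTab.getD i 0) j &&
            Nat.testBit (maskTab.getD k 0) j)) 8))) &&
    Nat.ble (countLt 64 (fun j => Nat.testBit (maskTab.getD 2 0) j)) 4 = true := by
  decide +kernel

variable {P : Type*} [Group P] [Finite P]

/-- The main facts, for any group isomorphic to the Sylow subgroup. -/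
theorem main (ψ : syl ≃* P) : (∀ M : Subgroup (P ⧸ center P), M.index = 2 → Nat.card (center M) ≤ 8) ∧
    ∃ E : Subgroup (P ⧸ center P), Cfsg.IsElementaryAbelian 2 E ∧ Nat.card E = 64 ∧
      ∀ B : Subgroup (P ⧸ center P), IsMulCommutative B → Nat.card B = 64 → B = E := by
  classical
  let π : syl →* P ⧸ center P := (QuotientGroup.mk' (center P)).comp ψ.toMonoidHom
  have hπsurj : Function.Surjective π := (QuotientGroup.mk'_surjective _).comp ψ.surjective
  have hπker : ∀ g, π g = 1 ↔ g ∈ center syl := fun g => by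
    show QuotientGroup.mk' (center P) (ψ g) = 1 ↔ _
    rw [QuotientGroup.mk'_apply, QuotientGroup.eq_one_iff, mem_center_iff, mem_center_iff]
    constructor
    · exact fun h x => ψ.injective (by simpa using h (ψ x))
    · intro h y
      obtain ⟨x, rfl⟩ := ψ.surjective y
      rw [← map_mul, ← map_mul, h x]
  let v : List ℕ → P ⧸ center P := fun w => π (el w)
  have hvapp : ∀ a b, v (a ++ b) = v a * v b := fun a b => by simp [v, el_append]
  have hv_iff : ∀ a b, eqz a b = true ↔ v a = v b := by
    intro a b
    simp only [eqz, Bool.or_eq_true, Nat.beq_eq]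
    constructor
    · rintro (h | h) <;> simp only [v, el_eq_of_cv h, el_append, map_mul]
      rw [(hπker _).2 (mem_center_syl_iff.2 (Or.inr rfl)), one_mul]
    · intro h
      have h' : π (el a * (el b)⁻¹) = 1 := by
        rw [map_mul, map_inv, mul_inv_eq_one]; exact h
      rcases mem_center_syl_iff.1 ((hπker _).1 h') with h' | h' <;> rw [mul_inv_eq_iff_eq_mul] at h'
      · exact Or.inl (cv_eq_of_el (by simpa [el] using h'))
      · exact Or.inr (cv_eq_of_el (by rw [el_append]; exact h'))
  have hS : Nat.card (P ⧸ center P) = 512 := by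
    have hc : Nat.card (center P) = 2 := by
      rw [← card_center_syl]
      exact (Nat.card_congr (Subgroup.centerCongr ψ).toEquiv).symm
    have h := Subgroup.card_eq_card_quotient_mul_card_subgroup (center P)
    rw [← Nat.card_congr ψ.toEquiv, card_syl, hc] at h
    omega
  let E : Subgroup (P ⧸ center P) :=
    Subgroup.closure {x | ∃ k < 6, x = v (bw.getD k [])}
  have hb : ∀ k < 6, v (bw.getD k []) ∈ E := fun k hk => Subgroup.subset_closure ⟨k, hk, rfl⟩
  have he : ∀ j, v (ew j) ∈ E := by
    intro j
    show π (el (ew j)) ∈ E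
    have : ∀ l : List ℕ, (∀ k ∈ l, k < 6) → v (l.flatMap fun k => bw.getD k []) ∈ E := by
      intro l
      induction l with
      | nil => intro _; simpa [v, el] using E.one_mem
      | cons k l ih =>
        intro h
        rw [List.flatMap_cons, hvapp]
        exact E.mul_mem (hb k (h k (List.mem_cons_self ..))) (ih fun m hm => h m (List.mem_cons_of_mem _ hm))
    exact this _ fun k hk => List.mem_range.1 (List.mem_filter.1 hk).1
  have hEform : ∀ x ∈ E, ∃ j, j < 64 ∧ x = v (ew j) := by
    intro x hx
    rw [← Subgroup.mem_toSubmonoid, Subgroup.closure_toSubmonoid_of_finite] at hx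
    induction hx using Submonoid.closure_induction_left with
    | one => exact ⟨0, by norm_num, by simp [v, el, ew]⟩
    | mul_left a ha y _ ih =>
      obtain ⟨k, hk, rfl⟩ := ha
      obtain ⟨j, hj, rfl⟩ := ih
      refine ⟨j ^^^ 2 ^ k, ?_, ?_⟩
      · have : 2 ^ k < 2 ^ 6 := Nat.pow_lt_pow_right one_lt_two hk
        exact Nat.xor_lt_two_pow (n := 6) hj this
      · rw [← hvapp]
        exact (hv_iff _ _).1 (forallLt_elim (forallLt_elim ew_mul hk) hj)
  have hcomm : IsMulCommutative E := by
    refine Subgroup.isMulCommutative_closure ?_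
    rintro _ ⟨k, hk, rfl⟩ _ ⟨l, hl, rfl⟩
    have h := forallLt_elim bw_comm hk
    rw [Bool.and_eq_true] at h
    have h' := (hv_iff _ _).1 (forallLt_elim h.1 hl)
    rwa [hvapp, hvapp] at h'
  have hsq : ∀ x ∈ E, x ^ 2 = 1 := by
    intro x hx
    induction hx using Subgroup.closure_induction with
    | mem a ha =>
      obtain ⟨k, hk, rfl⟩ := ha
      have h := forallLt_elim bw_comm hk
      rw [Bool.and_eq_true] at h
      have h' := (hv_iff _ _).1 h.2
      rw [hvapp] at h'
      rw [pow_two, h']
      simp [v, el]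
    | one => exact one_pow 2
    | mul a b ha hb iha ihb =>
      have : Commute a b := congrArg Subtype.val (hcomm.is_comm.comm ⟨a, ha⟩ ⟨b, hb⟩)
      rw [this.mul_pow, iha, ihb, one_mul]
    | inv a _ iha => rw [inv_pow, iha, inv_one]
  let rr : Fin 8 → (P ⧸ center P) ⧸ E := fun i => QuotientGroup.mk (v (rw8.getD i []))
  have hcover : ∀ s : P ⧸ center P, ∃ i : Fin 8, (v (rw8.getD i []))⁻¹ * s ∈ E := by
    intro s
    obtain ⟨t, rfl⟩ := hπsurj s
    have ht : t ∈ Subgroup.closure (Set.range gen) := closure_gen.ge (mem_top t)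
    rw [← Subgroup.mem_toSubmonoid, Subgroup.closure_toSubmonoid_of_finite] at ht
    induction ht using Submonoid.closure_induction_left with
    | one => exact ⟨0, by simp [rw8, v, el, E.one_mem]⟩
    | mul_left a ha y _ ih =>
      obtain ⟨g, rfl⟩ := ha
      obtain ⟨i, hi⟩ := ih
      by_cases hg : g < 4
      · have h := forallLt_elim (forallLt_elim coTab_ok hg) i.2
        simp only [Bool.and_eq_true, Nat.blt_eq] at h
        obtain ⟨⟨hi', -⟩, h'⟩ := h
        refine ⟨⟨_, hi'⟩, ?_⟩
        have e := (hv_iff _ _).1 h'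
        rw [hvapp, hvapp] at e
        have hg' : v [g] = π (gen g) := by simp [v, el]
        rw [hg'] at e
        have : π (gen g * y) = π (gen g) * v (rw8.getD i []) * ((v (rw8.getD i []))⁻¹ * π y) := by
          rw [map_mul]; group
        rw [this, e]
        simp only [mul_assoc, inv_mul_cancel_left]
        exact E.mul_mem (he _) hi
      · refine ⟨i, ?_⟩
        have h1 : gen g = 1 := gen_ge (by omega)
        rw [h1, one_mul]
        exact hi
  have hrr : Function.Surjective rr := fun q => by
    induction q using QuotientGroup.induction_on with | _ s => ?_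
    obtain ⟨i, hi⟩ := hcover s
    exact ⟨i, QuotientGroup.eq.2 hi⟩
  have hidx : E.index ≤ 8 := by
    rw [Subgroup.index_eq_card]
    exact (Nat.card_le_card_of_surjective rr hrr).trans_eq (Nat.card_fin 8)
  let ee : Fin 64 → E := fun j => ⟨v (ew j), he j⟩
  have hee : Function.Surjective ee := fun x => by
    obtain ⟨j, hj, e⟩ := hEform x x.2
    exact ⟨⟨j, hj⟩, Subtype.ext e.symm⟩
  have hE64 : Nat.card E ≤ 64 := (Nat.card_le_card_of_surjective ee hee).trans_eq (Nat.card_fin 64)
  have hlag := E.card_mul_index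
  rw [hS] at hlag
  have hE : Nat.card E = 64 := by nlinarith
  have hidx8 : E.index = 8 := by rw [hE] at hlag; omega
  have hrinj : Function.Injective rr :=
    ((Nat.bijective_iff_surjective_and_card rr).2 ⟨hrr, by
      rw [Nat.card_fin, ← Subgroup.index_eq_card, hidx8]⟩).1
  have heinj : Function.Injective ee :=
    ((Nat.bijective_iff_surjective_and_card ee).2 ⟨hee, by rw [Nat.card_fin, hE]⟩).1
  -- centralizers
  have hrep : ∀ x ∉ E, ∃ i : Fin 8, i.val ≠ 0 ∧ (v (rw8.getD i []))⁻¹ * x ∈ E := by
    intro x hx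
    obtain ⟨i, hi⟩ := hcover x
    refine ⟨i, fun h => hx ?_, hi⟩
    simpa [h, rw8, v, el] using hi
  have hmask : ∀ (x : P ⧸ center P) (i : Fin 8), (v (rw8.getD i []))⁻¹ * x ∈ E →
      ∀ j : Fin 64, v (ew j) ∈ centralizer {x} →
        Nat.testBit (maskTab.getD i 0) j = true := by
    intro x i hi j hj
    have h := forallLt_elim (forallLt_elim maskTab_ok i.2) j.2
    rw [Bool.or_eq_true, Bool.not_eq_true'] at h
    refine h.resolve_left fun hf => ?_
    have e : eqz (rw8.getD i [] ++ ew j) (ew j ++ rw8.getD i []) = true := by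
      rw [hv_iff, hvapp, hvapp]
      set r := v (rw8.getD i [])
      set e := v (ew j)
      have c1 : e * x = x * e := mem_centralizer_singleton_iff.1 hj
      have c2 : e * (r⁻¹ * x) = (r⁻¹ * x) * e :=
        congrArg Subtype.val (hcomm.is_comm.comm ⟨e, he j⟩ ⟨_, hi⟩)
      calc r * e = r * (e * (r⁻¹ * x)) * (r⁻¹ * x)⁻¹ := by group
        _ = x * e * x⁻¹ * r := by rw [c2]; group
        _ = e * r := by rw [← c1]; group
    rw [e] at hf
    exact Bool.noConfusion hf
  have hcount : ∀ (T : Subgroup (P ⧸ center P)) (p : ℕ → Bool), T ≤ E →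
      (∀ j : Fin 64, v (ew j) ∈ T → p j = true) → Nat.card T ≤ countLt 64 p := by
    intro T p hTE hp
    have hinv : ∀ t : T, ∃ j : Fin 64, v (ew j) = t := fun t => by
      obtain ⟨j, hj⟩ := hee ⟨t, hTE t.2⟩
      exact ⟨j, congrArg Subtype.val hj⟩
    choose f hf using hinv
    have hfm : ∀ t : T, (f t : ℕ) ∈ (Finset.range 64).filter (fun i => p i = true) := fun t =>
      Finset.mem_filter.2 ⟨Finset.mem_range.2 (f t).2, hp _ (by rw [hf]; exact t.2)⟩
    have hfi : Function.Injective fun t : T =>
        (⟨(f t : ℕ), hfm t⟩ : {i // i ∈ (Finset.range 64).filter (fun i => p i = true)}) :=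
      fun a b h => by
        have h' : f a = f b := Fin.ext (congrArg Subtype.val h)
        exact Subtype.ext ((hf a).symm.trans ((congrArg (fun j : Fin 64 => v (ew j)) h').trans (hf b)))
    refine (Nat.card_le_card_of_injective _ hfi).trans (le_of_eq ?_)
    rw [Nat.card_eq_fintype_card, Fintype.card_coe, countLt_eq]
  have hsmall := maskTab_small
  simp only [Bool.and_eq_true, Nat.ble_eq, decide_eq_true_eq] at hsmall
  have hx1 : ∀ x ∉ E, Nat.card (E ⊓ centralizer {x} : Subgroup (P ⧸ center P)) ≤ 16 := by
    intro x hx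
    obtain ⟨i, hi0, hi⟩ := hrep x hx
    have h := forallLt_elim hsmall.1 i.2
    simp only [Bool.or_eq_true, Bool.and_eq_true, Nat.beq_eq, Nat.ble_eq] at h
    exact le_trans (hcount _ _ inf_le_left fun j hj => hmask x i hi j hj.2) (h.resolve_left hi0).1
  have hx2 : ∀ x ∉ E, ∀ y ∉ E, x⁻¹ * y ∉ E →
      Nat.card (E ⊓ centralizer {x} ⊓ centralizer {y} : Subgroup (P ⧸ center P)) ≤ 8 := by
    intro x hx y hy hxy
    obtain ⟨i, hi0, hi⟩ := hrep x hx
    obtain ⟨k, hk0, hk⟩ := hrep y hy
    have hne : k.val ≠ i.val := fun h => hxy (by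
      obtain rfl := Fin.ext h
      have := E.mul_mem (E.inv_mem hi) hk
      simpa [mul_assoc] using this)
    have h := forallLt_elim hsmall.1 i.2
    simp only [Bool.or_eq_true, Bool.and_eq_true, Nat.beq_eq] at h
    have h' := forallLt_elim (h.resolve_left hi0).2 k.2
    simp only [Bool.or_eq_true, Nat.beq_eq, Nat.ble_eq] at h'
    refine le_trans (hcount _ _ (inf_le_left.trans inf_le_left) fun j hj => ?_)
      ((h'.resolve_left (not_or.2 ⟨hk0, hne⟩)))
    rw [Bool.and_eq_true]
    exact ⟨hmask x i hi j hj.1.2, hmask y k hk j hj.2⟩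
  have hx3 : Nat.card (E ⊓ center (P ⧸ center P) : Subgroup (P ⧸ center P)) ≤ 4 :=
    le_trans (hcount _ _ inf_le_left fun j hj => hmask (v (rw8.getD 2 [])) ⟨2, by norm_num⟩
      (by rw [inv_mul_cancel]; exact E.one_mem) j
      (mem_centralizer_singleton_iff.2 ((mem_center_iff.1 hj.2 _).symm))) hsmall.2
  refine ⟨fun M hM => center_le_eight hE hS hx1 hx2 M hM, E, ⟨hcomm, fun x hx => ?_⟩, hE,
    fun B hB hB64 => ?_⟩
  · exact hsq x hx
  · exact eq_of_centralizers hE hS hx1 hx2 hx3 B hB64

end CfsgLib.TwoGroups.M24Quotient
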