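import Cfsg.Agent.Lib.TwoGroups.HallFusion

/-!
Owner: helper12. Fusion in nilpotent Hall subgroups of `G` (Bender–Glauberman, Corollary 15.4).
-/

set_option autoImplicit false
set_option linter.unusedSectionVars false

namespace CfsgLib.TwoGroups.HallFusion

open Subgroup
open TauTwo (IsPair)

variable {G : Type*} [Group G] [Finite G] {H : Subgroup G}

/-- A nilpotent Hall subgroup of `G` lies in `M_σ` for some maximal `M`. -/
theorem exists_sigmaCore (hG : Cfsg.IsMinSimpleOddOrder G) (hn : Group.IsNilpotent H) (hH1 : H ≠ ⊥)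
    (hc : (Nat.card H).Coprime H.index) : ∃ M : Subgroup G, IsCoatom M ∧ H ≤ Cfsg.sigmaCore M := by
  obtain ⟨p, hp, hpd⟩ := Nat.exists_prime_and_dvd (fun e : Nat.card H = 1 => hH1 (eq_bot_of_card_eq _ e))
  have := Fact.mk hp
  obtain ⟨S⟩ : Nonempty (Sylow p H) := inferInstance
  set P := (S : Subgroup H).map H.subtype with hP
  have hSn : (S : Subgroup H).Normal :=
    ((Group.isNilpotent_of_finite_tfae (G := H)).out 0 3 rfl rfl).mp hn p ‹_› S
  have hHP : H ≤ normalizer (P : Set G) := le_normalizer_of_conj fun a ha y hy => by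
    obtain ⟨w, hw, rfl⟩ := hy
    exact ⟨⟨a, ha⟩ * w * ⟨a, ha⟩⁻¹, hSn.conj_mem w hw _, rfl⟩
  have hP1 : P ≠ ⊥ := fun e => by
    have h0 : (S : Subgroup H) = ⊥ := (map_eq_bot_iff_of_injective _ H.subtype_injective).mp e
    have := S.not_dvd_index
    rw [h0, index_bot] at this
    exact this hpd
  obtain ⟨M, hM, hNM⟩ := (eq_top_or_exists_le_coatom _).resolve_left
    (TransitivityHyp.normalizer_ne_top hG hP1 (Uniqueness.ne_top_of_pGroup hG (S.2.map H.subtype)))
  have hHM : H ≤ M := hHP.trans hNM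
  have hPM : P ≤ M := (map_subtype_le _).trans hHM
  have hcM : (Nat.card H).Coprime (H.relIndex M) :=
    hc.coprime_dvd_right (relIndex_mul_index hHM ▸ dvd_mul_right _ _)
  have hsyl : ∀ {t : ℕ} [Fact t.Prime] (T : Sylow t H), t ∣ Nat.card H →
      ¬ t ∣ ((T : Subgroup H).map H.subtype).relIndex M := by
    intro t _ T hd h
    rw [← relIndex_mul_relIndex _ H M (map_subtype_le _) hHM] at h
    rcases (Fact.out : t.Prime).dvd_mul.mp h with h1 | h1
    · rw [relIndex, subgroupOf, comap_map_eq_self_of_injective H.subtype_injective] at h1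
      exact T.not_dvd_index h1
    · exact (Fact.out : t.Prime).not_dvd_one (hcM ▸ Nat.dvd_gcd hd h1)
  have hpσ : p ∈ Cfsg.sigma M := by
    refine ⟨hp, hpd.trans (card_dvd_of_le hHM),
      IsPGroup.toSylow ((S.2.map H.subtype).comap_subtype (K := M)) (hsyl S hpd), ?_⟩
    rw [show ((IsPGroup.toSylow ((S.2.map H.subtype).comap_subtype (K := M)) (hsyl S hpd) : Sylow p M) :
      Subgroup M) = P.subgroupOf M from rfl, map_subgroupOf_eq_of_le hPM]
    exact hNM
  refine ⟨M, hM, OddLocal.SigmaEmbedding.le_sigmaCore_of_pi hG hM hHM fun t ht hd => ?_⟩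
  by_contra htσ
  have := Fact.mk ht
  have htp : t ≠ p := fun e => htσ (e ▸ hpσ)
  obtain ⟨T⟩ : Nonempty (Sylow t H) := inferInstance
  set Q := (T : Subgroup H).map H.subtype with hQ
  have hQM : Q ≤ M := (map_subtype_le _).trans hHM
  have hPO : P ≤ Cfsg.sigmaCore M := TauTwo.le_sigmaCore hG hM hpσ (S.2.map _) hPM
  have hQP : Q ≤ centralizer (P : Set G) := fun a ha => mem_centralizer_iff.mpr fun b hb => by
    obtain ⟨i, hi⟩ := IsPGroup.iff_orderOf.mp (T.2.map H.subtype) ⟨a, ha⟩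
    obtain ⟨j, hj⟩ := IsPGroup.iff_orderOf.mp (S.2.map H.subtype) ⟨b, hb⟩
    rw [← orderOf_coe] at hi hj
    exact OddLocal.commute_of_mem_nilpotent hn (map_subtype_le _ hb) (map_subtype_le _ ha) (by
      rw [show orderOf b = p ^ j from hj, show orderOf a = t ^ i from hi]
      exact ((Nat.coprime_primes hp ht).mpr htp.symm).pow j i)
  have hPHall : (Nat.card P).Coprime (P.relIndex (Cfsg.sigmaCore M)) := by
    obtain ⟨k, hk⟩ := IsPGroup.iff_card.mp (S.2.map H.subtype)
    rw [show Nat.card P = p ^ k from hk]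
    refine Nat.Coprime.pow_left _ (hp.coprime_iff_not_dvd.mpr fun h => hsyl S hpd ?_)
    rw [← relIndex_mul_relIndex P _ M hPO (TauTwo.sigmaCore_le M)]
    exact h.mul_right _
  by_cases hQc : IsCyclic Q
  · -- `t` has rank one and is in `τ₂(M)`
    obtain ⟨w, hw⟩ := exists_prime_orderOf_dvd_card' (G := Q) t (by
      rw [hQ, card_map_of_injective H.subtype_injective]
      by_contra h
      obtain ⟨k, hk⟩ := IsPGroup.iff_card.mp T.2
      rw [hk] at h
      rcases k with _ | k
      · have h2 := T.not_dvd_index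
        have h3 := Subgroup.card_mul_index (T : Subgroup H)
        rw [hk, pow_zero, one_mul] at h3
        exact h2 (h3 ▸ hd)
      · exact h (dvd_pow_self t (by omega)))
    obtain ⟨y, hy, hy1⟩ := P.bot_or_exists_ne_one.resolve_left hP1
    have hwo : orderOf (w : G) = t := by rw [orderOf_coe, hw]
    have h2 := SigmaFactor.mem_tau2 hG hM
      ⟨hQM w.2, y, hPO hy, hy1, (mem_centralizer_iff.mp (hQP w.2) y hy).symm⟩ ht hwo.symm.dvd htσ
      (not_kappa hG hM hPO hP1 hPHall (hQM w.2) (hQP w.2) ht hwo.symm.dvd)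
    exact h2.2.2.2 (OddLocal.CyclicPrimeAction.prankLE_one hQM (hsyl T hd) (T.2.map _) hQc)
  · obtain ⟨A, hA, hAQ⟩ := TauTwo.exists_isPair (r := t) fun h =>
      hQc (TauTwo.sylow_cyclic_of_rank_one hG h (T.2.map _) le_rfl)
    exact hP1 (le_bot_iff.mp ((le_inf hPO (le_centralizer_iff.mp (hAQ.trans hQP))).trans
      (TauTwo.sigma_inf_centralizer hG hM hA (hAQ.trans hQM) htσ).le))

theorem fusion_nilpotent (hG : Cfsg.IsMinSimpleOddOrder G) (hn : Group.IsNilpotent H)
    (hc : (Nat.card H).Coprime H.index) {x g : G} (hx : x ∈ H) (hy : g * x * g⁻¹ ∈ H) :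
    ∃ n ∈ normalizer (H : Set G), n * x * n⁻¹ = g * x * g⁻¹ := by
  by_cases hH1 : H = ⊥
  · subst hH1
    rw [mem_bot] at hx
    subst hx
    exact ⟨1, one_mem _, by group⟩
  obtain ⟨M, hM, hHO⟩ := exists_sigmaCore hG hn hH1 hc
  obtain ⟨n, hn', e⟩ := fusion hG hM hHO
    (hc.coprime_dvd_right (relIndex_mul_index hHO ▸ dvd_mul_right _ _)) hx hy
  exact ⟨n, hn'.2, e⟩

end CfsgLib.TwoGroups.HallFusion
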