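import Cfsg.Agent.Lib.TwoGroups.NonNilpotentCore

/-!
Owner: helper12. Conclusions for a non-nilpotent `M_σ` (Bender–Glauberman, Theorem 15.2).
-/

set_option autoImplicit false
set_option linter.unusedSectionVars false

namespace CfsgLib.TwoGroups.NonNilpotent

open Subgroup
open scoped commutatorElement

variable {G : Type*} [Group G] [Finite G] {M K U Q D : Subgroup G}

theorem exists_mul_of_sup {H N : Subgroup G} (h : H ≤ normalizer (N : Set G)) {x : G} (hx : x ∈ H ⊔ N) :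
    ∃ n ∈ N, ∃ a ∈ H, x = n * a :=
  (Core.mem_sup_iff_mul' h).mp hx

/-- The data `Q`, `D`. -/
structure Pair (M K U Q D : Subgroup G) : Prop where
  setup : Setup M K U
  le : Q ≤ Cfsg.sigmaCore M
  normal : M ≤ normalizer (Q : Set G)
  isp : IsPGroup (Nat.card ↥(star M K)) Q
  sylow : ¬ Nat.card ↥(star M K) ∣ Q.relIndex (Cfsg.sigmaCore M)
  star_le : star M K ≤ Q
  nilp : ∀ C : Subgroup G, C ≤ Cfsg.sigmaCore M → C ⊓ Q ≤ centralizer (C : Set G) → Group.IsNilpotent C
  compl : Cfsg.IsComplIn Q D (Cfsg.sigmaCore M)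
  invariant : K ≤ normalizer (D : Set G)

theorem card_complement (d : Cfsg.IsComplIn Q D (Cfsg.sigmaCore M)) (hn : M ≤ normalizer (Q : Set G)) :
    Nat.card (Cfsg.sigmaCore M) = Nat.card D * Nat.card Q := by
  have hDn : D ≤ normalizer (Q : Set G) := d.2.1.trans ((TauTwo.sigmaCore_le M).trans hn)
  have he : Cfsg.sigmaCore M = D ⊔ Q := le_antisymm (fun m hm => by
    obtain ⟨a, ha, b, hb, rfl⟩ := d.2.2.2 m hm
    exact mul_mem (mem_sup_right ha) (mem_sup_left hb)) (sup_le d.2.1 d.1)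
  rw [he, Core.card_sup_of_disjoint D Q hDn (by rw [inf_comm]; exact d.2.2.1)]

theorem coprime_complement {q : ℕ} (hq : q.Prime) (hQ : IsPGroup q Q) (hQO : Q ≤ Cfsg.sigmaCore M)
    (hsyl : ¬ q ∣ Q.relIndex (Cfsg.sigmaCore M)) (hn : M ≤ normalizer (Q : Set G))
    (d : Cfsg.IsComplIn Q D (Cfsg.sigmaCore M)) : ¬ q ∣ Nat.card D := by
  intro hd
  refine hsyl ?_
  have h1 : Nat.card Q * Q.relIndex (Cfsg.sigmaCore M) = Nat.card Q * Nat.card D := by
    rw [← relIndex_bot_left Q, relIndex_mul_relIndex ⊥ Q _ bot_le hQO, relIndex_bot_left, relIndex_bot_left,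
      card_complement d hn, mul_comm]
  rw [Nat.eq_of_mul_eq_mul_left Nat.card_pos h1]
  exact hd

/-- There is a pair. -/
theorem exists_pair (s : Setup M K U) : ∃ Q D : Subgroup G, Pair M K U Q D := by
  obtain ⟨Q, hQO, hQn, hQp, hsyl, hstar, hnil⟩ := s.exists_Q
  set O := Cfsg.sigmaCore M
  set q := Nat.card ↥(star M K)
  have := Fact.mk s.hq
  have hOM : O ≤ M := TauTwo.sigmaCore_le M
  have hOs : Group.IsSolvable O := CfsgLib.Core.isSolvable_of_le (s.hG.2.2.2 M s.hM.1) hOM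
  obtain ⟨⟨D, hD, hKD⟩, -, -⟩ := Cfsg.Agent.S3745.result K O
    (s.dec.hall.1.trans (TauTwo.le_normalizer_sigmaCore M)) s.coprime_K hOs {t | t.Prime ∧ t ≠ q}
  have hDQ : D ≤ normalizer (Q : Set G) := hD.1.trans (hOM.trans hQn)
  refine ⟨Q, D, s, hQO, hQn, hQp, hsyl, hstar, hnil, ⟨hQO, hD.1, ?_, fun m hm => ?_⟩, hKD⟩
  · refine inf_eq_bot_of_coprime (Nat.coprime_of_dvd fun t ht h1 h2 => (hD.2.1 t ht h2).2 ?_)
    obtain ⟨k, hk⟩ := IsPGroup.iff_card.mp hQp
    exact (Nat.prime_dvd_prime_iff_eq ht s.hq).mp (ht.dvd_of_dvd_pow (hk ▸ h1))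
  · have hle : O ≤ D ⊔ Q := relIndex_eq_one.mp (by_contra fun hne => by
      obtain ⟨t, ht, htd⟩ := Nat.exists_prime_and_dvd hne
      by_cases htq : t = q
      · refine hsyl ?_
        rw [← relIndex_mul_relIndex Q (D ⊔ Q) O le_sup_right (sup_le hD.1 hQO)]
        exact (htq ▸ htd).mul_left _
      · refine hD.2.2 t ht ⟨ht, htq⟩ ?_
        rw [← relIndex_mul_relIndex D (D ⊔ Q) O le_sup_left (sup_le hD.1 hQO)]
        exact htd.mul_left _)
    exact exists_mul_of_sup hDQ (hle hm)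

namespace Pair

variable (d : Pair M K U Q D)
include d

theorem fact : Fact (Nat.card ↥(star M K)).Prime := ⟨d.setup.hq⟩

theorem leM : Q ≤ M := d.le.trans (TauTwo.sigmaCore_le M)

theorem D_leM : D ≤ M := d.compl.2.1.trans (TauTwo.sigmaCore_le M)

theorem sigma_le_sup : Cfsg.sigmaCore M ≤ D ⊔ Q := fun m hm => by
  obtain ⟨a, ha, b, hb, rfl⟩ := d.compl.2.2.2 m hm
  exact mul_mem (mem_sup_right ha) (mem_sup_left hb)

theorem not_dvd_D : ¬ Nat.card ↥(star M K) ∣ Nat.card D :=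
  coprime_complement d.setup.hq d.isp d.le d.sylow d.normal d.compl

theorem not_dvd_K : ¬ Nat.card ↥(star M K) ∣ Nat.card K := fun h =>
  (d.setup.dec.hall.2.1 _ d.setup.hq h).2.2.1 d.setup.q_mem_sigma

theorem nilpotent_D : Group.IsNilpotent D := d.nilp D d.compl.2.1 (by rw [inf_comm, d.compl.2.2.1]; exact bot_le)

theorem K_fpf {k : G} (hk : k ∈ K) (hk1 : k ≠ 1) {x : G} (hx : x ∈ D) (hc : k * x = x * k) : x = 1 := by
  have h1 : x ∈ star M K := (d.setup.fixed hk hk1).le ⟨d.compl.2.1 hx, mem_centralizer_singleton_iff.mpr hc.symm⟩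
  exact mem_bot.mp (d.compl.2.2.1.le ⟨d.star_le h1, hx⟩)

/-- The Sylow subgroup is not centralised by `D`. -/
theorem not_centralizes : ¬ Q ≤ centralizer (D : Set G) := fun hc => by
  refine d.setup.hn ?_
  have := d.nilpotent_D
  have := d.fact
  have : Group.IsNilpotent Q := d.isp.isNilpotent
  have h := Core.isNilpotent_sup_of_commute D Q fun a ha b hb => mem_centralizer_iff.mp (hc hb) a ha
  exact Group.nilpotent_of_mulEquiv
    (MulEquiv.subgroupCongr (le_antisymm (sup_le d.compl.2.1 d.le) d.sigma_le_sup))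

/-- The fixed point formula. -/
theorem formula {N R : Subgroup G} (hNQ : N ≤ Q) (hDN : D ≤ normalizer (N : Set G))
    (hKN : K ≤ normalizer (N : Set G)) (hR : R ≤ K) :
    Nat.card ↥(N ⊓ centralizer ((D ⊔ R : Subgroup G) : Set G)) ^ Nat.card R * Nat.card N =
      Nat.card ↥(N ⊓ centralizer (R : Set G)) ^ Nat.card R * Nat.card ↥(N ⊓ centralizer (D : Set G)) := by
  have := d.fact
  have hRD : R ≤ normalizer (D : Set G) := hR.trans d.invariant
  refine CfsgLib.FrobFix.formula_subgroup D R N ?_ (fun e he u hu => (mem_normalizer_iff.mp (hRD he) u).mp hu)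
    (fun e he he1 u hu hc => d.K_fpf (hR he) he1 hu hc)
    (fun x hx h hh => (mem_normalizer_iff.mp ((sup_le hDN (hR.trans hKN)) hx) h).mp hh) ?_ ?_
  · exact le_bot_iff.mp ((inf_le_inf d.compl.2.1 hR).trans
      (le_of_eq (by rw [inf_comm]; exact d.setup.compl.2.2.1)))
  · have : Group.IsNilpotent N := (d.isp.to_le hNQ).isNilpotent
    infer_instance
  · obtain ⟨k, hk⟩ := IsPGroup.iff_card.mp (d.isp.to_le hNQ)
    rw [hk]
    refine Nat.Coprime.pow_left k (d.setup.hq.coprime_iff_not_dvd.mpr fun h => ?_)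
    rw [sup_comm] at h
    rcases d.setup.hq.dvd_mul.mp (h.trans (Core.card_sup_dvd R D hRD)) with h | h
    · exact d.not_dvd_K (h.trans (card_dvd_of_le hR))
    · exact d.not_dvd_D h

theorem star_inf_centralizer : star M K ⊓ centralizer (D : Set G) = ⊥ := by
  refine (d.setup.star_cases _).resolve_right fun hle => d.not_centralizes ?_
  have hf := d.formula le_rfl (d.D_leM.trans d.normal) (d.setup.dec.hall.1.trans d.normal) le_rfl
  have h1 : Q ⊓ centralizer (K : Set G) = star M K :=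
    le_antisymm (inf_le_inf_right _ d.le) (le_inf d.star_le inf_le_right)
  have h2 : Q ⊓ centralizer ((D ⊔ K : Subgroup G) : Set G) = star M K := by
    refine le_antisymm ((inf_le_inf_left _ (Subgroup.centralizer_le (SetLike.coe_subset_coe.mpr le_sup_right))).trans h1.le)
      (le_inf d.star_le ?_)
    exact le_centralizer_iff.mp (sup_le (le_centralizer_iff.mp hle) (le_centralizer_iff.mp inf_le_right))
  rw [h1, h2] at hf
  have h3 := Nat.eq_of_mul_eq_mul_left (pow_pos Nat.card_pos _) hf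
  exact (eq_of_le_of_card_ge inf_le_left h3.le).ge.trans inf_le_right

/-- The order of an invariant subgroup of `Q`. -/
theorem card_eq {N R : Subgroup G} (hNQ : N ≤ Q) (hDN : D ≤ normalizer (N : Set G))
    (hKN : K ≤ normalizer (N : Set G)) (hR : R ≤ K) (hR1 : R ≠ ⊥) :
    Nat.card N = Nat.card ↥(N ⊓ star M K) ^ Nat.card R * Nat.card ↥(N ⊓ centralizer (D : Set G)) := by
  have hf := d.formula hNQ hDN hKN hR
  have h0 : N ⊓ centralizer (R : Set G) = N ⊓ star M K := by
    refine le_antisymm (le_inf inf_le_left ?_) (inf_le_inf_left _ (inf_le_right.trans (Subgroup.centralizer_le hR)))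
    exact ((inf_le_inf_right _ (hNQ.trans d.le)).trans (d.setup.fixed_sub hR hR1).le)
  have h1 : N ⊓ centralizer ((D ⊔ R : Subgroup G) : Set G) = ⊥ := by
    rw [eq_bot_iff, ← d.star_inf_centralizer]
    refine le_inf ?_ (inf_le_right.trans (Subgroup.centralizer_le (SetLike.coe_subset_coe.mpr le_sup_left)))
    exact ((inf_le_inf_left _ (Subgroup.centralizer_le (SetLike.coe_subset_coe.mpr le_sup_right))).trans h0.le).trans inf_le_right
  rw [h1, card_bot, one_pow, one_mul, h0] at hf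
  exact hf

theorem inf_star : Q ⊓ star M K = star M K := inf_eq_right.mpr d.star_le

/-- `K` has prime order. -/
theorem card_K_prime : (Nat.card K).Prime := by
  obtain ⟨p, hp, hpd⟩ := Nat.exists_prime_and_dvd
    (fun e : Nat.card K = 1 => d.setup.hK (eq_bot_of_card_eq _ e))
  have := Fact.mk hp
  obtain ⟨r, hr⟩ := exists_prime_orderOf_dvd_card' (G := K) p hpd
  set R := zpowers (r : G)
  have hRc : Nat.card R = p := by rw [Nat.card_zpowers, Subgroup.orderOf_coe, hr]
  have hRK : R ≤ K := zpowers_le.mpr r.2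
  have hR1 : R ≠ ⊥ := fun e => hp.ne_one (by rw [← hRc, e, card_bot])
  have hDN := d.D_leM.trans d.normal
  have hKN := d.setup.dec.hall.1.trans d.normal
  have h := (d.card_eq le_rfl hDN hKN le_rfl d.setup.hK).symm.trans (d.card_eq le_rfl hDN hKN hRK hR1)
  rw [d.inf_star] at h
  rw [Nat.pow_right_injective d.setup.hq.two_le (Nat.eq_of_mul_eq_mul_right Nat.card_pos h), hRc]
  exact hp

/-- `|Q| = |C_Q(D)| q ^ p`. -/
theorem card_Q : Nat.card Q =
    Nat.card ↥(Q ⊓ centralizer (D : Set G)) * Nat.card ↥(star M K) ^ Nat.card K := by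
  rw [d.card_eq le_rfl (d.D_leM.trans d.normal) (d.setup.dec.hall.1.trans d.normal) le_rfl d.setup.hK,
    d.inf_star, mul_comm]

theorem frattini_le : (frattini Q).map Q.subtype ≤ centralizer (D : Set G) := by
  set Φ := (frattini Q).map Q.subtype with hΦ
  set Q₀ := Q ⊓ centralizer (D : Set G) with hQ₀
  have hΦQ : Φ ≤ Q := map_subtype_le _
  have hΦn : M ≤ normalizer (Φ : Set G) := fun m hm => by
    exact OddLocal.PLengthEndgame.normalizer_le_char Q (frattini Q) (d.normal hm)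
  have hc := d.card_eq hΦQ (d.D_leM.trans hΦn) (d.setup.dec.hall.1.trans hΦn) le_rfl d.setup.hK
  rcases d.setup.star_cases Φ with h | h
  · rw [inf_comm] at h
    rw [h, card_bot, one_pow, one_mul] at hc
    exact (eq_of_le_of_card_ge inf_le_left hc.le).ge.trans inf_le_right
  exfalso
  rw [inf_eq_right.mpr h] at hc
  have hinf : Φ ⊓ centralizer (D : Set G) = Q₀ ⊓ Φ :=
    le_antisymm (le_inf (inf_le_inf_right _ hΦQ) inf_le_left) (le_inf inf_le_right (inf_le_left.trans inf_le_right))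
  rw [hinf] at hc
  have hsup := Core.card_sup_mul_card_inf Q₀ Φ ((inf_le_left.trans d.leM).trans hΦn)
  have hQc : Nat.card ↥(Q₀ ⊔ Φ) = Nat.card Q := by
    refine Nat.eq_of_mul_eq_mul_right (Nat.card_pos (α := ↥(Q₀ ⊓ Φ))) ?_
    rw [hsup, hc, d.card_Q]
    ring
  have heq : Q₀ ⊔ Φ = Q := eq_of_le_of_card_ge (sup_le inf_le_left hΦQ) hQc.ge
  have htop : Q₀.subgroupOf Q ⊔ frattini Q = ⊤ := by
    refine map_injective Q.subtype_injective ?_
    rw [Subgroup.map_sup, map_subgroupOf_eq_of_le inf_le_left, ← MonoidHom.range_eq_map, range_subtype]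
    exact heq
  have := frattini_nongenerating htop
  rw [subgroupOf_eq_top] at this
  exact d.not_centralizes (this.trans inf_le_right)

theorem pow_mem {a : G} (ha : a ∈ Q) : a ^ Nat.card ↥(star M K) ∈ Q ⊓ centralizer (D : Set G) := by
  have := d.fact
  refine ⟨Q.pow_mem ha _, d.frattini_le ⟨(⟨a, ha⟩ : Q) ^ Nat.card ↥(star M K), ?_, rfl⟩⟩
  exact CfsgLib.PGroups.pow_mem_frattini d.isp _

theorem comm_mem {a b : G} (ha : a ∈ Q) (hb : b ∈ Q) :
    a * b * a⁻¹ * b⁻¹ ∈ Q ⊓ centralizer (D : Set G) := by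
  have := d.fact
  refine ⟨Q.mul_mem (Q.mul_mem (Q.mul_mem ha hb) (Q.inv_mem ha)) (Q.inv_mem hb),
    d.frattini_le ⟨⁅(⟨a, ha⟩ : Q), ⟨b, hb⟩⁆, ?_, rfl⟩⟩
  exact CfsgLib.PGroups.commutator_le_frattini' d.isp (commutator_mem_commutator (mem_top _) (mem_top _))

theorem Q_le_normalizer : Q ≤ normalizer ((Q ⊓ centralizer (D : Set G) : Subgroup G) : Set G) :=
  le_normalizer_iff_commutator_le_right.mpr
    (commutator_le.mpr fun a ha b hb => d.comm_mem ha hb.1)

theorem normalizer_Q₀ : M ≤ normalizer ((Q ⊓ centralizer (D : Set G) : Subgroup G) : Set G) := by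
  have key : ∀ g : G, g ∈ normalizer (Q : Set G) → g ∈ normalizer (centralizer (D : Set G) : Set G) →
      g ∈ normalizer ((Q ⊓ centralizer (D : Set G) : Subgroup G) : Set G) := fun g h1 h2 =>
    mem_normalizer_iff.mpr fun x => and_congr ((mem_normalizer_iff.mp h1) x) ((mem_normalizer_iff.mp h2) x)
  intro m hm
  obtain ⟨k, hk, o, ho, rfl⟩ := d.setup.compl.2.2.2 m hm
  obtain ⟨a, ha, b, hb, rfl⟩ := d.compl.2.2.2 o ho
  refine mul_mem ?_ (mul_mem (d.Q_le_normalizer ha) ?_)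
  · exact key k (d.normal (d.setup.dec.hall.1 hk)) (TauTwo.le_normalizer_centralizer D (d.invariant hk))
  · exact key b (d.normal (d.D_leM hb)) (TauTwo.le_normalizer_centralizer D (le_normalizer hb))

/-- `Q / C_Q(D)` is a chief factor of `M`. -/
theorem minimal {N : Subgroup G} (h1 : Q ⊓ centralizer (D : Set G) < N) (h2 : N < Q) :
    ¬ M ≤ normalizer (N : Set G) := by
  intro hn
  have hc := d.card_eq h2.le (d.D_leM.trans hn) (d.setup.dec.hall.1.trans hn) le_rfl d.setup.hK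
  rw [show N ⊓ centralizer (D : Set G) = Q ⊓ centralizer (D : Set G) from
    le_antisymm (inf_le_inf_right _ h2.le) (le_inf h1.le inf_le_right)] at hc
  rcases d.setup.star_cases N with h | h
  · rw [inf_comm] at h
    rw [h, card_bot, one_pow, one_mul] at hc
    exact h1.ne (eq_of_le_of_card_ge h1.le hc.le)
  · rw [inf_eq_right.mpr h, mul_comm, ← d.card_Q] at hc
    exact h2.ne (eq_of_le_of_card_ge h2.le hc.ge)

theorem Q₀_lt : Q ⊓ centralizer (D : Set G) < Q :=
  lt_of_le_of_ne inf_le_left fun e => d.not_centralizes (inf_eq_left.mp e)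

/-- `q ∈ β(M)`. -/
theorem mem_beta : Nat.card ↥(star M K) ∈ Cfsg.beta M := by
  by_contra hβ
  have := d.fact
  set q := Nat.card ↥(star M K)
  have hDer := d.setup.derived
  have hDn := OddLocal.BetaCore.complement_derived d.setup.hG d.setup.hM hβ
  set W := ⁅M, M⁆ with hW
  set N := (Cfsg.pPrimeCore q W).map W.subtype with hN
  have hDW : D ≤ W := hDer.symm ▸ d.compl.2.1
  have hQW : Q ≤ W := hDer.symm ▸ d.le
  have hDN : D ≤ N := by
    refine (map_subgroupOf_eq_of_le hDW).ge.trans (map_mono ?_)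
    refine OddLocal.BetaCore.le_pPrimeCore_of_complement hDn ?_
    rw [Nat.card_congr (subgroupOfEquivOfLe hDW).toEquiv]
    exact (d.setup.hq.coprime_iff_not_dvd.mpr d.not_dvd_D).symm
  have hQN : Q ≤ normalizer (N : Set G) := fun x hx => le_normalizer_map W.subtype
    ⟨⟨x, hQW hx⟩, Core.le_normalizer_of_normal ⊤ (Cfsg.pPrimeCore q W) (mem_top _), rfl⟩
  have hNQ : N ≤ normalizer (Q : Set G) := (map_subtype_le _).trans ((commutator_le_self M).trans d.normal)
  have hcop : (Nat.card N).Coprime (Nat.card Q) := by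
    obtain ⟨k, hk⟩ := IsPGroup.iff_card.mp d.isp
    rw [hk, hN, card_map_of_injective W.subtype_injective]
    exact (Core.coprime_card_pPrimeCore q W).pow_right k
  refine d.not_centralizes ((commutator_eq_bot_iff_le_centralizer.mp (le_bot_iff.mp ((le_inf ?_ ?_).trans
      (inf_eq_bot_of_coprime hcop).le))).trans (Subgroup.centralizer_le hDN))
  · exact le_normalizer_iff_commutator_le_right.mp hQN
  · exact le_normalizer_iff_commutator_le_left.mp hNQ

/-- `Q ≤ M_F`. -/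
theorem le_fittingHall : Q ≤ Cfsg.fittingHallOf M := by
  have := d.fact
  refine FittingStructure.le_fittingHallOf d.leM d.normal d.isp.isNilpotent ?_
  obtain ⟨k, hk⟩ := IsPGroup.iff_card.mp d.isp
  rw [hk]
  refine Nat.Coprime.pow_left k (d.setup.hq.coprime_iff_not_dvd.mpr ?_)
  rw [← relIndex_mul_relIndex Q (Cfsg.sigmaCore M) M d.le (TauTwo.sigmaCore_le M), d.setup.hq.dvd_mul]
  push Not
  exact ⟨d.sylow, (OddLocal.SigmaCore.sigmaCore_hall d.setup.hG d.setup.hM).1.2.2 _ d.setup.hq d.setup.q_mem_sigma⟩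

/-- `M' / M_F` is nilpotent. -/
theorem quotient_nilpotent :
    Group.IsNilpotent ↥((commutator ↥M).map (QuotientGroup.mk' (Cfsg.fittingHall ↥M))) := by
  set π := QuotientGroup.mk' (Cfsg.fittingHall ↥M)
  have heq : (commutator ↥M).map π = (D.subgroupOf M).map π := by
    refine le_antisymm ?_ ?_
    · rintro _ ⟨x, hx, rfl⟩
      have hxO : (x : G) ∈ Cfsg.sigmaCore M := by
        rw [← d.setup.derived, ← map_subtype_commutator]
        exact ⟨x, hx, rfl⟩
      obtain ⟨a, ha, b, hb, e⟩ := d.compl.2.2.2 _ hxO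
      refine ⟨⟨b, d.D_leM hb⟩, mem_subgroupOf.mpr hb, ?_⟩
      obtain ⟨f, hf, hfa⟩ := d.le_fittingHall ha
      have hx' : x = f * ⟨b, d.D_leM hb⟩ := Subtype.ext (by
        rw [Subgroup.coe_mul]
        exact e.trans (congrArg (· * b) hfa.symm))
      rw [hx', map_mul, show π f = 1 from (QuotientGroup.eq_one_iff f).mpr hf, one_mul]
    · refine map_mono fun x hx => ?_
      have h1 : (x : G) ∈ ⁅M, M⁆ := d.setup.derived ▸ d.compl.2.1 (mem_subgroupOf.mp hx)
      rw [← map_subtype_commutator] at h1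
      obtain ⟨y, hy, e⟩ := h1
      exact M.subtype_injective e ▸ hy
  have := d.nilpotent_D
  have : Group.IsNilpotent (D.subgroupOf M) := Group.nilpotent_of_mulEquiv (subgroupOfEquivOfLe d.D_leM).symm
  rw [heq]
  exact Core.isNilpotent_map π _

/-- `C_M(M_F) ≤ M_σ`. -/
theorem centralizer_le : M ⊓ centralizer (Cfsg.fittingHallOf M : Set G) ≤ Cfsg.sigmaCore M := by
  have hG := d.setup.hG
  have hM := d.setup.hM
  intro x hx
  refine HallGen.mem_of_primePow_parts _ x fun w hw t j ht hto => ?_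
  have hwC := (zpowers_le.mpr hx : _ ≤ M ⊓ centralizer (Cfsg.fittingHallOf M : Set G)) hw
  have := Fact.mk ht
  by_cases hσ : t ∈ Cfsg.sigma M
  · exact TauTwo.le_sigmaCore hG hM hσ (IsPGroup.of_card (n := j) (by rw [Nat.card_zpowers, hto]))
      (zpowers_le.mpr hwC.1) (mem_zpowers w)
  rcases Nat.eq_zero_or_pos j with rfl | hj
  · rw [orderOf_eq_one_iff.mp (hto.trans (pow_zero t))]; exact one_mem _
  exfalso
  set z := w ^ (orderOf w / t) with hz
  have htd : t ∣ orderOf w := hto ▸ dvd_pow_self t hj.ne'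
  have hzo : orderOf z = t := orderOf_pow_orderOf_div (orderOf_pos w).ne' htd
  set X := zpowers z with hX
  have hXM : X ≤ M := zpowers_le.mpr (Subgroup.pow_mem _ hwC.1 _)
  have hXc : Nat.card X = t := by rw [hX, Nat.card_zpowers, hzo]
  have htM : t ∣ Nat.card M := hXc ▸ card_dvd_of_le hXM
  have htκ : t ∈ Cfsg.kappa M := by
    by_contra hκ
    refine (OddLocal.Kappa.hall_of_compl hG hM d.setup.dec.hall d.setup.dec.compl).2.2 t ht ⟨ht, hκ, hσ⟩ ?_
    rwa [d.setup.hU, relIndex_bot_left]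
  have : Group.IsSolvable M := hG.2.2.2 M hM.1
  obtain ⟨m, hm⟩ := Core.exists_conj_le_piHall (G := ↥M) (π := Cfsg.kappa M) (H := K.subgroupOf M)
    (K := X.subgroupOf M) ⟨fun s hs hsd => d.setup.dec.hall.2.1 s hs (by
      rwa [Nat.card_congr (subgroupOfEquivOfLe d.setup.dec.hall.1).toEquiv] at hsd), fun s hs hsπ =>
      d.setup.dec.hall.2.2 s hs hsπ⟩
    fun s hs hsd => by
      rw [Nat.card_congr (subgroupOfEquivOfLe hXM).toEquiv, hXc] at hsd
      rwa [(Nat.prime_dvd_prime_iff_eq hs ht).mp hsd]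
  set k := (m : G) * z * (m : G)⁻¹ with hk
  have hkK : k ∈ K := by
    have h1 : m * ⟨z, hXM (mem_zpowers z)⟩ * m⁻¹ ∈ K.subgroupOf M :=
      hm (Subgroup.smul_mem_pointwise_smul _ _ _ (mem_subgroupOf.mpr (mem_zpowers z)))
    exact mem_subgroupOf.mp h1
  have hk1 : k ≠ 1 := fun e => ht.ne_one (by
    rw [← hzo, conj_eq_one_iff.mp (hk ▸ e : (m : G) * z * (m : G)⁻¹ = 1), orderOf_one])
  have hzC : z ∈ centralizer (Q : Set G) :=
    Subgroup.centralizer_le d.le_fittingHall (Subgroup.pow_mem _ hwC.2 _)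
  have hkC : k ∈ centralizer (Q : Set G) :=
    (mem_normalizer_iff.mp (TauTwo.le_normalizer_centralizer Q (d.normal m.2)) z).mp hzC
  have hQs : Q ≤ star M K := fun y hy => (d.setup.fixed hkK hk1).le
    ⟨d.le hy, mem_centralizer_singleton_iff.mpr (mem_centralizer_iff.mp hkC y hy)⟩
  have h2 := card_dvd_of_le hQs
  rw [d.card_Q] at h2
  have h3 : Nat.card ↥(star M K) ^ Nat.card K ∣ Nat.card ↥(star M K) ^ 1 := by
    rw [pow_one]; exact (dvd_mul_left _ _).trans h2
  exact absurd ((Nat.pow_dvd_pow_iff_le_right d.setup.hq.one_lt).mp h3) (Nat.not_le.mpr d.card_K_prime.one_lt)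

theorem fitting_eq : Cfsg.fittingOf M =
    (M ⊓ centralizer (Cfsg.fittingHallOf M : Set G)) ⊔ Cfsg.fittingHallOf M := by
  refine le_antisymm (FittingStructure.fitting_le M) (sup_le ?_ (FittingStructure.fittingHallOf_le_fittingOf M))
  refine OddLocal.FittingSigma.le_fittingOf inf_le_left (fun m hm => ?_) ?_
  · exact mem_normalizer_iff.mpr fun x => and_congr ((mem_normalizer_iff.mp (le_normalizer hm)) x)
      ((mem_normalizer_iff.mp (TauTwo.le_normalizer_centralizer _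
        (FittingStructure.le_normalizer_fittingHallOf M hm))) x)
  · exact d.nilp _ d.centralizer_le fun y hy => mem_centralizer_iff.mpr fun c hc =>
      (mem_centralizer_iff.mp hc.2 y (d.le_fittingHall hy.2)).symm

/-- `D'` centralises `Q`. -/
theorem derived_centralizes : ⁅D, D⁆ ≤ centralizer (Q : Set G) := by
  have := d.fact
  set q := Nat.card ↥(star M K) with hq
  set Q₀ := Q ⊓ centralizer (D : Set G) with hQ₀
  have hQ₀Q : Q₀ ≤ Q := inf_le_left
  have hQ₀M : Q₀ ≤ M := hQ₀Q.trans d.leM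
  have hQ₀p : IsPGroup q Q₀ := d.isp.to_le hQ₀Q
  set Q₀' := Q₀.subgroupOf M with hQ₀'
  have : Q₀'.Normal := (normal_subgroupOf_iff_le_normalizer hQ₀M).mpr d.normalizer_Q₀
  let π := QuotientGroup.mk' Q₀'
  have hπ : ∀ x : M, π x = 1 ↔ (x : G) ∈ Q₀ := fun x => (QuotientGroup.eq_one_iff x).trans mem_subgroupOf
  obtain ⟨r₀, hr₀⟩ : ∃ r : K, (r : G) ≠ 1 := by
    obtain ⟨r, hr, hr1⟩ := K.bot_or_exists_ne_one.resolve_left d.setup.hK
    exact ⟨⟨r, hr⟩, hr1⟩
  have hKp := d.card_K_prime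
  set p := Nat.card K with hp
  have hro : orderOf (r₀ : G) = p := ((Nat.dvd_prime hKp).mp (Subgroup.orderOf_dvd_natCard K r₀.2)).resolve_left
    fun e => hr₀ (orderOf_eq_one_iff.mp e)
  set rM : M := ⟨r₀, d.setup.dec.hall.1 r₀.2⟩
  set R := zpowers (r₀ : G) with hR
  have hRK : R ≤ K := zpowers_le.mpr r₀.2
  have hRc : Nat.card R = p := by rw [hR, Nat.card_zpowers, hro]
  have hpq : p ≠ q := fun e => d.not_dvd_K (by rw [← hq, ← e, hp])
  have hcopR : (Nat.card R).Coprime (Nat.card Q₀) := by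
    obtain ⟨k, hk⟩ := IsPGroup.iff_card.mp hQ₀p
    rw [hRc, hk]
    exact Nat.Coprime.pow_right k ((Nat.coprime_primes hKp d.setup.hq).mpr hpq)
  have hcopD : (Nat.card D).Coprime (Nat.card Q₀) := by
    obtain ⟨k, hk⟩ := IsPGroup.iff_card.mp hQ₀p
    rw [hk]
    exact Nat.Coprime.pow_right k (d.setup.hq.coprime_iff_not_dvd.mpr d.not_dvd_D).symm
  have hQ₀s : Group.IsSolvable Q₀ := by have := hQ₀p.isNilpotent; infer_instance
  -- lifting fixed points
  have lift : ∀ (A : Subgroup G), A ≤ M → (Nat.card A).Coprime (Nat.card Q₀) → ∀ x : M,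
      (∀ a : M, (a : G) ∈ A → π a * π x = π x * π a) →
      ∃ n ∈ Q₀, (x : G) * n ∈ centralizer (A : Set G) := by
    intro A hA hc x hx
    refine Core.exists_centralizing_in_coset (hA.trans d.normalizer_Q₀) hc (Or.inr hQ₀s) fun a ha => ?_
    have h3 : π (x⁻¹ * (⟨a, hA ha⟩ * x * (⟨a, hA ha⟩ : M)⁻¹)) = 1 := by
      rw [map_mul, map_mul, map_mul, hx ⟨a, hA ha⟩ ha, map_inv, map_inv, mul_inv_cancel_right, inv_mul_cancel]
    exact (hπ _).mp h3
  set Db := (D.subgroupOf M).map π with hDb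
  set Qb := (Q.subgroupOf M).map π with hQb
  have hQbn : ∀ m : M, π m ∈ normalizer (Qb : Set (M ⧸ Q₀')) := fun m => by
    have : (Q.subgroupOf M).Normal := (normal_subgroupOf_iff_le_normalizer d.leM).mpr d.normal
    have : Qb.Normal := Subgroup.Normal.map inferInstance π (QuotientGroup.mk'_surjective _)
    exact Core.le_normalizer_of_normal ⊤ Qb (mem_top _)
  have hrbp : π rM ^ p = 1 := by
    rw [← map_pow, show rM ^ p = 1 from Subtype.ext (hro ▸ pow_orderOf_eq_one (r₀ : G)), map_one]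
  have hcomm_r : ∀ x : M, π rM * π x = π x * π rM → ∀ a : M, (a : G) ∈ R → π a * π x = π x * π a := by
    intro x hx a ha
    obtain ⟨i, hi⟩ := mem_zpowers_iff.mp ha
    rw [show a = rM ^ i from Subtype.ext hi.symm, map_zpow]
    exact ((show Commute (π rM) (π x) from hx).zpow_left i).eq
  have hcard : Nat.card Db ∣ Nat.card D :=
    (card_map_dvd _ _).trans (Nat.card_congr (subgroupOfEquivOfLe d.D_leM).toEquiv).dvd
  have hQbc : Nat.card Qb ∣ Nat.card Q :=
    (card_map_dvd _ _).trans (Nat.card_congr (subgroupOfEquivOfLe d.leM).toEquiv).dvd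
  have hpD : (Nat.card D).Coprime p :=
    (d.setup.coprime_K.coprime_dvd_right (card_dvd_of_le d.compl.2.1)).symm
  have key := OddLocal.FrobeniusNilpotent.commutator_le_centralizer hKp Db (π rM) hrbp ?_ ?_
    (hpD.coprime_dvd_left hcard) (Nat.card Qb) Qb le_rfl ?_ ?_ ?_ (hQbn rM) ?_ ?_
  rotate_left
  · rintro _ ⟨x, hx, rfl⟩
    refine ⟨rM * x * rM⁻¹, mem_subgroupOf.mpr ((mem_normalizer_iff.mp (d.invariant r₀.2) _).mp
      (mem_subgroupOf.mp hx)), by rw [map_mul, map_mul, map_inv]⟩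
  · rintro _ ⟨x, hx, rfl⟩ hc
    obtain ⟨n, hn, hnc⟩ := lift R (hRK.trans d.setup.dec.hall.1) hcopR x (hcomm_r x hc)
    refine (hπ x).mpr ?_
    have h1 : (x : G) * n ∈ star M K := by
      rw [← d.setup.fixed_sub hRK (fun e => hr₀ (zpowers_eq_bot.mp e))]
      exact ⟨mul_mem (d.compl.2.1 (mem_subgroupOf.mp hx)) (d.le (hQ₀Q hn)), hnc⟩
    have h2 : (x : G) ∈ Q := by simpa using mul_mem (d.star_le h1) (inv_mem (hQ₀Q hn))
    rw [mem_bot.mp (d.compl.2.2.1.le ⟨h2, mem_subgroupOf.mp hx⟩)]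
    exact one_mem _
  · have : Group.IsNilpotent Q := d.isp.isNilpotent
    have : Group.IsNilpotent (Q.subgroupOf M) :=
      Group.nilpotent_of_mulEquiv (subgroupOfEquivOfLe d.leM).symm
    exact Core.isNilpotent_map π _
  · refine Nat.Coprime.coprime_dvd_left hQbc (Nat.Coprime.coprime_dvd_right
      (Nat.mul_dvd_mul_right hcard p) ?_)
    obtain ⟨k, hk⟩ := IsPGroup.iff_card.mp d.isp
    rw [hk]
    refine Nat.Coprime.pow_left k (Nat.Coprime.mul_right ?_ ((Nat.coprime_primes d.setup.hq hKp).mpr (Ne.symm hpq)))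
    exact d.setup.hq.coprime_iff_not_dvd.mpr d.not_dvd_D
  · rintro _ ⟨x, -, rfl⟩
    exact hQbn x
  · refine eq_bot_iff.mpr fun y hy => mem_bot.mpr ?_
    obtain ⟨⟨x, hx, rfl⟩, hy2⟩ := hy
    obtain ⟨n, hn, hnc⟩ := lift D d.D_leM hcopD x fun a ha =>
      mem_centralizer_iff.mp hy2 _ ⟨a, mem_subgroupOf.mpr ha, rfl⟩
    refine (hπ x).mpr ?_
    have h1 : (x : G) * n ∈ Q₀ := ⟨mul_mem (mem_subgroupOf.mp hx) (hQ₀Q hn), hnc⟩
    simpa using mul_mem h1 (inv_mem hn)
  · have hle : Qb ⊓ centralizer (zpowers (π rM) : Set (M ⧸ Q₀')) ≤ ((star M K).subgroupOf M).map π := by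
      intro y hy
      obtain ⟨⟨x, hx, rfl⟩, hy2⟩ := hy
      obtain ⟨n, hn, hnc⟩ := lift R (hRK.trans d.setup.dec.hall.1) hcopR x
        (hcomm_r x (mem_centralizer_iff.mp hy2 _ (mem_zpowers _)))
      have h1 : (x : G) * n ∈ star M K := by
        rw [← d.setup.fixed_sub hRK (fun e => hr₀ (zpowers_eq_bot.mp e))]
        exact ⟨mul_mem (d.le (mem_subgroupOf.mp hx)) (d.le (hQ₀Q hn)), hnc⟩
      refine ⟨x * ⟨n, hQ₀M hn⟩, mem_subgroupOf.mpr h1, ?_⟩
      rw [map_mul, (hπ ⟨n, hQ₀M hn⟩).mpr hn, mul_one]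
    have hcyc : IsCyclic ↥(star M K) := isCyclic_of_prime_card hq.symm
    have hsM : star M K ≤ M := inf_le_left.trans (TauTwo.sigmaCore_le M)
    have : IsCyclic ((star M K).subgroupOf M) := (subgroupOfEquivOfLe hsM).isCyclic.mpr hcyc
    have : IsCyclic (((star M K).subgroupOf M).map π) :=
      isCyclic_of_surjective (π.subgroupMap _) (π.subgroupMap_surjective _)
    exact isCyclic_of_injective (inclusion hle) (inclusion_injective _)
  -- back in `G`
  set D₁ := ⁅D, D⁆ with hD₁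
  have hD₁D : D₁ ≤ D := commutator_le_self D
  have h1 : ⁅Q, D₁⁆ ≤ Q₀ := by
    refine commutator_le.mpr fun a ha e he => (hπ ⁅(⟨a, d.leM ha⟩ : M), ⟨e, d.D_leM (hD₁D he)⟩⁆).mp ?_
    rw [map_commutatorElement, commutatorElement_eq_one_iff_mul_comm]
    refine mem_centralizer_iff.mp (key ?_) _ ⟨⟨a, d.leM ha⟩, mem_subgroupOf.mpr ha, rfl⟩
    rw [hDb, ← map_commutator]
    refine mem_map_of_mem π ?_
    have h4 : e ∈ (⁅D.subgroupOf M, D.subgroupOf M⁆).map M.subtype := by
      rw [map_commutator, map_subgroupOf_eq_of_le d.D_leM]; exact he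
    obtain ⟨w, hw, e'⟩ := h4
    exact (show w = ⟨e, d.D_leM (hD₁D he)⟩ from Subtype.ext e') ▸ hw
  have hD₁Q : D₁ ≤ normalizer (Q : Set G) := hD₁D.trans (d.D_leM.trans d.normal)
  have hcop1 : (Nat.card D₁).Coprime (Nat.card Q) := by
    obtain ⟨k, hk⟩ := IsPGroup.iff_card.mp d.isp
    rw [hk]
    exact ((d.setup.hq.coprime_iff_not_dvd.mpr fun h => d.not_dvd_D (h.trans (card_dvd_of_le hD₁D))).symm).pow_right k
  have h2 : ⁅⁅Q, D₁⁆, D₁⁆ = ⊥ := commutator_eq_bot_iff_le_centralizer.mpr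
    ((h1.trans inf_le_right).trans (Subgroup.centralizer_le hD₁D))
  rw [Core.commutator_commutator_eq hD₁Q hcop1 (Or.inr (by have := d.isp.isNilpotent; infer_instance))] at h2
  exact le_centralizer_iff.mp (commutator_eq_bot_iff_le_centralizer.mp h2)

/-- `M'' ≤ F(M)`. -/
theorem second_derived_le : ⁅⁅M, M⁆, ⁅M, M⁆⁆ ≤ Cfsg.fittingOf M := by
  rw [d.setup.derived]
  set O := Cfsg.sigmaCore M with hO
  have := d.fact
  set W := ⁅D, D⁆ with hW
  have hQD : ⁅O, O⁆ ≤ W ⊔ Q := by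
    refine commutator_le.mpr fun a ha b hb => ?_
    obtain ⟨u, hu, x, hx, rfl⟩ := d.compl.2.2.2 a ha
    obtain ⟨v, hv, y, hy, rfl⟩ := d.compl.2.2.2 b hb
    have : (Q.subgroupOf M).Normal := (normal_subgroupOf_iff_le_normalizer d.leM).mpr d.normal
    let π := QuotientGroup.mk' (Q.subgroupOf M)
    have h0 : ∀ (c e : G) (hc : c ∈ Q) (he : e ∈ M), π ⟨c * e, mul_mem (d.leM hc) he⟩ = π ⟨e, he⟩ := by
      intro c e hc he
      rw [show (⟨c * e, mul_mem (d.leM hc) he⟩ : M) = ⟨c, d.leM hc⟩ * ⟨e, he⟩ from rfl, map_mul,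
        show π ⟨c, d.leM hc⟩ = 1 from (QuotientGroup.eq_one_iff _).mpr (mem_subgroupOf.mpr hc), one_mul]
    have h2 : π ⁅(⟨x, d.D_leM hx⟩ : M), ⟨y, d.D_leM hy⟩⁆ =
        π ⁅(⟨u * x, mul_mem (d.leM hu) (d.D_leM hx)⟩ : M), ⟨v * y, mul_mem (d.leM hv) (d.D_leM hy)⟩⁆ := by
      rw [map_commutatorElement, map_commutatorElement, h0 _ _ hu (d.D_leM hx), h0 _ _ hv (d.D_leM hy)]
    have h3 : ⁅x, y⁆⁻¹ * ⁅u * x, v * y⁆ ∈ Q := mem_subgroupOf.mp (QuotientGroup.eq.mp h2)
    have h4 := mul_mem (mem_sup_left (commutator_mem_commutator hx hy) : ⁅x, y⁆ ∈ W ⊔ Q) (mem_sup_right h3)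
    rwa [mul_inv_cancel_left] at h4
  have := d.nilpotent_D
  have : Group.IsNilpotent W := CfsgLib.Core.isNilpotent_of_le (commutator_le_self D)
  have : Group.IsNilpotent Q := d.isp.isNilpotent
  have := Core.isNilpotent_sup_of_commute W Q fun a ha b hb =>
    (mem_centralizer_iff.mp (d.derived_centralizes ha) b hb).symm
  refine OddLocal.FittingSigma.le_fittingOf ((commutator_le_self O).trans (TauTwo.sigmaCore_le M))
    (fun m hm => ?_) (CfsgLib.Core.isNilpotent_of_le hQD)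
  refine Transfer.map_conj_eq_self_iff.mp ?_
  rw [map_commutator, Transfer.map_conj_eq_self_iff.mpr (TauTwo.le_normalizer_sigmaCore M hm)]

end Pair

end CfsgLib.TwoGroups.NonNilpotent
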