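import Cfsg.Agent.Lib.TwoGroups.FittingStructure
import Cfsg.Agent.Lib.OddLocal.PrimeActionFitting
import Cfsg.Agent.Lib.OddLocal.FrobeniusNilpotent
import Cfsg.Agent.S1426
import Cfsg.Agent.S3745

/-!
Owner: helper12. The case of a non-nilpotent `M_σ` (Bender–Glauberman, Theorem 15.2 (c)), given that
`K* = C_{M_σ}(K)` has prime order `q`.

`M_σ` has a normal Sylow `q`-subgroup `Q` with nilpotent quotient; for a `K`-invariant complement `D` the
fixed point formula for the Frobenius group `D K` gives `|Q| = |C_Q(D)| q ^ |R|` for every `R ≠ 1` in `K`,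
so `K` has prime order `p`, and applied to `Φ(Q)` it gives `Φ(Q) ≤ C_Q(D)`.
-/

set_option autoImplicit false
set_option linter.unusedSectionVars false

namespace CfsgLib.TwoGroups.NonNilpotent

open Subgroup
open scoped commutatorElement

variable {G : Type*} [Group G] [Finite G] {M K U : Subgroup G}

/-- `K* = C_{M_σ}(K)`. -/
abbrev star (M K : Subgroup G) : Subgroup G := Cfsg.sigmaCore M ⊓ centralizer (K : Set G)

/-- The standing hypotheses. -/
structure Setup (M K U : Subgroup G) : Prop where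
  hG : Cfsg.IsMinSimpleOddOrder G
  hM : IsCoatom M
  dec : Cfsg.IsSigmaDecomposition M K U
  hK : K ≠ ⊥
  hU : U = ⊥
  hn : ¬ Group.IsNilpotent (Cfsg.sigmaCore M)
  hq : (Nat.card ↥(star M K)).Prime

theorem Setup.compl (s : Setup M K U) : Cfsg.IsComplIn K (Cfsg.sigmaCore M) M := by
  have := SigmaFactor.isComplIn s.hG s.hM s.dec
  rwa [s.hU, bot_sup_eq] at this

theorem Setup.derived (s : Setup M K U) : ⁅M, M⁆ = Cfsg.sigmaCore M := by
  rw [TypeP2.derived_eq s.hG s.hM s.dec s.hK, s.hU, bot_sup_eq]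

theorem Setup.fixed (s : Setup M K U) {k : G} (hk : k ∈ K) (hk1 : k ≠ 1) :
    Cfsg.sigmaCore M ⊓ centralizer ({k} : Set G) = star M K := by
  obtain ⟨E, d⟩ := OddLocal.Kappa.exists_data s.hG s.hM s.dec.hall s.hK
  exact d.main s.hG hk hk1

theorem Setup.fixed_sub (s : Setup M K U) {R : Subgroup G} (hR : R ≤ K) (hR1 : R ≠ ⊥) :
    Cfsg.sigmaCore M ⊓ centralizer (R : Set G) = star M K := by
  obtain ⟨r, hr, hr1⟩ := R.bot_or_exists_ne_one.resolve_left hR1
  refine le_antisymm ?_ (inf_le_inf_left _ (Subgroup.centralizer_le hR))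
  exact (inf_le_inf_left _ (Subgroup.centralizer_le (Set.singleton_subset_iff.mpr hr))).trans
    (s.fixed (hR hr) hr1).le

/-- A subgroup of `K*` is trivial or all of it. -/
theorem Setup.star_cases (s : Setup M K U) (X : Subgroup G) : star M K ⊓ X = ⊥ ∨ star M K ≤ X := by
  rcases (Nat.dvd_prime s.hq).mp (card_dvd_of_le (inf_le_left : star M K ⊓ X ≤ star M K)) with h | h
  · exact Or.inl (eq_bot_of_card_eq _ h)
  · exact Or.inr ((eq_of_le_of_card_ge inf_le_left h.ge).ge.trans inf_le_right)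

theorem Setup.coprime_K (s : Setup M K U) : (Nat.card K).Coprime (Nat.card (Cfsg.sigmaCore M)) :=
  OddLocal.FixedTauOne.coprime_complement s.hG s.hM s.compl

theorem Setup.q_mem_sigma (s : Setup M K U) : Nat.card ↥(star M K) ∈ Cfsg.sigma M :=
  TauTwo.mem_sigma_of_dvd s.hq (card_dvd_of_le inf_le_left) s.hG s.hM

theorem isPGroup_conj_le {q : ℕ} [Fact q.Prime] {H : Type*} [Group H] [Finite H] {N : Subgroup H} [N.Normal]
    (h : IsPGroup q N) (S : Sylow q H) : N ≤ (S : Subgroup H) :=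
  (Core.le_pCore h).trans (Core.pCore_le_sylow S)

/-- The normal Sylow `q`-subgroup of `M_σ`, with nilpotent quotient. -/
theorem Setup.exists_Q (s : Setup M K U) :
    ∃ Q : Subgroup G, Q ≤ Cfsg.sigmaCore M ∧ M ≤ normalizer (Q : Set G) ∧
      IsPGroup (Nat.card ↥(star M K)) Q ∧ ¬ Nat.card ↥(star M K) ∣ Q.relIndex (Cfsg.sigmaCore M) ∧
      star M K ≤ Q ∧
      ∀ C : Subgroup G, C ≤ Cfsg.sigmaCore M → C ⊓ Q ≤ centralizer (C : Set G) → Group.IsNilpotent C := by
  set O := Cfsg.sigmaCore M with hO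
  set q := Nat.card ↥(star M K) with hqdef
  have := Fact.mk s.hq
  have hOM : O ≤ M := TauTwo.sigmaCore_le M
  have hMO : M ≤ normalizer (O : Set G) := TauTwo.le_normalizer_sigmaCore M
  obtain ⟨p, hp, hpd⟩ := Nat.exists_prime_and_dvd (fun e : Nat.card K = 1 => s.hK (eq_bot_of_card_eq _ e))
  have := Fact.mk hp
  obtain ⟨r₀, hr₀⟩ := exists_prime_orderOf_dvd_card' (G := K) p hpd
  set r : G := (r₀ : G) with hr
  have hro : orderOf r = p := by rw [hr, Subgroup.orderOf_coe, hr₀]
  have hr1 : r ≠ 1 := fun e => hp.ne_one (by rw [← hro, e, orderOf_one])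
  have hrM : r ∈ M := s.dec.hall.1 r₀.2
  set R := zpowers r with hR
  have hRK : R ≤ K := zpowers_le.mpr r₀.2
  have hRc : Nat.card R = p := by rw [hR, Nat.card_zpowers, hro]
  have hR1 : R ≠ ⊥ := fun e => hr1 (zpowers_eq_bot.mp e)
  have hfixR := s.fixed_sub hRK hR1
  have hpO : (Nat.card O).Coprime p := (s.coprime_K.coprime_dvd_left hpd).symm
  -- the Fitting subgroup
  set O' := O.subgroupOf M with hO'
  have hO'n : O'.Normal := (normal_subgroupOf_iff_le_normalizer hOM).mpr hMO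
  have hsM : Group.IsSolvable M := s.hG.2.2.2 M s.hM.1
  set F' := (Cfsg.fittingOf O').map M.subtype with hF'
  have hF'n : M ≤ normalizer (F' : Set G) := fun m hm => le_normalizer_map M.subtype
    ⟨⟨m, hm⟩, (have := OddLocal.PrimeActionFitting.normal_fittingOf O'
      Core.le_normalizer_of_normal ⊤ (Cfsg.fittingOf O') (mem_top _)), rfl⟩
  have hF'O : F' ≤ O := (map_mono (map_subtype_le _)).trans (map_subgroupOf_eq_of_le hOM).le
  have hF'nil : Group.IsNilpotent F' := by
    have := CfsgLib.Core.isNilpotent_fittingSubgroup O'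
    have : Group.IsNilpotent (Cfsg.fittingOf O') := Core.isNilpotent_map O'.subtype _
    exact Core.isNilpotent_map M.subtype _
  have hstarF : star M K ≤ F' := by
    by_contra hne
    have hfix : Cfsg.fittingOf O' ⊓ centralizer ((zpowers (⟨r, hrM⟩ : M) : Subgroup M) : Set M) = ⊥ := by
      refine eq_bot_iff.mpr fun x hx => mem_bot.mpr (Subtype.ext ?_)
      have h1 : (x : G) ∈ star M K := by
        rw [← hfixR]
        refine ⟨hF'O ⟨x, hx.1, rfl⟩, ?_⟩
        rw [hR, TauTwo.centralizer_zpowers]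
        exact mem_centralizer_singleton_iff.mpr
          (congrArg Subtype.val (mem_centralizer_iff.mp hx.2 _ (mem_zpowers _)) :).symm
      exact mem_bot.mp (((s.star_cases F').resolve_right hne).le ⟨h1, x, hx.1, rfl⟩)
    have h := OddLocal.PrimeActionFitting.commutator_le_fitting_of_prime hp hsM
      (s.hG.1.of_dvd_nat M.card_subgroup_dvd_card) O' (zpowers (⟨r, hrM⟩ : M))
      (by rw [Nat.card_zpowers, orderOf_mk, hro])
      (by rwa [hO', Nat.card_congr (subgroupOfEquivOfLe hOM).toEquiv]) hfix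
    have h' : ⁅O, R⁆ ≤ F' := by
      have h2 := map_mono (f := M.subtype) h
      rwa [map_commutator, hO', map_subgroupOf_eq_of_le hOM, MonoidHom.map_zpowers] at h2
    have hOs : Group.IsSolvable O := CfsgLib.Core.isSolvable_of_le hsM hOM
    set N := ⁅O, R⁆ with hN
    have hRO : R ≤ normalizer (O : Set G) := (hRK.trans s.dec.hall.1).trans hMO
    have hKN : K ≤ normalizer (N : Set G) := by
      intro k hk
      refine Transfer.map_conj_eq_self_iff.mp ?_
      rw [hN, map_commutator, Transfer.map_conj_eq_self_iff.mpr (hMO (s.dec.hall.1 hk)), hR, MonoidHom.map_zpowers]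
      congr 2
      show k * r * k⁻¹ = r
      rw [show k * r = r * k from
        (congrArg Subtype.val (s.dec.cyclic.isMulCommutative.is_comm.comm (⟨k, hk⟩ : K) r₀) :),
        mul_inv_cancel_right]
    have hON : ⁅O, K⁆ ≤ N := commutator_le.mpr fun o ho k hk => by
      obtain ⟨n, hn, c, hc, rfl⟩ := Core.exists_mul_centralizing hRO (by rw [hRc]; exact hpO.symm)
        (Or.inr hOs) ho
      rw [hfixR] at hc
      have hck : c * k = k * c := (mem_centralizer_iff.mp hc.2 k hk).symm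
      rw [commutatorElement_def, show n * c * k * (n * c)⁻¹ * k⁻¹ = n * (c * k) * c⁻¹ * n⁻¹ * k⁻¹ by group,
        hck, show n * (k * c) * c⁻¹ * n⁻¹ * k⁻¹ = n * (k * n⁻¹ * k⁻¹) by group]
      exact mul_mem hn ((mem_normalizer_iff.mp (hKN hk) n⁻¹).mp (inv_mem hn))
    have hOF : O ≤ F' := by
      refine le_trans ?_ (hON.trans h')
      rw [(Cfsg.Agent.S1426.result s.hG M s.hM K s.compl).2.1]
    exact s.hn (Group.nilpotent_of_mulEquiv (MulEquiv.subgroupCongr (le_antisymm hF'O hOF)))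
  set Q₁ := (Cfsg.pCore q F').map F'.subtype with hQ₁
  have hMQ₁ : M ≤ normalizer (Q₁ : Set G) := fun m hm => by
    exact OddLocal.PLengthEndgame.normalizer_le_char F' (Cfsg.pCore q F') (hF'n hm)
  have hQ₁O : Q₁ ≤ O := (map_subtype_le _).trans hF'O
  have hQ₁p : IsPGroup q Q₁ := (Core.isPGroup_pCore q F').map _
  have hstarQ₁ : star M K ≤ Q₁ := fun z hz => by
    by_cases hz1 : z = 1
    · rw [hz1]; exact one_mem _
    have hzo : orderOf z = q := by
      have := Subgroup.orderOf_dvd_natCard _ hz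
      exact ((Nat.dvd_prime s.hq).mp this).resolve_left fun e => hz1 (orderOf_eq_one_iff.mp e)
    have hmem := HallGen.mem_pCore_of_mem_nilpotent_normal (G := F') (N := ⊤) inferInstance
      (Group.nilpotent_of_mulEquiv (Subgroup.topEquiv (G := F')).symm)
      (mem_top (⟨z, hstarF hz⟩ : F')) (k := 1) (by rw [orderOf_mk, hzo, pow_one])
    exact ⟨⟨z, hstarF hz⟩, hmem, rfl⟩
  have hQ₁M : Q₁ ≤ M := hQ₁O.trans hOM
  set Q₁' := Q₁.subgroupOf M with hQ₁'
  have : Q₁'.Normal := (normal_subgroupOf_iff_le_normalizer hQ₁M).mpr hMQ₁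
  let π := QuotientGroup.mk' Q₁'
  let f : O →* M ⧸ Q₁' := π.comp (inclusion hOM)
  have hfmem : ∀ o : O, f o = 1 ↔ (o : G) ∈ Q₁ := fun o =>
    (QuotientGroup.eq_one_iff _).trans mem_subgroupOf
  set rb := π ⟨r, hrM⟩ with hrb
  have hpQ₁ : (Nat.card Q₁).Coprime p := hpO.coprime_dvd_left (card_dvd_of_le hQ₁O)
  have hrbo : orderOf rb = p := by
    refine orderOf_eq_prime ?_ fun e => ?_
    · rw [hrb, ← map_pow, show (⟨r, hrM⟩ : M) ^ p = 1 from Subtype.ext (hro ▸ pow_orderOf_eq_one r), map_one]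
    · have h1 : r ∈ Q₁ := mem_subgroupOf.mp ((QuotientGroup.eq_one_iff (⟨r, hrM⟩ : M)).mp e)
      exact hp.ne_one (Nat.eq_one_of_dvd_coprimes hpQ₁ (hro ▸ Subgroup.orderOf_dvd_natCard _ h1) dvd_rfl)
  have hNnil : Group.IsNilpotent f.range := by
    refine OddLocal.NonKappa.isNilpotent_of_fpf_elem hrbo (mem_normalizer_iff.mpr fun y => ?_) ?_
    · have key : ∀ m : M, ∀ y ∈ f.range, π m * y * (π m)⁻¹ ∈ f.range := by
        rintro m _ ⟨o, rfl⟩
        exact ⟨⟨(m : G) * o * (m : G)⁻¹, (mem_normalizer_iff.mp (hMO m.2) _).mp o.2⟩, rfl⟩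
      refine ⟨key _ y, fun hy => ?_⟩
      have := key (⟨r, hrM⟩⁻¹) _ hy
      rwa [map_inv, ← hrb, show rb⁻¹ * (rb * y * rb⁻¹) * rb⁻¹⁻¹ = y by group] at this
    · refine eq_bot_iff.mpr fun y hy => mem_bot.mpr ?_
      obtain ⟨⟨o, rfl⟩, hyc⟩ := hy
      obtain ⟨n, hn, hc⟩ := Core.exists_centralizing_in_coset (A := R) (N := Q₁)
        ((hRK.trans s.dec.hall.1).trans hMQ₁) (by rw [hRc]; exact hpQ₁.symm)
        (Or.inr (have := hQ₁p.isNilpotent; inferInstance)) (k := (o : G)) fun a ha => by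
          obtain ⟨i, rfl⟩ := mem_zpowers_iff.mp ha
          have hc : Commute (π (⟨r, hrM⟩ : M)) (f o) := (mem_centralizer_singleton_iff.mp hyc).symm
          have h1 : π ((⟨r, hrM⟩ : M) ^ i) * π (inclusion hOM o) = π (inclusion hOM o) * π ((⟨r, hrM⟩ : M) ^ i) := by
            rw [map_zpow]; exact (hc.zpow_left i).eq
          have h3 : π ((inclusion hOM o)⁻¹ * ((⟨r, hrM⟩ : M) ^ i * inclusion hOM o * ((⟨r, hrM⟩ : M) ^ i)⁻¹)) = 1 := by
            rw [map_mul, map_mul, map_mul, h1, map_inv, map_inv, mul_inv_cancel_right]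
            exact inv_mul_cancel _
          exact mem_subgroupOf.mp ((QuotientGroup.eq_one_iff _).mp h3)
      have h2 : (o : G) * n ∈ star M K := by
        rw [← hfixR]; exact ⟨mul_mem o.2 (hQ₁O hn), hc⟩
      refine (hfmem o).mpr ?_
      simpa using mul_mem (hstarQ₁ h2) (inv_mem hn)
  -- the Sylow subgroup
  obtain ⟨S⟩ : Nonempty (Sylow q O) := inferInstance
  let T := S.mapSurjective f.rangeRestrict_surjective
  have hTn : (T : Subgroup f.range).Normal := inferInstance
  have hker : f.rangeRestrict.ker ≤ (S : Subgroup O) := by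
    rw [MonoidHom.ker_rangeRestrict]
    have hk : f.ker = Q₁.subgroupOf O := Subgroup.ext fun o => (hfmem o).trans mem_subgroupOf.symm
    exact isPGroup_conj_le (N := f.ker) (hk ▸ hQ₁p.comap_subtype) S
  have hSn : (S : Subgroup O).Normal := by
    have h1 := hTn.comap f.rangeRestrict
    rwa [show (T : Subgroup f.range) = (S : Subgroup O).map f.rangeRestrict from rfl, comap_map_eq,
      sup_eq_left.mpr hker] at h1
  set Q := (S : Subgroup O).map O.subtype with hQ
  have hQ₁Q : Q₁ ≤ Q := fun x hx => ⟨⟨x, hQ₁O hx⟩,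
    hker (by rw [MonoidHom.ker_rangeRestrict]; exact (hfmem ⟨x, hQ₁O hx⟩).mpr hx), rfl⟩
  refine ⟨Q, map_subtype_le _, fun m hm => ?_, S.2.map _, ?_, hstarQ₁.trans hQ₁Q, fun C hCO hCQ => ?_⟩
  · have := Sylow.characteristic_of_normal S hSn
    exact OddLocal.PLengthEndgame.normalizer_le_char O (S : Subgroup O) (hMO hm)
  · rw [relIndex, subgroupOf, hQ, comap_map_eq_self_of_injective O.subtype_injective]
    exact S.not_dvd_index
  · have : Group.IsNilpotent f.range := hNnil
    refine Subgroup.isNilpotent_of_ker_le_center (f.rangeRestrict.comp (inclusion hCO)) fun x hx => ?_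
    rw [MonoidHom.mem_ker, MonoidHom.comp_apply, ← MonoidHom.mem_ker, MonoidHom.ker_rangeRestrict] at hx
    refine mem_center_iff.mpr fun y => Subtype.ext ?_
    exact mem_centralizer_iff.mp (hCQ ⟨x.2, hQ₁Q ((hfmem _).mp hx)⟩) y y.2

end CfsgLib.TwoGroups.NonNilpotent
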