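import Cfsg.Agent.S1430
import Cfsg.Agent.S1365
import Cfsg.Agent.Lib.TwoGroups.NonTI
import Cfsg.Agent.Lib.TwoGroups.TypeFrobenius

/-!
Owner: helper12. The case `K ≠ 1`, `U = 1` of Bender–Glauberman 15.7.
-/

set_option autoImplicit false
set_option linter.unusedSectionVars false

namespace CfsgLib.TwoGroups.NonTI

open Subgroup
open scoped Pointwise
open scoped commutatorElement

variable {G : Type*} [Group G] [Finite G] {M N A K U : Subgroup G} {x g : G} {p : ℕ}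

theorem pow_mul_moved {a b c : G} (h : b * a = c * (a * b)) (hca : a * c = c * a) (hcb : b * c = c * b) (n : ℕ) :
    (a * b) ^ n = c ^ n.choose 2 * (a ^ n * b ^ n) := by
  have hbn : ∀ m : ℕ, b ^ m * a = c ^ m * (a * b ^ m) := by
    intro m
    induction m with
    | zero => simp
    | succ m ih =>
      calc b ^ (m + 1) * a = b * (b ^ m * a) := by rw [pow_succ', mul_assoc]
        _ = (b * c ^ m) * (a * b ^ m) := by rw [ih, mul_assoc]
        _ = c ^ m * ((b * a) * b ^ m) := by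
              rw [((show Commute b c from hcb).pow_right m).eq]; simp only [mul_assoc]
        _ = c ^ m * ((c * (a * b)) * b ^ m) := by rw [h]
        _ = c ^ (m + 1) * (a * b ^ (m + 1)) := by rw [pow_succ c, pow_succ' b]; simp only [mul_assoc]
  induction n with
  | zero => simp
  | succ n ih =>
    have e : (n + 1).choose 2 = n + n.choose 2 := by
      rw [Nat.choose_succ_succ' n 1, Nat.choose_one_right]
    calc (a * b) ^ (n + 1) = c ^ n.choose 2 * (a ^ n * b ^ n) * (a * b) := by rw [pow_succ, ih]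
      _ = c ^ n.choose 2 * (a ^ n * (b ^ n * a) * b) := by simp only [mul_assoc]
      _ = c ^ n.choose 2 * ((a ^ n * c ^ n) * (a * b ^ n) * b) := by rw [hbn]; simp only [mul_assoc]
      _ = c ^ n.choose 2 * ((c ^ n * a ^ n) * (a * b ^ n) * b) := by
            rw [((show Commute a c from hca).pow_pow n n).eq]
      _ = c ^ (n + 1).choose 2 * (a ^ (n + 1) * b ^ (n + 1)) := by
            rw [e, add_comm, pow_add, pow_succ a, pow_succ b]; simp only [mul_assoc]

/-- `|P : C_P(y)| ≤ |Z|` when `y` is central modulo `Z`. -/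
theorem relIndex_centralizer_le {P Z : Subgroup G} {y : G} (hy : ∀ u ∈ P, u * y * u⁻¹ * y⁻¹ ∈ Z) :
    (centralizer ({y} : Set G)).relIndex P ≤ Nat.card Z := by
  set C := (centralizer ({y} : Set G)).subgroupOf P with hC
  show C.index ≤ _
  rw [Subgroup.index_eq_card]
  refine Nat.card_le_card_of_injective
    (fun q => (⟨((q.out : P) : G) * y * ((q.out : P) : G)⁻¹ * y⁻¹, hy _ q.out.2⟩ : Z)) fun q q' e => ?_
  have e1 : ((q.out : P) : G) * y * ((q.out : P) : G)⁻¹ = ((q'.out : P) : G) * y * ((q'.out : P) : G)⁻¹ :=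
    mul_right_cancel (congrArg Subtype.val e)
  rw [← q.out_eq, ← q'.out_eq]
  refine QuotientGroup.eq.mpr ?_
  refine mem_subgroupOf.mpr (mem_centralizer_singleton_iff.mpr ?_)
  simp only [Subgroup.coe_mul, InvMemClass.coe_inv]
  generalize ((q.out : P) : G) = u at e1 ⊢
  generalize ((q'.out : P) : G) = v at e1 ⊢
  calc u⁻¹ * v * y = u⁻¹ * (v * y * v⁻¹) * v := by group
    _ = u⁻¹ * (u * y * u⁻¹) * v := by rw [e1]
    _ = y * (u⁻¹ * v) := by group

/-- The basic facts for `K ≠ 1`, `U = 1`. -/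
structure KData (M N A K : Subgroup G) (x g : G) (p : ℕ) (P Z : Subgroup G) : Prop where
  c : Config M N A x g p
  hS : ∀ S : Sylow p G, ¬ IsMulCommutative (S : Subgroup G)
  Pp : IsPGroup p P
  Ple : P ≤ Cfsg.sigmaCore M
  Pn : M ≤ normalizer (P : Set G)
  Pmax : ∀ T : Subgroup G, IsPGroup p T → T ≤ M → T ≤ P
  Pnab : ¬ IsMulCommutative P
  KM : K ≤ M
  Kc : IsCyclic K
  cop : ¬ p ∣ Nat.card K
  Zeq : Z = Cfsg.sigmaCore M ⊓ centralizer (K : Set G)
  Zp : Nat.card Z = p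
  ZP : Z ≤ P
  fix : ∀ k ∈ K, k ≠ 1 → ∀ a ∈ P, k * a = a * k → a ∈ Z

/-- For `K ≠ 1`, `U = 1` the Sylow subgroup is nonabelian and contains `K*`. -/
theorem exists_kdata (c : Config M N A x g p) (h : Cfsg.IsSigmaDecomposition M K U) (hK : K ≠ ⊥) (hU : U = ⊥) :
    ∃ P : Sylow p G, KData M N A K x g p (P : Subgroup G) (Cfsg.sigmaCore M ⊓ centralizer (K : Set G)) := by
  have := c.fact
  have hG := c.loc.hG
  have hM := c.loc.hM
  set H := Cfsg.sigmaCore M with hH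
  set Z := H ⊓ centralizer (K : Set G) with hZ
  have hq : (Nat.card Z).Prime := Chapter15.starPrime hG M K U hM h hK hU
  have hD : ⁅M, M⁆ = H := by rw [TypeP2.derived_eq hG hM h hK, hU, bot_sup_eq]
  have hZH : Z ≤ ⁅H, H⁆ := by
    have := (Cfsg.Agent.S1365.result hG M hM K U h hK).2
    rwa [hD] at this
  have hS : ∀ S : Sylow p G, ¬ IsMulCommutative (S : Subgroup G) := fun S hS => by
    obtain ⟨hab, -⟩ := c.abelian_case hS
    have : Z = ⊥ := eq_bot_iff.mpr (hZH.trans (commutator_le.mpr fun a ha b hb => mem_bot.mpr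
      (commutatorElement_eq_one_iff_mul_comm.mpr (congrArg Subtype.val (hab.is_comm.comm (⟨a, ha⟩ : H) ⟨b, hb⟩)))))
    exact hq.ne_one (by rw [this, card_bot])
  obtain ⟨P, hPle, hPn, hPmax⟩ := c.exists_sylow
  set W := H ⊓ centralizer ((P : Subgroup G) : Set G) with hW
  have hxP : x ∈ (P : Subgroup G) := hPmax _ (IsPGroup.of_card (n := 1) (by
    rw [Nat.card_zpowers, c.loc.order, pow_one])) (zpowers_le.mpr (TauTwo.sigmaCore_le M c.loc.mem)) (mem_zpowers x)
  obtain ⟨hWab, -⟩ := c.commutative_of_centralizes (T := W) inf_le_left fun w hw =>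
    mem_centralizer_singleton_iff.mpr (mem_centralizer_iff.mp hw.2 x hxP).symm
  have hWn : W ≤ normalizer ((P : Subgroup G) : Set G) := inf_le_right.trans (Subgroup.centralizer_le_normalizer _)
  have hgen : H ≤ (P : Subgroup G) ⊔ W := fun y hy => by
    refine HallGen.mem_of_primePow_parts _ y fun w hw t k ht ho => ?_
    have hwO := (zpowers_le.mpr hy) hw
    rcases eq_or_ne t p with rfl | hne
    · exact mem_sup_left (hPmax _ (IsPGroup.of_card (n := k) (by rw [Nat.card_zpowers, ho]))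
        (zpowers_le.mpr (TauTwo.sigmaCore_le M hwO)) (mem_zpowers w))
    · refine mem_sup_right ⟨hwO, mem_centralizer_iff.mpr fun u hu => ?_⟩
      refine OddLocal.commute_of_mem_nilpotent c.nilp (hPle hu) hwO ?_
      obtain ⟨i, hi⟩ := P.2 ⟨u, hu⟩
      have : orderOf u ∣ p ^ i := orderOf_dvd_of_pow_eq_one (congrArg Subtype.val hi)
      exact Nat.Coprime.coprime_dvd_left this (ho ▸
        (((Nat.coprime_primes c.loc.prime ht).mpr hne.symm).pow i k))
  have hHP : ⁅H, H⁆ ≤ (P : Subgroup G) := commutator_le.mpr fun a ha b hb => by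
    obtain ⟨a₁, ha₁, a₂, ha₂, rfl⟩ := (OddLocal.mem_sup_of_le_normalizer hWn).mp (hgen ha)
    obtain ⟨b₁, hb₁, b₂, hb₂, rfl⟩ := (OddLocal.mem_sup_of_le_normalizer hWn).mp (hgen hb)
    have hab : a₂ * b₂ = b₂ * a₂ := congrArg Subtype.val (hWab.is_comm.comm (⟨a₂, ha₂⟩ : W) ⟨b₂, hb₂⟩)
    have h1 : ∀ u ∈ (P : Subgroup G), ∀ w ∈ W, u * w = w * u := fun u hu w hw => mem_centralizer_iff.mp hw.2 u hu
    have : ⁅a₁ * a₂, b₁ * b₂⁆ = ⁅a₁, b₁⁆ := by
      rw [commutatorElement_def, commutatorElement_def]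
      calc a₁ * a₂ * (b₁ * b₂) * (a₁ * a₂)⁻¹ * (b₁ * b₂)⁻¹
          = a₁ * (a₂ * b₁) * b₂ * a₂⁻¹ * a₁⁻¹ * b₂⁻¹ * b₁⁻¹ := by group
        _ = a₁ * b₁ * (a₂ * b₂ * a₂⁻¹) * a₁⁻¹ * b₂⁻¹ * b₁⁻¹ := by rw [← h1 b₁ hb₁ a₂ ha₂]; group
        _ = a₁ * b₁ * (b₂ * a₁⁻¹) * b₂⁻¹ * b₁⁻¹ := by rw [hab, mul_inv_cancel_right]; group
        _ = a₁ * b₁ * a₁⁻¹ * b₁⁻¹ := by rw [← h1 _ (inv_mem ha₁) b₂ hb₂]; group
    rw [this, commutatorElement_def]
    exact mul_mem (mul_mem (mul_mem ha₁ hb₁) (inv_mem ha₁)) (inv_mem hb₁)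
  have hZP : Z ≤ (P : Subgroup G) := hZH.trans hHP
  have hZp : Nat.card Z = p := by
    obtain ⟨k, hk⟩ := IsPGroup.iff_card.mp (P.2.to_le hZP)
    rw [hk] at hq ⊢
    rw [Nat.Prime.pow_eq_iff hq |>.mp rfl |>.2, pow_one]
  refine ⟨P, c, hS, P.2, hPle, hPn, hPmax, hS P, h.hall.1, h.cyclic, fun hd => ?_, rfl, hZp, hZP,
    fun k hk hk1 a ha hka => ?_⟩
  · exact Nat.not_coprime_of_dvd_of_dvd c.loc.prime.one_lt hd
      ((hZp ▸ card_dvd_of_le (inf_le_left.trans hD.ge) : p ∣ Nat.card ↥⁅M, M⁆))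
      (TypePData.coprime_K_derived hG hM h hK)
  · have h1 := (Cfsg.Agent.S1430.result hG M hM K h.hall hK).1 k hk hk1
    exact h1.le ⟨hPle ha, mem_centralizer_singleton_iff.mpr hka.symm⟩

namespace KData

variable {P Z : Subgroup G} (d : KData M N A K x g p P Z)
include d

theorem mem_P : x ∈ P :=
  have := d.c.fact
  d.Pmax _ (IsPGroup.of_card (n := 1) (by rw [Nat.card_zpowers, d.c.loc.order, pow_one]))
    (zpowers_le.mpr (TauTwo.sigmaCore_le M d.c.loc.mem)) (mem_zpowers x)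

theorem A_le : A ≤ P :=
  have := d.c.fact
  d.Pmax A d.c.loc.pair.isPGroup d.c.loc.leM

theorem K_le_normalizer : K ≤ normalizer (P : Set G) := d.KM.trans d.Pn

/-- Elements of order `p` of `P` centralizing `x` lie in `A`. -/
theorem mem_A {a : G} (ha : a ∈ P) (hax : a * x = x * a) (hap : a ^ p = 1) : a ∈ A :=
  have := d.c.fact
  (TauTwo.le_normalizer_pair d.c.loc.hG d.c.loc.o.max d.c.loc.pair d.c.loc.q_tau2.2.1 d.c.loc.o.compl
    d.c.loc.le).2.1 a ⟨TauTwo.sigmaCore_le M (d.Ple ha),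
      d.c.loc.o.le (mem_centralizer_singleton_iff.mpr hax)⟩ hap

theorem exists_moved : ∃ u ∈ P, u * x ≠ x * u := by
  by_contra h
  push Not at h
  exact d.Pnab (d.c.commutative_of_centralizes d.Ple fun u hu => mem_centralizer_singleton_iff.mpr (h u hu)).1

theorem pow_Z {z : G} (hz : z ∈ Z) : z ^ p = 1 := by
  have := pow_card_eq_one' (G := Z) (x := ⟨z, hz⟩)
  rw [d.Zp] at this
  exact congrArg Subtype.val this

/-- A `K`-invariant line of `P` off `Z`, or above `Z`, gives `|K| ∣ p - 1`. -/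
theorem dvd_of_section {Z₀ L : Subgroup G} (hZ₀ : Z₀ ≤ Z) (hZL : Z₀ ≤ L) (hLn : L ≤ normalizer (Z₀ : Set G))
    (hLP : L ≤ P) (hcard : Nat.card L = p * Nat.card Z₀) (hKL : K ≤ normalizer (L : Set G))
    (hL : ∀ l ∈ L, l ∈ Z → l ∈ Z₀) : Nat.card K ∣ p - 1 :=
  have := d.c.fact
  FpfSection.dvd_sub_one d.Kc d.cop (hZ₀.trans (d.Zeq.le.trans inf_le_right)) hZL hLn hcard
    (d.Pp.to_le (hZL.trans hLP)) hKL fun k hk hk1 l hl h => hL l hl (d.fix k hk hk1 l (hLP hl) h)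

/-- Either `|K| ∣ p - 1` or `Z` is central in `P`. -/
theorem central : Nat.card K ∣ p - 1 ∨ P ≤ centralizer (Z : Set G) := by
  have := d.c.fact
  have hp := d.c.loc.prime
  set ζ := P ⊓ centralizer (P : Set G) with hζ
  have hζA : ∀ a ∈ ζ, a ^ p = 1 → a ∈ A := fun a ha hap =>
    d.mem_A ha.1 (mem_centralizer_iff.mp ha.2 x d.mem_P).symm hap
  have hζb : ζ ≠ ⊥ := by
    have : Nontrivial P := (Subgroup.nontrivial_iff_ne_bot P).mpr fun e => by
      have := d.mem_P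
      rw [e, mem_bot] at this
      exact d.c.loc.prime.ne_one (by rw [← d.c.loc.order, this, orderOf_one])
    have := d.Pp.center_nontrivial
    obtain ⟨⟨a, ha⟩, ha1⟩ := exists_ne (1 : Subgroup.center P)
    intro e
    refine ha1 (Subtype.ext (Subtype.ext ?_))
    exact mem_bot.mp (e.le ⟨a.2, mem_centralizer_iff.mpr fun u hu =>
      congrArg Subtype.val (mem_center_iff.mp ha ⟨u, hu⟩)⟩)
  obtain ⟨C₀, hC₀, hC₀ζ⟩ := OddLocal.FixedTauOne.exists_line (d.Pp.to_le (inf_le_left : ζ ≤ P)) hζb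
  have hC₀A : C₀ ≤ A := fun a ha => hζA a (hC₀ζ ha) (by
    have := pow_card_eq_one' (G := C₀) (x := ⟨a, ha⟩)
    rw [hC₀] at this
    exact congrArg Subtype.val this)
  have hC₀p : ∀ a ∈ ζ, a ^ p = 1 → a ∈ C₀ := fun a ha hap => by
    by_contra hno
    obtain ⟨u, hu, hux⟩ := d.exists_moved
    refine hux ?_
    have hlt : C₀ < C₀ ⊔ zpowers a := left_lt_sup.mpr fun h => hno (h (mem_zpowers a))
    have hle : C₀ ⊔ zpowers a ≤ A := sup_le hC₀A (zpowers_le.mpr (hζA a ha hap))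
    have hge := PGroups.mul_card_le_of_lt (d.c.loc.pair.isPGroup.to_le hle) hlt
    have hA : C₀ ⊔ zpowers a = A := eq_of_le_of_card_ge hle (by rw [d.c.loc.pair.2, sq]; rwa [hC₀] at hge)
    have hAC : A ≤ centralizer (P : Set G) := hA ▸ sup_le (hC₀ζ.trans inf_le_right) (zpowers_le.mpr ha.2)
    exact mem_centralizer_iff.mp (hAC d.c.loc.mem_A) u hu
  by_cases hZ0 : Z ⊓ C₀ = ⊥
  · left
    refine d.dvd_of_section (Z₀ := ⊥) bot_le bot_le (fun y _ => by
      rw [mem_normalizer_iff]; intro z; simp only [mem_bot]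
      exact ⟨fun h => by rw [h, mul_one, mul_inv_cancel], fun h => by rwa [mul_inv_eq_one, mul_eq_left] at h⟩)
      (hC₀ζ.trans inf_le_left) (by rw [card_bot, mul_one, hC₀]) ?_ fun l hl hlZ => hZ0.le ⟨hlZ, hl⟩
    refine d.KM.trans fun m hm => ?_
    refine Core.mem_normalizer_iff_conj_smul_eq.mpr ?_
    rw [Core.conj_smul_eq_map]
    refine eq_of_le_of_card_ge ?_ (by rw [card_map_of_injective (MulAut.conj m).injective])
    rintro _ ⟨a, ha, rfl⟩
    refine hC₀p _ ⟨(mem_normalizer_iff.mp (d.Pn hm) a).mp (hC₀ζ ha).1, mem_centralizer_iff.mpr fun u hu => ?_⟩ ?_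
    · have := mem_centralizer_iff.mp (hC₀ζ ha).2 _ ((mem_normalizer_iff''.mp (d.Pn hm) u).mp hu)
      show u * (m * a * m⁻¹) = m * a * m⁻¹ * u
      calc u * (m * a * m⁻¹) = m * ((m⁻¹ * u * m) * a) * m⁻¹ := by group
        _ = m * (a * (m⁻¹ * u * m)) * m⁻¹ := by rw [this]
        _ = _ := by group
    · show (m * a * m⁻¹) ^ p = 1
      rw [conj_pow, d.c.loc.pair.1.2 a (hC₀A ha)]
      group
  · right
    have h1 : Z ⊓ C₀ = Z := eq_of_le_of_card_ge inf_le_left (by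
      rw [d.Zp]
      obtain ⟨k, hk⟩ := IsPGroup.iff_card.mp (d.Pp.to_le (inf_le_right.trans (hC₀ζ.trans inf_le_left) :
        Z ⊓ C₀ ≤ P))
      rw [hk]
      rcases k with _ | k
      · exact absurd (eq_bot_of_card_eq _ (by simpa using hk)) hZ0
      · exact Nat.le_self_pow (by omega) p)
    rw [le_centralizer_iff]
    exact (h1 ▸ inf_le_right : Z ≤ C₀).trans (hC₀ζ.trans inf_le_right)

end KData

end CfsgLib.TwoGroups.NonTI
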