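import Mathlib.Data.ZMod.Basic
import Mathlib.Data.Fintype.Prod

/-!
`2 × 2` matrices over `ZMod 2` as quadruples, with the finite facts used for the
sectional rank of 2-groups of normal rank two.
-/

set_option autoImplicit false

namespace CfsgLib.TwoGroups.QuadF2

/-- A matrix `!![a, b; c, d]` as `(a, b, c, d)`. -/
abbrev Quad := ZMod 2 × ZMod 2 × ZMod 2 × ZMod 2

/-- A column vector. -/
abbrev Vec := ZMod 2 × ZMod 2

/-- Matrix times vector. -/
def ap (N : Quad) (v : Vec) : Vec :=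
  (N.1 * v.1 + N.2.1 * v.2, N.2.2.1 * v.1 + N.2.2.2 * v.2)

/-- The transvection fixing `(1, 0)`. -/
def tv (v : Vec) : Vec := (v.1 + v.2, v.2)

/-- Conjugation by the transvection. -/
def tq (N : Quad) : Quad :=
  (N.1 + N.2.2.1, N.1 + N.2.1 + N.2.2.1 + N.2.2.2, N.2.2.1, N.2.2.1 + N.2.2.2)

/-- Linear form on quadruples. -/
def dot (f N : Quad) : ZMod 2 :=
  f.1 * N.1 + f.2.1 * N.2.1 + f.2.2.1 * N.2.2.1 + f.2.2.2 * N.2.2.2

/-- `1 + N` is invertible. -/
def YT (N : Quad) : Prop := ∀ v : Vec, ap N v = v → v = 0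

/-- `N` is invertible. -/
def Inv (N : Quad) : Prop := ∀ v : Vec, ap N v = 0 → v = 0

instance (N : Quad) : Decidable (YT N) := by unfold YT; infer_instance
instance (N : Quad) : Decidable (Inv N) := by unfold Inv; infer_instance

/-- The nilpotent fixed by the transvection. -/
def n0 : Quad := (0, 1, 0, 0)
/-- An element of order three. -/
def om : Quad := (0, 1, 1, 1)
/-- The other element of order three. -/
def om' : Quad := (1, 1, 1, 0)
/-- The transvection as a quadruple. -/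
def t0 : Quad := (1, 1, 0, 1)

theorem ap_add (N M : Quad) (v : Vec) : ap (N + M) v = ap N v + ap M v := by
  revert N M v; decide +kernel

theorem ap_vadd (N : Quad) (v w : Vec) : ap N (v + w) = ap N v + ap N w := by
  revert N v w; decide +kernel

theorem ap_zero (v : Vec) : ap 0 v = 0 := by revert v; decide +kernel

theorem ap_ext (N M : Quad) (h : ∀ v, ap N v = ap M v) : N = M := by revert N M; decide +kernel

theorem tv_tv (v : Vec) : tv (tv v) = v := by revert v; decide +kernel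

theorem tv_add (v w : Vec) : tv (v + w) = tv v + tv w := by revert v w; decide +kernel

theorem ap_tq (N : Quad) (v : Vec) : tv (ap N (tv v)) = ap (tq N) v := by revert N v; decide +kernel

theorem tq_n0 : tq n0 = n0 := by decide

theorem yt_n0 : YT n0 := by decide

theorem inv_sum : Inv om ∧ Inv om' ∧ Inv t0 ∧ YT om ∧ YT om' ∧ om + om' + t0 = n0 := by decide

/-- Hyperplanes. -/
theorem hyperplane (f : Quad) : ∃ N : Quad, dot f N = 0 ∧ N ≠ 0 ∧ YT N ∧
    (tq N = N ∨ (dot f (tq N) ≠ 0 ∧ dot f (n0 + tq N) = 0)) := by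
  revert f; decide +kernel

/-- Two conjugate `Y`-elements with a common kernel. -/
theorem common_kernel (N : Quad) (v : Vec) (hN : YT N) (hv : v ≠ 0) (h1 : ap N v = 0)
    (h2 : ap (tq N) v = 0) : tq N = N := by
  revert N v; decide +kernel

theorem tq_fixed (N : Quad) : tq N = N ↔ N = 0 ∨ N = n0 ∨ N = (1, 0, 0, 1) ∨ N = (1, 1, 0, 1) := by
  revert N; decide +kernel

theorem dot_eq (f N : Quad) : dot f N = f.1 * dot (1, 0, 0, 0) N + f.2.1 * dot (0, 1, 0, 0) N +
    f.2.2.1 * dot (0, 0, 1, 0) N + f.2.2.2 * dot (0, 0, 0, 1) N := by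
  revert f N; decide +kernel

theorem eq_form (χ : Quad → ZMod 2) (hχ : ∀ a b, χ (a + b) = χ a + χ b) (N : Quad) :
    χ N = dot (χ (1, 0, 0, 0), χ (0, 1, 0, 0), χ (0, 0, 1, 0), χ (0, 0, 0, 1)) N := by
  have h0 : χ 0 = 0 := by
    have := hχ 0 0
    rw [add_zero] at this
    exact (left_eq_add.mp this)
  have hs : ∀ (c : ZMod 2) (e : Quad), χ (c * e.1, c * e.2.1, c * e.2.2.1, c * e.2.2.2) = c * χ e := by
    intro c e
    rcases (show c = 0 ∨ c = 1 by revert c; decide) with rfl | rfl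
    · simp only [zero_mul]; exact h0
    · simp
  have e : N = (N.1 * 1, N.1 * 0, N.1 * 0, N.1 * 0) + (N.2.1 * 0, N.2.1 * 1, N.2.1 * 0, N.2.1 * 0) +
      (N.2.2.1 * 0, N.2.2.1 * 0, N.2.2.1 * 1, N.2.2.1 * 0) +
      (N.2.2.2 * 0, N.2.2.2 * 0, N.2.2.2 * 0, N.2.2.2 * 1) := by
    revert N; decide +kernel
  conv_lhs => rw [e]
  rw [hχ, hχ, hχ, hs _ (1, 0, 0, 0), hs _ (0, 1, 0, 0), hs _ (0, 0, 1, 0), hs _ (0, 0, 0, 1)]
  simp only [dot, mul_comm]

end CfsgLib.TwoGroups.QuadF2
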