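import Cfsg.Agent.Lib.TwoGroups.NormalRankTwoBasic
import Cfsg.Agent.Lib.TwoGroups.QuadF2
import Cfsg.Agent.Lib.Core.Nilpotent

/-!
The case `W ≅ Z/4 × Z/4`: coordinates for the action on `W` and the resulting obstructions.
-/

set_option autoImplicit false
set_option linter.style.haveILetI false
set_option linter.unusedSectionVars false

namespace CfsgLib.TwoGroups.NormalRankTwo

open QuadF2

variable {P : Type*} [Group P] [Finite P] {W : Subgroup P}

theorem quad_add_self : ∀ N : Quad, N + N = 0 := by decide +kernel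

theorem quad_eq_of_add : ∀ N M : Quad, N + M = 0 → M = N := by decide +kernel

theorem vec_eq_of_add : ∀ v a : Vec, v + a = 0 → a = v := by decide +kernel

theorem zmod2_cases : ∀ x : ZMod 2, x = 0 ∨ x = 1 := by decide

/-- No normal elementary abelian subgroup of order 8. -/
def SmallNormal (P : Type*) [Group P] : Prop :=
  ∀ A : Subgroup P, A.Normal → (∀ a ∈ A, ∀ b ∈ A, a * b = b * a) → (∀ a ∈ A, a ^ 2 = 1) →
    Nat.card A ≤ 4

theorem omega_normal (hW : Max W) : (omega hW.comm).Normal :=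
  ⟨fun w hw g => ⟨hW.normal.conj_mem w hw.1 g, by rw [conj_pow, hw.2, mul_one, mul_inv_cancel]⟩⟩

theorem card_omega_le (hW : Max W) (hr : SmallNormal P) : Nat.card (omega hW.comm) ≤ 4 :=
  hr _ (omega_normal hW) (fun a ha b hb => hW.comm a ha.1 b hb.1) (fun _ ha => ha.2)

theorem sq_mem_omega (hW : Max W) {w : P} (hw : w ∈ W) : w ^ 2 ∈ omega hW.comm :=
  ⟨W.pow_mem hw 2, by rw [← pow_mul]; exact hW.exp4 w hw⟩

/-- Coordinates on `Ω₁ W`, all of whose elements are squares in `W`. -/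
structure Coord (hW : Max W) where
  ι : Vec → P
  mem : ∀ v, ι v ∈ omega hW.comm
  inj : Function.Injective ι
  surj : ∀ x ∈ omega hW.comm, ∃ v, ι v = x
  add : ∀ u v, ι (u + v) = ι u * ι v
  central : ∀ g : P, g * ι (1, 0) * g⁻¹ = ι (1, 0)
  root : ∀ v, ∃ w ∈ W, w ^ 2 = ι v
  rank : SmallNormal P
  isP : IsPGroup 2 P

theorem exists_coord (hP : IsPGroup 2 P) (hW : Max W) (hr : SmallNormal P) (h16 : 16 ≤ Nat.card W) :
    Nonempty (Coord hW) := by
  classical
  haveI : Fact (Nat.Prime 2) := ⟨Nat.prime_two⟩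
  haveI := hP.isNilpotent
  set E := omega hW.comm
  haveI : E.Normal := omega_normal hW
  have hE4 : Nat.card E ≤ 4 := card_omega_le hW hr
  set S : Set P := {x | ∃ w ∈ W, w ^ 2 = x}
  have hSE : S ⊆ (E : Set P) := fun x ⟨w, hw, e⟩ => e ▸ sq_mem_omega hW hw
  have hle := card_le_omega_mul hP hW (g := 1) (noInv_of_mem_centralizer (one_mem _))
    (le_centralizer hW) S fun m hm => ⟨m, hm, by rw [one_mul]⟩
  have hS4 : Nat.card S ≤ Nat.card E := Nat.card_mono (Set.toFinite _) hSE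
  have hE4' : Nat.card E = 4 := by nlinarith
  have hroot : ∀ x ∈ E, x ∈ S := by
    have he : S = (E : Set P) := Set.eq_of_subset_of_ncard_le hSE (by
      rw [← Nat.card_coe_set_eq, ← Nat.card_coe_set_eq]
      show Nat.card E ≤ Nat.card S
      nlinarith) (Set.toFinite _)
    intro x hx; rw [he]; exact hx
  obtain ⟨z, hzE, hz1, hzc⟩ : ∃ z ∈ E, z ≠ 1 ∧ ∀ g : P, g * z * g⁻¹ = z := by
    have hne : E ≠ ⊥ := fun h => by rw [h, Subgroup.card_bot] at hE4'; omega
    have h := Core.inf_center_ne_bot_of_isNilpotent E hne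
    rw [Ne, Subgroup.eq_bot_iff_forall] at h
    push Not at h
    obtain ⟨a, ha, ha1⟩ := h
    exact ⟨a, ha.1, ha1, fun g => by rw [Subgroup.mem_center_iff.1 ha.2 g, mul_inv_cancel_right]⟩
  obtain ⟨e, heE, he1, hez⟩ : ∃ e ∈ E, e ≠ 1 ∧ e ≠ z := by
    by_contra hcon
    push Not at hcon
    haveI : Fintype E := Fintype.ofFinite _
    have hsub : (Finset.univ : Finset E) ⊆ {1, ⟨z, hzE⟩} := by
      intro x _
      rcases eq_or_ne (x : P) 1 with h | h
      · simp [Subtype.ext_iff, h]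
      · simp [Subtype.ext_iff, hcon x x.2 h]
    have := (Finset.card_le_card hsub).trans Finset.card_le_two
    rw [Finset.card_univ, ← Nat.card_eq_fintype_card, hE4'] at this
    omega
  have hzz : z * z = 1 := by rw [← pow_two]; exact hzE.2
  have hee : e * e = 1 := by rw [← pow_two]; exact heE.2
  have hze : z * e = e * z := hW.comm z hzE.1 e heE.1
  let ι : Vec → P := fun v => z ^ v.1.val * e ^ v.2.val
  have hmem : ∀ v, ι v ∈ E := fun v => E.mul_mem (E.pow_mem hzE _) (E.pow_mem heE _)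
  have hinj : Function.Injective ι := by
    have hze1 : z * e ≠ 1 := fun h => hez (by rw [eq_inv_of_mul_eq_one_right h, inv_eq_of_mul_eq_one_right hzz])
    have hzee : z * e ≠ e := fun h => hz1 (mul_eq_right.1 h)
    have hzez : z * e ≠ z := fun h => he1 (mul_eq_left.1 h)
    rintro ⟨a, b⟩ ⟨c, d⟩ h
    rcases zmod2_cases a with rfl | rfl <;>
      rcases zmod2_cases b with rfl | rfl <;>
      rcases zmod2_cases c with rfl | rfl <;>
      rcases zmod2_cases d with rfl | rfl <;>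
      simp [ι, ZMod.val_one] at h ⊢ <;>
      first
        | exact hz1 h | exact hz1 h.symm | exact he1 h | exact he1 h.symm | exact hze1 h
        | exact hze1 h.symm | exact hzee h | exact hzee h.symm | exact hzez h | exact hzez h.symm
        | exact hez h | exact hez h.symm
  refine ⟨⟨ι, hmem, hinj, ?_, ?_, ?_, fun v => hroot _ (hmem v), hr, hP⟩⟩
  · intro x hx
    have hb : Function.Bijective (fun v : Vec => (⟨ι v, hmem v⟩ : E)) :=
      (Nat.bijective_iff_injective_and_card _).2 ⟨fun a b h => hinj (congrArg Subtype.val h), by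
        rw [hE4']; simp [Nat.card_eq_fintype_card]⟩
    obtain ⟨v, hv⟩ := hb.2 ⟨x, hx⟩
    exact ⟨v, congrArg Subtype.val hv⟩
  · rintro ⟨a, b⟩ ⟨c, d⟩
    have hzee : z * (e * z) = e := by rw [← hze, ← mul_assoc, hzz, one_mul]
    have heez : e * (e * z) = z := by rw [← mul_assoc, hee, one_mul]
    rcases zmod2_cases a with rfl | rfl <;>
      rcases zmod2_cases b with rfl | rfl <;>
      rcases zmod2_cases c with rfl | rfl <;>
      rcases zmod2_cases d with rfl | rfl <;>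
      simp [ι, ZMod.val_one, hzz, hee, hze, show (1 : ZMod 2) + 1 = 0 from rfl, mul_assoc, hzee, heez]
  · intro g
    simp [ι, ZMod.val_one, hzc]

variable {hW : Max W}

namespace Coord

variable (K : Coord hW)

theorem sq_exists {w : P} (hw : w ∈ W) : ∃ v, K.ι v = w ^ 2 := K.surj _ (sq_mem_omega hW hw)

theorem ι_zero : K.ι 0 = 1 := by
  have h := K.add 0 0
  rw [add_zero] at h
  exact left_eq_mul.1 h

theorem ι_sq (v : Vec) : K.ι v * K.ι v = 1 := by rw [← pow_two]; exact (K.mem v).2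

theorem ι_comm (v : Vec) {w : P} (hw : w ∈ W) : w * K.ι v = K.ι v * w := hW.comm w hw _ (K.mem v).1

theorem card_omega (K : Coord hW) : Nat.card (omega hW.comm) = 4 := by
  rw [← Nat.card_congr (Equiv.ofBijective (fun v : Vec => (⟨K.ι v, K.mem v⟩ : omega hW.comm))
    ⟨fun a b h => K.inj (congrArg Subtype.val h), fun x => by
      obtain ⟨v, hv⟩ := K.surj x x.2
      exact ⟨v, Subtype.ext hv⟩⟩)]
  simp [Nat.card_eq_fintype_card]

/-- The centralizer of `Ω₁ W`. -/
def P0 (_K : Coord hW) : Subgroup P := Subgroup.centralizer (omega hW.comm : Set P)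

theorem fix {g : P} (hg : g ∈ K.P0) (v : Vec) : g * K.ι v * g⁻¹ = K.ι v := by
  rw [← Subgroup.mem_centralizer_iff.1 hg _ (K.mem v), mul_inv_cancel_right]

theorem centralizer_le_P0 : Subgroup.centralizer (W : Set P) ≤ K.P0 :=
  Subgroup.centralizer_le fun _ hx => hx.1

theorem P0_normal : K.P0.Normal := by
  haveI := omega_normal hW
  exact inferInstanceAs (Subgroup.centralizer (omega hW.comm : Set P)).Normal

theorem move {p : P} (hp : p ∉ K.P0) (v : Vec) : p * K.ι v * p⁻¹ = K.ι (tv v) := by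
  obtain ⟨u, hu⟩ := K.surj _ ((omega_normal hW).conj_mem _ (K.mem (0, 1)) p)
  have hz := K.central p
  have hall : ∀ w : Vec, p * K.ι w * p⁻¹ = K.ι ((w.1, 0) + if w.2 = 0 then 0 else u) := by
    rintro ⟨a, b⟩
    rcases zmod2_cases a with rfl | rfl <;>
      rcases zmod2_cases b with rfl | rfl
    · simp [show ((0 : ZMod 2), (0 : ZMod 2)) = (0 : Vec) from rfl, ι_zero]
    · simpa [show ((0 : ZMod 2), (0 : ZMod 2)) = (0 : Vec) from rfl] using hu.symm
    · simpa using hz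
    · have e : ((1, 1) : Vec) = (1, 0) + (0, 1) := by decide
      simp only [one_ne_zero, if_false]
      rw [K.add, e, K.add, hu]
      calc p * (K.ι (1, 0) * K.ι (0, 1)) * p⁻¹ = (p * K.ι (1, 0) * p⁻¹) * (p * K.ι (0, 1) * p⁻¹) := by group
        _ = _ := by rw [hz]
  rcases (show ∀ x : Vec, x = 0 ∨ x = (1, 0) ∨ x = (0, 1) ∨ x = (1, 1) by decide) u with h | h | h | h
  · exfalso
    rw [h, ι_zero] at hu
    have h1 : K.ι (0, 1) = K.ι 0 := by
      rw [ι_zero, ← inv_mul_cancel_left p (K.ι (0, 1))]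
      rw [eq_comm, mul_inv_eq_one] at hu
      rw [hu, inv_mul_cancel]
    exact absurd (K.inj h1) (by decide)
  · exfalso
    rw [h, ← hz] at hu
    exact absurd (K.inj ((MulAut.conj p).injective hu.symm)) (by decide)
  · exfalso
    apply hp
    refine Subgroup.mem_centralizer_iff.2 fun x hx => ?_
    obtain ⟨w, rfl⟩ := K.surj x hx
    have := hall w
    rw [h, (show ∀ x : Vec, ((x.1, 0) + if x.2 = 0 then 0 else ((0, 1) : Vec)) = x by decide) w,
      mul_inv_eq_iff_eq_mul] at this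
    exact this.symm
  · rw [hall v, h, (show ∀ x : Vec, ((x.1, 0) + if x.2 = 0 then 0 else ((1, 1) : Vec)) = tv x by decide) v]

theorem mul_mem_P0 {p q : P} (hp : p ∉ K.P0) (hq : q ∉ K.P0) : p * q ∈ K.P0 := by
  refine Subgroup.mem_centralizer_iff.2 fun x hx => ?_
  obtain ⟨v, rfl⟩ := K.surj x hx
  have h : p * q * K.ι v * (p * q)⁻¹ = K.ι v := by
    calc p * q * K.ι v * (p * q)⁻¹ = p * (q * K.ι v * q⁻¹) * p⁻¹ := by group
      _ = K.ι v := by rw [K.move hq, K.move hp, tv_tv]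
  rw [mul_inv_eq_iff_eq_mul] at h
  exact h.symm

/-- `g` acts on `W` as `1 + 2 N`. -/
def Acts (g : P) (N : Quad) : Prop :=
  ∀ w ∈ W, ∀ v, w ^ 2 = K.ι v → g * w * g⁻¹ = w * K.ι (ap N v)

theorem acts_exists {g : P} (hg : g ∈ K.P0) : ∃ N, K.Acts g N := by
  choose r hrW hr using K.root
  have hδ : ∀ w ∈ W, w⁻¹ * (g * w * g⁻¹) ∈ omega hW.comm := fun w hw => by
    obtain ⟨v, hv⟩ := K.sq_exists hw
    have hc : g * w * g⁻¹ ∈ W := hW.normal.conj_mem w hw g
    refine ⟨W.mul_mem (W.inv_mem hw) hc, ?_⟩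
    rw [(show Commute w⁻¹ (g * w * g⁻¹) from hW.comm _ (W.inv_mem hw) _ hc).mul_pow, conj_pow, ← hv,
      K.fix hg, inv_pow, ← hv, inv_mul_cancel]
  choose f hf using fun v => K.surj _ (hδ (r v) (hrW v))
  have key : ∀ w ∈ W, ∀ v, w ^ 2 = K.ι v → g * w * g⁻¹ = w * K.ι (f v) := by
    intro w hw v hv
    set d := (r v)⁻¹ * w with hd
    have hdE : d ∈ omega hW.comm := ⟨W.mul_mem (W.inv_mem (hrW v)) hw, by
      rw [(show Commute (r v)⁻¹ w from hW.comm _ (W.inv_mem (hrW v)) _ hw).mul_pow, inv_pow, hr, hv,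
        inv_mul_cancel]⟩
    obtain ⟨u, hu⟩ := K.surj d hdE
    have hrv : g * r v * g⁻¹ = r v * K.ι (f v) := by rw [hf, mul_inv_cancel_left]
    calc g * w * g⁻¹ = (g * r v * g⁻¹) * (g * K.ι u * g⁻¹) := by rw [hu, hd]; group
      _ = r v * (K.ι u * K.ι (f v)) := by rw [hrv, K.fix hg, mul_assoc, ← K.add, ← K.add, add_comm]
      _ = w * K.ι (f v) := by rw [hu, hd]; group
  have hadd : ∀ a b, f (a + b) = f a + f b := fun a b => by
    apply K.inj
    have hw : r a * r b ∈ W := W.mul_mem (hrW a) (hrW b)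
    have h := key _ hw (a + b) (by
      rw [(show Commute (r a) (r b) from hW.comm _ (hrW a) _ (hrW b)).mul_pow, hr, hr, K.add])
    apply mul_left_cancel (a := r a * r b)
    rw [← h, K.add]
    calc g * (r a * r b) * g⁻¹ = (g * r a * g⁻¹) * (g * r b * g⁻¹) := by group
      _ = r a * (K.ι (f a) * r b) * K.ι (f b) := by rw [key _ (hrW a) a (hr a), key _ (hrW b) b (hr b)]; group
      _ = _ := by rw [← K.ι_comm (f a) (hrW b)]; group
  refine ⟨((f (1, 0)).1, (f (0, 1)).1, (f (1, 0)).2, (f (0, 1)).2), fun w hw v hv => ?_⟩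
  rw [key w hw v hv]
  congr 2
  have h0 : f 0 = 0 := by
    have := hadd 0 0
    rw [add_zero] at this
    exact left_eq_add.1 this
  obtain ⟨a, b⟩ := v
  rcases zmod2_cases a with rfl | rfl <;>
    rcases zmod2_cases b with rfl | rfl
  · exact h0.trans (Prod.ext (by simp [ap]) (by simp [ap]))
  · simp [ap]
  · simp [ap]
  · rw [show ((1, 1) : Vec) = (1, 0) + (0, 1) by decide, hadd]; simp [ap, Prod.ext_iff]

theorem acts_unique {g : P} {N M : Quad} (hN : K.Acts g N) (hM : K.Acts g M) : N = M := by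
  refine ap_ext N M fun v => K.inj ?_
  obtain ⟨w, hw, hwv⟩ := K.root v
  exact mul_left_cancel ((hN w hw v hwv).symm.trans (hM w hw v hwv))

theorem acts_mul {g h : P} {N M : Quad} (hg : g ∈ K.P0) (hN : K.Acts g N) (hM : K.Acts h M) :
    K.Acts (g * h) (N + M) := by
  intro w hw v hv
  calc g * h * w * (g * h)⁻¹ = g * (h * w * h⁻¹) * g⁻¹ := by group
    _ = (g * w * g⁻¹) * (g * K.ι (ap M v) * g⁻¹) := by rw [hM w hw v hv]; group
    _ = w * K.ι (ap (N + M) v) := by rw [hN w hw v hv, K.fix hg, ap_add, K.add, mul_assoc]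

theorem acts_zero {g : P} (hg : g ∈ Subgroup.centralizer (W : Set P)) : K.Acts g 0 := by
  intro w hw v _
  rw [ap_zero, ι_zero, mul_one, ← Subgroup.mem_centralizer_iff.1 hg w hw, mul_inv_cancel_right]

theorem mem_centralizer_of_acts {g : P} (hg : K.Acts g 0) : g ∈ Subgroup.centralizer (W : Set P) := by
  refine Subgroup.mem_centralizer_iff.2 fun w hw => ?_
  obtain ⟨v, hv⟩ := K.sq_exists hw
  have h := hg w hw v hv.symm
  rw [ap_zero, ι_zero, mul_one, mul_inv_eq_iff_eq_mul] at h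
  exact h.symm

theorem acts_inv {g : P} {N : Quad} (hg : g ∈ K.P0) (hN : K.Acts g N) : K.Acts g⁻¹ N := by
  obtain ⟨M, hM⟩ := K.acts_exists (K.P0.inv_mem hg)
  have h := K.acts_mul hg hN hM
  rw [mul_inv_cancel] at h
  have h' := K.acts_unique h (K.acts_zero (one_mem _))
  rwa [quad_eq_of_add N M h'] at hM

theorem sq_mem_centralizer {g : P} {N : Quad} (hg : g ∈ K.P0) (hN : K.Acts g N) :
    g ^ 2 ∈ Subgroup.centralizer (W : Set P) := by
  refine K.mem_centralizer_of_acts ?_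
  have h := K.acts_mul hg hN hN
  rwa [quad_add_self N, ← pow_two] at h

theorem acts_conj {g p : P} {N : Quad} (hN : K.Acts g N) :
    (p ∈ K.P0 → K.Acts (p * g * p⁻¹) N) ∧ (p ∉ K.P0 → K.Acts (p * g * p⁻¹) (tq N)) := by
  have key : ∀ σ : Vec → Vec, (∀ v, p * K.ι v * p⁻¹ = K.ι (σ v)) → (∀ v, σ (σ v) = v) →
      ∀ M : Quad, (∀ v, σ (ap N (σ v)) = ap M v) → K.Acts (p * g * p⁻¹) M := by
    intro σ hσ hσσ M hM w hw v hv
    have hw' : p⁻¹ * w * p ∈ W := by simpa using hW.normal.conj_mem w hw p⁻¹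
    have hv' : (p⁻¹ * w * p) ^ 2 = K.ι (σ v) := by
      have e : p * (p⁻¹ * w * p) ^ 2 * p⁻¹ = w ^ 2 := by rw [pow_two, pow_two]; group
      apply (MulAut.conj p).injective
      show p * (p⁻¹ * w * p) ^ 2 * p⁻¹ = p * K.ι (σ v) * p⁻¹
      rw [e, hσ, hσσ, hv]
    have h := hN _ hw' _ hv'
    calc p * g * p⁻¹ * w * (p * g * p⁻¹)⁻¹ = p * (g * (p⁻¹ * w * p) * g⁻¹) * p⁻¹ := by group
      _ = w * (p * K.ι (ap N (σ v)) * p⁻¹) := by rw [h]; group
      _ = w * K.ι (ap M v) := by rw [hσ, hM]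
  exact ⟨fun hp => key id (fun v => K.fix hp v) (fun _ => rfl) N (fun _ => rfl),
    fun hp => key tv (K.move hp) tv_tv (tq N) (ap_tq N)⟩

theorem noInv {g : P} {N : Quad} (hN : K.Acts g N) (hY : YT N) : NoInv W g := by
  intro w hw h
  obtain ⟨v, hv⟩ := K.sq_exists hw
  rw [hN w hw v hv.symm] at h
  have h2 : w ^ 2 * K.ι (ap N v) = 1 := by rw [pow_two, mul_assoc, h, mul_inv_cancel]
  rw [← hv, ← K.add, ← K.ι_zero] at h2
  have h3 : ap N v = v := vec_eq_of_add _ _ (K.inj h2)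
  rw [← hv, hY v h3, ι_zero]

theorem noFix {g : P} {N : Quad} (hN : K.Acts g N) (hI : Inv N) : NoFix W g := by
  intro w hw h
  obtain ⟨v, hv⟩ := K.sq_exists hw
  rw [hN w hw v hv.symm, mul_eq_left, ← K.ι_zero] at h
  rw [← hv, hI v (K.inj h), ι_zero]

/-- Two involutions acting alike differ by an element of `Ω₁ W`. -/
theorem diff_mem {y y' : P} {N : Quad} (hy : y ∈ K.P0) (hy2 : y ^ 2 = 1) (hy2' : y' ^ 2 = 1)
    (hN : K.Acts y N) (hN' : K.Acts y' N) (hY : YT N) : y⁻¹ * y' ∈ omega hW.comm := by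
  have hc : y⁻¹ * y' ∈ Subgroup.centralizer (W : Set P) := by
    refine K.mem_centralizer_of_acts ?_
    have h := K.acts_mul (K.P0.inv_mem hy) (K.acts_inv hy hN) hN'
    rwa [quad_add_self N] at h
  have hyy : y⁻¹ = y := inv_eq_of_mul_eq_one_right (by rw [← pow_two, hy2])
  have hyy' : y'⁻¹ = y' := inv_eq_of_mul_eq_one_right (by rw [← pow_two, hy2'])
  have hinv : y * (y⁻¹ * y') * y⁻¹ = (y⁻¹ * y')⁻¹ := by
    rw [mul_inv_rev, inv_inv, mul_inv_cancel_left, hyy, hyy']
  have h2 := sq_eq_one_of_inverted K.isP (powers_mem K.isP hW hc) (K.noInv hN hY) hinv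
  exact ⟨mem_of_pow_four K.isP hW hc (by rw [show 4 = 2 * 2 from rfl, pow_mul, h2, one_pow]), h2⟩

/-- An element commutes with an involution of type `Y` modulo `Ω₁ W`. -/
theorem commutator_mem {y g : P} {N : Quad} (hy : y ∈ K.P0) (hy2 : y ^ 2 = 1) (hN : K.Acts y N)
    (hY : YT N) (hg : g ∈ K.P0) : y⁻¹ * (g * y * g⁻¹) ∈ omega hW.comm :=
  K.diff_mem hy hy2 (by rw [conj_pow, hy2, mul_one, mul_inv_cancel]) hN ((K.acts_conj hN).1 hg) hY

theorem exists_involution {g : P} {N : Quad} (hN : K.Acts g N) (hY : YT N) {M S : Subgroup P}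
    (hM : M ≤ Subgroup.centralizer (W : Set P)) (hS : ∀ m ∈ M, (g * m) ^ 2 ∈ S)
    (hcard : 4 * Nat.card S ≤ Nat.card M) : ∃ m ∈ M, (g * m) ^ 2 = 1 := by
  by_contra hcon
  push Not at hcon
  have h := card_le_omega_mul K.isP hW (K.noInv hN hY) hM ((S : Set P) \ {1})
    fun m hm => ⟨hS m hm, hcon m hm⟩
  rw [K.card_omega, Nat.card_coe_set_eq, Set.ncard_sdiff_singleton_of_mem S.one_mem,
    ← Nat.card_coe_set_eq] at h
  have h0 : 0 < Nat.card S := Nat.card_pos
  change Nat.card M ≤ 4 * (Nat.card S - 1) at h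
  omega

theorem false_of_fixed {y : P} {N : Quad} (hy : y ∈ K.P0) (hy2 : y ^ 2 = 1) (hN : K.Acts y N)
    (hN0 : N ≠ 0) (hY : YT N) (hfix : ∀ p, p ∉ K.P0 → tq N = N) : False := by
  set E := omega hW.comm
  haveI := omega_normal hW
  have hconj : ∀ p : P, y⁻¹ * (p * y * p⁻¹) ∈ E := fun p => by
    refine K.diff_mem hy hy2 (by rw [conj_pow, hy2, mul_one, mul_inv_cancel]) hN ?_ hY
    by_cases hp : p ∈ K.P0
    · exact (K.acts_conj hN).1 hp
    · have := (K.acts_conj hN).2 hp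
      rwa [hfix p hp] at this
  have hyE : y ∉ E := fun h => hN0 (K.acts_unique hN (K.acts_zero (le_centralizer hW h.1)))
  set A := E ⊔ Subgroup.zpowers y
  have hAn : A.Normal := by
    refine ⟨fun a ha g => ?_⟩
    have hle : A.map (MulAut.conj g).toMonoidHom ≤ A := by
      rw [Subgroup.map_sup]
      refine sup_le ?_ ?_
      · rintro _ ⟨w, hw, rfl⟩
        exact Subgroup.mem_sup_left ((omega_normal hW).conj_mem w hw g)
      · rw [MonoidHom.map_zpowers, Subgroup.zpowers_le]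
        show g * y * g⁻¹ ∈ A
        rw [show g * y * g⁻¹ = y * (y⁻¹ * (g * y * g⁻¹)) by group]
        exact A.mul_mem (Subgroup.mem_sup_right (Subgroup.mem_zpowers y)) (Subgroup.mem_sup_left (hconj g))
    exact hle ⟨a, ha, rfl⟩
  have hyc : ∀ (i : ℤ), ∀ w ∈ E, Commute (y ^ i) w := fun i w hw =>
    (show Commute y w from (Subgroup.mem_centralizer_iff.1 hy w hw).symm).zpow_left i
  have hmem : ∀ a ∈ A, ∃ w ∈ E, ∃ i : ℤ, w * y ^ i = a := by
    intro a ha
    obtain ⟨w, hw, b, hb, rfl⟩ := Subgroup.mem_sup_of_normal_left.1 ha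
    obtain ⟨i, rfl⟩ := Subgroup.mem_zpowers_iff.1 hb
    exact ⟨w, hw, i, rfl⟩
  have h := K.rank A hAn (fun a ha b hb => by
      obtain ⟨w, hw, i, rfl⟩ := hmem a ha
      obtain ⟨v, hv, j, rfl⟩ := hmem b hb
      exact (((show Commute w v from hW.comm w hw.1 v hv.1).mul_right (hyc j w hw).symm).mul_left
        ((hyc i v hv).mul_right (Commute.zpow_zpow_self y i j))).eq)
    (fun a ha => by
      obtain ⟨w, hw, i, rfl⟩ := hmem a ha
      rw [(hyc i w hw).symm.mul_pow, hw.2, one_mul, ← zpow_natCast, ← zpow_mul, mul_comm, zpow_mul,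
        zpow_natCast, hy2, one_zpow])
  have hEA : E = A := Subgroup.eq_of_le_of_card_ge le_sup_left (by rw [K.card_omega]; exact h)
  exact hyE (hEA ▸ Subgroup.mem_sup_right (Subgroup.mem_zpowers y))

theorem centralizer_le_of_moved {y p : P} {N : Quad} (hy : y ∈ K.P0) (hy2 : y ^ 2 = 1)
    (hN : K.Acts y N) (hY : YT N) (hp : p ∉ K.P0) (hne : tq N ≠ N) :
    Subgroup.centralizer (W : Set P) ≤ W := by
  by_contra hCW
  obtain ⟨c, hcC, hcW, hc2, hcconj⟩ := exists_step K.isP hW hCW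
  obtain ⟨v, hv⟩ := K.sq_exists hc2
  have hv0 : v ≠ 0 := by
    intro h
    rw [h, ι_zero, ← pow_mul] at hv
    exact hcW (mem_of_pow_four K.isP hW hcC hv.symm)
  have key : ∀ (z : P) (M : Quad), z ∈ K.P0 → z ^ 2 = 1 → K.Acts z M → YT M → ap M v = 0 := by
    intro z M hz hz2 hM hYM
    set w := z * c * z⁻¹ * c⁻¹ with hw
    have hwW : w ∈ W := hcconj z
    have hzc : z * c * z⁻¹ = w * c := by rw [hw]; group
    have hcw : Commute w c := (commute_of_mem hW hcC hwW).symm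
    have hw2 : w ^ 2 = K.ι (ap M v) := by
      have h1 : w ^ 2 * c ^ 2 = c ^ 2 * K.ι (ap M v) := by
        rw [← hcw.mul_pow, ← hzc, conj_pow, hM _ hc2 v hv.symm]
      rw [hW.comm (c ^ 2) hc2 _ (K.mem _).1] at h1
      exact mul_right_cancel h1
    have hinv : z * w * z⁻¹ = w⁻¹ := by
      have hz' : z * z = 1 := by rw [← pow_two, hz2]
      calc z * w * z⁻¹ = (z * z) * c * (z * z)⁻¹ * (z * c * z⁻¹)⁻¹ := by rw [hw]; group
        _ = c * (w * c)⁻¹ := by rw [hz', hzc]; group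
        _ = w⁻¹ := by group
    refine K.inj ?_
    rw [ι_zero, ← hw2, K.noInv hM hYM w hwW hinv]
  refine hne (common_kernel N v hY hv0 (key y N hy hy2 hN hY) (key (p * y * p⁻¹) (tq N)
    (K.P0_normal.conj_mem y hy p) (by rw [conj_pow, hy2, mul_one, mul_inv_cancel])
    ((K.acts_conj hN).2 hp) ?_))
  intro u hu
  have := congrArg tv hu
  rw [← ap_tq, tv_tv] at this
  have h' := congrArg tv (hY _ this)
  rwa [tv_tv, show tv 0 = 0 by decide] at h'

theorem sixteen_le (K : Coord hW) : 16 ≤ Nat.card W := by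
  choose r hrW hr using K.root
  have hi : Function.Injective (fun q : Vec × Vec => (⟨r q.1 * K.ι q.2,
      W.mul_mem (hrW _) (K.mem _).1⟩ : W)) := by
    rintro ⟨a, b⟩ ⟨c, d⟩ he
    have he' : r a * K.ι b = r c * K.ι d := congrArg Subtype.val he
    have hsq : (r a * K.ι b) ^ 2 = (r c * K.ι d) ^ 2 := by rw [he']
    rw [(show Commute (r a) (K.ι b) from K.ι_comm b (hrW a)).mul_pow,
      (show Commute (r c) (K.ι d) from K.ι_comm d (hrW c)).mul_pow, (K.mem b).2, (K.mem d).2,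
      mul_one, mul_one, hr, hr] at hsq
    obtain rfl := K.inj hsq
    exact Prod.ext rfl (K.inj (mul_left_cancel he'))
  simpa [Nat.card_eq_fintype_card] using Nat.card_le_card_of_injective _ hi

theorem false_of_n0 {h : P} (hh : h ∈ K.P0)
    (hN : K.Acts h n0) (h2 : h ^ 2 ∈ omega hW.comm) : False := by
  have hcardW := K.sixteen_le
  obtain ⟨m, hm, hm2⟩ := K.exists_involution hN yt_n0 (le_centralizer hW)
    (S := omega hW.comm) (fun m hm => by
      obtain ⟨v, hv⟩ := K.sq_exists hm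
      have hconj := K.acts_inv hh hN m hm v hv.symm
      rw [inv_inv] at hconj
      have e : (h * m) ^ 2 = h ^ 2 * ((h⁻¹ * m * h) * m) := by rw [pow_two, pow_two]; group
      rw [e, hconj, mul_assoc, ← K.ι_comm _ hm, ← mul_assoc m, ← pow_two, ← hv]
      exact Subgroup.mul_mem _ h2 (Subgroup.mul_mem _ (K.mem _) (K.mem _)))
    (by rw [K.card_omega]; omega)
  have hmC := le_centralizer hW hm
  refine K.false_of_fixed (K.P0.mul_mem hh (K.centralizer_le_P0 hmC)) hm2 ?_ (by decide) yt_n0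
    (fun _ _ => tq_n0)
  have := K.acts_mul hh hN (K.acts_zero hmC)
  rwa [add_zero] at this

theorem mul_sq_mem {a b : P} (ha : a ^ 2 ∈ omega hW.comm) (hb : b ^ 2 ∈ omega hW.comm)
    (hab : a⁻¹ * b * a * b⁻¹ ∈ omega hW.comm) : (a * b) ^ 2 ∈ omega hW.comm := by
  rw [show (a * b) ^ 2 = a ^ 2 * (a⁻¹ * b * a * b⁻¹) * b ^ 2 by simp only [pow_two]; group]
  exact Subgroup.mul_mem _ (Subgroup.mul_mem _ ha hab) hb

theorem omega_elements {g : P} {N : Quad} (hg : g ∈ K.P0) (hN : K.Acts g N) (hY : YT N) (hI : Inv N) :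
    Subgroup.centralizer (W : Set P) ≤ W ∧
      ∃ y ∈ K.P0, y ^ 2 = 1 ∧ K.Acts y N := by
  set C := Subgroup.centralizer (W : Set P)
  have hS : ∀ m ∈ C, (g * m) ^ 2 ∈ omega hW.comm := by
    intro m hm
    have hgm : K.Acts (g * m) N := by
      have := K.acts_mul hg hN (K.acts_zero hm)
      rwa [add_zero] at this
    have hzC := K.sq_mem_centralizer (K.P0.mul_mem hg (K.centralizer_le_P0 hm)) hgm
    have h2 := sq_eq_one_of_fixed K.isP (powers_mem K.isP hW hzC) (K.noFix hgm hI)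
      (by rw [((Commute.refl (g * m)).pow_right 2).eq, mul_inv_cancel_right])
    exact ⟨mem_of_pow_four K.isP hW hzC (by rw [show 4 = 2 * 2 from rfl, pow_mul, h2, one_pow]), h2⟩
  have hle := card_le_omega_mul K.isP hW (K.noInv hN hY) le_rfl (omega hW.comm : Set P) hS
  have hcardW := K.sixteen_le
  change Nat.card C ≤ Nat.card (omega hW.comm) * Nat.card (omega hW.comm) at hle
  rw [K.card_omega] at hle
  have hCW : W = C := Subgroup.eq_of_le_of_card_ge (le_centralizer hW) (show Nat.card C ≤ _ by omega)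
  refine ⟨hCW.ge, ?_⟩
  obtain ⟨m, hm, hm2⟩ := K.exists_involution hN hY (M := C) le_rfl hS (by
    rw [K.card_omega, ← hCW]; omega)
  refine ⟨_, K.P0.mul_mem hg (K.centralizer_le_P0 hm), hm2, ?_⟩
  have := K.acts_mul hg hN (K.acts_zero hm)
  rwa [add_zero] at this

theorem not_full (h : ∀ N : Quad, ∃ g ∈ K.P0, K.Acts g N) : False := by
  obtain ⟨hIo, hIo', hIt, hYo, hYo', hsum⟩ := inv_sum
  obtain ⟨a, haP, ha⟩ := h om
  obtain ⟨hC, y, hy, hy2, hyN⟩ := K.omega_elements haP ha hYo hIo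
  obtain ⟨b, hbP, hb⟩ := h om'
  obtain ⟨-, y', hy', hy2', hyN'⟩ := K.omega_elements hbP hb hYo' hIo'
  obtain ⟨k, hk, hkN⟩ := h t0
  have hk2 : k ^ 2 ∈ omega hW.comm := by
    have hz := K.sq_mem_centralizer hk hkN
    exact ⟨hC hz, sq_eq_one_of_fixed K.isP (powers_mem K.isP hW hz) (K.noFix hkN hIt)
      (by rw [((Commute.refl k).pow_right 2).eq, mul_inv_cancel_right])⟩
  have h1 : (y' * k) ^ 2 ∈ omega hW.comm := by
    refine mul_sq_mem (hW := hW) (by rw [hy2']; exact one_mem _) hk2 ?_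
    simpa [mul_assoc] using K.commutator_mem hy' hy2' hyN' hYo' hk
  have h2 : (y * (y' * k)) ^ 2 ∈ omega hW.comm := by
    refine mul_sq_mem (hW := hW) (by rw [hy2]; exact one_mem _) h1 ?_
    simpa [mul_assoc] using K.commutator_mem hy hy2 hyN hYo (K.P0.mul_mem hy' hk)
  refine K.false_of_n0 (K.P0.mul_mem hy (K.P0.mul_mem hy' hk)) ?_ h2
  have := K.acts_mul hy hyN (K.acts_mul hy' hyN' hkN)
  rwa [← add_assoc, hsum] at this

end Coord

end CfsgLib.TwoGroups.NormalRankTwo
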