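import Cfsg.Agent.Lib.TwoGroups.KappaStar
import Cfsg.Agent.Lib.TwoGroups.HallFusion

/-!
Owner: helper12. Tools for the overgroup of a centralizer (Bender–Glauberman, 14.13 and 15.9).
-/

set_option autoImplicit false
set_option linter.unusedSectionVars false

namespace CfsgLib.TwoGroups.OvergroupTools

open Subgroup
open scoped commutatorElement

variable {G : Type*} [Group G] [Finite G] {M E E' X S A R : Subgroup G} {p q r : ℕ}
  [Fact p.Prime] [Fact q.Prime] [Fact r.Prime]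

/-- For `q ∉ β(M)`, a line normalizing a `q`-group of `M_σ` inside `M_σ` centralizes it. -/
theorem commute_of_normalizes (hG : Cfsg.IsMinSimpleOddOrder G) (hM : IsCoatom M) (hA : IsPGroup q A)
    (hqβ : q ∉ Cfsg.beta M) (hAO : A ≤ Cfsg.sigmaCore M) (hR : Nat.card R = r) (hRO : R ≤ Cfsg.sigmaCore M)
    (hn : R ≤ normalizer (A : Set G)) (hne : r ≠ q) : A ≤ centralizer (R : Set G) := by
  have hr := (Fact.out : r.Prime)
  have hRp : IsPGroup r R := OddLocal.FixedTauOne.isPGroup_of_card_eq hR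
  have key : ∀ C : Subgroup G, Group.IsNilpotent C → A ≤ C → R ≤ C → A ≤ centralizer (R : Set G) := by
    intro C hC hAC hRC a ha
    refine mem_centralizer_iff.mpr fun k hk => ?_
    obtain ⟨i, hi⟩ := IsPGroup.iff_orderOf.mp hA ⟨a, ha⟩
    obtain ⟨j, hj⟩ := IsPGroup.iff_orderOf.mp hRp ⟨k, hk⟩
    rw [← orderOf_coe] at hi hj
    exact OddLocal.commute_of_mem_nilpotent hC (hRC hk) (hAC ha) (by
      rw [show orderOf k = r ^ j from hj, show orderOf a = q ^ i from hi]
      exact ((Nat.coprime_primes hr Fact.out).mpr hne).pow j i)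
  by_cases hn' : Group.IsNilpotent (Cfsg.sigmaCore M)
  · exact key _ hn' hAO hRO
  obtain ⟨K, U, hd⟩ := Chapter15.exists_decomposition hG hM (Chapter15.kappaCyclic hG)
  obtain ⟨-, -, Q, D, d⟩ := Chapter15.exists_pair_of_ne hG hM (Chapter15.starPrime hG) hd hn'
  have := d.fact
  have hq0 : q ≠ Nat.card ↥(NonNilpotent.star M K) := fun e => hqβ (e ▸ d.mem_beta)
  have hAQ : A ⊓ Q = ⊥ := TauTwo.inf_eq_bot_pGroups hq0 hA d.isp
  by_cases hr0 : r = Nat.card ↥(NonNilpotent.star M K)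
  · intro a ha
    refine mem_centralizer_iff.mpr fun k hk => commutatorElement_eq_one_iff_mul_comm.mp
      (mem_bot.mp (hAQ ▸ mem_inf.mpr ⟨?_, ?_⟩))
    · rw [commutatorElement_def]
      exact A.mul_mem ((mem_normalizer_iff.mp (hn hk) a).mp ha) (A.inv_mem ha)
    · have hkQ : k ∈ Q := by
        obtain ⟨j, hj⟩ := IsPGroup.iff_orderOf.mp hRp ⟨k, hk⟩
        rw [← orderOf_coe, hr0] at hj
        exact FittingStructure.mem_of_normal_index d.setup.hq d.le
          ((TauTwo.sigmaCore_le M).trans d.normal) d.sylow (hRO hk) hj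
      rw [commutatorElement_def, mul_assoc k, mul_assoc k]
      exact Q.mul_mem hkQ ((mem_normalizer_iff.mp (d.normal (TauTwo.sigmaCore_le M (hAO ha))) _).mp (Q.inv_mem hkQ))
  · refine key (R ⊔ A) (d.nilp _ (sup_le hRO hAO) ?_) le_sup_right le_sup_left
    rw [inf_eq_bot_of_coprime (H := R ⊔ A) (K := Q)]
    · exact bot_le
    · exact Nat.Coprime.coprime_dvd_left (Core.card_sup_dvd R A hn)
        (Nat.Coprime.mul_left (TauTwo.coprime_pGroups hr0 hRp d.isp) (TauTwo.coprime_pGroups hq0 hA d.isp))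

/-- For `q ∉ β(M)`, a prime acting nontrivially on a `q`-group of `M` is less than `q`. -/
theorem prime_lt (hG : Cfsg.IsMinSimpleOddOrder G) (hM : IsCoatom M) (hqM : q ∣ Nat.card M)
    (hqβ : q ∉ Cfsg.beta M) (hX : Nat.card X = p) (hXM : X ≤ M) (hS : IsPGroup q S) (hSM : S ≤ M)
    (hXS : X ≤ normalizer (S : Set G)) (hnc : ¬ X ≤ centralizer (S : Set G)) (hpq : p ≠ q) : p < q := by
  have hp := (Fact.out : p.Prime)
  obtain ⟨hidx, -, -⟩ := OddLocal.BetaCore.narrow_facts hG hM hqM hqβ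
  refine lt_of_le_of_ne (hidx p hp ?_) hpq
  set O := Cfsg.pPrimeCore q ↥M with hO
  have hOX : ¬ X.subgroupOf M ≤ O := fun hle => hnc fun x hx => by
    refine mem_centralizer_iff.mpr fun s hs => ?_
    have hb : S.subgroupOf M ⊓ O = ⊥ := by
      refine inf_eq_bot_of_coprime ?_
      rw [Nat.card_congr (subgroupOfEquivOfLe hSM).toEquiv]
      obtain ⟨k, hk⟩ := IsPGroup.iff_card.mp hS
      rw [hk]
      exact (Core.coprime_card_pPrimeCore q ↥M).symm.pow_left k
    have h1 : ⁅(⟨s, hSM hs⟩ : M), (⟨x, hXM hx⟩ : M)⁆ ∈ S.subgroupOf M ⊓ O := by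
      refine ⟨?_, ?_⟩
      · show ((⁅(⟨s, hSM hs⟩ : M), (⟨x, hXM hx⟩ : M)⁆ : M) : G) ∈ S
        simp only [commutatorElement_def, Subgroup.coe_mul, InvMemClass.coe_inv, mul_assoc]
        rw [← mul_assoc x s⁻¹ x⁻¹]
        exact S.mul_mem hs ((mem_normalizer_iff.mp (hXS hx) _).mp (S.inv_mem hs))
      · rw [commutatorElement_def]
        exact O.mul_mem ((Cfsg.pPrimeCore_normal q ↥M).conj_mem _ (hle (show (⟨x, hXM hx⟩ : M) ∈ X.subgroupOf M from hx)) _)
          (O.inv_mem (hle (show (⟨x, hXM hx⟩ : M) ∈ X.subgroupOf M from hx)))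
    rw [hb, mem_bot, commutatorElement_eq_one_iff_mul_comm] at h1
    exact congrArg Subtype.val h1
  have h2 : O.relIndex (X.subgroupOf M) = p := by
    refine ((Nat.dvd_prime hp).mp (((O.subgroupOf (X.subgroupOf M)).index_dvd_card).trans (dvd_of_eq ?_))).resolve_left
      fun h => hOX (relIndex_eq_one.mp h)
    rw [Nat.card_congr (subgroupOfEquivOfLe hXM).toEquiv, hX]
  rw [← h2]
  exact relIndex_dvd_index_of_normal _ _

/-- A complement of `M_σ` has a conjugate in any other, with a given subgroup inside. -/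
theorem exists_conj_complement (hG : Cfsg.IsMinSimpleOddOrder G) (hM : IsCoatom M)
    (hE : Cfsg.IsComplIn E (Cfsg.sigmaCore M) M) (hE' : Cfsg.IsComplIn E' (Cfsg.sigmaCore M) M) :
    ∃ m ∈ M, E' = E.map (MulAut.conj m).toMonoidHom := by
  have : Group.IsSolvable M := hG.2.2.2 M hM.1
  have hall : ∀ {F : Subgroup G}, Cfsg.IsComplIn F (Cfsg.sigmaCore M) M →
      Cfsg.IsPiHall {t | t.Prime ∧ t ∉ Cfsg.sigma M} (F.subgroupOf M) := by
    intro F hF
    refine ⟨fun t ht hd => ?_, fun t ht htπ hd => ?_⟩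
    · rw [Nat.card_congr (subgroupOfEquivOfLe hF.1).toEquiv] at hd
      have := Fact.mk ht
      exact ⟨ht, OddLocal.SigmaComplement.not_mem_sigma hG hM hF hd⟩
    · refine htπ.2 (TauTwo.mem_sigma_of_dvd ht ?_ hG hM)
      rwa [show (F.subgroupOf M).index = Nat.card (Cfsg.sigmaCore M) from
        Nat.eq_of_mul_eq_mul_left (Nat.card_pos (α := F)) (by
          rw [OddLocal.IsComplIn_card_mul hF, ← relIndex_bot_left F, show (F.subgroupOf M).index = F.relIndex M from rfl,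
            relIndex_mul_relIndex ⊥ F M bot_le hF.1, relIndex_bot_left])] at hd
  obtain ⟨⟨m, hm⟩, e⟩ := Core.piHall_conj (hall hE) (hall hE')
  refine ⟨m, hm, ?_⟩
  rw [← map_subgroupOf_eq_of_le hE'.1, ← e]
  ext g
  constructor
  · rintro ⟨w, hw, rfl⟩
    rw [SetLike.mem_coe, mem_smul_pointwise_iff_exists] at hw
    obtain ⟨v, hv, rfl⟩ := hw
    exact ⟨v, hv, rfl⟩
  · rintro ⟨v, hv, rfl⟩
    exact ⟨_, smul_mem_pointwise_smul (⟨v, hE.1 hv⟩ : M) _ (E.subgroupOf M) hv, rfl⟩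

theorem mem_compl_conj {m : G} (hm : m ∈ M) (hE : Cfsg.IsComplIn E (Cfsg.sigmaCore M) M) :
    Cfsg.IsComplIn (E.map (MulAut.conj m).toMonoidHom) (Cfsg.sigmaCore M) M := by
  have hO := Transfer.map_conj_eq_self_iff.mpr (TauTwo.le_normalizer_sigmaCore M hm)
  have hMm := Transfer.map_conj_eq_self_iff.mpr (le_normalizer hm : m ∈ normalizer (M : Set G))
  refine ⟨?_, hE.2.1, ?_, fun a ha => ?_⟩
  · rw [← hMm]; exact map_mono hE.1
  · rw [← hO, ← map_inf _ _ _ (MulAut.conj m).injective, hE.2.2.1, Subgroup.map_bot]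
  · rw [← hMm] at ha
    obtain ⟨w, hw, rfl⟩ := ha
    obtain ⟨e, he, o, ho, rfl⟩ := hE.2.2.2 w hw
    exact ⟨_, mem_map_of_mem _ he, _, hO.le (mem_map_of_mem _ ho), map_mul _ _ _⟩

end CfsgLib.TwoGroups.OvergroupTools
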