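import Cfsg.Prelude.Def_Transfer
import Cfsg.Agent.Lib.PGroups.Suzuki.LinearThreeFour
import Cfsg.Agent.Lib.Classical.PSLThreeFour
import Cfsg.Agent.Lib.Classical.PSLTwoSimple

/-!
The subgroups of `PSL₃(4)` that are elementary abelian of order 16, and their normalizers.
-/

set_option autoImplicit false
set_option linter.style.haveILetI false
set_option linter.unusedSectionVars false

namespace CfsgLib.TwoGroups.PSLThreeFourRadicals

open Subgroup
open scoped MatrixGroups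
open CfsgLib.PGroups.Suzuki.LinearThreeFour (el el_mul el_zero exists_gensL)

universe u v

/-- The properties of a radical. -/
structure Good {L : Type v} [Group L] (F : Type u) [Field F] (Q : Subgroup L) : Prop where
  trans : ∀ a ∈ Q, ∀ b ∈ Q, a ≠ 1 → b ≠ 1 → ∃ g ∈ normalizer (Q : Set L), g * a * g⁻¹ = b
  cent : centralizer (Q : Set L) ≤ Q
  compl : ∃ C : Subgroup L, C ≤ normalizer (Q : Set L) ∧ C ⊓ Q = ⊥ ∧
    Q ⊔ C = normalizer (Q : Set L) ∧
    Nonempty (C ≃* Matrix.ProjectiveSpecialLinearGroup (Fin 2) F)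

theorem Good.map {L L' : Type v} [Group L] [Group L'] {F : Type u} [Field F] {Q : Subgroup L}
    (h : Good F Q) (f : L ≃* L') : Good F (Q.map f.toMonoidHom) := by
  have hN : normalizer ((Q.map f.toMonoidHom : Subgroup L') : Set L') =
      (normalizer (Q : Set L)).map f.toMonoidHom := (Subgroup.map_equiv_normalizer_eq Q f).symm
  refine ⟨?_, ?_, ?_⟩
  · rintro _ ⟨a, ha, rfl⟩ _ ⟨b, hb, rfl⟩ ha1 hb1
    obtain ⟨g, hg, e⟩ := h.trans a ha b hb (fun e => ha1 (by simp [e])) (fun e => hb1 (by simp [e]))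
    exact ⟨f g, hN ▸ ⟨g, hg, rfl⟩, by
      show f g * f a * (f g)⁻¹ = f b
      rw [← map_inv, ← map_mul, ← map_mul, e]⟩
  · intro y hy
    obtain ⟨x, rfl⟩ := f.surjective y
    refine ⟨x, h.cent (mem_centralizer_iff.2 fun q hq => f.injective ?_), rfl⟩
    simpa using mem_centralizer_iff.1 hy (f q) ⟨q, hq, rfl⟩
  · obtain ⟨C, hC1, hC2, hC3, ⟨i⟩⟩ := h.compl
    refine ⟨C.map f.toMonoidHom, hN ▸ Subgroup.map_mono hC1, ?_, ?_, ⟨?_⟩⟩
    · rw [← Subgroup.map_inf _ _ _ f.injective, hC2, Subgroup.map_bot]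
    · rw [hN, ← Subgroup.map_sup, hC3]
    · exact (C.equivMapOfInjective _ f.injective).symm.trans i

variable {F : Type u} [Field F] [Fintype F]

theorem two_eq_zero (hF : Fintype.card F = 4) : (2 : F) = 0 := by
  obtain ⟨-, -, -, -, -, -, h2⟩ := CfsgLib.Classical.PSLThreeFour.exists_coords hF
  exact h2

theorem cube_eq_one (hF : Fintype.card F = 4) {x : F} (hx : x ≠ 0) : x ^ 3 = 1 := by
  have := FiniteField.pow_card_sub_one_eq_one x hx
  rwa [hF] at this

theorem central_scalar {c : SL(3, F)} (hc : c ∈ center SL(3, F)) :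
    ∃ r : F, r ^ 3 = 1 ∧ (c : Matrix (Fin 3) (Fin 3) F) = r • 1 := by
  obtain ⟨r, hr, hr'⟩ := Matrix.SpecialLinearGroup.mem_center_iff.1 hc
  refine ⟨r, by simpa using hr, ?_⟩
  rw [← hr', Matrix.scalar_apply, ← Matrix.smul_one_eq_diagonal]

theorem mk_eq_iff {X Y : SL(3, F)} :
    QuotientGroup.mk' (center SL(3, F)) X = QuotientGroup.mk' _ Y ↔
      ∃ r : F, r ^ 3 = 1 ∧ (Y : Matrix (Fin 3) (Fin 3) F) = r • (X : Matrix (Fin 3) (Fin 3) F) := by
  rw [QuotientGroup.mk'_apply, QuotientGroup.mk'_apply, QuotientGroup.eq]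
  constructor
  · intro h
    obtain ⟨r, hr, hr'⟩ := central_scalar h
    refine ⟨r, hr, ?_⟩
    calc (Y : Matrix (Fin 3) (Fin 3) F) = (X * (X⁻¹ * Y) : SL(3, F)).1 := by rw [mul_inv_cancel_left]
      _ = (X : Matrix (Fin 3) (Fin 3) F) * (X⁻¹ * Y : SL(3, F)).1 := rfl
      _ = _ := by rw [hr', mul_smul_comm, mul_one]
  · rintro ⟨r, hr, hY⟩
    refine Matrix.SpecialLinearGroup.mem_center_iff.2 ⟨r, by simpa using hr, ?_⟩
    rw [Matrix.scalar_apply, ← Matrix.smul_one_eq_diagonal, Matrix.SpecialLinearGroup.coe_mul, hY,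
      mul_smul_comm, ← Matrix.SpecialLinearGroup.coe_mul, inv_mul_cancel, Matrix.SpecialLinearGroup.coe_one]

theorem sl2_center (hF : Fintype.card F = 4) : center SL(2, F) = ⊥ := by
  have h2 := two_eq_zero hF
  refine eq_bot_iff.2 fun c hc => ?_
  obtain ⟨r, hr, hr'⟩ := Matrix.SpecialLinearGroup.mem_center_iff.1 hc
  have hr1 : r = 1 := by
    have h : (r - 1) * (r - 1) = 0 := by
      rw [Fintype.card_fin] at hr
      linear_combination hr + (1 - r) * h2
    exact sub_eq_zero.1 (mul_self_eq_zero.1 h)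
  refine mem_bot.2 (Subtype.ext ?_)
  rw [← hr', hr1, map_one]
  rfl

theorem sl2_sq (hF : Fintype.card F = 4) {A : SL(2, F)} : ∀ {k : ℕ}, A ^ 2 ^ k = 1 → A ^ 2 = 1 := by
  have h2 := two_eq_zero hF
  have h4 : ∀ B : SL(2, F), B ^ 4 = 1 → B ^ 2 = 1 := by
    intro B hB
    have hd : B 0 0 * B 1 1 - B 0 1 * B 1 0 = 1 := by
      rw [← Matrix.det_fin_two]; exact B.2
    set t := B 0 0 + B 1 1 with ht
    have hCH : (B : Matrix (Fin 2) (Fin 2) F) ^ 2 = t • (B : Matrix (Fin 2) (Fin 2) F) - 1 := by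
      rw [pow_two]
      ext i j
      fin_cases i <;> fin_cases j <;> simp [Matrix.mul_apply, Fin.sum_univ_two, ht] <;>
        first | ring1 | linear_combination -hd
    by_cases h0 : t = 0
    · refine Subtype.ext ?_
      rw [Matrix.SpecialLinearGroup.coe_pow, hCH, h0, zero_smul, zero_sub,
        Matrix.SpecialLinearGroup.coe_one]
      ext i j
      rw [Matrix.neg_apply]
      linear_combination -((1 : Matrix (Fin 2) (Fin 2) F) i j) * h2
    have h : (B : Matrix (Fin 2) (Fin 2) F) ^ 4 =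
        (t ^ 3 - 2 * t) • (B : Matrix (Fin 2) (Fin 2) F) + (1 - t ^ 2) • 1 := by
      rw [show (4 : ℕ) = 2 + 2 from rfl, pow_add, hCH]
      rw [sub_mul, mul_sub, one_mul, mul_one, smul_mul_assoc, mul_smul_comm, ← pow_two, hCH]
      module
    rw [← Matrix.SpecialLinearGroup.coe_pow, hB, Matrix.SpecialLinearGroup.coe_one, h2] at h
    have e01 := congrFun (congrFun h 0) 1
    have e10 := congrFun (congrFun h 1) 0
    have e00 := congrFun (congrFun h 0) 0
    have e11 := congrFun (congrFun h 1) 1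
    simp at e01 e10 e00 e11
    have b01 : B 0 1 = 0 := e01.resolve_left h0
    have b10 : B 1 0 = 0 := e10.resolve_left h0
    have hne : t ^ 3 ≠ 0 := pow_ne_zero 3 h0
    have bb : B 0 0 = B 1 1 := mul_left_cancel₀ hne (by linear_combination e11 - e00)
    exfalso
    exact h0 (by rw [ht, bb]; linear_combination B 1 1 * h2)
  intro k
  induction k with
  | zero => intro h; simp at h; simp [h]
  | succ k ih =>
    intro h
    rcases k with _ | k
    · simpa using h
    refine ih ?_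
    have := h4 (A ^ 2 ^ k) (by rw [← pow_mul]; convert h using 2; ring)
    rw [← pow_mul, ← pow_succ] at this
    exact this

theorem good_of_frame (hF : Fintype.card F = 4) (q : F × F → SL(3, F)) (j : SL(2, F) →* SL(3, F))
    (act : SL(2, F) → F × F → F × F) (hq : ∀ x y, q x * q y = q (x + y))
    (hconj : ∀ A x, j A * q x = q (act A x) * j A) (htrans : ∀ x ≠ 0, ∃ A, act A (1, 0) = x)
    (hfaith : ∀ A, (∀ x, act A x = x) → A = 1)
    (hsep : ∀ A x (r : F), (j A : Matrix (Fin 3) (Fin 3) F) = r • (q x : Matrix (Fin 3) (Fin 3) F) →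
      A = 1 ∧ x = 0)
    (hnorm : ∀ X : SL(3, F), (∀ x, ∃ y, X * q x = q y * X) →
      ∃ A x, QuotientGroup.mk' (center SL(3, F)) X = QuotientGroup.mk' _ (q x * j A))
    (Q : Subgroup (Matrix.ProjectiveSpecialLinearGroup (Fin 3) F))
    (hQ : (Q : Set (Matrix.ProjectiveSpecialLinearGroup (Fin 3) F)) =
      Set.range fun x => QuotientGroup.mk' (center SL(3, F)) (q x)) :
    Good F Q := by
  have h2 := two_eq_zero hF
  let π := QuotientGroup.mk' (center SL(3, F))
  have hq0 : q 0 = 1 := by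
    have := hq 0 0
    rwa [add_zero, mul_eq_left] at this
  have hmemQ : ∀ {g}, g ∈ Q ↔ ∃ x, π (q x) = g := fun {g} => by
    rw [← SetLike.mem_coe, hQ]; rfl
  have hinj : ∀ x y, π (q x) = π (q y) → x = y := by
    intro x y h
    obtain ⟨r, -, hr⟩ := mk_eq_iff.1 (show π 1 = π (q (-x + y)) by
      rw [← hq, map_mul, ← h, ← map_mul, hq, neg_add_cancel, hq0])
    have h0 := hsep 1 (-x + y) r⁻¹ (by
      rw [map_one, hr, smul_smul]
      by_cases hr0 : r = 0
      · exfalso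
        rw [hr0, zero_smul] at hr
        have := (q (-x + y)).2
        rw [hr, Matrix.det_zero] at this
        exact zero_ne_one this
      · rw [inv_mul_cancel₀ hr0, one_smul])
    exact (neg_add_eq_zero.1 h0.2)
  let σ : SL(2, F) →* Matrix.ProjectiveSpecialLinearGroup (Fin 3) F := π.comp j
  have hσ : ∀ A x, σ A * π (q x) * (σ A)⁻¹ = π (q (act A x)) := fun A x => by
    show π (j A) * π (q x) * (π (j A))⁻¹ = _
    rw [← map_mul, hconj, map_mul, mul_inv_cancel_right]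
  have hle : σ.range ≤ normalizer (Q : Set (Matrix.ProjectiveSpecialLinearGroup (Fin 3) F)) := by
    rintro _ ⟨A, rfl⟩
    have h1 : ∀ (B : SL(2, F)) g, g ∈ Q → σ B * g * (σ B)⁻¹ ∈ Q := fun B g hg => by
      obtain ⟨x, rfl⟩ := hmemQ.1 hg
      exact hmemQ.2 ⟨_, (hσ B x).symm⟩
    refine mem_normalizer_iff.2 fun g => ⟨h1 A g, fun h => ?_⟩
    have := h1 A⁻¹ _ h
    simpa [mul_assoc] using this
  have hdecomp : ∀ g ∈ normalizer (Q : Set (Matrix.ProjectiveSpecialLinearGroup (Fin 3) F)),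
      ∃ A x, g = π (q x) * σ A := by
    intro g hg
    obtain ⟨X, rfl⟩ := QuotientGroup.mk'_surjective _ g
    obtain ⟨A, x, h⟩ := hnorm X fun x => by
      obtain ⟨y, hy⟩ := hmemQ.1 ((mem_normalizer_iff.1 hg _).1 (hmemQ.2 ⟨x, rfl⟩))
      refine ⟨y, ?_⟩
      obtain ⟨r, hr3, hr⟩ := mk_eq_iff.1 (show π (q y) = π (X * q x * X⁻¹) by
        rw [hy, map_mul, map_mul, map_inv])
      have hz : ∀ u : F × F, q u * q u = 1 := fun u => by
        rw [hq, ← hq0]; congr 1
        exact Prod.ext (by show u.1 + u.1 = 0; linear_combination u.1 * h2)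
          (by show u.2 + u.2 = 0; linear_combination u.2 * h2)
      have hrr : r * r = 1 := by
        have e1 : (X * q x * X⁻¹) * (X * q x * X⁻¹) = 1 := by
          rw [show (X * q x * X⁻¹) * (X * q x * X⁻¹) = X * (q x * q x) * X⁻¹ by group, hz]; group
        have e2 : ((X * q x * X⁻¹ : SL(3, F)) : Matrix (Fin 3) (Fin 3) F) *
            ((X * q x * X⁻¹ : SL(3, F)) : Matrix (Fin 3) (Fin 3) F) = 1 := by
          rw [← Matrix.SpecialLinearGroup.coe_mul, e1, Matrix.SpecialLinearGroup.coe_one]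
        rw [hr, smul_mul_smul_comm, ← Matrix.SpecialLinearGroup.coe_mul, hz,
          Matrix.SpecialLinearGroup.coe_one] at e2
        simpa using congrFun (congrFun e2 0) 0
      have hr1 : r = 1 := by linear_combination hr3 - r * hrr
      rw [hr1, one_smul] at hr
      rw [← show X * q x * X⁻¹ = q y from Subtype.ext hr, inv_mul_cancel_right]
    exact ⟨A, x, h.trans (map_mul _ _ _)⟩
  refine ⟨?_, ?_, σ.range, hle, ?_, ?_, ?_⟩
  · intro a ha b hb ha1 hb1
    obtain ⟨x, rfl⟩ := hmemQ.1 ha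
    obtain ⟨y, rfl⟩ := hmemQ.1 hb
    have hx : x ≠ 0 := fun h => ha1 (by rw [h, hq0, map_one])
    have hy : y ≠ 0 := fun h => hb1 (by rw [h, hq0, map_one])
    obtain ⟨A, rfl⟩ := htrans x hx
    obtain ⟨B, rfl⟩ := htrans y hy
    refine ⟨σ B * (σ A)⁻¹, mul_mem (hle ⟨B, rfl⟩) (inv_mem (hle ⟨A, rfl⟩)), ?_⟩
    rw [← hσ A, ← hσ B]
    group
  · intro g hg
    obtain ⟨A, x, rfl⟩ := hdecomp g ((show centralizer (Q : Set (Matrix.ProjectiveSpecialLinearGroup (Fin 3) F)) ≤ _ from Subgroup.centralizer_le_normalizer _) hg)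
    have hA : A = 1 := by
      refine hfaith A fun y => hinj _ _ ?_
      have h := mem_centralizer_iff.1 hg _ (hmemQ.2 ⟨y, rfl⟩)
      have hcq : π (q x) * π (q (act A y)) = π (q (act A y)) * π (q x) := by
        rw [← map_mul, ← map_mul, hq, hq, add_comm]
      calc π (q (act A y)) = (π (q x))⁻¹ * (π (q x) * π (q (act A y))) := by group
        _ = (π (q x))⁻¹ * (π (q x) * (σ A * π (q y) * (σ A)⁻¹)) := by rw [hσ]
        _ = (π (q x))⁻¹ * ((π (q x) * σ A) * π (q y)) * (σ A)⁻¹ := by group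
        _ = (π (q x))⁻¹ * (π (q y) * (π (q x) * σ A)) * (σ A)⁻¹ := by rw [h]
        _ = (π (q x))⁻¹ * (π (q y) * π (q x)) := by group
        _ = π (q y) := by rw [← map_mul, hq, add_comm, ← hq, map_mul, inv_mul_cancel_left]
    rw [hA, map_one, mul_one]
    exact hmemQ.2 ⟨x, rfl⟩
  · refine eq_bot_iff.2 ?_
    rintro _ ⟨⟨A, rfl⟩, h⟩
    obtain ⟨x, hx⟩ := hmemQ.1 h
    obtain ⟨r, -, hr⟩ := mk_eq_iff.1 hx
    rw [(hsep A x r hr).1, map_one]
    exact one_mem _
  · refine le_antisymm (sup_le Subgroup.le_normalizer hle) fun g hg => ?_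
    obtain ⟨A, x, rfl⟩ := hdecomp g hg
    exact mul_mem (le_sup_left (a := Q) (hmemQ.2 ⟨x, rfl⟩)) (le_sup_right (a := Q) ⟨A, rfl⟩)
  · have hσi : Function.Injective σ := by
      rw [injective_iff_map_eq_one]
      intro A hA
      obtain ⟨r, -, hr⟩ := mk_eq_iff.1 (show π (q 0) = π (j A) by rw [hq0, map_one]; exact hA.symm)
      exact (hsep A 0 r hr).1
    exact ⟨(MonoidHom.ofInjective hσi).symm.trans
      (QuotientGroup.quotientBot.symm.trans (QuotientGroup.quotientMulEquivOfEq (sl2_center hF).symm))⟩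

/-- The block embedding fixing the first vector. -/
def lowBlock : SL(2, F) →* SL(3, F) :=
  MonoidHom.mk' (fun A => ⟨!![1, 0, 0; 0, A 0 0, A 0 1; 0, A 1 0, A 1 1], by
    have h : A 0 0 * A 1 1 - A 0 1 * A 1 0 = 1 := by rw [← Matrix.det_fin_two]; exact A.2
    simp [Matrix.det_fin_three]; linear_combination h⟩) fun A B => by
    refine Subtype.ext ?_
    show (!![1, 0, 0; 0, (A * B) 0 0, (A * B) 0 1; 0, (A * B) 1 0, (A * B) 1 1] : Matrix (Fin 3) (Fin 3) F) = !![1, 0, 0; 0, A 0 0, A 0 1; 0, A 1 0, A 1 1] * !![1, 0, 0; 0, B 0 0, B 0 1; 0, B 1 0, B 1 1]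
    ext i k
    fin_cases i <;> fin_cases k <;> simp [Matrix.mul_apply, Fin.sum_univ_three, Fin.sum_univ_two]

/-- The block embedding fixing the last vector. -/
def upBlock : SL(2, F) →* SL(3, F) :=
  MonoidHom.mk' (fun A => ⟨!![A 0 0, A 0 1, 0; A 1 0, A 1 1, 0; 0, 0, 1], by
    have h : A 0 0 * A 1 1 - A 0 1 * A 1 0 = 1 := by rw [← Matrix.det_fin_two]; exact A.2
    simp [Matrix.det_fin_three]; linear_combination h⟩) fun A B => by
    refine Subtype.ext ?_
    show (!![(A * B) 0 0, (A * B) 0 1, 0; (A * B) 1 0, (A * B) 1 1, 0; 0, 0, 1] : Matrix (Fin 3) (Fin 3) F) = !![A 0 0, A 0 1, 0; A 1 0, A 1 1, 0; 0, 0, 1] * !![B 0 0, B 0 1, 0; B 1 0, B 1 1, 0; 0, 0, 1]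
    ext i k
    fin_cases i <;> fin_cases k <;> simp [Matrix.mul_apply, Fin.sum_univ_three, Fin.sum_univ_two]

theorem lowBlock_coe (A : SL(2, F)) : (lowBlock A : Matrix (Fin 3) (Fin 3) F) =
    !![1, 0, 0; 0, A 0 0, A 0 1; 0, A 1 0, A 1 1] := rfl

theorem upBlock_coe (A : SL(2, F)) : (upBlock A : Matrix (Fin 3) (Fin 3) F) =
    !![A 0 0, A 0 1, 0; A 1 0, A 1 1, 0; 0, 0, 1] := rfl

theorem el_coe (u v z : F) : (el u v z : Matrix (Fin 3) (Fin 3) F) =
    !![1, u, z; 0, 1, v; 0, 0, 1] := rfl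

theorem good_one (hF : Fintype.card F = 4)
    (Q : Subgroup (Matrix.ProjectiveSpecialLinearGroup (Fin 3) F))
    (hQ : (Q : Set (Matrix.ProjectiveSpecialLinearGroup (Fin 3) F)) =
      Set.range fun x : F × F => QuotientGroup.mk' (center SL(3, F)) (el x.1 0 x.2)) :
    Good F Q := by
  refine good_of_frame hF (fun x => el x.1 0 x.2) lowBlock
    (fun A x => (x.1 * A 1 1 - x.2 * A 1 0, x.2 * A 0 0 - x.1 * A 0 1)) (fun x y => ?_)
    (fun A x => ?_) (fun x hx => ?_) (fun A hA => ?_) (fun A x r h => ?_) (fun X hX => ?_) Q hQ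
  · rw [el_mul]; simp
  · have hd : A 0 0 * A 1 1 - A 0 1 * A 1 0 = 1 := by rw [← Matrix.det_fin_two]; exact A.2
    refine Subtype.ext ?_
    show (!![1, 0, 0; 0, A 0 0, A 0 1; 0, A 1 0, A 1 1] : Matrix (Fin 3) (Fin 3) F) *
      !![1, x.1, x.2; 0, 1, 0; 0, 0, 1] = !![1, x.1 * A 1 1 - x.2 * A 1 0,
        x.2 * A 0 0 - x.1 * A 0 1; 0, 1, 0; 0, 0, 1] * !![1, 0, 0; 0, A 0 0, A 0 1; 0, A 1 0, A 1 1]
    ext i k
    fin_cases i <;> fin_cases k <;>
      simp [Matrix.mul_apply, Fin.sum_univ_three] <;>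
      first | ring1 | linear_combination -x.1 * hd | linear_combination -x.2 * hd
  · by_cases h : x.1 = 0
    · have h2 : x.2 ≠ 0 := fun h2 => hx (Prod.ext h h2)
      refine ⟨⟨!![0, -x.2; x.2⁻¹, 0], by simp [Matrix.det_fin_two, h2]⟩, ?_⟩
      ext <;> simp [h]
    · refine ⟨⟨!![x.1⁻¹, -x.2; 0, x.1], by simp [Matrix.det_fin_two, h]⟩, ?_⟩
      ext <;> simp
  · have e1 := hA (1, 0)
    have e2 := hA (0, 1)
    simp at e1 e2
    refine Subtype.ext ?_
    ext i k
    fin_cases i <;> fin_cases k <;> simp [e1, e2]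
  · have e := fun i k => congrFun (congrFun h i) k
    have e00 := e 0 0; have e01 := e 0 1; have e02 := e 0 2
    have e11 := e 1 1; have e12 := e 1 2; have e21 := e 2 1; have e22 := e 2 2
    simp [lowBlock_coe, el_coe] at e00 e01 e02 e11 e12 e21 e22
    subst e00
    refine ⟨Subtype.ext ?_, Prod.ext ?_ ?_⟩
    · ext i k; fin_cases i <;> fin_cases k <;> simp [e11, e12, e21, e22]
    · simpa using e01
    · simpa using e02
  · obtain ⟨y, hy⟩ := hX (1, 0)
    have e : (X : Matrix (Fin 3) (Fin 3) F) * !![1, 1, 0; 0, 1, 0; 0, 0, 1] =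
        !![1, y.1, y.2; 0, 1, 0; 0, 0, 1] * (X : Matrix (Fin 3) (Fin 3) F) := congrArg Subtype.val hy
    have e1 := congrFun (congrFun e 1) 1
    have e2 := congrFun (congrFun e 2) 1
    simp [Matrix.mul_apply, Fin.sum_univ_three] at e1 e2
    have hd : (X : Matrix (Fin 3) (Fin 3) F).det = 1 := X.2
    rw [Matrix.det_fin_three, e1, e2] at hd
    have h00 : X 0 0 ≠ 0 := fun h => by rw [h] at hd; simp at hd
    have h3 := cube_eq_one hF h00
    let A : SL(2, F) := ⟨!![(X 0 0)⁻¹ * X 1 1, (X 0 0)⁻¹ * X 1 2;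
        (X 0 0)⁻¹ * X 2 1, (X 0 0)⁻¹ * X 2 2], by
      rw [Matrix.det_fin_two_of]
      field_simp
      linear_combination X 0 0 ^ 2 * hd - (X 1 1 * X 2 2 - X 1 2 * X 2 1) * h3⟩
    let a : F := (X 0 0)⁻¹ * X 0 1
    let b : F := (X 0 0)⁻¹ * X 0 2
    refine ⟨A, (a * A 1 1 - b * A 1 0, b * A 0 0 - a * A 0 1), mk_eq_iff.2
      ⟨(X 0 0)⁻¹, by rw [inv_pow, h3, inv_one], ?_⟩⟩
    rw [Matrix.SpecialLinearGroup.coe_mul, lowBlock_coe, el_coe]
    have hA : A 0 0 * A 1 1 - A 0 1 * A 1 0 = 1 := by rw [← Matrix.det_fin_two]; exact A.2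
    ext i k
    fin_cases i <;> fin_cases k <;>
      simp [lowBlock_coe, el_coe, Matrix.mul_apply, Fin.sum_univ_three, e1, e2, h00, A] <;>
      (simp [A] at hA) <;>
      first | ring1 | linear_combination a * hA | linear_combination b * hA

theorem good_two (hF : Fintype.card F = 4)
    (Q : Subgroup (Matrix.ProjectiveSpecialLinearGroup (Fin 3) F))
    (hQ : (Q : Set (Matrix.ProjectiveSpecialLinearGroup (Fin 3) F)) =
      Set.range fun x : F × F => QuotientGroup.mk' (center SL(3, F)) (el 0 x.2 x.1)) :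
    Good F Q := by
  refine good_of_frame hF (fun x => el 0 x.2 x.1) upBlock
    (fun A x => (A 0 0 * x.1 + A 0 1 * x.2, A 1 0 * x.1 + A 1 1 * x.2)) (fun x y => ?_)
    (fun A x => ?_) (fun x hx => ?_) (fun A hA => ?_) (fun A x r h => ?_) (fun X hX => ?_) Q hQ
  · rw [el_mul]; simp
  · refine Subtype.ext ?_
    show (!![A 0 0, A 0 1, 0; A 1 0, A 1 1, 0; 0, 0, 1] : Matrix (Fin 3) (Fin 3) F) *
      !![1, 0, x.1; 0, 1, x.2; 0, 0, 1] = !![1, 0, A 0 0 * x.1 + A 0 1 * x.2;
        0, 1, A 1 0 * x.1 + A 1 1 * x.2; 0, 0, 1] * !![A 0 0, A 0 1, 0; A 1 0, A 1 1, 0; 0, 0, 1]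
    ext i k
    fin_cases i <;> fin_cases k <;> simp [Matrix.mul_apply, Fin.sum_univ_three]
  · by_cases h : x.1 = 0
    · have h2 : x.2 ≠ 0 := fun h2 => hx (Prod.ext h h2)
      refine ⟨⟨!![0, -x.2⁻¹; x.2, 0], by simp [Matrix.det_fin_two, h2]⟩, ?_⟩
      ext <;> simp [h]
    · refine ⟨⟨!![x.1, 0; x.2, x.1⁻¹], by simp [Matrix.det_fin_two, h]⟩, ?_⟩
      ext <;> simp
  · have e1 := hA (1, 0)
    have e2 := hA (0, 1)
    simp at e1 e2
    refine Subtype.ext ?_
    ext i k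
    fin_cases i <;> fin_cases k <;> simp [e1, e2]
  · have e := fun i k => congrFun (congrFun h i) k
    have e22 := e 2 2; have e02 := e 0 2; have e12 := e 1 2
    have e00 := e 0 0; have e01 := e 0 1; have e10 := e 1 0; have e11 := e 1 1
    simp [upBlock_coe, el_coe] at e22 e02 e12 e00 e01 e10 e11
    subst e22
    refine ⟨Subtype.ext ?_, Prod.ext ?_ ?_⟩
    · ext i k; fin_cases i <;> fin_cases k <;> simp [e00, e01, e10, e11]
    · simpa using e02
    · simpa using e12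
  · obtain ⟨y, hy⟩ := hX (1, 0)
    obtain ⟨z, hz⟩ := hX (0, 1)
    have e : (X : Matrix (Fin 3) (Fin 3) F) * !![1, 0, 1; 0, 1, 0; 0, 0, 1] =
        !![1, 0, y.1; 0, 1, y.2; 0, 0, 1] * (X : Matrix (Fin 3) (Fin 3) F) := congrArg Subtype.val hy
    have e' : (X : Matrix (Fin 3) (Fin 3) F) * !![1, 0, 0; 0, 1, 1; 0, 0, 1] =
        !![1, 0, z.1; 0, 1, z.2; 0, 0, 1] * (X : Matrix (Fin 3) (Fin 3) F) := congrArg Subtype.val hz
    have e1 := congrFun (congrFun e 2) 2
    have e2 := congrFun (congrFun e' 2) 2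
    simp [Matrix.mul_apply, Fin.sum_univ_three] at e1 e2
    have hd : (X : Matrix (Fin 3) (Fin 3) F).det = 1 := X.2
    rw [Matrix.det_fin_three, e1, e2] at hd
    have h22 : X 2 2 ≠ 0 := fun h => by rw [h] at hd; simp at hd
    have h3 := cube_eq_one hF h22
    let A : SL(2, F) := ⟨!![(X 2 2)⁻¹ * X 0 0, (X 2 2)⁻¹ * X 0 1;
        (X 2 2)⁻¹ * X 1 0, (X 2 2)⁻¹ * X 1 1], by
      rw [Matrix.det_fin_two_of]
      field_simp
      linear_combination X 2 2 ^ 2 * hd - (X 0 0 * X 1 1 - X 0 1 * X 1 0) * h3⟩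
    refine ⟨A, ((X 2 2)⁻¹ * X 0 2, (X 2 2)⁻¹ * X 1 2), mk_eq_iff.2
      ⟨(X 2 2)⁻¹, by rw [inv_pow, h3, inv_one], ?_⟩⟩
    rw [Matrix.SpecialLinearGroup.coe_mul, upBlock_coe, el_coe]
    ext i k
    fin_cases i <;> fin_cases k <;>
      simp [upBlock_coe, el_coe, Matrix.mul_apply, Fin.sum_univ_three, e1, e2, h22, A]

/-- Every elementary abelian subgroup of order 16 is a radical. -/
theorem good_of_elementary (hF : Fintype.card F = 4)
    (B : Subgroup (Matrix.ProjectiveSpecialLinearGroup (Fin 3) F))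
    (hB : Cfsg.IsElementaryAbelian 2 B) (hB16 : Nat.card B = 16) : Good F B := by
  classical
  haveI : Fact (Nat.Prime 2) := ⟨Nat.prime_two⟩
  have h2 := two_eq_zero hF
  let π := QuotientGroup.mk' (center SL(3, F))
  let U : Subgroup (Matrix.ProjectiveSpecialLinearGroup (Fin 3) F) :=
    { carrier := Set.range fun p : F × F × F => π (el p.1 p.2.1 p.2.2)
      one_mem' := ⟨(0, 0, 0), by simp [el_zero]⟩
      mul_mem' := by
        rintro _ _ ⟨p, rfl⟩ ⟨p', rfl⟩
        exact ⟨(p.1 + p'.1, p.2.1 + p'.2.1, p.2.2 + p'.2.2 + p.1 * p'.2.1), by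
          show _ = π _ * π _
          rw [← map_mul, el_mul]⟩
      inv_mem' := by
        rintro _ ⟨p, rfl⟩
        refine ⟨(-p.1, -p.2.1, -p.2.2 + p.1 * p.2.1), eq_inv_of_mul_eq_one_left ?_⟩
        rw [← map_mul, el_mul]
        convert map_one π
        rw [← el_zero (F := F)]
        congr 1 <;> ring }
  have hinj : Function.Injective fun p : F × F × F => π (el p.1 p.2.1 p.2.2) := by
    intro p p' h
    obtain ⟨r, -, hr⟩ := mk_eq_iff.1 h
    have e := fun i k => congrFun (congrFun hr i) k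
    have e00 := e 0 0; have e01 := e 0 1; have e12 := e 1 2; have e02 := e 0 2
    simp [el] at e00 e01 e12 e02
    subst e00
    simp at e01 e12 e02
    exact Prod.ext e01.symm (Prod.ext e12.symm e02.symm)
  have hU : Nat.card U = 64 := by
    rw [show Nat.card U = Nat.card (F × F × F) from (Nat.card_congr (Equiv.ofInjective _ hinj)).symm,
      Nat.card_prod, Nat.card_prod, Nat.card_eq_fintype_card, hF]
  obtain ⟨S⟩ : Nonempty (Sylow 2 (Matrix.ProjectiveSpecialLinearGroup (Fin 3) F)) := inferInstance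
  have hUp : IsPGroup 2 U := IsPGroup.of_card (n := 6) hU
  obtain ⟨P', hP'⟩ := hUp.exists_le_sylow
  have hUP : U = P' := Subgroup.eq_of_le_of_card_ge hP'
    (by rw [(exists_gensL hF P').1, hU])
  obtain ⟨P, hP⟩ := (IsPGroup.of_card (n := 4) hB16 : IsPGroup 2 B).exists_le_sylow
  obtain ⟨g, hg⟩ := MulAction.exists_smul_eq (Matrix.ProjectiveSpecialLinearGroup (Fin 3) F) P P'
  set B' := B.map (MulAut.conj g).toMonoidHom with hB'
  have hB'U : B' ≤ U := by
    rw [hUP, ← hg]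
    rintro _ ⟨b, hb, rfl⟩
    exact Subgroup.smul_mem_pointwise_smul b (MulAut.conj g) _ (hP hb)
  suffices hgood : Good F B' by
    have h := hgood.map (MulAut.conj g).symm
    rwa [hB', Subgroup.map_map, show ((MulAut.conj g).symm.toMonoidHom.comp (MulAut.conj g).toMonoidHom) =
      MonoidHom.id _ from MonoidHom.ext fun x => (MulAut.conj g).symm_apply_apply x, Subgroup.map_id] at h
  have hsq : ∀ x ∈ B', x * x = 1 := by
    rintro _ ⟨b, hb, rfl⟩
    rw [← map_mul, ← pow_two, hB.2 b hb, map_one]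
  have hzero : ∀ p : F × F × F, π (el p.1 p.2.1 p.2.2) ∈ B' → p.1 = 0 ∨ p.2.1 = 0 := by
    intro p hp
    have h := hsq _ hp
    rw [← map_mul, el_mul] at h
    have h' := hinj (a₁ := (p.1 + p.1, p.2.1 + p.2.1, p.2.2 + p.2.2 + p.1 * p.2.1)) (a₂ := (0, 0, 0))
      (by simpa [el_zero] using h)
    have h3 : p.2.2 + p.2.2 + p.1 * p.2.1 = 0 := congrArg (fun q : F × F × F => q.2.2) h'
    exact mul_eq_zero.1 (by linear_combination h3 - p.2.2 * h2)
  have hcases : (∀ p : F × F × F, π (el p.1 p.2.1 p.2.2) ∈ B' → p.2.1 = 0) ∨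
      (∀ p : F × F × F, π (el p.1 p.2.1 p.2.2) ∈ B' → p.1 = 0) := by
    by_contra hcon
    push Not at hcon
    obtain ⟨⟨p, hp, hp2⟩, p', hp', hp1⟩ := hcon
    have hp0 : p.1 = 0 := (hzero p hp).resolve_right hp2
    have hp'0 : p'.2.1 = 0 := (hzero p' hp').resolve_left hp1
    have h := hzero (p.1 + p'.1, p.2.1 + p'.2.1, p.2.2 + p'.2.2 + p.1 * p'.2.1) (by
      show π _ ∈ B'
      rw [← el_mul, map_mul]
      exact mul_mem hp hp')
    simp only [hp0, hp'0, zero_add, add_zero] at h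
    exact h.elim hp1 hp2
  have hcardB' : Nat.card B' = 16 := by
    rw [← Nat.card_congr (B.equivMapOfInjective _ (MulAut.conj g).injective).toEquiv, hB16]
  have hfin : ∀ (j : F × F → F × F × F), Function.Injective j →
      (∀ p : F × F × F, π (el p.1 p.2.1 p.2.2) ∈ B' → ∃ x, j x = p) →
      (B' : Set (Matrix.ProjectiveSpecialLinearGroup (Fin 3) F)) =
        Set.range fun x => π (el (j x).1 (j x).2.1 (j x).2.2) := by
    intro j hj hsub
    refine Set.eq_of_subset_of_ncard_le ?_ ?_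
    · intro y hy
      obtain ⟨p, rfl⟩ := hB'U hy
      obtain ⟨x, rfl⟩ := hsub p hy
      exact ⟨x, rfl⟩
    · rw [← Nat.card_coe_set_eq, ← Nat.card_coe_set_eq, Nat.card_congr
        (Equiv.ofInjective (fun x => π (el (j x).1 (j x).2.1 (j x).2.2)) (hinj.comp hj)).symm,
        Nat.card_prod, Nat.card_eq_fintype_card (α := F), hF]
      exact hcardB'.ge
  rcases hcases with h | h
  · exact good_one hF B' (hfin (fun x => (x.1, 0, x.2))
      (fun a b e => by simpa [Prod.ext_iff] using e) fun p hp => ⟨(p.1, p.2.2), by simp [← h p hp]⟩)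
  · exact good_two hF B' (hfin (fun x => (0, x.2, x.1))
      (fun a b e => by simpa [Prod.ext_iff, and_comm] using e) fun p hp => ⟨(p.2.2, p.2.1), by simp [← h p hp]⟩)

end CfsgLib.TwoGroups.PSLThreeFourRadicals
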