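import Cfsg.Agent.Lib.TwoGroups.UniquenessChain

/-!
Owner: helper12. A self-centralising normal subgroup `A` of a Sylow subgroup is a uniqueness
subgroup when one maximal subgroup contains `N(Z(J(P)))` and all `A`-invariant `p'`-subgroups.
-/

set_option autoImplicit false

namespace CfsgLib.TwoGroups.SCNCriterion

open Subgroup

variable {G : Type*} [Group G] [Finite G] {p : ℕ} [Fact p.Prime]

/-- Frattini factorisation at a Sylow subgroup. -/
theorem factor (hG : Cfsg.IsMinSimpleOddOrder G) (hp2 : p ≠ 2) {X R : Subgroup G} (hX : X ≠ ⊤)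
    (hR : IsPGroup p R) (hRX : R ≤ X)
    (hmax : ∀ R' : Subgroup G, IsPGroup p R' → R' ≤ X → R ≤ R' → R' = R) :
    ∀ x ∈ X, ∃ o ∈ (Cfsg.pPrimeCore p ↥X).map X.subtype,
      ∃ n ∈ X ⊓ normalizer (Cfsg.centerThompsonOf p R : Set G), x = o * n := by
  intro x hx
  have := hG.2.2.2 X hX
  set Z := Cfsg.centerThompsonOf p R with hZ
  have hZR : Z ≤ R := OddLocal.centerThompson_le R
  obtain ⟨S, hS⟩ := Uniqueness.exists_sylow_eq (G := ↥X) (hR.comap_subtype (K := X))
    (fun R' hR' hle => by
      have e := hmax (R'.map X.subtype) (hR'.map _) (map_subtype_le R') (fun y hy =>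
        ⟨⟨y, hRX hy⟩, hle hy, rfl⟩)
      rw [← e, comap_map_eq_self_of_injective X.subtype_injective])
  have hn := OddLocal.centerThompson_sup_normal (hG.1.of_dvd_nat X.card_subgroup_dvd_card) hp2 S
  have hZX : Z.subgroupOf X = Cfsg.centerThompsonOf p (S : Subgroup ↥X) := by
    apply map_injective X.subtype_injective
    rw [map_subgroupOf_eq_of_le (hZR.trans hRX), OddLocal.centerThompson_map X.subtype _ (by
      rw [X.ker_subtype]; exact disjoint_bot_right), hS,
      show (R.comap X.subtype).map X.subtype = R from map_subgroupOf_eq_of_le hRX]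
  rw [← hZX] at hn
  exact Uniqueness.exists_split (hZR.trans hRX) (Uniqueness.normalizer_sup_eq_top
    ((hR.to_le hZR).comap_subtype) (Core.coprime_card_pPrimeCore p ↥X) hn) hx

/-- The criterion. -/
theorem inUniqueMaximal_of_invariant (hG : Cfsg.IsMinSimpleOddOrder G) (S : Sylow p G) {A : Subgroup G}
    (hA : Cfsg.IsSCN (S : Subgroup G) A) (hA3 : ¬ Cfsg.PRankLE p 2 ↥A) {M : Subgroup G}
    (hM : IsCoatom M)
    (hN₀M : normalizer (Cfsg.centerThompsonOf p (S : Subgroup G) : Set G) ≤ M)
    (hinv : ∀ Y : Subgroup G, ¬ p ∣ Nat.card Y → A ≤ normalizer (Y : Set G) → Y ≤ M) :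
    Cfsg.InUniqueMaximal A := by
  obtain ⟨hAP, hPA, hCA⟩ := id hA
  set P := (S : Subgroup G) with hPdef
  have hP : IsPGroup p P := S.2
  have hAp : IsPGroup p A := hP.to_le hAP
  obtain ⟨B, hBA, hB, hB3⟩ := Uniqueness.exists_elementary_of_not_rank hA3
  have hpG : p ∣ Nat.card G :=
    Uniqueness.prime_dvd_of_elementary hB ((Nat.le_self_pow (by omega) p).trans hB3)
  have hp2 : p ≠ 2 := Uniqueness.odd_prime hG hpG
  have hA1 : A ≠ ⊥ := by
    rintro rfl
    exact hA3 fun E _ _ => by
      rw [Subsingleton.elim E ⊥, card_bot]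
      exact Nat.one_le_pow _ _ (Fact.out : p.Prime).pos
  have hPne : P ≠ ⊥ := fun h => hA1 (le_bot_iff.mp (h ▸ hAP))
  set N₀ := normalizer (Cfsg.centerThompsonOf p P : Set G) with hN₀
  have hPN₀ : P ≤ N₀ :=
    le_normalizer.trans (OddLocal.normalizer_le_normalizer_centerThompson P)
  have hcore : ∀ X : Subgroup G, A ≤ X → (Cfsg.pPrimeCore p ↥X).map X.subtype ≤ M := by
    intro X hAX
    refine hinv _ ?_ ?_
    · rw [card_map_of_injective X.subtype_injective]
      exact (Nat.Prime.coprime_iff_not_dvd Fact.out).mp (Core.coprime_card_pPrimeCore p ↥X).symm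
    · intro b hb
      exact le_normalizer_map X.subtype ⟨⟨b, hAX hb⟩,
        (Core.le_normalizer_of_normal ⊤ (Cfsg.pPrimeCore p ↥X)) (mem_top _), rfl⟩
  have hPM : P ≤ M := hPN₀.trans hN₀M
  refine ⟨M, ⟨hM, hAP.trans hPM⟩, ?_⟩
  rintro L ⟨hL, hAL⟩
  suffices hle : L ≤ M by
    rcases hle.lt_or_eq with h | h
    · exact absurd (hL.2 _ h) hM.1
    · exact h
  by_contra hbad
  obtain ⟨R, ⟨hR, hAR, hRM, L', hL', hRL, hLM⟩, hRmax⟩ := Set.exists_max_image
    {R : Subgroup G | IsPGroup p R ∧ A ≤ R ∧ R ≤ M ∧ ∃ L : Subgroup G, L ≠ ⊤ ∧ R ≤ L ∧ ¬ L ≤ M}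
    (fun R => Nat.card R) (Set.toFinite _) ⟨A, hAp, le_rfl, hAP.trans hPM, L, hL.1, hAL, hbad⟩
  have hgood : ∀ R' : Subgroup G, IsPGroup p R' → R' ≤ M → A ≤ R' → Nat.card R < Nat.card R' →
      ∀ X : Subgroup G, X ≠ ⊤ → R' ≤ X → X ≤ M := by
    intro R' hR' hR'M hAR' hlt X hX hRX
    by_contra hXM
    have := hRmax R' ⟨hR', hAR', hR'M, X, hX, hRX, hXM⟩
    omega
  have hRne : R ≠ ⊥ := fun h => hA1 (le_bot_iff.mp (h ▸ hAR))
  set N := normalizer (Cfsg.centerThompsonOf p R : Set G) with hN
  have hRN : normalizer (R : Set G) ≤ N := OddLocal.normalizer_le_normalizer_centerThompson R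
  have hNt : N ≠ ⊤ := TransitivityHyp.normalizer_ne_top hG
    (Transfer.centerThompsonOf_ne_bot hR hRne)
    (Uniqueness.ne_top_of_pGroup hG (hR.to_le (OddLocal.centerThompson_le R)))
  have hNM : N ≤ M := by
    by_cases hmax : ∀ R' : Subgroup G, IsPGroup p R' → R' ≤ M → R ≤ R' → R' = R
    · -- `R` is conjugate to `P` inside `M`
      obtain ⟨T, hT⟩ := Uniqueness.exists_sylow_eq (G := ↥M) (hR.comap_subtype (K := M))
        (fun R' hR' hle => by
          have e := hmax (R'.map M.subtype) (hR'.map _) (map_subtype_le R') (fun y hy =>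
            ⟨⟨y, hRM hy⟩, hle hy, rfl⟩)
          rw [← e, comap_map_eq_self_of_injective M.subtype_injective])
      obtain ⟨T', hT'⟩ := (hP.comap_subtype (K := M)).exists_le_sylow
      obtain ⟨m, hm⟩ := MulAction.exists_smul_eq ↥M T' T
      have hRP : P.map (MulAut.conj (m : G)).toMonoidHom = R := by
        have hle : P.map (MulAut.conj (m : G)).toMonoidHom ≤ R := by
          rintro _ ⟨x, hx, rfl⟩
          have h1 : m * ⟨x, hPM hx⟩ * m⁻¹ ∈ ((m • T' : Sylow p ↥M) : Subgroup ↥M) := by
            rw [Transfer.mem_sylow_smul]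
            simpa [mul_assoc] using hT' (show (⟨x, hPM hx⟩ : ↥M) ∈ P.comap M.subtype from hx)
          rw [hm, hT] at h1
          exact h1
        obtain ⟨S', hS'⟩ := hR.exists_le_sylow
        refine eq_of_le_of_card_ge hle ?_
        rw [Transfer.card_map_conj]
        refine (card_le_of_le hS').trans (le_of_eq ?_)
        exact (Sylow.card_eq_multiplicity S').trans (Sylow.card_eq_multiplicity S).symm
      intro x hx
      have h1 : Cfsg.centerThompsonOf p R =
          (Cfsg.centerThompsonOf p P).map (MulAut.conj (m : G)).toMonoidHom := by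
        rw [OddLocal.centerThompson_map _ _ (by
          rw [(MonoidHom.ker_eq_bot_iff _).mpr (MulAut.conj (m : G)).injective]
          exact disjoint_bot_right), hRP]
      have h2 : (m : G)⁻¹ * x * m ∈ N₀ := by
        refine Transfer.map_conj_eq_self_iff.mp ?_
        have hx' := Transfer.map_conj_eq_self_iff.mpr hx
        rw [h1, Subgroup.map_map] at hx'
        apply map_injective (f := (MulAut.conj (m : G)).toMonoidHom) (MulAut.conj (m : G)).injective
        rw [Subgroup.map_map]
        convert hx' using 2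
        ext y
        simp [mul_assoc]
      have h3 := mul_mem (mul_mem m.2 (hN₀M h2)) (inv_mem m.2)
      simpa [mul_assoc] using h3
    · push Not at hmax
      obtain ⟨R', hR', hR'M, hle, hne⟩ := hmax
      exact hgood _ (hR'.to_le inf_le_left) (inf_le_left.trans hR'M)
        (hAR.trans (le_inf hle le_normalizer))
        (Uniqueness.isPGroup_lt_inf hR' (lt_of_le_of_ne hle (Ne.symm hne))) N hNt
        (inf_le_right.trans hRN)
  have hmaxL : ∀ R' : Subgroup G, IsPGroup p R' → R' ≤ L' → R ≤ R' → R' = R := by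
    intro R' hR' hR'L hle
    by_contra hne
    exact hLM (hgood _ (hR'.to_le inf_le_left) ((inf_le_right.trans hRN).trans hNM)
      (hAR.trans (le_inf hle le_normalizer))
      (Uniqueness.isPGroup_lt_inf hR' (lt_of_le_of_ne hle (Ne.symm hne))) L' hL'
      (inf_le_left.trans hR'L))
  refine hLM fun x hx => ?_
  obtain ⟨o, ho, n, hn, rfl⟩ := factor hG hp2 hL' hR hRL hmaxL x hx
  exact mul_mem (hcore L' (hAR.trans hRL) ho) (hNM hn.2)

end CfsgLib.TwoGroups.SCNCriterion
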