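import Cfsg.Agent.Lib.TwoGroups.SigmaTrans
import Cfsg.Agent.S1461
import Cfsg.Agent.S1459
import Cfsg.Agent.S1448
import Cfsg.Agent.Lib.PGroups.Extraspecial
import Mathlib.GroupTheory.Focal

/-!
Owner: helper12. Sylow normalisers control fusion, given `p`-length one of the
proper subgroups.
-/

set_option autoImplicit false

namespace CfsgLib.TwoGroups.SylowFusion

open Subgroup
open scoped commutatorElement

variable {G : Type*} [Group G] [Finite G] {p : ℕ} [Fact p.Prime]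

/-- Fusion in `P` is induced by elements of `N(P)`, element by element. -/
theorem fusion (hG : Cfsg.IsMinSimpleOddOrder G)
    (hpl : ∀ H : Subgroup G, H ≠ ⊤ → Cfsg.PLengthLE p 1 H) (P : Sylow p G) {Q : Subgroup G} {x : G}
    (hQ : Q ≤ (P : Subgroup G)) (hxQ : ∀ q ∈ Q, x * q * x⁻¹ ∈ (P : Subgroup G)) :
    ∃ y ∈ normalizer ((P : Subgroup G) : Set G), ∀ q ∈ Q, x * q * x⁻¹ = y * q * y⁻¹ := by
  by_cases hQb : Q = ⊥
  · refine ⟨1, one_mem _, fun q hq => ?_⟩
    rw [hQb, mem_bot] at hq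
    subst hq
    simp
  have hPb : (P : Subgroup G) ≠ ⊥ := fun h => hQb (le_bot_iff.mp (h ▸ hQ))
  obtain ⟨M, hM, hle⟩ := (eq_top_or_exists_le_coatom (normalizer ((P : Subgroup G) : Set G))).resolve_left
    (TransitivityHyp.normalizer_ne_top hG hPb (Uniqueness.ne_top_of_pGroup hG P.2))
  have hPM : (P : Subgroup G) ≤ M := le_normalizer.trans hle
  obtain ⟨S, hS⟩ := Uniqueness.exists_sylow_eq (G := ↥M) (P.2.comap_subtype (K := M))
    (fun R hR hle' => by
      have e : R.map M.subtype = P := P.3 (hR.map _) (fun y hy => ⟨⟨y, hPM hy⟩, hle' hy, rfl⟩)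
      rw [← e, comap_map_eq_self_of_injective M.subtype_injective])
  have hp : p ∈ Cfsg.sigma M := by
    refine ⟨Fact.out, ?_, S, ?_⟩
    · obtain ⟨k, hk⟩ := IsPGroup.iff_card.mp P.2
      have hk0 : k ≠ 0 := by
        rintro rfl
        exact hPb (eq_bot_of_card_eq _ (hk.trans (pow_zero p)))
      exact ((dvd_pow_self p hk0).trans hk.symm.dvd).trans (card_dvd_of_le hPM)
    · rw [hS, show (((P : Subgroup G).comap M.subtype).map M.subtype : Subgroup G) = P from
        map_subgroupOf_eq_of_le hPM]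
      exact hle
  obtain ⟨m, hm, c, hc', hmc⟩ := (SigmaTrans.factor_conj hG hM hp (P.2.to_le hQ) hQb
    (hQ.trans hPM)).1 x (by
      rintro _ ⟨q, hq, rfl⟩
      exact hPM (hxQ q hq))
  have hsol := hG.2.2.2 M hM.1
  have hconj : ∀ q ∈ Q, x * q * x⁻¹ = m * q * m⁻¹ := by
    intro q hq
    rw [hmc]
    calc m * c * q * (m * c)⁻¹ = m * (c * q) * c⁻¹ * m⁻¹ := by group
      _ = m * (q * c) * c⁻¹ * m⁻¹ := by rw [mem_centralizer_iff.mp hc' q hq]
      _ = m * q * m⁻¹ := by group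
  obtain ⟨g, hg, c', hc'', hgc⟩ := (Cfsg.Agent.S1461.result p (hpl M hM.1) S).2.1
    (Q.subgroupOf M : Set M) ⟨m, hm⟩
    (fun q hq => by
      rw [hS]
      exact hQ hq)
    (by
      rintro _ ⟨q, hq, rfl⟩
      rw [hS]
      show m * (q : G) * m⁻¹ ∈ (P : Subgroup G)
      rw [← hconj q hq]
      exact hxQ q hq)
  refine ⟨(g : G), ?_, fun q hq => ?_⟩
  · have h1 := le_normalizer_map M.subtype ⟨g, hg, rfl⟩
    rwa [hS, show (((P : Subgroup G).comap M.subtype).map M.subtype : Subgroup G) = P from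
      map_subgroupOf_eq_of_le hPM] at h1
  · rw [hconj q hq, show m = (g : G) * (c' : G) from (congrArg Subtype.val hgc).symm]
    have h2 : q * (c' : G) = (c' : G) * q :=
      congrArg Subtype.val (mem_centralizer_iff.mp hc'' ⟨q, (hQ.trans hPM) hq⟩ hq)
    calc (g : G) * c' * q * ((g : G) * c')⁻¹ = g * (c' * q) * (c' : G)⁻¹ * (g : G)⁻¹ := by group
      _ = g * (q * c') * (c' : G)⁻¹ * (g : G)⁻¹ := by rw [h2]
      _ = (g : G) * q * (g : G)⁻¹ := by group

/-- S1413. -/
theorem control (hG : Cfsg.IsMinSimpleOddOrder G)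
    (hpl : ∀ H : Subgroup G, H ≠ ⊤ → Cfsg.PLengthLE p 1 H) (P : Sylow p G) :
    (∀ (Q : Subgroup G) (x : G), Q ≤ (P : Subgroup G) → Q.map (MulAut.conj x).toMonoidHom ≤ (P : Subgroup G) →
        ∃ y ∈ normalizer ((P : Subgroup G) : Set G), Q.map (MulAut.conj x).toMonoidHom = Q.map (MulAut.conj y).toMonoidHom) ∧
      (∀ Q : Subgroup G, Q ≤ (P : Subgroup G) →
        ¬ p ∣ ((P : Subgroup G) ⊓ normalizer (Q : Set G)).relIndex (normalizer (Q : Set G))) ∧
      (∀ (R Q : Subgroup G), IsPGroup p R → Q ≤ (P : Subgroup G) ⊓ R →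
        normalizer ((P : Subgroup G) : Set G) ≤ normalizer (Q : Set G) →
        normalizer (R : Set G) ≤ normalizer (Q : Set G)) := by
  have hmap : ∀ (Q : Subgroup G) (x : G), Q ≤ (P : Subgroup G) →
      Q.map (MulAut.conj x).toMonoidHom ≤ (P : Subgroup G) →
      ∃ y ∈ normalizer ((P : Subgroup G) : Set G),
        Q.map (MulAut.conj x).toMonoidHom = Q.map (MulAut.conj y).toMonoidHom := by
    intro Q x hQ hx
    obtain ⟨y, hy, he⟩ := fusion hG hpl P hQ (fun q hq => hx ⟨q, hq, rfl⟩)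
    refine ⟨y, hy, ?_⟩
    ext z
    constructor <;> rintro ⟨q, hq, rfl⟩
    · exact ⟨q, hq, (he q hq).symm⟩
    · exact ⟨q, hq, he q hq⟩
  refine ⟨hmap, fun Q hQ => ?_, fun R Q hR hQ hN => ?_⟩
  · set N := normalizer (Q : Set G) with hN
    set T₀ := (P : Subgroup G) ⊓ N with hT₀
    obtain ⟨T, hT⟩ := ((P.2.to_le (inf_le_left : T₀ ≤ P)).comap_subtype (K := N)).exists_le_sylow
    obtain ⟨S, hS⟩ := (T.2.map N.subtype).exists_le_sylow
    obtain ⟨h, hh⟩ := MulAction.exists_smul_eq G S P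
    have hQT : Q ≤ (T : Subgroup N).map N.subtype := fun q hq =>
      ⟨⟨q, le_normalizer hq⟩, hT ⟨hQ hq, le_normalizer hq⟩, rfl⟩
    have hle : ((T : Subgroup N).map N.subtype).map (MulAut.conj h).toMonoidHom ≤ (P : Subgroup G) := by
      rintro _ ⟨t, ht, rfl⟩
      rw [← hh, Transfer.mem_sylow_smul]
      simpa [mul_assoc] using hS ht
    obtain ⟨y, hy, he⟩ := hmap Q h hQ ((map_mono hQT).trans hle)
    have hyh : y⁻¹ * h ∈ N := by
      refine Transfer.map_conj_eq_self_iff.mp ?_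
      apply map_injective (f := (MulAut.conj y).toMonoidHom) (MulAut.conj y).injective
      rw [← he, Subgroup.map_map]
      congr 1
      ext z
      simp [mul_assoc]
    have hcard : Nat.card (T : Subgroup N) ≤ Nat.card T₀ := by
      rw [← card_map_of_injective N.subtype_injective,
        ← Transfer.card_map_conj (y⁻¹ * h) ((T : Subgroup N).map N.subtype)]
      refine card_le_of_le ?_
      rintro _ ⟨t, ht, rfl⟩
      refine ⟨?_, N.mul_mem (N.mul_mem hyh (map_subtype_le _ ht)) (inv_mem hyh)⟩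
      have h1 : y⁻¹ * (h * t * h⁻¹) * y ∈ (P : Subgroup G) :=
        (mem_normalizer_iff''.mp hy _).mp (hle ⟨t, ht, rfl⟩)
      show y⁻¹ * h * t * (y⁻¹ * h)⁻¹ ∈ (P : Subgroup G)
      rw [show y⁻¹ * h * t * (y⁻¹ * h)⁻¹ = y⁻¹ * (h * t * h⁻¹) * y by group]
      exact h1
    intro hd
    have heq : T₀.subgroupOf N = (T : Subgroup N) := eq_of_le_of_card_ge hT (by
      rwa [Nat.card_congr (subgroupOfEquivOfLe (inf_le_right : T₀ ≤ N)).toEquiv])
    exact T.not_dvd_index (heq ▸ hd)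
  · obtain ⟨S, hS⟩ := hR.exists_le_sylow
    obtain ⟨h, hh⟩ := MulAction.exists_smul_eq G S P
    have hQP : Q ≤ (P : Subgroup G) := hQ.trans inf_le_left
    have hweak : ∀ x : G, Q.map (MulAut.conj x).toMonoidHom ≤ (P : Subgroup G) →
        Q.map (MulAut.conj x).toMonoidHom = Q := by
      intro x hx
      obtain ⟨y, hy, he⟩ := hmap Q x hQP hx
      rw [he, Transfer.map_conj_eq_self_iff.mpr (hN hy)]
    have hSP : ∀ s ∈ (S : Subgroup G), h * s * h⁻¹ ∈ (P : Subgroup G) := by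
      intro s hs
      rw [← hh, Transfer.mem_sylow_smul]
      simpa [mul_assoc] using hs
    intro g hg
    have h1 : Q.map (MulAut.conj h).toMonoidHom = Q := hweak h (by
      rintro _ ⟨q, hq, rfl⟩
      exact hSP q (hS (hQ hq).2))
    have h2 : Q.map (MulAut.conj (h * g)).toMonoidHom = Q := hweak _ (by
      rintro _ ⟨q, hq, rfl⟩
      have := hSP _ (hS ((mem_normalizer_iff.mp hg q).mp (hQ hq).2))
      simpa [mul_assoc] using this)
    simpa using mul_mem (inv_mem (Transfer.map_conj_eq_self_iff.mp h1))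
      (Transfer.map_conj_eq_self_iff.mp h2)

/-- S1411. -/
theorem sylow_eq_commutator (hG : Cfsg.IsMinSimpleOddOrder G)
    (hpl : ∀ H : Subgroup G, H ≠ ⊤ → Cfsg.PLengthLE p 1 H) (P : Sylow p G) {V : Subgroup G}
    (hV : Cfsg.IsComplIn (P : Subgroup G) V (normalizer ((P : Subgroup G) : Set G))) :
    (P : Subgroup G) = ⁅(P : Subgroup G), V⁆ ∧
      (P : Subgroup G) ≤ ⁅normalizer ((P : Subgroup G) : Set G), normalizer ((P : Subgroup G) : Set G)⁆ := by
  set N := normalizer ((P : Subgroup G) : Set G) with hN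
  have hPN : (P : Subgroup G) ≤ N := le_normalizer
  have htop : _root_.commutator G = ⊤ := by
    have := hG.2.1
    rcases IsSimpleGroup.eq_bot_or_eq_top_of_normal (_root_.commutator G) inferInstance with h | h
    · exact absurd ⟨⟨fun a b => commutatorElement_eq_one_iff_mul_comm.mp (mem_bot.mp (h ▸
        commutator_mem_commutator (mem_top a) (mem_top b)))⟩⟩ hG.2.2.1
    · exact h
  have hPd : (P : Subgroup G) ≤ ⁅N, N⁆ := by
    intro s hs
    have h1 : s ∈ (P : Subgroup G).focalSubgroup := by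
      rw [← Subgroup.commutator_inf_eq_focalSubgroup P, htop]
      exact ⟨mem_top s, hs⟩
    refine (closure_le _).mpr ?_ h1
    rintro g ⟨hg, x, hx, u, rfl⟩
    have hux : u * x * u⁻¹ ∈ (P : Subgroup G) := by
      rw [show u * x * u⁻¹ = (x⁻¹ * ⁅x, u⁆)⁻¹ by simp [commutatorElement_def, mul_assoc]]
      exact inv_mem (mul_mem (inv_mem hx) hg)
    obtain ⟨y, hy, he⟩ := fusion hG hpl P (Q := zpowers x) (x := u) (zpowers_le.mpr hx) (by
      intro q hq
      obtain ⟨i, rfl⟩ := mem_zpowers_iff.mp hq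
      rw [← conj_zpow]
      exact zpow_mem hux i)
    have h3 : ⁅x, u⁆ = ⁅x, y⁆ := by
      have h4 := he x (mem_zpowers x)
      calc ⁅x, u⁆ = x * (u * x * u⁻¹)⁻¹ := by simp [commutatorElement_def, mul_assoc]
        _ = x * (y * x * y⁻¹)⁻¹ := by rw [h4]
        _ = ⁅x, y⁆ := by simp [commutatorElement_def, mul_assoc]
    rw [h3]
    exact commutator_mem_commutator (hPN hx) hy
  refine ⟨?_, hPd⟩
  by_cases hPb : (P : Subgroup G) = ⊥
  · rw [hPb, commutator_bot_left]
  have := hG.2.2.2 N (TransitivityHyp.normalizer_ne_top hG hPb (Uniqueness.ne_top_of_pGroup hG P.2))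
  obtain ⟨-, hVN, hPV, hprod⟩ := hV
  have hPn : ((P : Subgroup G).subgroupOf N).Normal := normal_in_normalizer
  have hcop : (Nat.card ((P : Subgroup G).subgroupOf N)).Coprime ((P : Subgroup G).subgroupOf N).index := by
    obtain ⟨k, hk⟩ := IsPGroup.iff_card.mp P.2
    rw [Nat.card_congr (subgroupOfEquivOfLe hPN).toEquiv, hk]
    refine Nat.Coprime.pow_left k ((Nat.Prime.coprime_iff_not_dvd Fact.out).mpr fun hd => ?_)
    exact P.not_dvd_index (hd.trans ((P : Subgroup G).relIndex_dvd_index_of_le hPN))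
  have hcompl : Subgroup.IsComplement' ((P : Subgroup G).subgroupOf N) (V.subgroupOf N) := by
    refine isComplement'_of_disjoint_and_mul_eq_univ ?_ ?_
    · rw [disjoint_iff, eq_bot_iff]
      intro a ha
      exact mem_bot.mpr (Subtype.ext (mem_bot.mp (hPV ▸ (⟨ha.1, ha.2⟩ : (a : G) ∈ (P : Subgroup G) ⊓ V))))
    · refine Set.eq_univ_of_forall fun n => ?_
      obtain ⟨a, ha, b, hb, e⟩ := hprod n n.2
      exact ⟨⟨a, hPN ha⟩, ha, ⟨b, hVN hb⟩, hb, Subtype.ext e.symm⟩
  obtain ⟨h1, -⟩ := (Cfsg.Agent.S1459.result (G := ↥N)).1 _ _ hPn hcop hcompl (by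
    intro a ha
    have h2 := hPd ha
    rw [← map_subtype_commutator] at h2
    obtain ⟨z, hz, e⟩ := h2
    exact N.subtype_injective e ▸ hz)
  have h2 := congrArg (Subgroup.map N.subtype) h1
  rwa [map_commutator, map_subgroupOf_eq_of_le hPN, map_subgroupOf_eq_of_le hVN] at h2

/-- S1412. -/
theorem rank_two_structure (hG : Cfsg.IsMinSimpleOddOrder G)
    (hpl : ∀ H : Subgroup G, H ≠ ⊤ → Cfsg.PLengthLE p 1 H) (P : Sylow p G)
    (hr : Cfsg.PRankLE p 2 (P : Subgroup G)) :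
    IsMulCommutative (P : Subgroup G) ∨ ∃ P₁ P₂ : Subgroup G, P₁ ⊔ P₂ = (P : Subgroup G) ∧
      (∀ a ∈ P₁, ∀ b ∈ P₂, a * b = b * a) ∧ ¬ IsMulCommutative P₁ ∧ Nat.card P₁ = p ^ 3 ∧
      Monoid.exponent P₁ = p ∧ IsCyclic P₂ ∧
      closure {x : G | x ∈ P₂ ∧ x ^ p = 1} = P₁ ⊓ centralizer (P₁ : Set G) := by
  by_cases hPb : (P : Subgroup G) = ⊥
  · left
    rw [hPb]
    infer_instance
  set N := normalizer ((P : Subgroup G) : Set G) with hN
  have hPN : (P : Subgroup G) ≤ N := le_normalizer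
  have hPn : ((P : Subgroup G).subgroupOf N).Normal := normal_in_normalizer
  have hcop : (Nat.card ((P : Subgroup G).subgroupOf N)).Coprime ((P : Subgroup G).subgroupOf N).index := by
    obtain ⟨k, hk⟩ := IsPGroup.iff_card.mp P.2
    rw [Nat.card_congr (subgroupOfEquivOfLe hPN).toEquiv, hk]
    refine Nat.Coprime.pow_left k ((Nat.Prime.coprime_iff_not_dvd Fact.out).mpr fun hd => ?_)
    exact P.not_dvd_index (hd.trans ((P : Subgroup G).relIndex_dvd_index_of_le hPN))
  obtain ⟨V₀, hV₀⟩ := exists_right_complement'_of_coprime hcop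
  set V := V₀.map N.subtype with hV
  have hVc : Cfsg.IsComplIn (P : Subgroup G) V N := by
    refine ⟨hPN, map_subtype_le _, eq_bot_iff.mpr ?_, fun n hn => ?_⟩
    · rintro x ⟨hx, v, hv, rfl⟩
      have h1 := hV₀.disjoint.le_bot (show v ∈ (P : Subgroup G).subgroupOf N ⊓ V₀ from ⟨hx, hv⟩)
      rw [mem_bot] at h1 ⊢
      rw [h1]
      rfl
    · obtain ⟨a, ha, b, hb, e⟩ := (Core.mem_sup_iff_mul'
        (Core.le_normalizer_of_normal V₀ ((P : Subgroup G).subgroupOf N))).mp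
        (((sup_comm _ _).trans hV₀.sup_eq_top).ge (mem_top (⟨n, hn⟩ : ↥N)))
      exact ⟨a, ha, b, ⟨b, hb, rfl⟩, congrArg Subtype.val e⟩
  obtain ⟨hPV, -⟩ := sylow_eq_commutator hG hpl P hVc
  have hpG : p ∣ Nat.card G := by
    obtain ⟨k, hk⟩ := IsPGroup.iff_card.mp P.2
    have hk0 : k ≠ 0 := by
      rintro rfl
      exact hPb (eq_bot_of_card_eq _ (hk.trans (pow_zero p)))
    exact ((dvd_pow_self p hk0).trans hk.symm.dvd).trans (card_subgroup_dvd_card _)
  have hVcop : (Nat.card V).Coprime p := by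
    rw [hV, card_map_of_injective N.subtype_injective, ← hV₀.symm.index_eq_card]
    refine ((Nat.Prime.coprime_iff_not_dvd Fact.out).mpr fun hd => ?_).symm
    exact P.not_dvd_index (hd.trans ((P : Subgroup G).relIndex_dvd_index_of_le hPN))
  obtain ⟨-, h⟩ := Cfsg.Agent.S1448.result p (Uniqueness.odd_prime hG hpG) (P : Subgroup G) V P.2 hPb hr
    (map_subtype_le _) hVcop (hG.1.of_dvd_nat V.card_subgroup_dvd_card) hPV.symm
  refine h.imp_right ?_
  rintro ⟨P₁, P₂, h1, h2, h3, h4, h5, h6, h7⟩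
  refine ⟨P₁, P₂, h1, h2, h3, h4, h5, h6, h7.trans ?_⟩
  have he := PGroups.IsExtraspecial.commutator_eq (PGroups.isExtraspecial_of_card_cube h3 h4)
  rw [← map_subtype_commutator, he]
  ext x
  constructor
  · rintro ⟨z, hz, rfl⟩
    exact ⟨z.2, mem_centralizer_iff.mpr fun y hy => congrArg Subtype.val (mem_center_iff.mp hz ⟨y, hy⟩)⟩
  · rintro ⟨hx, hxc⟩
    exact ⟨⟨x, hx⟩, mem_center_iff.mpr fun y => Subtype.ext (mem_centralizer_iff.mp hxc y y.2), rfl⟩

end CfsgLib.TwoGroups.SylowFusion
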