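import Cfsg.Agent.Lib.TwoGroups.TauTwoCentralizer
import Cfsg.Agent.S1412
import Cfsg.Agent.Lib.PGroups.MaxAbelian
import Cfsg.Agent.Lib.Techniques.CriticalDegree

/-!
Owner: helper12. Sylow subgroups of a maximal subgroup for the primes in `τ₂`.
-/

set_option autoImplicit false
set_option linter.unusedSectionVars false

namespace CfsgLib.TwoGroups.TauTwo

open Subgroup
open scoped commutatorElement

variable {G : Type*} [Group G] [Finite G] {p q : ℕ} [Fact p.Prime] [Fact q.Prime] {M A : Subgroup G}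

/-- The centraliser of `A` in a Sylow subgroup is abelian. -/
theorem isMulCommutative_centralizer (hG : Cfsg.IsMinSimpleOddOrder G) (hA : IsPair p A)
    (hU : ¬ Cfsg.InUniqueMaximal A) (S : Sylow p G) (hAS : A ≤ (S : Subgroup G)) :
    IsMulCommutative ↥((S : Subgroup G) ⊓ centralizer (A : Set G)) := by
  have hp2 := hA.ne_two hG
  set C := (S : Subgroup G) ⊓ centralizer (A : Set G) with hC
  have hAcomm : ∀ a ∈ A, ∀ b ∈ A, a * b = b * a := fun a ha b hb => Signalizer.elementary_comm hA.1 ha hb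
  suffices h : ∀ x ∈ C, ∀ y ∈ C, x * y = y * x from ⟨⟨fun a b => Subtype.ext (h a a.2 b b.2)⟩⟩
  by_cases hr : Cfsg.PRankLE p 2 (S : Subgroup G)
  · obtain h | ⟨P₁, P₂, hsup, hcomm, -, -, he1, hc2, hZ⟩ := Cfsg.Agent.S1412.result hG p S hr
    · exact fun x hx y hy => congrArg Subtype.val (h.is_comm.comm (⟨x, hx.1⟩ : (S : Subgroup G)) ⟨y, hy.1⟩)
    have hnorm : P₂ ≤ normalizer (P₁ : Set G) := le_trans (fun b hb => mem_centralizer_iff.mpr
      fun a ha => hcomm a ha b hb) (centralizer_le_normalizer _)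
    have hpow : ∀ u ∈ P₁, u ^ p = 1 := fun u hu => by
      have := Monoid.pow_exponent_eq_one (⟨u, hu⟩ : P₁)
      rw [he1] at this
      exact congrArg Subtype.val this
    have hsplit : ∀ x ∈ (S : Subgroup G), ∃ u ∈ P₁, ∃ v ∈ P₂, x = u * v := fun x hx =>
      (Core.mem_sup_iff_mul' hnorm).mp ((sup_comm P₁ P₂).le (hsup.ge hx))
    have hin : ∀ a ∈ A, a ∈ P₁ := by
      intro a ha
      obtain ⟨u, hu, v, hv, rfl⟩ := hsplit a (hAS ha)
      refine mul_mem hu ?_
      have hv1 : v ^ p = 1 := by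
        have h2 := hA.1.2 _ ha
        rwa [(show Commute u v from hcomm u hu v hv).mul_pow, hpow u hu, one_mul] at h2
      exact (hZ.le (subset_closure ⟨hv, hv1⟩)).1
    have hP₁S : P₁ ≤ (S : Subgroup G) := le_sup_left.trans hsup.le
    have key : ∀ x ∈ C, ∃ u ∈ A, ∃ v ∈ P₂, x = u * v := by
      intro x hx
      obtain ⟨u, hu, v, hv, rfl⟩ := hsplit x hx.1
      refine ⟨u, hA.mem_of_centralizes hG hU (mem_centralizer_iff.mpr fun a ha => ?_) (hpow u hu), v, hv, rfl⟩
      have h1 := mem_centralizer_iff.mp hx.2 a ha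
      have h2 : a * v = v * a := hcomm a (hin a ha) v hv
      refine mul_right_cancel (b := v) ?_
      calc a * u * v = a * (u * v) := mul_assoc _ _ _
        _ = u * v * a := h1
        _ = u * a * v := by rw [mul_assoc, ← h2, mul_assoc]
    intro x hx y hy
    obtain ⟨a, ha, v, hv, rfl⟩ := key x hx
    obtain ⟨b, hb, w, hw, rfl⟩ := key y hy
    have : IsMulCommutative P₂ := hc2.isMulCommutative
    have hvw : v * w = w * v := congrArg Subtype.val
      (IsMulCommutative.is_comm.comm (⟨v, hv⟩ : P₂) ⟨w, hw⟩)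
    have hvb : Commute v b := (hcomm b (hin b hb) v hv).symm
    have hwa : Commute w a := (hcomm a (hin a ha) w hw).symm
    calc a * v * (b * w) = a * (v * b) * w := by group
      _ = a * (b * v) * w := by rw [hvb.eq]
      _ = a * b * (v * w) := by group
      _ = b * a * (w * v) := by rw [hAcomm a ha b hb, hvw]
      _ = b * (a * w) * v := by group
      _ = b * (w * a) * v := by rw [← hwa.eq]
      _ = b * w * (a * v) := by group
  · set E := A.subgroupOf (S : Subgroup G) with hE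
    have hEe : Cfsg.IsElementaryAbelian p E := ⟨⟨⟨fun a b => Subtype.ext (Subtype.ext
      (hAcomm _ a.2 _ b.2))⟩⟩, fun a ha => Subtype.ext (hA.1.2 _ ha)⟩
    have hEc : Nat.card E = p ^ 2 := by rw [Nat.card_congr (subgroupOfEquivOfLe hAS).toEquiv, hA.2]
    have hEmax : ∀ B : Subgroup (S : Subgroup G), Cfsg.IsElementaryAbelian p B → E ≤ B → B = E := by
      intro B hB hle
      have h1 := hA.maximal hG hU (B := B.map (S : Subgroup G).subtype)
        ⟨by have := hB.1; exact map_isMulCommutative B _, by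
          rintro _ ⟨b, hb, rfl⟩
          rw [← map_pow, hB.2 b hb, map_one]⟩
        (by rw [← map_subgroupOf_eq_of_le hAS]; exact map_mono hle)
      rw [hE, ← h1, subgroupOf, comap_map_eq_self_of_injective (subtype_injective _)]
    obtain ⟨hET, -, -, hTc, hTi⟩ := OddLocal.RankThree.facts hp2 S.2 hr hEe hEc hEmax
    set T := centralizer ((closure {x : (S : Subgroup G) |
      x ∈ Subgroup.upperCentralSeries (S : Subgroup G) 2 ∧ x ^ p = 1} : Subgroup (S : Subgroup G)) :
      Set (S : Subgroup G))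
    have hTn : T.Normal := inferInstance
    obtain ⟨e, he, heT⟩ := SetLike.not_le_iff_exists.1 hET
    have htop : zpowers e ⊔ T = ⊤ := by
      have hd := index_dvd_of_le (le_sup_right : T ≤ zpowers e ⊔ T)
      rw [hTi] at hd
      rcases (Nat.dvd_prime Fact.out).1 hd with h | h
      · exact index_eq_one.1 h
      · exfalso
        have hc := Subgroup.card_mul_index T
        have hc' := Subgroup.card_mul_index (zpowers e ⊔ T)
        rw [hTi] at hc
        rw [h, ← hc] at hc'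
        exact heT ((eq_of_le_of_card_ge (le_sup_right : T ≤ zpowers e ⊔ T)
          (Nat.eq_of_mul_eq_mul_right (Fact.out : p.Prime).pos hc').le).ge (mem_sup_left (mem_zpowers e)))
    set R := T ⊓ centralizer (E : Set (S : Subgroup G)) with hR
    have hRc : IsCyclic R := by
      refine ((Core.UniqueOrderP.isCyclic_or_quaternion_of_unique (S.2.to_subgroup R)
        fun H K hH hK => ?_).resolve_right fun h => hp2 h.1)
      have hET2 : Nat.card ↥(E ⊓ T : Subgroup (S : Subgroup G)) ≤ p := by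
        obtain ⟨j, hj, hjc⟩ := (Nat.dvd_prime_pow Fact.out).1
          (hEc ▸ card_dvd_of_le (inf_le_left : E ⊓ T ≤ E))
        rw [hjc]
        rcases (show j = 2 ∨ j ≤ 1 by omega) with rfl | h
        · exact absurd (le_trans (eq_of_le_of_card_ge inf_le_left (by rw [hjc, hEc])).ge inf_le_right) hET
        · exact le_trans (Nat.pow_le_pow_right (Fact.out : p.Prime).pos h) (pow_one p).le
      have hkey : ∀ L : Subgroup R, Nat.card L = p → L.map R.subtype = E ⊓ T := by
        intro L hL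
        refine eq_of_le_of_card_ge ?_ ?_
        · rintro _ ⟨x, hx, rfl⟩
          refine ⟨OddLocal.RankThree.mem_of_centralizes hEe hEmax x.2.2
            (orderOf_dvd_iff_pow_eq_one.mp (Dvd.dvd.trans ?_ hL.dvd)), x.2.1⟩
          rw [Subgroup.coe_subtype, Subgroup.orderOf_coe]
          exact L.orderOf_dvd_natCard hx
        · rw [card_map_of_injective R.subtype_injective, hL]; exact hET2
      exact Subgroup.map_injective R.subtype_injective ((hkey H hH).trans (hkey K hK).symm)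
    have : IsMulCommutative R := hRc.isMulCommutative
    have key : ∀ x ∈ C, ∃ (i : ℤ) (t : R), x = ((e : (S : Subgroup G)) : G) ^ i * ((t : (S : Subgroup G)) : G) := by
      intro x hx
      obtain ⟨u, hu, t, ht, htx⟩ := mem_sup_of_normal_right.1 (htop.ge (mem_top (⟨x, hx.1⟩ : (S : Subgroup G))))
      obtain ⟨i, rfl⟩ := mem_zpowers_iff.1 hu
      refine ⟨i, ⟨t, ht, ?_⟩, ?_⟩
      · have hxE : (⟨x, hx.1⟩ : (S : Subgroup G)) ∈ centralizer (E : Set (S : Subgroup G)) :=
          mem_centralizer_iff.mpr fun a ha => Subtype.ext (mem_centralizer_iff.mp hx.2 _ ha)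
        have heE : e ^ i ∈ centralizer (E : Set (S : Subgroup G)) :=
          mem_centralizer_iff.mpr fun a ha => Subtype.ext (hAcomm _ ha _ (zpow_mem he i))
        have h3 := mul_mem (inv_mem heE) hxE
        rwa [← htx, inv_mul_cancel_left] at h3
      · exact (congrArg Subtype.val htx).symm.trans (by simp)
    have hec : ∀ t : R, Commute ((e : (S : Subgroup G)) : G) ((t : (S : Subgroup G)) : G) := fun t =>
      congrArg Subtype.val (mem_centralizer_iff.mp t.2.2 e he)
    intro x hx y hy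
    obtain ⟨i, t, rfl⟩ := key x hx
    obtain ⟨j, u, rfl⟩ := key y hy
    have h1 : ((t : (S : Subgroup G)) : G) * ((u : (S : Subgroup G)) : G) =
        ((u : (S : Subgroup G)) : G) * ((t : (S : Subgroup G)) : G) :=
      congrArg (fun r : R => ((r : (S : Subgroup G)) : G)) (IsMulCommutative.is_comm.comm t u)
    exact ((((Commute.refl _).zpow_left i).zpow_right j).mul_right ((hec u).zpow_left i)).mul_left
      ((((hec t).zpow_left j).symm).mul_right h1)

/-- Lines of a normal `E` not centralised by `P` are conjugate under `P`. -/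
theorem exists_conj_line {P E : Subgroup G} (hP : IsPGroup p P) (hE : IsPair p E) (hEP : E ≤ P)
    (hPE : P ≤ normalizer (E : Set G)) (hne : ¬ P ≤ centralizer (E : Set G)) {a b : G} (ha : a ∈ E)
    (haP : a ∉ centralizer (P : Set G)) (hb : b ∈ E) (hbP : b ∉ centralizer (P : Set G)) :
    ∃ x ∈ P, zpowers b = zpowers (x * a * x⁻¹) := by
  have hp := (Fact.out : p.Prime)
  set Z := E ⊓ centralizer (P : Set G) with hZ
  set E' := E.subgroupOf P
  have hE'n : E'.Normal := normal_subgroupOf_of_le_normalizer hPE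
  have hE'b : E' ≠ ⊥ := fun h => hE.ne_bot (by rw [← map_subgroupOf_eq_of_le hEP, show E.subgroupOf P = ⊥ from h, Subgroup.map_bot])
  have hlt := Techniques.commutator_lt_of_isPGroup (P := (⊤ : Subgroup P))
    (hP.of_equiv topEquiv.symm) le_top hE'b hE'n
  set D := ⁅E', (⊤ : Subgroup P)⁆ with hD
  have hDn : D.Normal := inferInstance
  have hDc : Nat.card D ∣ p := by
    obtain ⟨j, hj, hjc⟩ := (Nat.dvd_prime_pow hp).1 (show Nat.card D ∣ p ^ 2 by
      rw [← hE.2, ← Nat.card_congr (subgroupOfEquivOfLe hEP).toEquiv]; exact card_dvd_of_le hlt.le)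
    have hj2 : j ≠ 2 := fun h => hlt.ne (eq_of_le_of_card_ge hlt.le (by
      rw [hjc, h, Nat.card_congr (subgroupOfEquivOfLe hEP).toEquiv, hE.2]))
    rw [hjc]
    exact (pow_dvd_pow p (show j ≤ 1 by omega)).trans (pow_one p).dvd
  have hcommZ : ∀ x ∈ P, ∀ e ∈ E, x * e * x⁻¹ * e⁻¹ ∈ Z := by
    intro x hx e he
    have hmem : ⁅(⟨x, hx⟩ : P), ⟨e, hEP he⟩⁆ ∈ D := by
      rw [hD, commutator_comm]
      exact commutator_mem_commutator (mem_top _) he
    have hc : (⁅(⟨x, hx⟩ : P), ⟨e, hEP he⟩⁆ : P) ∈ center P := by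
      rcases (Nat.dvd_prime hp).1 hDc with h | h
      · rw [eq_bot_of_card_eq D h, mem_bot] at hmem
        rw [hmem]; exact one_mem _
      · exact PGroups.le_center_of_card_prime hP h hmem
    have he' : ((⁅(⟨x, hx⟩ : P), ⟨e, hEP he⟩⁆ : P) : G) = x * e * x⁻¹ * e⁻¹ := rfl
    refine ⟨?_, mem_centralizer_iff.mpr fun y hy => ?_⟩
    · exact E.mul_mem ((mem_normalizer_iff.mp (hPE hx) e).mp he) (E.inv_mem he)
    · rw [← he']
      exact congrArg Subtype.val (mem_center_iff.mp hc ⟨y, hy⟩)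
  have hpow := hE.1.2
  have hZE : Z ≤ E := inf_le_left
  have haZ : a ∉ Z := fun h => haP h.2
  have hbZ : b ∉ Z := fun h => hbP h.2
  have hZlt : Z < E := lt_of_le_of_ne hZE fun h => hne (le_centralizer_iff.mp (h.ge.trans inf_le_right))
  obtain ⟨x₀, hx₀, hne'⟩ : ∃ x₀ ∈ P, x₀ * a * x₀⁻¹ * a⁻¹ ≠ 1 := by
    by_contra h
    push Not at h
    exact haP (mem_centralizer_iff.mpr fun y hy => by
      have := h y hy
      rwa [mul_inv_eq_one, mul_inv_eq_iff_eq_mul] at this)
  set w := x₀ * a * x₀⁻¹ * a⁻¹ with hw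
  have hwZ : w ∈ Z := hcommZ x₀ hx₀ a ha
  have hoa : orderOf a = p := orderOf_eq_prime (hpow a ha) fun e => haZ (e ▸ one_mem _)
  have hwo : orderOf w = p := orderOf_eq_prime (hpow w hwZ.1) hne'
  have hZc : Nat.card Z = p := by
    obtain ⟨j, hj, hjc⟩ := (Nat.dvd_prime_pow hp).1 (hE.2 ▸ card_dvd_of_le hZE)
    have h1 : p ∣ Nat.card Z := by
      have := orderOf_dvd_natCard Z hwZ
      rwa [hwo] at this
    have hj2 : j ≠ 2 := fun h => hZlt.ne (eq_of_le_of_card_ge hZE (by rw [hjc, h, hE.2]))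
    have hj0 : j ≠ 0 := by
      rintro rfl
      rw [hjc, pow_zero] at h1
      exact hp.ne_one (Nat.dvd_one.mp h1)
    rw [hjc, show j = 1 by omega, pow_one]
  have hwg : zpowers w = Z := eq_of_le_of_card_ge (zpowers_le.mpr hwZ) (by rw [hZc, Nat.card_zpowers, hwo])
  have hEgen : E ≤ Z ⊔ zpowers a := by
    refine (eq_of_le_of_card_ge (sup_le hZE (zpowers_le.mpr ha)) ?_).ge
    have hlt2 : Z < Z ⊔ zpowers a := left_lt_sup.mpr fun h => haZ (h (mem_zpowers a))
    have := PGroups.mul_card_le_of_lt (hE.isPGroup.to_le (sup_le hZE (zpowers_le.mpr ha))) hlt2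
    rw [hZc] at this
    rw [hE.2, sq]
    exact this
  have hnz : zpowers a ≤ normalizer (Z : Set G) := zpowers_le.mpr (le_trans
    (le_centralizer_iff.mp (inf_le_right.trans (Subgroup.centralizer_le hEP) : Z ≤ centralizer (E : Set G)))
    (centralizer_le_normalizer _) ha)
  obtain ⟨z, hz, c, ⟨j, rfl⟩, hbe⟩ := (Core.mem_sup_iff_mul' hnz).mp ((sup_comm Z (zpowers a)).le (hEgen hb))
  simp only at hbe
  have hj : a ^ j ∉ Z := fun h => hbZ (hbe ▸ mul_mem hz h)
  have hgen : zpowers (a ^ j) = zpowers a := by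
    refine eq_of_le_of_card_ge (zpowers_le.mpr ⟨j, rfl⟩) ?_
    rw [Nat.card_zpowers, Nat.card_zpowers, hoa,
      orderOf_eq_prime (hpow _ (zpow_mem ha j)) fun e => hj (e ▸ one_mem _)]
  set w' := x₀ * a ^ j * x₀⁻¹ * (a ^ j)⁻¹ with hw'
  have hw'Z : w' ∈ Z := hcommZ x₀ hx₀ _ (zpow_mem ha j)
  have hw'1 : w' ≠ 1 := fun h => hne' (by
    rw [hw', mul_inv_eq_one, mul_inv_eq_iff_eq_mul] at h
    rw [hw, mul_inv_eq_one, mul_inv_eq_iff_eq_mul]
    obtain ⟨k, hk⟩ := mem_zpowers_iff.mp (hgen.ge (mem_zpowers a))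
    rw [← hk]
    exact ((show Commute x₀ (a ^ j) from h).zpow_right k).eq)
  have hw'g : zpowers w' = Z := eq_of_le_of_card_ge (zpowers_le.mpr hw'Z) (by
    rw [hZc, Nat.card_zpowers, orderOf_eq_prime (hpow w' hw'Z.1) hw'1])
  obtain ⟨i, hi⟩ := mem_powers_iff_mem_zpowers.mpr (hw'g.ge hz)
  have hcx : Commute x₀ w' := mem_centralizer_iff.mp hw'Z.2 x₀ hx₀
  have hstep : ∀ i : ℕ, x₀ ^ i * a ^ j * (x₀ ^ i)⁻¹ = w' ^ i * a ^ j := by
    intro i
    induction i with
    | zero => simp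
    | succ i ih =>
      calc x₀ ^ (i + 1) * a ^ j * (x₀ ^ (i + 1))⁻¹ = x₀ * (x₀ ^ i * a ^ j * (x₀ ^ i)⁻¹) * x₀⁻¹ := by
            rw [pow_succ']; group
        _ = x₀ * (w' ^ i * a ^ j) * x₀⁻¹ := by rw [ih]
        _ = (x₀ * w' ^ i) * a ^ j * x₀⁻¹ := by group
        _ = (w' ^ i * x₀) * a ^ j * x₀⁻¹ := by rw [(hcx.pow_right i).eq]
        _ = w' ^ i * (x₀ * a ^ j * x₀⁻¹ * (a ^ j)⁻¹) * a ^ j := by group
        _ = w' ^ (i + 1) * a ^ j := by rw [← hw', pow_succ]
  refine ⟨x₀ ^ i, pow_mem hx₀ i, ?_⟩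
  have h1 : zpowers (x₀ ^ i * a * (x₀ ^ i)⁻¹) = zpowers (x₀ ^ i * a ^ j * (x₀ ^ i)⁻¹) := by
    have := congrArg (Subgroup.map (MulAut.conj (x₀ ^ i)).toMonoidHom) hgen.symm
    rw [MonoidHom.map_zpowers, MonoidHom.map_zpowers] at this
    exact this
  rw [h1, hstep, hbe, ← hi]

/-- The invariant Sylow subgroup of `M_σ`. -/
theorem exists_sylow_normalized (hG : Cfsg.IsMinSimpleOddOrder G) (hM : IsCoatom M) (hA : IsPair p A)
    (hAM : A ≤ M) (hp : p ∉ Cfsg.sigma M) (hq : q ∈ Cfsg.sigma M) :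
    ∃ Q : Sylow q G, (Q : Subgroup G) ≤ Cfsg.sigmaCore M ∧ (Q : Subgroup G) ≠ ⊥ ∧
      A ≤ normalizer ((Q : Subgroup G) : Set G) ∧
      (∀ T : Subgroup G, IsPGroup q T → T ≤ M → A ≤ normalizer (T : Set G) → T ≤ (Q : Subgroup G)) ∧
      M ⊓ normalizer (A : Set G) ≤ normalizer ((Q : Subgroup G) : Set G) := by
  have hAO : A ≤ normalizer (Cfsg.sigmaCore M : Set G) := hAM.trans (le_normalizer_sigmaCore M)
  have hcop := coprime_sigmaCore hG hM hp hA.isPGroup
  have hAs : Group.IsSolvable A := hG.2.2.2 A (Uniqueness.ne_top_of_pGroup hG hA.isPGroup)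
  have hC := sigma_inf_centralizer hG hM hA hAM hp
  obtain ⟨Q₀, hAQ₀⟩ := Core.exists_invariant_sylow hAO hcop (Or.inl hAs) q
  obtain ⟨Q, hQ⟩ := sigma_sylow_top hG hM hq Q₀
  have huniq : ∀ T : Subgroup G, IsPGroup q T → T ≤ M → A ≤ normalizer (T : Set G) →
      T ≤ (Q : Subgroup G) := by
    intro T hT hTM hAT
    obtain ⟨P', hTP', hAP'⟩ := Core.exists_invariant_sylow_ge hAO hcop (Or.inl hAs)
      (le_sigmaCore hG hM hq hT hTM) hT hAT
    obtain ⟨x, hx, e⟩ := Core.invariant_sylow_conj hAO hcop (Or.inl hAs) Q₀ P' hAQ₀ hAP'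
    have hx1 : x = 1 := Subtype.ext (mem_bot.mp (hC ▸ mem_inf.mpr ⟨x.2, hx⟩))
    rw [hx1, one_smul] at e
    rw [hQ, e]
    exact hTP'
  have hQσ : (Q : Subgroup G) ≤ Cfsg.sigmaCore M := hQ ▸ map_subtype_le _
  have hAQ : A ≤ normalizer ((Q : Subgroup G) : Set G) := hQ ▸ hAQ₀
  refine ⟨Q, hQσ, ?_, hAQ, huniq, ?_⟩
  · exact Q.ne_bot_of_dvd_card (hq.2.1.trans M.card_subgroup_dvd_card)
  · rintro m ⟨hmM, hmA⟩
    refine Transfer.map_conj_eq_self_iff.mp (eq_of_le_of_card_ge ?_ (Transfer.card_map_conj m _).ge)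
    refine huniq _ (Q.2.map _) ?_ ?_
    · rintro _ ⟨y, hy, rfl⟩
      exact mul_mem (mul_mem hmM ((hQσ.trans (sigmaCore_le M)) hy)) (inv_mem hmM)
    · intro a ha
      have h1 := le_normalizer_map (MulAut.conj m).toMonoidHom
        ⟨_, hAQ ((mem_normalizer_iff''.mp hmA a).mp ha), rfl⟩
      simpa [mul_assoc] using h1

/-- Two maximal invariant subgroups meeting one centraliser are conjugate under `C(A)`. -/
theorem exists_conj_of_line (hG : Cfsg.IsMinSimpleOddOrder G) (hA : IsPair p A)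
    (hU : ¬ Cfsg.InUniqueMaximal A) (hqp : q ≠ p) {Q₁ Q₂ : Subgroup G}
    (h₁ : Transitivity.IsMaxInv A q Q₁) (h₂ : Transitivity.IsMaxInv A q Q₂) {a : G} (ha : a ∈ A)
    (ha1 : a ≠ 1) (hf₁ : Q₁ ⊓ centralizer ({a} : Set G) ≠ ⊥)
    (hf₂ : Q₂ ⊓ centralizer ({a} : Set G) ≠ ⊥) :
    ∃ c ∈ centralizer (A : Set G), Q₁.map (MulAut.conj c).toMonoidHom = Q₂ := by
  obtain ⟨c, hc, e⟩ := TransitivityHyp.trans_of_meets hG (hA.hypothesis hG hU) (hA.not_dvd_prime hqp)
    (TransitivityHyp.centralizer_singleton_ne_top hG ha1)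
    (hA.le_centralizer.trans (hA.centralizer_le ha)) h₁ h₂ (by rwa [inf_comm]) (by rwa [inf_comm])
  exact ⟨c, map_subtype_le _ hc, e⟩

/-- A Sylow subgroup centralises a normal pair. -/
theorem sylow_le_centralizer (hG : Cfsg.IsMinSimpleOddOrder G) (hM : IsCoatom M)
    (hp : p ∉ Cfsg.sigma M) (P : Sylow p M) {E : Subgroup G} (hE : IsPair p E)
    (hEP : E ≤ (P : Subgroup M).map M.subtype)
    (hPE : (P : Subgroup M).map M.subtype ≤ normalizer (E : Set G)) :
    (P : Subgroup M).map M.subtype ≤ centralizer (E : Set G) := by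
  set P' := (P : Subgroup M).map M.subtype with hP'
  have hP'M : P' ≤ M := map_subtype_le _
  have hEM : E ≤ M := hEP.trans hP'M
  have hU := not_inUniqueMaximal hG hM hE hEM hp
  obtain ⟨g, hg, hgM⟩ := NonSigma.exists_outside (hE.dvd_card.trans (card_dvd_of_le hEM)) hp P
  by_contra hne
  obtain ⟨s, hs, hd⟩ := Nat.exists_prime_and_dvd
    (fun h1 => sigmaCore_ne_bot hG hM (eq_bot_of_card_eq _ h1))
  have := Fact.mk hs
  have hsσ := mem_sigma_of_dvd hs hd hG hM
  have hsp : s ≠ p := fun e => hp (e ▸ hsσ)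
  obtain ⟨Q, hQσ, hQb, hEQ, huniq, hMN⟩ := exists_sylow_normalized hG hM hE hEM hp hsσ
  have hP'Q : P' ≤ normalizer ((Q : Subgroup G) : Set G) := (le_inf hP'M hPE).trans hMN
  set Q' := (Q : Subgroup G).map (MulAut.conj g).toMonoidHom with hQ'
  have hP'Q' : P' ≤ normalizer (Q' : Set G) := by
    intro x hx
    have h1 := le_normalizer_map (MulAut.conj g).toMonoidHom
      ⟨_, hP'Q ((mem_normalizer_iff''.mp hg x).mp hx), rfl⟩
    simpa [mul_assoc, hQ'] using h1
  have hm : Transitivity.IsMaxInv E s (Q : Subgroup G) := sylow_isMaxInv Q hEQ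
  have hm' : Transitivity.IsMaxInv E s Q' := by
    refine ⟨Q.2.map _, hEP.trans hP'Q', fun R hR _ hle => ?_⟩
    refine (eq_of_le_of_card_ge hle ?_).symm
    obtain ⟨k, hk⟩ := IsPGroup.iff_card.mp hR
    rw [hQ', Transfer.card_map_conj, hk, Sylow.card_eq_multiplicity]
    exact Nat.pow_le_pow_right hs.pos
      ((Nat.Prime.pow_dvd_iff_le_factorization hs Nat.card_pos.ne').mp (hk ▸ R.card_subgroup_dvd_card))
  have disj : ∀ e ∈ E, e ≠ 1 → (Q : Subgroup G) ⊓ centralizer ({e} : Set G) ≠ ⊥ →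
      Q' ⊓ centralizer ({e} : Set G) ≠ ⊥ → False := by
    intro e he he1 h1 h2
    obtain ⟨c, hc, hce⟩ := exists_conj_of_line hG hE hU hsp hm hm' he he1 h1 h2
    have hcM := centralizer_le hG hM hE hEM hc
    have hcQ : (Q : Subgroup G).map (MulAut.conj c).toMonoidHom = Q :=
      Transfer.map_conj_eq_self_iff.mpr (hMN ⟨hcM, centralizer_le_normalizer _ hc⟩)
    rw [hcQ] at hce
    exact hgM (sylow_normalizer_le hsσ Q (hQσ.trans (sigmaCore_le M))
      (Transfer.map_conj_eq_self_iff.mp hce.symm))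
  have hnc : ∀ e ∈ E, e ≠ 1 → e ∈ centralizer (P' : Set G) →
      (Q : Subgroup G) ⊓ centralizer ({e} : Set G) = ⊥ ∧ Q' ⊓ centralizer ({e} : Set G) = ⊥ := by
    intro e he he1 heP
    set e' := g⁻¹ * e * g with he'
    have he'P : e' ∈ centralizer (P' : Set G) := mem_centralizer_iff.mpr fun y hy => by
      have h1 := mem_centralizer_iff.mp heP _ ((mem_normalizer_iff.mp hg y).mp hy)
      calc y * (g⁻¹ * e * g) = g⁻¹ * ((g * y * g⁻¹) * e) * g := by group
        _ = g⁻¹ * (e * (g * y * g⁻¹)) * g := by rw [h1]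
        _ = g⁻¹ * e * g * y := by group
    have he'1 : e' ≠ 1 := fun h => he1 (by
      calc e = g * e' * g⁻¹ := by rw [he']; group
        _ = 1 := by rw [h]; group)
    have he'E : e' ∈ E := hE.mem_of_centralizes hG hU
      (Subgroup.centralizer_le hEP he'P)
      (by
        calc (g⁻¹ * e * g) ^ p = (g⁻¹ * e * g⁻¹⁻¹) ^ p := by rw [inv_inv]
          _ = 1 := by rw [conj_pow, hE.1.2 e he]; group)
    -- the central part of `E` is one line, or `E` is central
    have hcyc : zpowers e = zpowers e' := by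
      set Z := E ⊓ centralizer (P' : Set G)
      have hZlt : Z < E := lt_of_le_of_ne inf_le_left fun h =>
        hne (le_centralizer_iff.mp (h.ge.trans inf_le_right))
      have key : ∀ u : G, u ∈ Z → u ≠ 1 → zpowers u = Z := by
        intro u hu hu1
        refine eq_of_le_of_card_ge (zpowers_le.mpr hu) ?_
        obtain ⟨j, hj, hjc⟩ := (Nat.dvd_prime_pow Fact.out).1 (hE.2 ▸ card_dvd_of_le hZlt.le)
        rw [Nat.card_zpowers, orderOf_eq_prime (hE.1.2 u hu.1) hu1, hjc]
        have hj2 : j ≠ 2 := fun h => hZlt.ne (eq_of_le_of_card_ge hZlt.le (by rw [hjc, h, hE.2]))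
        exact (Nat.pow_le_pow_right (Fact.out : p.Prime).pos (show j ≤ 1 by omega)).trans (pow_one p).le
      rw [key e ⟨he, heP⟩ he1, key e' ⟨he'E, he'P⟩ he'1]
    have hcen : centralizer ({e} : Set G) = centralizer ({e'} : Set G) := by
      have h1 : ∀ u : G, centralizer ({u} : Set G) = centralizer ((zpowers u : Subgroup G) : Set G) :=
        fun u => by rw [zpowers_eq_closure, centralizer_closure]
      rw [h1, h1, hcyc]
    have himp : (Q : Subgroup G) ⊓ centralizer ({e} : Set G) ≠ ⊥ →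
        Q' ⊓ centralizer ({e} : Set G) ≠ ⊥ := by
      intro h hb
      apply h
      rw [eq_bot_iff]
      rintro y ⟨hy, hyc⟩
      rw [hcen] at hyc
      have h2 : g * y * g⁻¹ ∈ Q' ⊓ centralizer ({e} : Set G) := by
        refine ⟨⟨y, hy, rfl⟩, mem_centralizer_singleton_iff.mpr ?_⟩
        have h3 := mem_centralizer_singleton_iff.mp hyc
        calc g * y * g⁻¹ * e = g * (y * (g⁻¹ * e * g)) * g⁻¹ := by group
          _ = g * ((g⁻¹ * e * g) * y) * g⁻¹ := by rw [h3]
          _ = e * (g * y * g⁻¹) := by group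
      rw [hb, mem_bot] at h2
      exact mem_bot.mpr (conj_eq_one_iff.mp h2)
    have hQe : (Q : Subgroup G) ⊓ centralizer ({e} : Set G) = ⊥ := by
      by_contra h
      exact disj e he he1 h (himp h)
    refine ⟨hQe, ?_⟩
    by_contra h
    apply h
    rw [eq_bot_iff]
    rintro _ ⟨⟨y, hy, rfl⟩, hyc⟩
    have h2 : y ∈ (Q : Subgroup G) ⊓ centralizer ({e} : Set G) := by
      refine ⟨hy, ?_⟩
      rw [hcen]
      refine mem_centralizer_singleton_iff.mpr ?_
      have h3 : g * y * g⁻¹ * e = e * (g * y * g⁻¹) := mem_centralizer_singleton_iff.mp hyc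
      calc y * (g⁻¹ * e * g) = g⁻¹ * (g * y * g⁻¹ * e) * g := by group
        _ = g⁻¹ * (e * (g * y * g⁻¹)) * g := by rw [h3]
        _ = g⁻¹ * e * g * y := by group
    rw [hQe, mem_bot] at h2
    subst h2
    simp
  obtain ⟨a, ha, ha1, hfa⟩ := hE.exists_fix hsp Q.2 hEQ hQb
  obtain ⟨b, hb, hb1, hfb⟩ := hE.exists_fix hsp (Q.2.map _) (hEP.trans hP'Q')
    (show Q' ≠ ⊥ from fun h => hQb ((map_eq_bot_iff_of_injective _ (MulAut.conj g).injective).mp h))
  obtain ⟨x, hx, hxe⟩ := exists_conj_line (P.2.map _) hE hEP hPE hne ha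
    (fun h => hfa (hnc a ha ha1 h).1) hb (fun h => hfb (hnc b hb hb1 h).2)
  refine disj b hb hb1 ?_ hfb
  have hcen : centralizer ({b} : Set G) = centralizer ({x * a * x⁻¹} : Set G) := by
    have h1 : ∀ u : G, centralizer ({u} : Set G) = centralizer ((zpowers u : Subgroup G) : Set G) :=
      fun u => by rw [zpowers_eq_closure, centralizer_closure]
    rw [h1, h1, hxe]
  intro hbot
  apply hfa
  rw [eq_bot_iff]
  rintro y ⟨hy, hyc⟩
  have h2 : x * y * x⁻¹ ∈ (Q : Subgroup G) ⊓ centralizer ({b} : Set G) := by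
    refine ⟨(mem_normalizer_iff.mp (hP'Q hx) y).mp hy, ?_⟩
    rw [hcen]
    refine mem_centralizer_singleton_iff.mpr ?_
    have h3 := mem_centralizer_singleton_iff.mp hyc
    calc x * y * x⁻¹ * (x * a * x⁻¹) = x * (y * a) * x⁻¹ := by group
      _ = x * (a * y) * x⁻¹ := by rw [h3]
      _ = x * a * x⁻¹ * (x * y * x⁻¹) := by group
  rw [hbot, mem_bot] at h2
  exact mem_bot.mpr (conj_eq_one_iff.mp h2)

/-- S1417 (b): the Sylow subgroups are abelian with `Ω₁ = A`. -/
theorem sylow_abelian (hG : Cfsg.IsMinSimpleOddOrder G) (hM : IsCoatom M) (hA : IsPair p A)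
    (hAM : A ≤ M) (hp : p ∉ Cfsg.sigma M) (P : Sylow p M) :
    IsMulCommutative (P : Subgroup M) ∧
      (A ≤ (P : Subgroup M).map M.subtype →
        ∀ x ∈ (P : Subgroup M).map M.subtype, x ^ p = 1 ↔ x ∈ A) := by
  set P' := (P : Subgroup M).map M.subtype with hP'
  have hp2 := hA.ne_two hG
  have hPp : IsPGroup p P' := P.2.map _
  have hnc : ¬ IsCyclic P' := by
    intro hc
    obtain ⟨R, hR⟩ := (hA.isPGroup.comap_subtype (K := M)).exists_le_sylow
    have hAR : A ≤ (R : Subgroup M).map M.subtype := fun x hx => ⟨⟨x, hAM hx⟩, hR hx, rfl⟩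
    have hP : IsCyclic (P : Subgroup M) := isCyclic_of_surjective
      ((P : Subgroup M).equivMapOfInjective M.subtype M.subtype_injective).symm (MulEquiv.surjective _)
    have hR' : IsCyclic (R : Subgroup M) := isCyclic_of_surjective (P.equiv R) (P.equiv R).surjective
    have hR'' : IsCyclic ((R : Subgroup M).map M.subtype) := isCyclic_of_surjective
      ((R : Subgroup M).equivMapOfInjective M.subtype M.subtype_injective) (MulEquiv.surjective _)
    exact hA.not_isCyclic (isCyclic_of_injective (inclusion hAR) (inclusion_injective _))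
  obtain ⟨E₀, hE₀n, hE₀, hE₀c⟩ := Transfer.exists_normal_elementary_card_sq hp2 hPp hnc
  set E := E₀.map P'.subtype with hEdef
  have hE : IsPair p E := by
    refine ⟨⟨?_, ?_⟩, by rw [hEdef, card_map_of_injective P'.subtype_injective, hE₀c]⟩
    · have := hE₀.1; exact map_isMulCommutative E₀ _
    · rintro _ ⟨a, ha, rfl⟩
      rw [← map_pow, hE₀.2 a ha, map_one]
  have hEP : E ≤ P' := map_subtype_le _
  have hPE : P' ≤ normalizer (E : Set G) := fun x hx =>
    le_normalizer_map P'.subtype ⟨⟨x, hx⟩, Core.le_normalizer_of_normal ⊤ E₀ (mem_top _), rfl⟩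
  have hPC := sylow_le_centralizer hG hM hp P hE hEP hPE
  have hUE := not_inUniqueMaximal hG hM hE (hEP.trans (map_subtype_le _)) hp
  obtain ⟨S, hS⟩ := hPp.exists_le_sylow
  have hab := isMulCommutative_centralizer hG hE hUE S (hEP.trans hS)
  refine ⟨⟨⟨fun x y => ?_⟩⟩, fun hAP x hx => ?_⟩
  · refine Subtype.ext (M.subtype_injective ?_)
    have hm : ∀ z : (P : Subgroup M), ((z : M) : G) ∈ (S : Subgroup G) ⊓ centralizer (E : Set G) :=
      fun z => ⟨hS ⟨z, z.2, rfl⟩, hPC ⟨z, z.2, rfl⟩⟩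
    exact congrArg Subtype.val (hab.is_comm.comm (⟨_, hm x⟩ : ↥((S : Subgroup G) ⊓ centralizer (E : Set G)))
      ⟨_, hm y⟩)
  · have hAE : A = E := eq_of_le_of_card_ge
      (fun a ha => hE.mem_of_centralizes hG hUE (hPC (hAP ha)) (hA.1.2 a ha)) (by rw [hA.2, hE.2])
    rw [hAE]
    exact ⟨fun h => hE.mem_of_centralizes hG hUE (hPC hx) h, fun h => hE.1.2 x h⟩

/-- An element of `N(A)` outside `M`. -/
theorem not_normalizer_le (hG : Cfsg.IsMinSimpleOddOrder G) (hM : IsCoatom M) (hA : IsPair p A)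
    (hAM : A ≤ M) (hp : p ∉ Cfsg.sigma M) : ¬ normalizer (A : Set G) ≤ M := by
  intro hle
  obtain ⟨P, hP⟩ := (hA.isPGroup.comap_subtype (K := M)).exists_le_sylow
  have hAP : A ≤ (P : Subgroup M).map M.subtype := fun x hx => ⟨⟨x, hAM hx⟩, hP hx, rfl⟩
  obtain ⟨g, hg, hgM⟩ := NonSigma.exists_outside (hA.dvd_card.trans (card_dvd_of_le hAM)) hp P
  refine hgM (hle (Transfer.map_conj_eq_self_iff.mp (eq_of_le_of_card_ge ?_ (Transfer.card_map_conj g A).ge)))
  rintro _ ⟨a, ha, rfl⟩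
  refine (((sylow_abelian hG hM hA hAM hp P).2 hAP) _ ((mem_normalizer_iff.mp hg a).mp (hAP ha))).mp ?_
  rw [conj_pow, hA.1.2 a ha]
  group

end CfsgLib.TwoGroups.TauTwo
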