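import Cfsg.Agent.Lib.TwoGroups.TauTwoCase
import Cfsg.Agent.Lib.OddLocal.RankTwoAut
import Cfsg.Agent.Lib.OddLocal.SigmaComplement
import Cfsg.Agent.Lib.LocalEven.Subnormal

/-!
Owner: helper12. `p ∈ τ₂(M)` with abelian Sylow `p`-subgroups: the `p`-elements of a complement lie in
an abelian normal subgroup.
-/

set_option autoImplicit false
set_option linter.unusedSectionVars false

namespace CfsgLib.TwoGroups.TauTwo

open Subgroup
open scoped commutatorElement

variable {G : Type*} [Group G] [Finite G] {p : ℕ} [Fact p.Prime] {M A E : Subgroup G}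

theorem tau_cases (hG : Cfsg.IsMinSimpleOddOrder G) (hM : IsCoatom M)
    (hE : Cfsg.IsComplIn E (Cfsg.sigmaCore M) M) {t : ℕ} (ht : t.Prime) (hd : t ∣ Nat.card E) :
    t ∉ Cfsg.sigma M ∧ (t ∈ Cfsg.tau1 M ∪ Cfsg.tau3 M ∧ Cfsg.PRankLE t 1 M ∨ t ∈ Cfsg.tau2 M) := by
  have := Fact.mk ht
  have hσ := OddLocal.SigmaComplement.not_mem_sigma hG hM hE hd
  refine ⟨hσ, ?_⟩
  have hdM : t ∣ Nat.card M := hd.trans (card_dvd_of_le hE.1)
  by_cases h1 : Cfsg.PRankLE t 1 M
  · refine Or.inl ⟨?_, h1⟩
    by_cases h' : t ∣ Nat.card ↥⁅M, M⁆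
    · exact Or.inr ⟨ht, hσ, h', h1⟩
    · exact Or.inl ⟨ht, hσ, hdM, h', h1⟩
  · exact Or.inr ⟨ht, hσ, OddLocal.SigmaComplement.rank_le_two hG hM hE hd, h1⟩

/-- Two primes in `τ₂(M)` have abelian Sylow subgroups. -/
theorem sylow_abelian_of_two (hG : Cfsg.IsMinSimpleOddOrder G) (hM : IsCoatom M)
    (hE : Cfsg.IsComplIn E (Cfsg.sigmaCore M) M) (hp : p ∈ Cfsg.tau2 M) (h : Cfsg.tau2 M ≠ {p}) (S : Sylow p G) :
    IsMulCommutative (S : Subgroup G) := by
  by_contra hna
  obtain ⟨A, hA, hAE⟩ := exists_pair_complement hG hM hE hp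
  exact h (nonabelian_case hG hM hE hp (fun S' hc => hna ⟨⟨fun a b => (S.equiv S').injective (by
    rw [map_mul, map_mul]; exact hc.is_comm.comm _ _)⟩⟩) hA hAE).1

/-- A `p`-element normalising `A` centralises it, if the Sylow `p`-subgroups are abelian. -/
theorem pElement_centralizes (hA : IsPair p A) (hab : ∀ S : Sylow p G, IsMulCommutative (S : Subgroup G))
    {x : G} (hx : x ∈ normalizer (A : Set G)) (hxp : IsPGroup p (zpowers x)) : x ∈ centralizer (A : Set G) := by
  obtain ⟨S, hS⟩ := (hxp.to_sup_of_normal_right' hA.isPGroup (zpowers_le.mpr hx)).exists_le_sylow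
  have := hab S
  exact mem_centralizer_iff.mpr fun a ha => congrArg Subtype.val (mul_comm'
    (⟨a, hS (mem_sup_right ha)⟩ : (S : Subgroup G)) ⟨x, hS (mem_sup_left (mem_zpowers x))⟩)

theorem ne_top_normalizer (hG : Cfsg.IsMinSimpleOddOrder G) (hA : IsPair p A) :
    normalizer (A : Set G) ≠ ⊤ :=
  TransitivityHyp.normalizer_ne_top hG hA.ne_bot (Uniqueness.ne_top_of_pGroup hG hA.isPGroup)

/-- `N(A)` induces an abelian group on `A`. -/
theorem derived_le_centralizer (hG : Cfsg.IsMinSimpleOddOrder G) (hA : IsPair p A)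
    (hab : ∀ S : Sylow p G, IsMulCommutative (S : Subgroup G)) :
    ⁅normalizer (A : Set G), normalizer (A : Set G)⁆ ≤ centralizer (A : Set G) := by
  have hp : p.Prime := Fact.out
  have := hA.1.1
  let _ : CommGroup A := { (inferInstance : Group A) with mul_comm := fun a b => mul_comm' a b }
  have : Group.IsSolvable (normalizer (A : Set G)) := hG.2.2.2 _ (ne_top_normalizer hG hA)
  set f := A.normalizerMonoidHom with hf
  have : Group.IsSolvable f.range := Group.isSolvable_of_surjective (f := f.rangeRestrict) f.rangeRestrict_surjective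
  have hodd : Odd (Nat.card f.range) := (hG.1.of_dvd_nat
    ((Subgroup.card_range_dvd f).trans (normalizer (A : Set G)).card_subgroup_dvd_card))
  have h1 := (OddLocal.RankTwoAut.aut_small (hA.ne_two hG) (V := A) (fun v => Subtype.ext (hA.1.2 _ v.2))
    hA.2.le f.range hodd).1
  intro g hg
  have hgN : g ∈ normalizer (A : Set G) := by
    exact (commutator_le.2 fun a ha b hb => mul_mem (mul_mem (mul_mem ha hb) (inv_mem ha)) (inv_mem hb)) hg
  set x : normalizer (A : Set G) := ⟨g, hgN⟩ with hx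
  have hxd : x ∈ _root_.commutator (normalizer (A : Set G)) := by
    rw [← map_subtype_commutator] at hg
    obtain ⟨y, hy, e⟩ := hg
    rwa [show x = y from Subtype.ext e.symm]
  have hmem : f.rangeRestrict x ∈ _root_.commutator f.range := by
    have := mem_map_of_mem f.rangeRestrict hxd
    rw [_root_.commutator_def, map_commutator] at this
    exact commutator_mono le_top le_top this
  obtain ⟨j, hj⟩ := h1 ⟨_, hmem⟩
  have hker : ∀ y : normalizer (A : Set G), f y = 1 ↔ (y : G) ∈ centralizer (A : Set G) := fun y => by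
    rw [← MonoidHom.mem_ker, hf, normalizerMonoidHom_ker, mem_subgroupOf]
  have hj' : f x ^ p ^ j = 1 := congrArg (fun u => ((u : f.range) : MulAut A)) (congrArg Subtype.val hj)
  obtain ⟨a, m, hm, ham⟩ := Nat.exists_eq_pow_mul_and_not_dvd (orderOf_pos g).ne' p hp.ne_one
  have h2 : f x ^ m = 1 := by
    rw [← map_pow]
    refine (hker _).mpr (pElement_centralizes hA hab (pow_mem hgN m) ?_)
    refine (IsPGroup.iff_card (G := zpowers (g ^ m))).mpr ?_
    obtain ⟨c, -, hc⟩ := (Nat.dvd_prime_pow hp).mp (orderOf_dvd_of_pow_eq_one (show (g ^ m) ^ p ^ a = 1 by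
      rw [← pow_mul, mul_comm, ← ham, pow_orderOf_eq_one]))
    exact ⟨c, by rw [Nat.card_zpowers, hc]⟩
  refine (hker x).mp ?_
  have h3 := Nat.dvd_gcd (orderOf_dvd_of_pow_eq_one hj') (orderOf_dvd_of_pow_eq_one h2)
  rwa [Nat.Coprime.gcd_eq_one ((hp.coprime_iff_not_dvd.mpr hm).pow_left j), Nat.dvd_one,
    orderOf_eq_one_iff] at h3

/-- The derived group of a group acting on a cyclic group centralises it. -/
theorem derived_le_centralizer_cyclic {X N : Subgroup G} (hX : IsCyclic X) (hN : N ≤ normalizer (X : Set G)) :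
    ⁅N, N⁆ ≤ centralizer (X : Set G) := by
  refine commutator_le.2 fun a ha b hb => ?_
  let e := IsCyclic.mulAutMulEquiv X
  have hc : ∀ u v : MulAut X, u * v = v * u := fun u v => e.injective (by rw [map_mul, map_mul, mul_comm])
  have h : X.normalizerMonoidHom ⁅(⟨a, hN ha⟩ : normalizer (X : Set G)), ⟨b, hN hb⟩⁆ = 1 := by
    rw [map_commutatorElement, commutatorElement_eq_one_iff_mul_comm]
    exact hc _ _
  rw [← MonoidHom.mem_ker, normalizerMonoidHom_ker, mem_subgroupOf] at h
  exact h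

theorem le_normalizer_centralizer (X : Subgroup G) :
    normalizer (X : Set G) ≤ normalizer (centralizer (X : Set G) : Set G) := by
  have key : ∀ g ∈ normalizer (X : Set G), ∀ c ∈ centralizer (X : Set G), g * c * g⁻¹ ∈ centralizer (X : Set G) :=
    fun g hg c hc => mem_centralizer_iff.mpr fun x hx => by
      have h1 := mem_centralizer_iff.mp hc _ ((mem_normalizer_iff''.mp hg x).mp hx)
      calc x * (g * c * g⁻¹) = g * ((g⁻¹ * x * g) * c) * g⁻¹ := by group
        _ = g * (c * (g⁻¹ * x * g)) * g⁻¹ := by rw [h1]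
        _ = g * c * g⁻¹ * x := by group
  intro g hg
  refine mem_normalizer_iff.mpr fun c => ⟨key g hg c, fun h => ?_⟩
  have := key g⁻¹ (inv_mem hg) _ h
  rwa [show g⁻¹ * (g * c * g⁻¹) * g⁻¹⁻¹ = c by group] at this

/-- `N(A)` normalises the normal `t`-subgroups `O_t(E)`, `t ≠ p`. -/
theorem normalizer_le_core {t : ℕ} [Fact t.Prime] (hG : Cfsg.IsMinSimpleOddOrder G) (hM : IsCoatom M)
    (hE : Cfsg.IsComplIn E (Cfsg.sigmaCore M) M) (hA : IsPair p A) (hAE : A ≤ E) (hpσ : p ∉ Cfsg.sigma M)
    (htp : t ≠ p) :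
    normalizer (A : Set G) ≤ normalizer (((Cfsg.pCore t E).map E.subtype : Subgroup G) : Set G) := by
  set X := (Cfsg.pCore t E).map E.subtype with hX
  set C := centralizer (A : Set G) with hC
  set U := (Cfsg.pCore t C).map C.subtype with hU
  have hAM := hAE.trans hE.1
  have hCE : C ≤ E := (le_inf (centralizer_le hG hM hA hAM) le_rfl).trans
    (centralizer_le_complement (sigma_inf_centralizer hG hM hA hAM hpσ) hE hAE)
  obtain ⟨hEA, -, -⟩ := le_normalizer_pair hG hM hA hpσ hE hAE
  have hEX : E ≤ normalizer (X : Set G) := fun x hx =>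
    le_normalizer_map E.subtype ⟨⟨x, hx⟩, Core.le_normalizer_of_normal ⊤ (Cfsg.pCore t E) (mem_top _), rfl⟩
  have hXt : IsPGroup t X := (Core.isPGroup_pCore t E).map _
  have hAX : A ≤ centralizer (X : Set G) :=
    centralizes_normal hG hM hA hpσ hE hAE htp hXt (map_subtype_le _) hEX
  have hXC : X ≤ C := le_centralizer_iff.mp hAX
  have hNU : normalizer (A : Set G) ≤ normalizer (U : Set G) :=
    (le_normalizer_centralizer A).trans (LocalEven.normalizer_le_normalizer_characteristic C _)
  have hUE : U ≤ E := (map_subtype_le _).trans hCE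
  have hUX : U ≤ X := by
    have := normal_subgroupOf_of_le_normalizer (hEA.trans hNU)
    rw [← map_subgroupOf_eq_of_le hUE]
    exact map_mono (Core.le_pCore (((Core.isPGroup_pCore t C).map _).comap_subtype))
  have hXU : X ≤ U := by
    have := normal_subgroupOf_of_le_normalizer (hCE.trans hEX)
    rw [← map_subgroupOf_eq_of_le hXC]
    exact map_mono (Core.le_pCore hXt.comap_subtype)
  rwa [le_antisymm hXU hUX]

/-- A `p`-element of the complement lies in a Sylow subgroup `S ≤ E` with `N(S) ≤ N(A)`. -/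
theorem mem_derived_normalizer (hG : Cfsg.IsMinSimpleOddOrder G) (hM : IsCoatom M)
    (hE : Cfsg.IsComplIn E (Cfsg.sigmaCore M) M) (hA : IsPair p A) (hAE : A ≤ E) (hpσ : p ∉ Cfsg.sigma M)
    (hab : ∀ S : Sylow p G, IsMulCommutative (S : Subgroup G)) {x : G} (hx : x ∈ E)
    (hxp : IsPGroup p (zpowers x)) : x ∈ ⁅normalizer (A : Set G), normalizer (A : Set G)⁆ := by
  have hAM := hAE.trans hE.1
  have hCE : centralizer (A : Set G) ≤ E := (le_inf (centralizer_le hG hM hA hAM) le_rfl).trans
    (centralizer_le_complement (sigma_inf_centralizer hG hM hA hAM hpσ) hE hAE)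
  obtain ⟨hEA, hΩ, -⟩ := le_normalizer_pair hG hM hA hpσ hE hAE
  obtain ⟨S, hS⟩ := (hxp.to_sup_of_normal_right' hA.isPGroup (zpowers_le.mpr (hEA hx))).exists_le_sylow
  have := hab S
  have hSC : (S : Subgroup G) ≤ centralizer (A : Set G) := fun y hy => mem_centralizer_iff.mpr fun a ha =>
    congrArg Subtype.val (mul_comm' (⟨a, hS (mem_sup_right ha)⟩ : (S : Subgroup G)) ⟨y, hy⟩)
  have hN : normalizer ((S : Subgroup G) : Set G) ≤ normalizer (A : Set G) := by
    intro g hg
    refine Transfer.map_conj_eq_self_iff.mp (eq_of_le_of_card_ge ?_ (Transfer.card_map_conj g A).ge)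
    rintro _ ⟨a, ha, rfl⟩
    exact hΩ _ (hCE (hSC ((mem_normalizer_iff.mp hg a).mp (hS (mem_sup_right ha)))))
      (by rw [← map_pow, hA.1.2 a ha, map_one])
  exact commutator_mono hN hN (sylow_le_derived_normalizer hG S (hS (mem_sup_left (mem_zpowers x))))

/-- With abelian Sylow `p`-subgroups, every `p`-element of `E` centralises `O_t(E)` for all `t`. -/
theorem pElement_centralizes_core {t : ℕ} [Fact t.Prime] (hG : Cfsg.IsMinSimpleOddOrder G) (hM : IsCoatom M)
    (hE : Cfsg.IsComplIn E (Cfsg.sigmaCore M) M) (hp : p ∈ Cfsg.tau2 M)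
    (hab : ∀ S : Sylow p G, IsMulCommutative (S : Subgroup G)) {x : G} (hx : x ∈ E)
    (hxp : IsPGroup p (zpowers x)) : x ∈ centralizer (((Cfsg.pCore t E).map E.subtype : Subgroup G) : Set G) := by
  obtain ⟨A, hA, hAE⟩ := exists_pair_complement hG hM hE hp
  set X := (Cfsg.pCore t E).map E.subtype with hX
  have hXE : X ≤ E := map_subtype_le _
  have hXt : IsPGroup t X := (Core.isPGroup_pCore t E).map _
  have hEX : E ≤ normalizer (X : Set G) := fun x hx =>
    le_normalizer_map E.subtype ⟨⟨x, hx⟩, Core.le_normalizer_of_normal ⊤ (Cfsg.pCore t E) (mem_top _), rfl⟩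
  by_cases htp : t = p
  · subst htp
    obtain ⟨S, hS⟩ := (hxp.to_sup_of_normal_right' hXt (zpowers_le.mpr (hEX hx))).exists_le_sylow
    have := hab S
    exact mem_centralizer_iff.mpr fun a ha => congrArg Subtype.val (mul_comm'
      (⟨a, hS (mem_sup_right ha)⟩ : (S : Subgroup G)) ⟨x, hS (mem_sup_left (mem_zpowers x))⟩)
  by_cases hXb : X = ⊥
  · exact mem_centralizer_iff.mpr fun a ha => by
      rw [hXb] at ha
      rw [mem_bot.mp ha, one_mul, mul_one]
  have htd : t ∣ Nat.card E := by
    obtain ⟨k, hk⟩ := IsPGroup.iff_card.mp hXt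
    have hk0 : k ≠ 0 := by
      rintro rfl
      exact hXb (eq_bot_of_card_eq X (by rw [hk, pow_zero]))
    exact ((dvd_pow_self t hk0).trans hk.symm.dvd).trans (card_dvd_of_le hXE)
  have hxd := mem_derived_normalizer hG hM hE hA hAE hp.2.1 hab hx hxp
  rcases (tau_cases hG hM hE (Fact.out : t.Prime) htd).2 with ⟨-, h1⟩ | h2
  · have hN := normalizer_le_core (t := t) hG hM hE hA hAE hp.2.1 htp
    exact derived_le_centralizer_cyclic (sylow_cyclic_of_rank_one hG h1 hXt (hXE.trans hE.1)) hN hxd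
  · obtain ⟨B, hB, hBE⟩ := exists_pair_complement hG hM hE h2
    obtain ⟨hEA, -, -⟩ := le_normalizer_pair hG hM hA hp.2.1 hE hAE
    obtain ⟨hEB, hΩB, -⟩ := le_normalizer_pair hG hM hB h2.2.1 hE hBE
    have hAM := hAE.trans hE.1
    have hBA : B ≤ centralizer (A : Set G) :=
      commute_of_inf_bot (hBE.trans hEA) (hAE.trans hEB) (inf_eq_bot_pGroups htp hB.isPGroup hA.isPGroup)
    have hCE : centralizer (A : Set G) ≤ E := (le_inf (centralizer_le hG hM hA hAM) le_rfl).trans
      (centralizer_le_complement (sigma_inf_centralizer hG hM hA hAM hp.2.1) hE hAE)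
    have hNB : normalizer (A : Set G) ≤ normalizer (B : Set G) := by
      intro g hg
      refine Transfer.map_conj_eq_self_iff.mp (eq_of_le_of_card_ge ?_ (Transfer.card_map_conj g B).ge)
      rintro _ ⟨b, hb, rfl⟩
      exact hΩB _ (hCE ((mem_normalizer_iff.mp (le_normalizer_centralizer A hg) b).mp (hBA hb)))
        (by rw [← map_pow, hB.1.2 b hb, map_one])
    have hxB : x ∈ centralizer (B : Set G) :=
      derived_le_centralizer hG hB (sylow_abelian_of_two hG hM hE h2 fun e => htp (by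
        have : p ∈ ({t} : Set ℕ) := e ▸ hp
        exact this.symm)) (commutator_mono hNB hNB hxd)
    obtain ⟨k, hk⟩ := IsPGroup.iff_card.mp hxp
    refine OddLocal.centralizes_of_fixes_order_p (hB.ne_two hG) (n := p ^ k)
      (by rw [← hk, Nat.card_zpowers]; exact pow_orderOf_eq_one x)
      (((Nat.coprime_primes Fact.out Fact.out).mpr (Ne.symm htp)).pow_left k) hXt (hEX hx) fun y hy hyo => ?_
    exact (mem_centralizer_iff.mp hxB y (hΩB y (hXE hy) (orderOf_dvd_iff_pow_eq_one.mp hyo.dvd))).symm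

/-- The Fitting subgroup of the complement is abelian. -/
theorem fitting_commutative (hG : Cfsg.IsMinSimpleOddOrder G) (hM : IsCoatom M)
    (hE : Cfsg.IsComplIn E (Cfsg.sigmaCore M) M) : IsMulCommutative ↥(Cfsg.fittingOf E) := by
  have := CfsgLib.Core.isNilpotent_fittingSubgroup E
  refine nilpotent_commutative hG hM ((map_subtype_le _).trans hE.1)
    (Group.nilpotent_of_mulEquiv ((Cfsg.fittingSubgroup E).equivMapOfInjective E.subtype E.subtype_injective))
    fun s hs hd => ?_
  have := Fact.mk hs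
  exact OddLocal.SigmaComplement.not_mem_sigma hG hM hE (hd.trans (card_dvd_of_le (map_subtype_le _)))

/-- With abelian Sylow `p`-subgroups, the `p`-elements of `E` lie in `F(E)`. -/
theorem pElement_mem_fitting (hG : Cfsg.IsMinSimpleOddOrder G) (hM : IsCoatom M)
    (hE : Cfsg.IsComplIn E (Cfsg.sigmaCore M) M) (hp : p ∈ Cfsg.tau2 M)
    (hab : ∀ S : Sylow p G, IsMulCommutative (S : Subgroup G)) {x : G} (hx : x ∈ E)
    (hxp : IsPGroup p (zpowers x)) : x ∈ Cfsg.fittingOf E := by
  have : Group.IsSolvable E := CfsgLib.Core.isSolvable_of_le (hG.2.2.2 M hM.1) hE.1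
  refine ⟨⟨x, hx⟩, CfsgLib.Components.centralizer_fitting_le_of_isSolvable
    (OddLocal.RankTwoFitting.mem_centralizer_fitting fun t ht => mem_centralizer_iff.mpr fun v hv => ?_), rfl⟩
  have := Fact.mk ht
  exact Subtype.ext (mem_centralizer_iff.mp (pElement_centralizes_core (t := t) hG hM hE hp hab hx hxp)
    (v : G) ⟨v, hv, rfl⟩)

end CfsgLib.TwoGroups.TauTwo
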