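import Cfsg.Agent.Lib.TwoGroups.TransitivityHyp

/-!
Owner: helper12. Transitivity passes to a subnormal overgroup.
-/

set_option autoImplicit false

namespace CfsgLib.TwoGroups.TransitivityHyp

open Subgroup CfsgLib.TwoGroups.Transitivity
open scoped Pointwise

variable {G : Type*} [Group G] [Finite G] {A : Subgroup G}

local notation "π" => Cfsg.primesNotDvd (Nat.card A)

/-- `O_{π(A)'}(C(B)) = K ∩ C(B)`. -/
theorem inf_centralizer_eq (hG : Cfsg.IsMinSimpleOddOrder G) (hA : Cfsg.TransitivityHypothesis A)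
    {B : Subgroup G} (hAB : A ≤ B) :
    Cfsg.piCoreOf π (centralizer (A : Set G)) ⊓ centralizer (B : Set G) =
      Cfsg.piCoreOf π (centralizer (B : Set G)) := by
  set C := centralizer (B : Set G)
  refine le_antisymm ?_ (le_inf ?_ (map_subtype_le _))
  · set U := Cfsg.piCoreOf π (centralizer (A : Set G)) ⊓ C with hU
    have h : U.subgroupOf C ≤ Cfsg.piCore π ↥C := by
      refine Components.le_piCore (normal_subgroupOf_iff_le_normalizer_inf.mpr ?_) fun r hr hd => ?_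
      · rw [hU, inf_assoc, inf_idem]
        exact (le_inf ((centralizer_le (fun x hx => hAB hx)).trans (le_normalizer_piCoreOf _ _))
          le_normalizer).trans inf_normalizer_le_normalizer_inf
      · rw [Nat.card_congr (subgroupOfEquivOfLe inf_le_right).toEquiv] at hd
        exact isPiSubgroup_piCoreOf _ _ r hr (hd.trans (card_dvd_of_le inf_le_left))
    exact fun x hx => ⟨⟨x, hx.2⟩, h hx, rfl⟩
  · exact le_coreCentralizer hG hA (fun r hr hd => (isPiSubgroup_piCoreOf _ _ r hr hd).2)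
      ((map_subtype_le _).trans (centralizer_le (fun x hx => hAB hx)))

variable {q : ℕ} [Fact q.Prime]

/-- Any two maximal `B`-invariant `q`-subgroups are conjugate under `O_{π(A)'}(C(B))`. -/
def Trans (A : Subgroup G) (q : ℕ) (B : Subgroup G) : Prop :=
  ∀ Q₁ Q₂ : Subgroup G, IsMaxInv B q Q₁ → IsMaxInv B q Q₂ →
    ∃ k ∈ Cfsg.piCoreOf (Cfsg.primesNotDvd (Nat.card A)) (centralizer (B : Set G)),
      Q₁.map (MulAut.conj k).toMonoidHom = Q₂

omit [Finite G] [Fact q.Prime] in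
theorem isMaxInv_mono {B B' Q : Subgroup G} (hBB : B ≤ B') (hQ : IsMaxInv B q Q)
    (hB' : B' ≤ normalizer (Q : Set G)) : IsMaxInv B' q Q :=
  ⟨hQ.1, hB', fun R hR hRE hle => hQ.2.2 R hR (hBB.trans hRE) hle⟩

theorem isMaxInv_of_le (hG : Cfsg.IsMinSimpleOddOrder G) (hA : Cfsg.TransitivityHypothesis A)
    (hqA : ¬ q ∣ Nat.card A) {P R : Subgroup G} (hP : P ≠ ⊤)
    (hPπ : ∀ r : ℕ, r.Prime → r ∣ Nat.card P → r ∣ Nat.card A) (hAP : A ≤ P)
    (hne : R ≠ ⊥) (hR : IsMaxInv P q R) : IsMaxInv A q R := by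
  obtain ⟨Q, hle, hQ⟩ := exists_maxInv (q := q) hR.1 (hAP.trans hR.2.1)
  suffices hQR : Q = R by rwa [hQR] at hQ
  by_contra hQR
  set X := normalizer (R : Set G) with hX
  have hXt : X ≠ ⊤ := normalizer_ne_top hG hne fun ht => by
    have h1 : IsPGroup q ↥(⊤ : Subgroup G) := ht ▸ hR.1
    have hne1 : A ≠ ⊥ := hA.1
    obtain ⟨k, hk⟩ := IsPGroup.iff_card.mp (h1.to_le (le_top : A ≤ ⊤))
    refine hne1 (eq_bot_of_card_eq A ?_)
    rcases k with _ | k
    · simpa using hk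
    · exact absurd (hk ▸ dvd_pow_self q k.succ_ne_zero) hqA
  set M := Cfsg.piCoreOf π X
  have hPM : P ≤ normalizer (M : Set G) := hR.2.1.trans (le_normalizer_piCoreOf _ _)
  have hMπ := isPiSubgroup_piCoreOf π X
  have hcop : (Nat.card P).Coprime (Nat.card M) :=
    Nat.coprime_of_dvd fun k hk hkP hkM => (hMπ k hk hkM).2 (hPπ k hk hkP)
  have hAX : A ≤ X := hAP.trans hR.2.1
  have hRM : R ≤ M :=
    le_piCoreOf hA hXt hAX le_normalizer (not_dvd_of_isPGroup hqA hR.1) (hAP.trans hR.2.1)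
  obtain ⟨S, hRS, hPS⟩ := Core.exists_invariant_sylow_ge hPM hcop (Or.inl (hG.2.2.2 P hP)) hRM
    hR.1 hR.2.1
  have hSR : (S : Subgroup M).map M.subtype = R := hR.2.2 _ (S.2.map _) hPS hRS
  have hT : IsPGroup q ↥(Q ⊓ X) := hQ.1.to_le inf_le_left
  have hTM : Q ⊓ X ≤ M := le_piCoreOf hA hXt hAX inf_le_right (not_dvd_of_isPGroup hqA hT)
    ((le_inf hQ.2.1 (hAX.trans le_normalizer)).trans inf_normalizer_le_normalizer_inf)
  have hlt := Transfer.lt_inf_normalizer hQ.1 (lt_of_le_of_ne hle (Ne.symm hQR))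
  have hS := S.3 (Q := (Q ⊓ X).subgroupOf M) hT.comap_subtype (fun s hs => by
    have : (s : G) ∈ R := hSR ▸ ⟨s, hs, rfl⟩
    exact hlt.le this)
  refine hlt.not_ge ?_
  exact le_of_eq ((map_subgroupOf_eq_of_le hTM).symm.trans ((congrArg (Subgroup.map M.subtype) hS).trans hSR))

/-- The induction step. -/
theorem good_step (hG : Cfsg.IsMinSimpleOddOrder G) (hA : Cfsg.TransitivityHypothesis A)
    (hqA : ¬ q ∣ Nat.card A) {B B' : Subgroup G} (hAB : A ≤ B) (hBB : B ≤ B')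
    (hn : B' ≤ normalizer (B : Set G)) (hB' : B' ≠ ⊤)
    (hBπ : ∀ r : ℕ, r.Prime → r ∣ Nat.card B' → r ∣ Nat.card A)
    (h : (∀ Q, IsMaxInv B q Q → IsMaxInv A q Q) ∧ Trans A q B) :
    (∀ Q, IsMaxInv B' q Q → IsMaxInv A q Q) ∧ Trans A q B' := by
  set K := Cfsg.piCoreOf π (centralizer (B : Set G)) with hK
  have hKπ := isPiSubgroup_piCoreOf π (centralizer (B : Set G))
  have hB'K : B' ≤ normalizer (K : Set G) := by
    have key : ∀ b ∈ B', ∀ x ∈ K, b * x * b⁻¹ ∈ K := by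
      intro b hb x hx
      have hle : K.map (MulAut.conj b).toMonoidHom ≤ centralizer (B : Set G) := by
        rintro _ ⟨y, hy, rfl⟩
        refine mem_centralizer_iff.mpr fun z hz => ?_
        have hz' := mem_centralizer_iff.mp (map_subtype_le _ hy) (b⁻¹ * z * b)
          ((mem_normalizer_iff''.mp (hn hb) z).mp hz)
        show z * (b * y * b⁻¹) = b * y * b⁻¹ * z
        calc z * (b * y * b⁻¹) = b * (b⁻¹ * z * b * y) * b⁻¹ := by group
          _ = b * (y * (b⁻¹ * z * b)) * b⁻¹ := by rw [hz']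
          _ = b * y * b⁻¹ * z := by group
      have h1 := le_coreCentralizer hG hA (U := K.map (MulAut.conj b).toMonoidHom)
        (fun r hr hd => (hKπ r hr (by rwa [Transfer.card_map_conj] at hd)).2)
        (hle.trans (centralizer_le (fun x hx => hAB hx)))
      exact (inf_centralizer_eq hG hA hAB).le ⟨h1 ⟨x, hx, rfl⟩, hle ⟨x, hx, rfl⟩⟩
    intro b hb
    rw [mem_normalizer_iff]
    exact fun x => ⟨key b hb x, fun hx => by
      simpa [mul_assoc] using key b⁻¹ (inv_mem hb) _ hx⟩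
  have hcop : (Nat.card B').Coprime (Nat.card K) :=
    Nat.coprime_of_dvd fun k hk hkB hkK => (hKπ k hk hkK).2 (hBπ k hk hkB)
  have hs : Group.IsSolvable B' ∨ Group.IsSolvable K := Or.inl (hG.2.2.2 B' hB')
  have hmem : ∀ Q, IsMaxInv B' q Q → IsMaxInv A q Q := by
    intro R hR
    by_cases hne : R = ⊥
    · obtain ⟨Q, -, hQ⟩ := exists_maxInv (E := B) (q := q) hR.1 (hBB.trans hR.2.1)
      obtain ⟨k, hk, hkn⟩ := Core.exists_invariant_conj hB'K hcop hs (P := Q) fun b hb => by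
        have hbQ : IsMaxInv B q (Q.map (MulAut.conj b).toMonoidHom) := by
          have hnorm : ∀ d ∈ B', ∀ U : Subgroup G, B ≤ normalizer (U : Set G) →
              B ≤ normalizer (U.map (MulAut.conj d).toMonoidHom : Set G) := by
            intro d hd U hU e he
            rw [mem_normalizer_iff]
            intro y
            rw [Transfer.mem_map_conj, Transfer.mem_map_conj,
              show d⁻¹ * (e * y * e⁻¹) * d = (d⁻¹ * e * d) * (d⁻¹ * y * d) * (d⁻¹ * e * d)⁻¹ by group]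
            exact mem_normalizer_iff.mp (hU ((mem_normalizer_iff''.mp (hn hd) e).mp he)) _
          refine ⟨hQ.1.map _, hnorm b hb Q hQ.2.1, fun U hU hUE hle => ?_⟩
          have e := hQ.2.2 _ (hU.map (MulAut.conj b⁻¹).toMonoidHom) (hnorm b⁻¹ (inv_mem hb) U hUE)
            (fun x hx => by
              refine ⟨b * x * b⁻¹, hle ⟨x, hx, rfl⟩, ?_⟩
              show b⁻¹ * (b * x * b⁻¹) * b⁻¹⁻¹ = x
              group)
          rw [← e]
          ext x
          rw [Transfer.mem_map_conj, Transfer.mem_map_conj, inv_inv,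
            show b * (b⁻¹ * x * b) * b⁻¹ = x by group]
        obtain ⟨k, hk, e⟩ := h.2 Q _ hQ hbQ
        exact ⟨k, hk, e.symm⟩
      have hQ' : IsMaxInv A q (MulAut.conj k • Q) :=
        h.1 _ (map_conj_maxInv (map_subtype_le _ hk) hQ)
      have e := hR.2.2 _ hQ'.1 hkn (hne ▸ bot_le)
      rwa [e] at hQ'
    · exact isMaxInv_of_le hG hA hqA hB' hBπ (hAB.trans hBB) hne hR
  refine ⟨hmem, fun Q₁ Q₂ h₁ h₂ => ?_⟩
  obtain ⟨k, hk, e⟩ := h.2 Q₁ Q₂ (isMaxInv_mono hAB (hmem _ h₁) (hBB.trans h₁.2.1))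
    (isMaxInv_mono hAB (hmem _ h₂) (hBB.trans h₂.2.1))
  obtain ⟨c, hc, hcQ⟩ := Core.exists_centralizing_conj hB'K hcop hs h₁.2.1 h₂.2.1 ⟨k, hk, e⟩
  refine ⟨c, (inf_centralizer_eq hG hA (hAB.trans hBB)).le ⟨?_, hc.2⟩, hcQ⟩
  exact ((inf_centralizer_eq hG hA hAB).symm.le hc.1).1

theorem good (hG : Cfsg.IsMinSimpleOddOrder G) (hA : Cfsg.TransitivityHypothesis A)
    (hqA : ¬ q ∣ Nat.card A) {P : Subgroup G} (hP : P ≠ ⊤)
    (hPπ : ∀ r : ℕ, r.Prime → r ∣ Nat.card P → r ∣ Nat.card A) (hAP : A ≤ P)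
    (hsn : (A.subgroupOf P).IsSubnormal) (htr : Trans A q A) :
    (∀ Q, IsMaxInv P q Q → IsMaxInv A q Q) ∧ Trans A q P := by
  suffices key : ∀ H : Subgroup ↥P, H.IsSubnormal → A.subgroupOf P ≤ H →
      ((∀ Q, IsMaxInv (H.map P.subtype) q Q → IsMaxInv A q Q) ∧ Trans A q (H.map P.subtype)) →
      (∀ Q, IsMaxInv P q Q → IsMaxInv A q Q) ∧ Trans A q P by
    refine key _ hsn le_rfl ?_
    rw [map_subgroupOf_eq_of_le hAP]
    exact ⟨fun Q hQ => hQ, htr⟩
  intro H hH
  induction hH with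
  | top =>
    intro _ h
    rwa [← MonoidHom.range_eq_map, Subgroup.range_subtype] at h
  | step H K hle _ hN ih =>
    intro hAH h
    refine ih (hAH.trans hle) (good_step hG hA hqA ?_ (map_mono hle) ?_ ?_ ?_ h)
    · rw [← map_subgroupOf_eq_of_le hAP]
      exact map_mono hAH
    · rintro _ ⟨x, hx, rfl⟩
      exact (le_normalizer_map P.subtype) ⟨x, (normal_subgroupOf_iff_le_normalizer hle).mp hN hx, rfl⟩
    · exact fun ht => hP (top_le_iff.mp (ht ▸ map_subtype_le K))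
    · exact fun r hr hd => hPπ r hr (hd.trans (card_dvd_of_le (map_subtype_le K)))

end CfsgLib.TwoGroups.TransitivityHyp
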