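import Cfsg.Agent.Lib.OddLocal.SigmaComplement
import Cfsg.Agent.Lib.TwoGroups.ColourLines
import Cfsg.Agent.Lib.TwoGroups.TransitivityOver
import Cfsg.Agent.S1396
import Cfsg.Agent.S1410

/-!
Owner: helper12. Elementary abelian subgroups of order `p ^ 2` of a maximal subgroup: first facts.
-/

set_option autoImplicit false
set_option linter.unusedSectionVars false

namespace CfsgLib.TwoGroups.TauTwo

open Subgroup
open scoped commutatorElement

variable {G : Type*} [Group G] [Finite G] {p q r : ℕ} [Fact p.Prime] [Fact q.Prime] [Fact r.Prime]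
  {M A D : Subgroup G}

/-- An elementary abelian subgroup of order `p ^ 2`. -/
def IsPair (p : ℕ) (A : Subgroup G) : Prop := Cfsg.IsElementaryAbelian p A ∧ Nat.card A = p ^ 2

theorem IsPair.isPGroup (hA : IsPair p A) : IsPGroup p A := Signalizer.elementary_isPGroup hA.1

theorem IsPair.ne_bot (hA : IsPair p A) : A ≠ ⊥ := by
  rintro rfl
  have h := hA.2
  rw [card_bot] at h
  exact absurd h (Nat.one_lt_pow (by omega) (Fact.out : p.Prime).one_lt).ne

theorem IsPair.not_isCyclic (hA : IsPair p A) : ¬ IsCyclic A :=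
  Uniqueness.not_isCyclic_of_elementary hA.1 hA.2.ge

theorem IsPair.dvd_card (hA : IsPair p A) : p ∣ Nat.card A := hA.2 ▸ dvd_pow_self p (by omega)

theorem IsPair.ne_two (hA : IsPair p A) (hG : Cfsg.IsMinSimpleOddOrder G) : p ≠ 2 :=
  Uniqueness.odd_prime hG (hA.dvd_card.trans A.card_subgroup_dvd_card)

theorem IsPair.not_rank_one (hA : IsPair p A) (hAM : A ≤ M) : ¬ Cfsg.PRankLE p 1 M := by
  refine TwoColours.not_rank_of_elementary hAM hA.1 ?_
  rw [hA.2]

/-- Coprimality of a `p`-group and a `q`-group. -/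
theorem coprime_pGroups (hpq : p ≠ q) {P Q : Subgroup G} (hP : IsPGroup p P) (hQ : IsPGroup q Q) :
    (Nat.card P).Coprime (Nat.card Q) := by
  obtain ⟨a, ha⟩ := IsPGroup.iff_card.mp hP
  obtain ⟨b, hb⟩ := IsPGroup.iff_card.mp hQ
  rw [ha, hb]
  exact ((Nat.coprime_primes Fact.out Fact.out).mpr hpq).pow a b

theorem inf_eq_bot_pGroups (hpq : p ≠ q) {P Q : Subgroup G} (hP : IsPGroup p P) (hQ : IsPGroup q Q) :
    P ⊓ Q = ⊥ := Subgroup.inf_eq_bot_of_coprime (coprime_pGroups hpq hP hQ)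

theorem not_dvd_pGroup (hpq : p ≠ q) {Q : Subgroup G} (hQ : IsPGroup q Q) : ¬ p ∣ Nat.card Q := by
  obtain ⟨b, hb⟩ := IsPGroup.iff_card.mp hQ
  intro hd
  rw [hb] at hd
  exact hpq ((Nat.prime_dvd_prime_iff_eq Fact.out Fact.out).mp ((Fact.out : p.Prime).dvd_of_dvd_pow hd))

/-- An `A`-invariant `q`-group is generated by the centralisers of the elements of `A`. -/
theorem IsPair.le_of_centralizers (hA : IsPair p A) (hqp : q ≠ p) (hD : IsPGroup q D)
    (hAD : A ≤ normalizer (D : Set G)) {Y : Subgroup G}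
    (h : ∀ a ∈ A, a ≠ 1 → D ⊓ centralizer ({a} : Set G) ≤ Y) : D ≤ Y := by
  have := hA.1.1
  exact LocalEven.le_of_centralizers_le (A := A) hA.1.2 hA.2.ge hAD
    (not_dvd_pGroup (Ne.symm hqp) hD) h

/-- Some element of `A` has a nontrivial centraliser on `D ≠ 1`. -/
theorem IsPair.exists_fix (hA : IsPair p A) (hqp : q ≠ p) (hD : IsPGroup q D)
    (hAD : A ≤ normalizer (D : Set G)) (hDb : D ≠ ⊥) :
    ∃ a ∈ A, a ≠ 1 ∧ D ⊓ centralizer ({a} : Set G) ≠ ⊥ := by
  by_contra h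
  push Not at h
  exact hDb (le_bot_iff.mp (hA.le_of_centralizers hqp hD hAD fun a ha ha1 => (h a ha ha1).le))

theorem IsPair.centralizer_le (_hA : IsPair p A) {a : G} (ha : a ∈ A) :
    centralizer (A : Set G) ≤ centralizer ({a} : Set G) := fun _ hx =>
  mem_centralizer_singleton_iff.mpr (mem_centralizer_iff.mp hx a ha).symm

theorem IsPair.le_centralizer (hA : IsPair p A) : A ≤ centralizer (A : Set G) :=
  le_centralizer_iff_isMulCommutative.mpr hA.1.1

/-- An `A` which is no uniqueness subgroup is maximal elementary. -/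
theorem IsPair.maximal (hA : IsPair p A) (hG : Cfsg.IsMinSimpleOddOrder G) (hU : ¬ Cfsg.InUniqueMaximal A)
    {B : Subgroup G} (hB : Cfsg.IsElementaryAbelian p B) (hAB : A ≤ B) : B = A := by
  by_contra hne
  exact hU (AlphaCent.inUniqueMaximal_of_lt hG hA.1 hA.2.ge hB (lt_of_le_of_ne hAB (Ne.symm hne)))

theorem IsPair.mem_of_centralizes (hA : IsPair p A) (hG : Cfsg.IsMinSimpleOddOrder G)
    (hU : ¬ Cfsg.InUniqueMaximal A) {x : G} (hx : x ∈ centralizer (A : Set G)) (hxp : x ^ p = 1) :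
    x ∈ A :=
  (hA.maximal hG hU (TwoColours.elementary_sup_zpowers hA.1 hx hxp) le_sup_left).le
    (mem_sup_right (mem_zpowers x))

theorem IsPair.not_ideal (hA : IsPair p A) (hG : Cfsg.IsMinSimpleOddOrder G)
    (hU : ¬ Cfsg.InUniqueMaximal A) : ¬ Cfsg.IsIdealPrime p G := by
  rintro ⟨-, -, hid⟩
  obtain ⟨S, hS⟩ := hA.isPGroup.exists_le_sylow
  obtain ⟨B, -, hB, hlt⟩ := hid S A hS hA.1 hA.2
  exact hlt.ne (hA.maximal hG hU hB hlt.le).symm

theorem IsPair.not_beta (hA : IsPair p A) (hG : Cfsg.IsMinSimpleOddOrder G)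
    (hU : ¬ Cfsg.InUniqueMaximal A) (L : Subgroup G) : p ∉ Cfsg.beta L := fun h =>
  hA.not_ideal hG hU h.2

theorem IsPair.hypothesis (hA : IsPair p A) (hG : Cfsg.IsMinSimpleOddOrder G)
    (hU : ¬ Cfsg.InUniqueMaximal A) : Cfsg.TransitivityHypothesis A :=
  Cfsg.Agent.S1396.result hG p (hA.dvd_card.trans A.card_subgroup_dvd_card) A hA.isPGroup hA.1.1
    (Or.inl ⟨fun _ hx => ⟨hA.mem_of_centralizes hG hU hx, hA.1.2 _⟩,
      fun H hH => Cfsg.Agent.S1410.result hG p H hH⟩)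

theorem IsPair.not_dvd_prime (hA : IsPair p A) (hqp : q ≠ p) : ¬ q ∣ Nat.card A :=
  not_dvd_pGroup hqp hA.isPGroup

/-- The maximal `A`-invariant `q`-subgroups meeting one of them are conjugate to it under `C(A)`. -/
theorem IsPair.trans (hA : IsPair p A) (hG : Cfsg.IsMinSimpleOddOrder G) (hU : ¬ Cfsg.InUniqueMaximal A)
    (hqp : q ≠ p) {Q₁ Q₂ : Subgroup G} (h₁ : Transitivity.IsMaxInv A q Q₁)
    (h₂ : Transitivity.IsMaxInv A q Q₂) (hne : Q₁ ⊓ Q₂ ≠ ⊥) :
    ∃ c ∈ centralizer (A : Set G), Q₁.map (MulAut.conj c).toMonoidHom = Q₂ := by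
  obtain ⟨c, hc, e⟩ := TransitivityHyp.trans_of_ne_bot hG (hA.hypothesis hG hU) (hA.not_dvd_prime hqp)
    h₁ h₂ hne
  exact ⟨c, map_subtype_le _ hc, e⟩

/-- A subgroup is the centre of transitivity in `M`: uniqueness subgroups for `β`. -/
theorem inUniqueMaximal_of_beta (hG : Cfsg.IsMinSimpleOddOrder G)
    (hr : r ∈ Cfsg.beta M) {E : Subgroup G} (hE : Cfsg.IsElementaryAbelian r E)
    (hE2 : Nat.card E = r ^ 2) : Cfsg.InUniqueMaximal E := by
  by_contra hU
  exact IsPair.not_ideal (A := E) ⟨hE, hE2⟩ hG hU hr.2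

/-- A noncyclic `r`-subgroup contains an elementary abelian subgroup of order `r ^ 2`. -/
theorem exists_pair (hG : Cfsg.IsMinSimpleOddOrder G) {X : Subgroup G} (hX : IsPGroup r X)
    (hnc : ¬ IsCyclic X) : ∃ E : Subgroup G, E ≤ X ∧ Cfsg.IsElementaryAbelian r E ∧ Nat.card E = r ^ 2 := by
  have hd : r ∣ Nat.card G := by
    obtain ⟨k, hk⟩ := IsPGroup.iff_card.mp hX
    have hk0 : k ≠ 0 := by
      rintro rfl
      exact hnc ((eq_bot_of_card_eq X (hk.trans (pow_zero r))) ▸ inferInstance)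
    exact ((dvd_pow_self r hk0).trans hk.symm.dvd).trans X.card_subgroup_dvd_card
  obtain ⟨E, -, hE, hE2⟩ := Transfer.exists_normal_elementary_card_sq (Uniqueness.odd_prime hG hd) hX hnc
  refine ⟨E.map X.subtype, map_subtype_le _, ⟨?_, ?_⟩, by rw [card_map_of_injective X.subtype_injective, hE2]⟩
  · have := hE.1; exact map_isMulCommutative E _
  · rintro _ ⟨a, ha, rfl⟩
    rw [← map_pow, hE.2 a ha, map_one]

theorem inUniqueMaximal_noncyclic (hG : Cfsg.IsMinSimpleOddOrder G)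
    (hr : r ∈ Cfsg.beta M) {X : Subgroup G} (hX : IsPGroup r X) (hnc : ¬ IsCyclic X) :
    Cfsg.InUniqueMaximal X := by
  obtain ⟨E, hEX, hE, hE2⟩ := exists_pair hG hX hnc
  exact Uniqueness.inUniqueMaximal_mono (inUniqueMaximal_of_beta hG hr hE hE2)
    (Uniqueness.ne_top_of_pGroup hG hX) hEX

/-- Over a noncyclic `r`-subgroup of `M`, `r ∈ β(M)`, lies only `M`. -/
theorem le_of_noncyclic (hG : Cfsg.IsMinSimpleOddOrder G) (hM : IsCoatom M) (hr : r ∈ Cfsg.beta M)
    {X H : Subgroup G} (hX : IsPGroup r X) (hnc : ¬ IsCyclic X) (hXM : X ≤ M) (hH : H ≠ ⊤) (hXH : X ≤ H) :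
    H ≤ M :=
  Uniqueness.le_of_inUniqueMaximal (inUniqueMaximal_noncyclic hG hr hX hnc) hM hXM hH hXH

/-- In `β(M)` the normaliser of a nontrivial subgroup lies in `M`. -/
theorem normalizer_le_of_beta (hG : Cfsg.IsMinSimpleOddOrder G) (hM : IsCoatom M) (hr : r ∈ Cfsg.beta M)
    {X : Subgroup G} (hX : IsPGroup r X) (hXb : X ≠ ⊥) (hXM : X ≤ M) :
    normalizer (X : Set G) ≤ M := by
  have hXt : X ≠ ⊤ := Uniqueness.ne_top_of_pGroup hG hX
  by_cases hc : IsCyclic X
  swap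
  · exact le_of_noncyclic hG hM hr hX hc hXM (TransitivityHyp.normalizer_ne_top hG hXb hXt) le_normalizer
  -- the subgroup of order `r`
  obtain ⟨k, hk⟩ := IsPGroup.iff_card.mp hX
  have hk0 : k ≠ 0 := by
    rintro rfl
    exact hXb (eq_bot_of_card_eq X (hk.trans (pow_zero r)))
  obtain ⟨x₀, hx₀⟩ := exists_prime_orderOf_dvd_card' r ((dvd_pow_self r hk0).trans hk.symm.dvd)
  set X₁ := zpowers (x₀ : G) with hX₁
  have hX₁c : Nat.card X₁ = r := by rw [hX₁, Nat.card_zpowers, orderOf_coe, hx₀]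
  have hX₁X : X₁ ≤ X := zpowers_le.mpr x₀.2
  have hX₁b : X₁ ≠ ⊥ := fun h => by
    rw [h, card_bot] at hX₁c
    exact (Fact.out : r.Prime).ne_one hX₁c.symm
  refine le_trans (fun g hg => ?_) (show normalizer (X₁ : Set G) ≤ M from ?_)
  · refine Transfer.map_conj_eq_self_iff.mp ?_
    have hle : X₁.map (MulAut.conj g).toMonoidHom ≤ X :=
      (map_mono hX₁X).trans (Transfer.map_conj_eq_self_iff.mpr hg).le
    have h1 : (X₁.map (MulAut.conj g).toMonoidHom).subgroupOf X = X₁.subgroupOf X := by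
      refine NonSigma.eq_of_card_prime (p := r) hc ?_ ?_
      · rw [Nat.card_congr (subgroupOfEquivOfLe hle).toEquiv, Transfer.card_map_conj, hX₁c]
      · rw [Nat.card_congr (subgroupOfEquivOfLe hX₁X).toEquiv, hX₁c]
    rw [← map_subgroupOf_eq_of_le hle, h1, map_subgroupOf_eq_of_le hX₁X]
  -- a Sylow subgroup of `G` over `X₁`
  obtain ⟨R, hR⟩ := ((hX.to_le hX₁X).comap_subtype (K := M)).exists_le_sylow
  obtain ⟨S, hS⟩ := SigmaTrans.sigma_sylow (SigmaTrans.alpha_subset_sigma hG hM hr.1) R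
  have hX₁S : X₁ ≤ (S : Subgroup G) := hS ▸ fun x hx => ⟨⟨x, hXM (hX₁X hx)⟩, hR hx, rfl⟩
  have hSM : (S : Subgroup G) ≤ M := hS ▸ map_subtype_le _
  have hnS : ¬ IsCyclic (S : Subgroup G) := by
    intro h
    refine hr.1.2 ?_
    intro E hEc hEe
    have hEr : IsPGroup r E := fun x => ⟨1, Subtype.ext (by rw [pow_one]; exact hEe x x.2)⟩
    obtain ⟨R', hR'⟩ := hEr.exists_le_sylow
    obtain ⟨S', hS'⟩ := SigmaTrans.sigma_sylow (SigmaTrans.alpha_subset_sigma hG hM hr.1) R'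
    have : IsCyclic (S' : Subgroup G) :=
      isCyclic_of_surjective (S.equiv S') (S.equiv S').surjective
    have hEc2 : IsCyclic (E.map M.subtype) :=
      isCyclic_of_injective (inclusion (hS' ▸ map_mono hR')) (inclusion_injective _)
    by_contra hlt
    have := hEc
    exact Uniqueness.not_isCyclic_of_elementary (E := E.map M.subtype) (p := r) ⟨inferInstance, by
      rintro _ ⟨e, he, rfl⟩
      rw [← map_pow, hEe e he, map_one]⟩
      (by rw [card_map_of_injective M.subtype_injective]; exact (not_le.mp hlt).le) hEc2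
  set C := (S : Subgroup G) ⊓ centralizer (X₁ : Set G) with hC
  refine le_of_noncyclic hG hM hr (S.2.to_le inf_le_left) (X := C) ?_ (inf_le_left.trans hSM)
    (TransitivityHyp.normalizer_ne_top hG hX₁b (Uniqueness.ne_top_of_pGroup hG (hX.to_le hX₁X)))
    (inf_le_right.trans (centralizer_le_normalizer _))
  intro hcyc
  -- `X₁` is central in `S`
  have hSb : (S : Subgroup G) ≠ ⊥ := fun h => hX₁b (le_bot_iff.mp (h ▸ hX₁S))
  have : Nontrivial (S : Subgroup G) := (nontrivial_iff_ne_bot _).mpr hSb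
  obtain ⟨j, hj⟩ := IsPGroup.iff_card.mp (S.2.to_subgroup (center (S : Subgroup G)))
  have hj0 : j ≠ 0 := by
    rintro rfl
    have h1 : 1 < Nat.card (center (S : Subgroup G)) := by
      have := S.2.center_nontrivial
      exact Finite.one_lt_card
    rw [hj, pow_zero] at h1
    omega
  obtain ⟨z, hz⟩ := exists_prime_orderOf_dvd_card' r ((dvd_pow_self r hj0).trans hj.symm.dvd)
  set Z := zpowers ((z : (S : Subgroup G)) : G) with hZ
  have hZc : Nat.card Z = r := by rw [hZ, Nat.card_zpowers, orderOf_coe, orderOf_coe, hz]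
  have hzC : ((z : (S : Subgroup G)) : G) ∈ C := ⟨z.1.2, mem_centralizer_iff.mpr fun x hx =>
    congrArg Subtype.val (mem_center_iff.mp z.2 ⟨x, hX₁S hx⟩)⟩
  have hX₁C : X₁ ≤ C := le_inf hX₁S (le_centralizer_iff_isMulCommutative.mpr inferInstance)
  have h1 : Z.subgroupOf C = X₁.subgroupOf C := by
    refine NonSigma.eq_of_card_prime (p := r) hcyc ?_ ?_
    · rw [Nat.card_congr (subgroupOfEquivOfLe (zpowers_le.mpr hzC)).toEquiv, hZc]
    · rw [Nat.card_congr (subgroupOfEquivOfLe hX₁C).toEquiv, hX₁c]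
  have h2 : Z = X₁ := ((map_subgroupOf_eq_of_le (zpowers_le.mpr hzC : Z ≤ C)).symm.trans
    (congrArg (Subgroup.map C.subtype) h1)).trans (map_subgroupOf_eq_of_le hX₁C)
  refine hnS ?_
  have hSC : (S : Subgroup G) ≤ C := le_inf le_rfl (le_centralizer_iff.mp (h2 ▸ zpowers_le.mpr
    (mem_centralizer_iff.mpr fun s hs => congrArg Subtype.val (mem_center_iff.mp z.2 ⟨s, hs⟩))))
  exact isCyclic_of_injective (inclusion hSC) (inclusion_injective _)

/-- A `p`-subgroup of `M'` centralises the `q`-subgroups of `M` it normalises, `q ∉ β(M)`. -/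
theorem centralizes_of_derived (hG : Cfsg.IsMinSimpleOddOrder G) (hM : IsCoatom M) (hqp : q ≠ p)
    (hqβ : q ∉ Cfsg.beta M) (hA : IsPGroup p A) (hAd : A ≤ ⁅M, M⁆) (hD : IsPGroup q D) (hDM : D ≤ M)
    (hAD : A ≤ normalizer (D : Set G)) : A ≤ centralizer (D : Set G) := by
  have hc := OddLocal.BetaCore.complement_derived hG hM hqβ
  set O := (Cfsg.pPrimeCore q ↥⁅M, M⁆).map (⁅M, M⁆).subtype with hO
  have hAO : A ≤ O := by
    rw [← map_subgroupOf_eq_of_le hAd]
    refine map_mono (OddLocal.BetaCore.le_pPrimeCore_of_complement hc ?_)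
    rw [Nat.card_congr (subgroupOfEquivOfLe hAd).toEquiv]
    exact ((Fact.out : q.Prime).coprime_iff_not_dvd.mpr (not_dvd_pGroup hqp hA)).symm
  have hMO : M ≤ normalizer (O : Set G) := by
    have hn : M ≤ normalizer ((⁅M, M⁆ : Subgroup G) : Set G) := normalizer_commutator_ge_left M M
    have hchar : (Cfsg.pPrimeCore q ↥⁅M, M⁆).Characteristic := inferInstance
    exact fun g hg => OddLocal.PLengthEndgame.normalizer_le_char ⁅M, M⁆ _ (hn hg)
  have hbot : D ⊓ O = ⊥ := by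
    refine Subgroup.inf_eq_bot_of_coprime (Nat.Coprime.symm ?_)
    obtain ⟨k, hk⟩ := IsPGroup.iff_card.mp hD
    rw [hk, hO, card_map_of_injective (⁅M, M⁆).subtype_injective]
    exact (CfsgLib.Core.coprime_card_pPrimeCore q _).pow_right k
  intro a ha
  refine mem_centralizer_iff.mpr fun d hd => commutatorElement_eq_one_iff_mul_comm.mp
    (mem_bot.mp (hbot ▸ mem_inf.mpr ⟨?_, ?_⟩))
  · rw [commutatorElement_def, mul_assoc d, mul_assoc d]
    exact mul_mem hd ((mem_normalizer_iff.mp (hAD ha) _).mp (inv_mem hd))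
  · rw [commutatorElement_def]
    exact mul_mem ((mem_normalizer_iff.mp (hMO (hDM hd)) a).mp (hAO ha)) (inv_mem (hAO ha))

/-- `p`-subgroups of `M` lie in `M'` for `p ∈ σ(M)`. -/
theorem le_derived_of_sigma (hG : Cfsg.IsMinSimpleOddOrder G) (hM : IsCoatom M) (hp : p ∈ Cfsg.sigma M)
    (hA : IsPGroup p A) (hAM : A ≤ M) : A ≤ ⁅M, M⁆ := by
  obtain ⟨P, hP⟩ := (hA.comap_subtype (K := M)).exists_le_sylow
  refine le_trans ?_ (AlphaCore.sylow_le_derived hG hM hp P)
  exact fun x hx => mem_map.mpr ⟨⟨x, hAM hx⟩, hP (mem_comap.mpr hx), rfl⟩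

theorem IsPair.tau2_of_not_sigma (hA : IsPair p A) (hG : Cfsg.IsMinSimpleOddOrder G) (hM : IsCoatom M)
    (hAM : A ≤ M) (hp : p ∉ Cfsg.sigma M) : p ∈ Cfsg.tau2 M :=
  ⟨Fact.out, hp, not_not.mp fun h => hp (SigmaTrans.alpha_subset_sigma hG hM ⟨Fact.out, h⟩),
    hA.not_rank_one hAM⟩

/-- A `q`-subgroup of `M` is inside the Hall subgroup `M_σ` for `q ∈ σ(M)`. -/
theorem le_sigmaCore (hG : Cfsg.IsMinSimpleOddOrder G) (hM : IsCoatom M) (hq : q ∈ Cfsg.sigma M)
    (hD : IsPGroup q D) (hDM : D ≤ M) : D ≤ Cfsg.sigmaCore M := by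
  obtain ⟨P, hP⟩ := (hD.comap_subtype (K := M)).exists_le_sylow
  intro x hx
  exact mem_map.mpr ⟨⟨x, hDM hx⟩, OddLocal.SigmaCore.sylow_le hG hM hq P (hP (mem_comap.mpr hx)), rfl⟩

end CfsgLib.TwoGroups.TauTwo
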