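import Cfsg.Agent.Lib.Core.Basic
import Mathlib.GroupTheory.SchurZassenhaus
import Mathlib.GroupTheory.Exponent

/-!
Owner: helper12. A subgroup of full exponent whose elements of prime order are all "good".
-/

set_option autoImplicit false

namespace CfsgLib.TwoGroups.TauTwo

open Subgroup

variable {Γ : Type*} [Group Γ] [Finite Γ]

/-- A subgroup of index prime to `t` meets every conjugacy class of `t`-elements. -/
theorem exists_conj_mem_of_index {t k : ℕ} [Fact t.Prime] {U : Subgroup Γ} (hU : ¬ t ∣ U.index) {g : Γ}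
    (hg : orderOf g = t ^ k) : ∃ x : Γ, x * g * x⁻¹ ∈ U := by
  obtain ⟨T⟩ : Nonempty (Sylow t U) := inferInstance
  have hd : ¬ t ∣ ((T : Subgroup U).map U.subtype).index := by
    rw [index_map_subtype, (Fact.out : t.Prime).dvd_mul]
    exact not_or.mpr ⟨T.not_dvd_index, hU⟩
  set S : Sylow t Γ := (T.2.map U.subtype).toSylow hd with hS
  obtain ⟨P, hP⟩ := (IsPGroup.of_card (n := k) (G := zpowers g)
    (by rw [Nat.card_zpowers, hg])).exists_le_sylow
  obtain ⟨x, hx⟩ := MulAction.exists_smul_eq Γ P S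
  refine ⟨x, ?_⟩
  have h1 : x * g * x⁻¹ ∈ (S : Subgroup Γ) := by
    rw [← hx, Sylow.smul_def]
    exact ⟨g, hP (mem_zpowers g), rfl⟩
  obtain ⟨u, -, hu⟩ := h1
  exact hu ▸ u.2

/-- Assembling a subgroup of full exponent from a complement and a part of a Hall subgroup. -/
theorem exists_same_exponent (Good : Γ → Prop) (hconj : ∀ g e : Γ, Good e → Good (g * e * g⁻¹))
    (N H : Subgroup Γ) [N.Normal] (htop : N ⊔ normalizer (H : Set Γ) = ⊤)
    (hNH : (Nat.card N).Coprime (Nat.card H)) (hHall : (Nat.card H).Coprime H.index)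
    (hout : ∀ e : Γ, (orderOf e).Prime → ¬ orderOf e ∣ Nat.card H → Good e)
    (hZ : ∀ K : Subgroup Γ, K ≤ normalizer (H : Set Γ) → (Nat.card K).Coprime (Nat.card H) →
      ∃ Z : Subgroup Γ, Z ≤ H ∧ K ≤ normalizer (Z : Set Γ) ∧ (∀ z ∈ Z, (orderOf z).Prime → Good z) ∧
        ∀ g ∈ H, ∀ t k : ℕ, t.Prime → orderOf g = t ^ k → t ^ k ∣ Monoid.exponent Z) :
    ∃ E₀ : Subgroup Γ, Monoid.exponent E₀ = Monoid.exponent Γ ∧
      ∀ e ∈ E₀, (orderOf e).Prime → Good e := by
  classical
  set D := normalizer (H : Set Γ) with hD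
  have hHD : H ≤ D := le_normalizer
  have : (H.subgroupOf D).Normal := normal_subgroupOf_of_le_normalizer le_rfl
  have hcopD : (Nat.card (H.subgroupOf D)).Coprime (H.subgroupOf D).index := by
    rw [Nat.card_congr (subgroupOfEquivOfLe hHD).toEquiv]
    exact Nat.Coprime.coprime_dvd_right ⟨_, (relIndex_mul_index hHD).symm⟩ hHall
  obtain ⟨K₀, hK₀⟩ := exists_right_complement'_of_coprime hcopD
  set K₁ := K₀.map D.subtype with hK₁
  have hK₁D : K₁ ≤ D := map_subtype_le _
  have hK₁H : (Nat.card K₁).Coprime (Nat.card H) := by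
    rw [hK₁, card_map_of_injective D.subtype_injective]
    have hm := hK₀.card_mul
    have hc : Nat.card K₀ = (H.subgroupOf D).index := by
      have h2 := (H.subgroupOf D).card_mul_index
      exact Nat.eq_of_mul_eq_mul_left Nat.card_pos (hm.trans h2.symm)
    rw [hc, ← Nat.card_congr (subgroupOfEquivOfLe hHD).toEquiv]
    exact hcopD.symm
  set K := N ⊔ K₁ with hK
  have hKH : (Nat.card K).Coprime (Nat.card H) := by
    have hd := Core.card_sup_dvd K₁ N (Core.le_normalizer_of_normal K₁ N)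
    rw [sup_comm, ← hK] at hd
    exact Nat.Coprime.coprime_dvd_left hd (Nat.Coprime.mul_left hK₁H hNH)
  -- `Γ = K H`
  have hsurj : Function.Surjective fun x : K × H => (x.1 : Γ) * (x.2 : Γ) := by
    intro g
    obtain ⟨n, hn, d, hd, rfl⟩ := (mem_sup_of_normal_left (s := N)).mp (htop.ge (mem_top g))
    obtain ⟨⟨h, k⟩, hhk⟩ := hK₀.2 ⟨d, hd⟩
    have e : (h.1 : Γ) * (k.1 : Γ) = d := congrArg Subtype.val hhk
    have hk1 : ((k.1 : D) : Γ) ∈ K₁ := ⟨k.1, k.2, rfl⟩
    refine ⟨⟨⟨n * (k.1 : Γ), mul_mem (mem_sup_left hn) (mem_sup_right hk1)⟩,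
      ⟨(k.1 : Γ)⁻¹ * (h.1 : Γ) * (k.1 : Γ), (mem_normalizer_iff''.mp k.1.2 _).mp h.2⟩⟩, ?_⟩
    show n * (k.1 : Γ) * ((k.1 : Γ)⁻¹ * (h.1 : Γ) * (k.1 : Γ)) = n * d
    rw [← e]
    group
  have hcard : Nat.card Γ = Nat.card K * Nat.card H := by
    refine le_antisymm ?_ (Nat.le_of_dvd Nat.card_pos
      (hKH.mul_dvd_of_dvd_of_dvd K.card_subgroup_dvd_card H.card_subgroup_dvd_card))
    rw [← Nat.card_prod]
    exact Nat.card_le_card_of_surjective _ hsurj
  have hKi : K.index = Nat.card H :=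
    Nat.eq_of_mul_eq_mul_left Nat.card_pos (K.card_mul_index.trans hcard)
  obtain ⟨Z, hZH, hKZ, hgood, hexp⟩ := hZ K₁ hK₁D hK₁H
  set W := N ⊔ Z with hW
  set E₀ := W ⊔ K₁ with hE₀
  have hKE : K ≤ E₀ := sup_le (le_sup_left.trans le_sup_left) le_sup_right
  refine ⟨E₀, ?_, ?_⟩
  · refine Nat.dvd_antisymm (Monoid.exponent_dvd.2 fun g => ?_) (Monoid.exponent_dvd.2 fun g => ?_)
    · rw [← Subgroup.orderOf_coe]
      exact Monoid.order_dvd_exponent _
    · rw [Nat.dvd_iff_prime_pow_dvd_dvd]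
      intro t k ht hd
      have := Fact.mk ht
      rcases Nat.eq_zero_or_pos k with rfl | hk
      · exact one_dvd _
      have hg' : orderOf (g ^ (orderOf g / t ^ k)) = t ^ k := orderOf_pow_orderOf_div (orderOf_pos g).ne' hd
      by_cases htH : t ∣ Nat.card H
      · have hHi : ¬ t ∣ H.index := fun h => ht.ne_one (Nat.eq_one_of_dvd_coprimes hHall htH h)
        obtain ⟨x, hx⟩ := exists_conj_mem_of_index hHi hg'
        refine (hexp _ hx t k ht ?_).trans (Monoid.exponent_dvd.2 fun z => ?_)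
        · exact (MulEquiv.orderOf_eq (MulAut.conj x) _).trans hg'
        · rw [← Subgroup.orderOf_coe]
          exact (orderOf_mk (z : Γ) (mem_sup_left (mem_sup_right z.2) : (z : Γ) ∈ E₀)).symm.dvd.trans
            (Monoid.order_dvd_exponent _)
      · obtain ⟨x, hx⟩ := exists_conj_mem_of_index (U := K) (hKi ▸ htH) hg'
        have h1 := Monoid.order_dvd_exponent (⟨_, hKE hx⟩ : E₀)
        rw [orderOf_mk] at h1
        exact ((MulEquiv.orderOf_eq (MulAut.conj x) _).trans hg').symm.dvd.trans h1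
  · intro e he hpr
    by_cases hdH : orderOf e ∣ Nat.card H
    swap
    · exact hout e hpr hdH
    have := Fact.mk hpr
    set t := orderOf e with ht
    have htn : ∀ {m : ℕ}, m.Coprime (Nat.card H) → ¬ t ∣ m := fun hm h =>
      hpr.ne_one (Nat.eq_one_of_dvd_coprimes hm h hdH)
    have hWK : K₁ ≤ normalizer (W : Set Γ) :=
      le_trans (le_inf (Core.le_normalizer_of_normal K₁ N) hKZ) (fun g hg => by
        refine mem_normalizer_iff.mpr fun x => ?_
        have key : ∀ g ∈ normalizer (N : Set Γ) ⊓ normalizer (Z : Set Γ), ∀ x ∈ W, g * x * g⁻¹ ∈ W := by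
          intro g hg x hx
          obtain ⟨n, hn, z, hz, rfl⟩ := (mem_sup_of_normal_left (s := N)).mp hx
          rw [show g * (n * z) * g⁻¹ = g * n * g⁻¹ * (g * z * g⁻¹) by group]
          exact mul_mem (mem_sup_left ((mem_normalizer_iff.mp hg.1 n).mp hn))
            (mem_sup_right ((mem_normalizer_iff.mp hg.2 z).mp hz))
        refine ⟨key g hg x, fun h => ?_⟩
        have := key g⁻¹ (inv_mem hg) _ h
        rwa [show g⁻¹ * (g * x * g⁻¹) * g⁻¹⁻¹ = x by group] at this)
    have hEW : E₀ ≤ normalizer (W : Set Γ) := sup_le le_normalizer hWK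
    have heW : e ∈ W := by
      by_contra hne
      have hdis : zpowers e ⊓ W = ⊥ := by
        have h1 : Nat.card ↥(zpowers e ⊓ W) ∣ t := by
          rw [ht, ← Nat.card_zpowers]; exact card_dvd_of_le inf_le_left
        rcases (Nat.dvd_prime hpr).mp h1 with h | h
        · exact eq_bot_of_card_eq _ h
        · exact absurd ((eq_of_le_of_card_ge inf_le_left (by rw [h, Nat.card_zpowers])).ge.trans inf_le_right
            (mem_zpowers e)) hne
      have h1 := Core.card_sup_of_disjoint (H := zpowers e) (N := W) ((zpowers_le.mpr (hEW he))) hdis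
      have h2 : Nat.card ↥(zpowers e ⊔ W) ∣ Nat.card E₀ := card_dvd_of_le (sup_le (zpowers_le.mpr he) le_sup_left)
      have h3 := Core.card_sup_dvd K₁ W hWK
      rw [sup_comm, ← hE₀] at h3
      rw [h1, Nat.card_zpowers, ← ht] at h2
      exact htn hK₁H (Nat.dvd_of_mul_dvd_mul_right Nat.card_pos (h2.trans h3))
    have hZW : Z ≤ W := le_sup_right
    have hidx : ¬ t ∣ (Z.subgroupOf W).index := by
      intro h
      have h3 := Core.card_sup_dvd Z N (Core.le_normalizer_of_normal Z N)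
      rw [sup_comm, ← hW, ← (Z.subgroupOf W).card_mul_index, Nat.card_congr (subgroupOfEquivOfLe hZW).toEquiv] at h3
      exact htn hNH (h.trans (Nat.dvd_of_mul_dvd_mul_left Nat.card_pos h3))
    obtain ⟨x, hx⟩ := exists_conj_mem_of_index hidx (g := (⟨e, heW⟩ : W)) (k := 1)
      (by rw [orderOf_mk, pow_one])
    have h4 := hgood _ (mem_subgroupOf.mp hx) (by
      rw [Subgroup.orderOf_coe]
      exact ((MulEquiv.orderOf_eq (MulAut.conj x) _).trans (orderOf_mk e heW)).symm ▸ hpr)
    have h5 := hconj (x : Γ)⁻¹ _ h4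
    simpa [mul_assoc] using h5

end CfsgLib.TwoGroups.TauTwo
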