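import Mathlib.GroupTheory.QuotientGroup.Basic
import Mathlib.GroupTheory.Subgroup.Centralizer
import Mathlib.NumberTheory.Basic
import Mathlib.FieldTheory.Finite.Basic

/-!
Owner: helper12. An averaging lemma: a coprime group acting on an abelian `p`-group lifts an invariant line
to an invariant cyclic subgroup of the same height.
-/

set_option autoImplicit false

namespace CfsgLib.TwoGroups.TauTwo

open Subgroup

theorem modEq_pow_prime_pow {p a b : ℕ} (i : ℕ) (h : a ≡ b [MOD p]) :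
    a ^ p ^ i ≡ b ^ p ^ i [MOD p ^ (i + 1)] := by
  rw [Nat.modEq_iff_dvd] at h ⊢
  have := dvd_sub_pow_of_dvd_sub (R := ℤ) h i
  exact_mod_cast this

theorem pow_prime_pow_modEq {p : ℕ} [Fact p.Prime] (n i : ℕ) : n ^ p ^ i ≡ n [MOD p] := by
  rw [← ZMod.natCast_eq_natCast_iff, Nat.cast_pow, ZMod.pow_card_pow]

theorem pow_congr_modEq {H : Type*} [Group H] {s : H} {N a b : ℕ} (hs : s ^ N = 1) (h : a ≡ b [MOD N]) :
    s ^ a = s ^ b :=
  pow_eq_pow_iff_modEq.mpr (h.of_dvd (orderOf_dvd_of_pow_eq_one hs))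

variable {G : Type*} [Group G] [Finite G]

/-- A `K`-invariant line modulo `W` is the socle of a `K`-invariant cyclic subgroup of the same height. -/
theorem exists_invariant_lift {p : ℕ} [Fact p.Prime] {S W K : Subgroup G} (hS : IsMulCommutative S)
    (hWS : W ≤ S) (i : ℕ) (hexp : ∀ s ∈ S, s ^ p ^ (i + 1) = 1) (hKS : K ≤ normalizer (S : Set G))
    (hKW : K ≤ normalizer (W : Set G)) (hcop : ¬ p ∣ Nat.card K) {u : G} (hu : u ∈ S)
    (hy : u ^ p ^ i ∉ W)
    (hline : ∀ k ∈ K, ∃ n : ℕ, ((u ^ p ^ i) ^ n)⁻¹ * (k * u ^ p ^ i * k⁻¹) ∈ W) :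
    ∃ z ∈ S, K ≤ normalizer ((zpowers z : Subgroup G) : Set G) ∧ z ^ p ^ i ∉ W ∧
      ∃ m : ℕ, ((u ^ p ^ i) ^ m)⁻¹ * z ^ p ^ i ∈ W := by
  classical
  let _ := Fintype.ofFinite K
  let _ : CommGroup S := { (inferInstance : Group S) with mul_comm := fun a b => hS.is_comm.comm a b }
  choose n hn using fun k : K => hline k k.2
  let φ : K →* MulAut S := S.normalizerMonoidHom.comp (inclusion hKS)
  set u₀ : S := ⟨u, hu⟩
  set y : S := u₀ ^ p ^ i with hy'
  have : (W.subgroupOf S).Normal := inferInstance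
  let π := QuotientGroup.mk' (W.subgroupOf S)
  have hyW : π y ≠ 1 := fun e => hy (by
    have := (QuotientGroup.eq_one_iff y).mp e
    simpa [mem_subgroupOf, hy', u₀] using this)
  have hyp : π y ^ p = 1 := by
    rw [hy', ← map_pow, ← pow_mul, ← pow_succ, show u₀ ^ p ^ (i + 1) = 1 from Subtype.ext (hexp u hu), map_one]
  have hord : orderOf (π y) = p := orderOf_eq_prime hyp hyW
  have hact : ∀ k : K, π (φ k y) = π y ^ n k := by
    intro k
    rw [← map_pow]
    refine ((QuotientGroup.eq_iff_div_mem).mpr ?_)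
    rw [mem_subgroupOf, div_eq_inv_mul]
    exact hn k
  have hW : ∀ (k : K) (s t : S), π s = π t → π (φ k s) = π (φ k t) := by
    intro k s t e
    refine (QuotientGroup.eq_iff_div_mem).mpr ?_
    have h1 := (QuotientGroup.eq_iff_div_mem).mp e
    rw [← map_div, mem_subgroupOf]
    exact (mem_normalizer_iff.mp (hKW k.2) _).mp h1
  have hmul : ∀ j h : K, n (j * h) ≡ n j * n h [MOD p] := by
    intro j h
    rw [← hord]
    refine pow_eq_pow_iff_modEq.mp ?_
    rw [← hact, pow_mul, map_mul, MulAut.mul_apply, hW j (φ h y) (y ^ n h) (by rw [hact]; exact (map_pow π y _).symm),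
      map_pow, map_pow, hact]
  have hone : n 1 ≡ 1 [MOD p] := by
    rw [← hord]
    refine pow_eq_pow_iff_modEq.mp ?_
    rw [← hact, map_one, MulAut.one_apply, pow_one]
  set P := p ^ i with hP
  let c : K → ℕ := fun k => n k⁻¹ ^ P
  let z : S := ∏ k : K, φ k u₀ ^ c k
  have h2 : π (z ^ P) = π y ^ Nat.card K := by
    simp only [z, ← Finset.prod_pow, map_prod]
    rw [Nat.card_eq_fintype_card, ← Finset.card_univ, ← Finset.prod_const]
    refine Finset.prod_congr rfl fun k _ => ?_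
    rw [← pow_mul, mul_comm, pow_mul, ← map_pow (φ k), map_pow π, ← hy', hact, ← pow_mul]
    conv_rhs => rw [← pow_one (π y)]
    refine pow_congr_modEq (N := p) hyp ?_
    refine (Nat.ModEq.mul_left _ (pow_prime_pow_modEq _ i)).trans ?_
    have := hmul k k⁻¹
    rw [mul_inv_cancel] at this
    exact this.symm.trans hone
  refine ⟨z, z.2, ?_, ?_, Nat.card K, ?_⟩
  · have hinv : ∀ h : K, φ h z = z ^ (n h ^ P) := by
      intro h
      simp only [z, map_prod, map_pow, ← MulAut.mul_apply, ← map_mul]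
      rw [← Finset.prod_pow]
      refine Fintype.prod_equiv (Equiv.mulLeft h) _ _ fun k => ?_
      simp only [Equiv.coe_mulLeft]
      rw [← pow_mul]
      refine pow_congr_modEq (N := p ^ (i + 1)) (Subtype.ext (hexp _ (φ (h * k) u₀).2)) ?_
      simp only [c, ← mul_pow]
      refine modEq_pow_prime_pow i ?_
      have := hmul (h * k)⁻¹ h
      rwa [show (h * k)⁻¹ * h = k⁻¹ by group] at this
    intro k hk
    refine mem_normalizer_iff.mpr fun x => ?_
    have key : ∀ g ∈ K, ∀ x ∈ zpowers (z : G), g * x * g⁻¹ ∈ zpowers (z : G) := by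
      intro g hg x hx
      obtain ⟨m, rfl⟩ := mem_zpowers_iff.mp hx
      rw [← conj_zpow]
      refine zpow_mem (mem_zpowers_iff.mpr ⟨((n ⟨g, hg⟩ ^ P : ℕ) : ℤ), ?_⟩) m
      rw [zpow_natCast]
      exact (congrArg Subtype.val (hinv ⟨g, hg⟩)).symm
    refine ⟨key k hk x, fun h => ?_⟩
    have := key k⁻¹ (inv_mem hk) _ h
    rwa [show k⁻¹ * (k * x * k⁻¹) * k⁻¹⁻¹ = x by group] at this
  · intro h
    have h1 : π (z ^ P) = 1 := (QuotientGroup.eq_one_iff _).mpr (by
      rw [mem_subgroupOf]; exact h)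
    rw [h2] at h1
    exact hcop (hord ▸ orderOf_dvd_of_pow_eq_one h1)
  · have h3 := (QuotientGroup.eq_iff_div_mem).mp (h2.trans (map_pow π y _).symm)
    rw [mem_subgroupOf, div_eq_inv_mul] at h3
    exact h3

end CfsgLib.TwoGroups.TauTwo
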