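import Cfsg.Agent.Lib.TwoGroups.TauTwoGoodLine
import Cfsg.Agent.Lib.TwoGroups.TauTwoLift
import Cfsg.Agent.Lib.TwoGroups.TauTwoExponent
import Cfsg.Agent.Lib.HallGen.Basic
import Cfsg.Agent.S1420

/-!
Owner: helper12. `M` is of Frobenius type when the `τ₁ ∪ τ₃` elements of a complement act fixed point freely.
-/

set_option autoImplicit false
set_option linter.unusedSectionVars false

namespace CfsgLib.TwoGroups.TauTwo

open Subgroup
open scoped commutatorElement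

variable {G : Type*} [Group G] [Finite G] {p : ℕ} [Fact p.Prime] {M A E : Subgroup G}

/-- Elements of prime order in a cyclic group of prime power order generate its socle. -/
theorem socle_eq {P : ℕ} {z c : G} (hc : c ∈ zpowers z) (hco : orderOf c = p) (hzo : orderOf (z ^ P) = p) :
    zpowers c = zpowers (z ^ P) := by
  have h1 := CfsgLib.Orders.AbelianLift.le_of_card_dvd_of_isCyclic (Q := zpowers z) (zpowers_le.mpr hc)
    (zpowers_le.mpr (pow_mem (mem_zpowers z) P)) (by rw [Nat.card_zpowers, Nat.card_zpowers, hco, hzo])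
  exact eq_of_le_of_card_ge h1 (by rw [Nat.card_zpowers, Nat.card_zpowers, hco, hzo])

/-- An element of maximal order in an abelian `p`-group. -/
theorem exists_max_order (P : Subgroup G) (hP : IsPGroup p P) (hPb : P ≠ ⊥) :
    ∃ u ∈ P, ∃ i : ℕ, orderOf u = p ^ (i + 1) ∧ ∀ s ∈ P, s ^ p ^ (i + 1) = 1 := by
  obtain ⟨u, hu⟩ := Finite.exists_max fun s : P => orderOf s
  obtain ⟨j, hj⟩ := IsPGroup.iff_orderOf.mp hP u
  have hj0 : j ≠ 0 := by
    rintro rfl
    refine hPb (eq_bot_iff.mpr fun s hs => mem_bot.mpr ?_)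
    have h1 := hu ⟨s, hs⟩
    rw [hj, pow_zero] at h1
    have h2 : orderOf (⟨s, hs⟩ : P) = 1 := le_antisymm h1 (orderOf_pos _)
    rwa [orderOf_mk, orderOf_eq_one_iff] at h2
  refine ⟨u, u.2, j - 1, ?_, fun s hs => ?_⟩
  · rw [show j - 1 + 1 = j by omega, Subgroup.orderOf_coe, hj]
  · rw [show j - 1 + 1 = j by omega]
    obtain ⟨l, hl⟩ := IsPGroup.iff_orderOf.mp hP ⟨s, hs⟩
    have h1 := hu ⟨s, hs⟩
    rw [hj, hl, Nat.pow_le_pow_iff_right (Fact.out : p.Prime).one_lt] at h1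
    refine orderOf_dvd_iff_pow_eq_one.mp ?_
    rw [← orderOf_mk s hs, hl]
    exact pow_dvd_pow p h1

theorem exists_nat_conj {y k : G} (h : k * y * k⁻¹ ∈ zpowers y) : ∃ n : ℕ, y ^ n = k * y * k⁻¹ :=
  Submonoid.mem_powers_iff _ _ |>.mp ((mem_powers_iff_mem_zpowers).mpr h)

/-- The `p`-part of the wanted subgroup, abelian case. -/
theorem part_abelian (hG : Cfsg.IsMinSimpleOddOrder G) (hM : IsCoatom M)
    (hE : Cfsg.IsComplIn E (Cfsg.sigmaCore M) M) (hp : p ∈ Cfsg.tau2 M)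
    (hall : ∀ t : ℕ, t ∈ Cfsg.tau2 M → ∀ [Fact t.Prime] (S : Sylow t G), IsMulCommutative (S : Subgroup G))
    (h : ∀ e ∈ E, e ≠ 1 → (∀ t : ℕ, t.Prime → t ∣ orderOf e → t ∈ Cfsg.tau1 M ∪ Cfsg.tau3 M) →
      Cfsg.sigmaCore M ⊓ centralizer ({e} : Set G) = ⊥)
    {K : Subgroup G} (hKE : K ≤ E) (hcop : ¬ p ∣ Nat.card K) :
    ∃ Z : Subgroup G, Z ≤ E ∧ IsPGroup p Z ∧ K ≤ normalizer (Z : Set G) ∧
      (∀ z ∈ Z, orderOf z = p → Cfsg.sigmaCore M ⊓ centralizer ({z} : Set G) = ⊥) ∧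
      ∀ g ∈ E, ∀ k : ℕ, orderOf g = p ^ k → ∃ z ∈ Z, p ^ k ∣ orderOf z := by
  have hpp : p.Prime := Fact.out
  have hab : ∀ S : Sylow p G, IsMulCommutative (S : Subgroup G) := fun S => hall p hp S
  obtain ⟨A, hA, hAE⟩ := exists_pair_complement hG hM hE hp
  have hpσ := hp.2.1
  have hAM := hAE.trans hE.1
  obtain ⟨hEA, hΩ, -⟩ := le_normalizer_pair hG hM hA hpσ hE hAE
  have hCE : centralizer (A : Set G) ≤ E := (le_inf (centralizer_le hG hM hA hAM) le_rfl).trans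
    (centralizer_le_complement (sigma_inf_centralizer hG hM hA hAM hpσ) hE hAE)
  have hFc := fitting_commutative hG hM hE
  set P := (Cfsg.pCore p E).map E.subtype with hP
  have hPp : IsPGroup p P := (Core.isPGroup_pCore p E).map _
  have hPE : P ≤ E := map_subtype_le _
  have hEP : E ≤ normalizer (P : Set G) := fun x hx =>
    le_normalizer_map E.subtype ⟨⟨x, hx⟩, Core.le_normalizer_of_normal ⊤ (Cfsg.pCore p E) (mem_top _), rfl⟩
  have hall' : ∀ g ∈ E, ∀ k : ℕ, orderOf g = p ^ k → g ∈ P := by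
    intro g hg k hk
    obtain ⟨f, hf, e⟩ := pElement_mem_fitting hG hM hE hp hab hg
      (IsPGroup.of_card (n := k) (by rw [Nat.card_zpowers, hk]))
    have hfo : orderOf f = p ^ k := by rw [← Subgroup.orderOf_coe, show (f : G) = g from e, hk]
    exact ⟨f, HallGen.mem_pCore_of_mem_nilpotent_normal inferInstance
      (CfsgLib.Core.isNilpotent_fittingSubgroup E) hf hfo, e⟩
  have hAP : A ≤ P := by
    have := normal_subgroupOf_of_le_normalizer hEA
    exact (map_subgroupOf_eq_of_le hAE).ge.trans (map_mono (Core.le_pCore hA.isPGroup.comap_subtype))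
  have hPF : P ≤ Cfsg.fittingOf E := map_mono (Core.le_fittingSubgroup (Core.isPGroup_pCore p E).isNilpotent)
  have hPcomm : IsMulCommutative P := ⟨⟨fun a b => Subtype.ext (show (a : G) * b = b * a from
    congrArg Subtype.val (hFc.is_comm.comm (⟨(a : G), hPF a.2⟩ : Cfsg.fittingOf E) ⟨(b : G), hPF b.2⟩))⟩⟩
  have hPC : P ≤ centralizer (A : Set G) := fun x hx => mem_centralizer_iff.mpr fun a ha =>
    congrArg Subtype.val (hPcomm.is_comm.comm (⟨a, hAP ha⟩ : P) ⟨x, hx⟩)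
  rcases good_dichotomy hG hM hE hp hA hAE hab hall h with hgood | ⟨z₀, hz₀, hz₀1, hz₀g, hz₀i⟩
  · exact ⟨P, hPE, hPp, hKE.trans hEP,
      fun z hz hzo => hgood z (hΩ z (hPE hz) (orderOf_dvd_iff_pow_eq_one.mp hzo.dvd))
        (fun e => hpp.ne_one (by rw [← hzo, e, orderOf_one])),
      fun g hg k hk => ⟨g, hall' g hg k hk, hk.symm.dvd⟩⟩
  obtain ⟨u, hu, i, huo, hexp⟩ := exists_max_order P hPp (fun e => hA.ne_bot (le_bot_iff.mp (e ▸ hAP)))
  set y := u ^ p ^ i with hy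
  have hyp : y ^ p = 1 := by rw [hy, ← pow_mul, ← pow_succ, ← huo, pow_orderOf_eq_one]
  have hy1 : y ≠ 1 := fun e => by
    have h1 := (orderOf_dvd_of_pow_eq_one e)
    rw [huo, Nat.pow_dvd_pow_iff_le_right hpp.one_lt] at h1
    omega
  have hyA : y ∈ A := hΩ y (hPE (pow_mem hu _)) hyp
  obtain ⟨u', hu', hy'1, hy'A, hy'g, hy'i⟩ : ∃ u' ∈ P, u' ^ p ^ i ≠ 1 ∧ u' ^ p ^ i ∈ A ∧
      Cfsg.sigmaCore M ⊓ centralizer ({u' ^ p ^ i} : Set G) = ⊥ ∧
      E ≤ normalizer ((zpowers (u' ^ p ^ i) : Subgroup G) : Set G) := by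
    by_cases hinv : normalizer (A : Set G) ≤ normalizer ((zpowers y : Subgroup G) : Set G)
    · exact ⟨u, hu, hy1, hyA, good_of_invariant hG hM hA hAM hpσ hyA hy1 hinv, hEA.trans hinv⟩
    obtain ⟨g, hg, hgy⟩ : ∃ g ∈ normalizer (A : Set G), g * y * g⁻¹ ∉ zpowers y := by
      by_contra hc
      push Not at hc
      refine hinv fun g hg => Transfer.map_conj_eq_self_iff.mp
        (eq_of_le_of_card_ge ?_ (Transfer.card_map_conj g _).ge)
      rintro _ ⟨c, hc', rfl⟩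
      obtain ⟨m, rfl⟩ := mem_zpowers_iff.mp hc'
      show g * y ^ m * g⁻¹ ∈ zpowers y
      rw [← conj_zpow]
      exact zpow_mem (hc g hg) m
    have hu₂ : g * u * g⁻¹ ∈ P := hall' _ (hCE ((mem_normalizer_iff.mp (le_normalizer_centralizer A hg) u).mp
      (hPC hu))) (i + 1) ((MulEquiv.orderOf_eq (MulAut.conj g) u).trans huo)
    have hsup := IsPair.sup_lines hA hyA hy1 ((mem_normalizer_iff.mp hg y).mp hyA) hgy
    have hnorm : zpowers (g * y * g⁻¹) ≤ normalizer ((zpowers y : Subgroup G) : Set G) :=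
      le_trans (zpowers_le.mpr (mem_centralizer_iff.mpr fun c hc => by
        obtain ⟨m, rfl⟩ := mem_zpowers_iff.mp hc
        exact ((show Commute y (g * y * g⁻¹) from Signalizer.elementary_comm hA.1 hyA
          ((mem_normalizer_iff.mp hg y).mp hyA)).zpow_left m).eq)) (centralizer_le_normalizer _)
    obtain ⟨b1, hb1, b2, hb2, e⟩ := (Core.mem_sup_iff_mul' hnorm).mp
      ((sup_comm (zpowers y) (zpowers (g * y * g⁻¹))).le (hsup.ge hz₀))
    obtain ⟨a, rfl⟩ := mem_zpowers_iff.mp hb1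
    obtain ⟨b, rfl⟩ := mem_zpowers_iff.mp hb2
    have hpow : (u ^ a * (g * u * g⁻¹) ^ b) ^ p ^ i = z₀ := by
      have hc : Commute (u ^ a) ((g * u * g⁻¹) ^ b) := (show Commute u (g * u * g⁻¹) from
        congrArg Subtype.val (hPcomm.is_comm.comm (⟨u, hu⟩ : P) ⟨_, hu₂⟩)).zpow_zpow a b
      rw [hc.mul_pow, e, hy]
      congr 1
      · rw [← zpow_natCast, ← zpow_natCast, ← zpow_mul, ← zpow_mul, mul_comm]
      · rw [← conj_pow, ← zpow_natCast, ← zpow_natCast, ← zpow_mul, ← zpow_mul, mul_comm]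
    exact ⟨_, mul_mem (zpow_mem hu a) (zpow_mem hu₂ b), hpow ▸ hz₀1, hpow ▸ hz₀, hpow ▸ hz₀g, hpow ▸ hz₀i⟩
  obtain ⟨z, hz, hKz, hz1, m, hm⟩ := exists_invariant_lift (W := (⊥ : Subgroup G)) hPcomm bot_le i hexp
    (hKE.trans hEP) (fun x _ => by rw [normalizer_eq_top]; exact mem_top x) hcop hu' (fun e => hy'1 (mem_bot.mp e)) fun k hk => by
      obtain ⟨n, hn⟩ := exists_nat_conj ((mem_normalizer_iff.mp (hy'i (hKE hk)) _).mp (mem_zpowers _))
      exact ⟨n, mem_bot.mpr (by rw [← hn]; group)⟩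
  rw [mem_bot] at hz1 hm
  have hzp : (z ^ p ^ i) ^ p = 1 := by rw [← pow_mul, ← pow_succ]; exact hexp z hz
  have hzo : orderOf z = p ^ (i + 1) := orderOf_eq_prime_pow hz1 (hexp z hz)
  refine ⟨zpowers z, zpowers_le.mpr (hPE hz), hPp.to_le (zpowers_le.mpr hz), hKz, fun c hc hco => ?_,
    fun g hg k hk => ⟨z, mem_zpowers z, ?_⟩⟩
  · have e1 := socle_eq hc hco (orderOf_eq_prime hzp hz1)
    have e2 := zpowers_eq_of_mem hA hy'A hy'1 (z := z ^ p ^ i)
      (by rw [← inv_mul_eq_one.mp hm]; exact pow_mem (mem_zpowers _) m) hz1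
    rw [← centralizer_zpowers, e1, e2, centralizer_zpowers]
    exact hy'g
  · rw [hzo, ← hk]
    exact orderOf_dvd_of_pow_eq_one (hexp g (hall' g hg k hk))

/-- No `p`-th root of the fixed line, nonabelian case. -/
theorem no_root (hG : Cfsg.IsMinSimpleOddOrder G) (hM : IsCoatom M) (hA : IsPair p A) (hAM : A ≤ M)
    (hpσ : p ∉ Cfsg.sigma M) (hS : ∀ S : Sylow p G, ¬ IsMulCommutative (S : Subgroup G)) {w : G}
    (hwA : w ∈ normalizer (A : Set G)) (hwp : IsPGroup p (zpowers w)) (hw : w ^ p ∈ A)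
    (hbad : Cfsg.sigmaCore M ⊓ centralizer ({w ^ p} : Set G) ≠ ⊥) : w ^ p = 1 := by
  by_contra hne
  obtain ⟨S, hS'⟩ := (hwp.to_sup_of_normal_right' hA.isPGroup (zpowers_le.mpr hwA)).exists_le_sylow
  have h1 := pow_mem_central hG hA (not_inUniqueMaximal hG hM hA hAM hpσ) S (le_sup_right.trans hS')
    (hS' (mem_sup_left (mem_zpowers w))) hw (hS S)
  have hSM : (S : Subgroup G) ≤ M := by
    refine le_trans ?_ (bad_unique hG hM hA hAM hpσ hw hbad hne).1
    intro x hx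
    exact mem_centralizer_singleton_iff.mpr (mem_centralizer_iff.mp h1 x hx)
  have h2 := sylow_commutative hG hM hpσ (S.subtype hSM)
  rw [Sylow.coe_subtype, map_subgroupOf_eq_of_le hSM] at h2
  exact hS S h2

/-- The case of a nonabelian Sylow `p`-subgroup. -/
theorem frobenius_nonabelian (hG : Cfsg.IsMinSimpleOddOrder G) (hM : IsCoatom M)
    (hE : Cfsg.IsComplIn E (Cfsg.sigmaCore M) M) (hp : p ∈ Cfsg.tau2 M)
    (hS : ∀ S : Sylow p G, ¬ IsMulCommutative (S : Subgroup G))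
    (h : ∀ e ∈ E, e ≠ 1 → (∀ t : ℕ, t.Prime → t ∣ orderOf e → t ∈ Cfsg.tau1 M ∪ Cfsg.tau3 M) →
      Cfsg.sigmaCore M ⊓ centralizer ({e} : Set G) = ⊥) :
    (∃ A₀ : Subgroup G, A₀ ≤ E ∧ E ≤ normalizer (A₀ : Set G) ∧ IsMulCommutative A₀ ∧
        ∀ x ∈ Cfsg.sigmaCore M, x ≠ 1 → E ⊓ centralizer ({x} : Set G) ≤ A₀) ∧
      ∃ E₀ : Subgroup E, Monoid.exponent E₀ = Monoid.exponent E ∧
        ∀ e ∈ E₀, (orderOf e).Prime → Cfsg.sigmaCore M ⊓ centralizer ({(e : G)} : Set G) = ⊥ := by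
  have hpp : p.Prime := Fact.out
  obtain ⟨A, hA, hAE⟩ := exists_pair_complement hG hM hE hp
  have hpσ := hp.2.1
  have hAM := hAE.trans hE.1
  set O := Cfsg.sigmaCore M
  obtain ⟨hEA, hΩ, -⟩ := le_normalizer_pair hG hM hA hpσ hE hAE
  obtain ⟨hτ, ⟨hA₀c, -⟩, hline⟩ := nonabelian_case hG hM hE hp hS hA hAE
  set A₀ := A ⊓ centralizer (O : Set G) with hA₀
  have hEO : E ≤ normalizer (centralizer (O : Set G) : Set G) :=
    hE.1.trans ((le_normalizer_sigmaCore M).trans (le_normalizer_centralizer _))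
  have hEA₀ : E ≤ normalizer (A₀ : Set G) := fun e he => mem_normalizer_iff.mpr fun x =>
    ⟨fun hx => ⟨(mem_normalizer_iff.mp (hEA he) x).mp hx.1, (mem_normalizer_iff.mp (hEO he) x).mp hx.2⟩,
      fun hx => ⟨(mem_normalizer_iff.mp (hEA he) x).mpr hx.1, (mem_normalizer_iff.mp (hEO he) x).mpr hx.2⟩⟩
  have hgood : ∀ z ∈ E, orderOf z = p → z ∉ A₀ → O ⊓ centralizer ({z} : Set G) = ⊥ := by
    intro z hz hzo hz0
    rw [← centralizer_zpowers]
    exact (hline (zpowers z) (zpowers_le.mpr hz) (by rw [Nat.card_zpowers, hzo])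
      fun e => hz0 (e ▸ mem_zpowers z)).1
  have hOb := sigmaCore_ne_bot hG hM
  have hA₀bad : ∀ z ∈ A₀, O ⊓ centralizer ({z} : Set G) ≠ ⊥ := fun z hz e => hOb (le_bot_iff.mp (e ▸
    le_inf le_rfl fun x hx => mem_centralizer_singleton_iff.mpr (mem_centralizer_iff.mp hz.2 x hx)))
  have hroot : ∀ w ∈ E, IsPGroup p (zpowers w) → w ^ p ∈ A₀ → w ^ p = 1 := fun w hw hwp hwA =>
    no_root hG hM hA hAM hpσ hS (hEA hw) hwp hwA.1 (hA₀bad _ hwA)
  refine ⟨⟨A₀, inf_le_left.trans hAE, hEA₀, ?_, ?_⟩, ?_⟩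
  · exact ⟨⟨fun a b => Subtype.ext (Signalizer.elementary_comm hA.1 a.2.1 b.2.1)⟩⟩
  · intro x hx hx1 e he
    refine HallGen.mem_of_primePow_parts A₀ e fun w hw t j ht hto => ?_
    have hwE : w ∈ E ⊓ centralizer ({x} : Set G) := zpowers_le.mpr he hw
    by_cases hw1 : w = 1
    · rw [hw1]; exact one_mem _
    have hxC : ∀ z ∈ zpowers w, x ∈ O ⊓ centralizer ({z} : Set G) := fun z hz => ⟨hx,
      mem_centralizer_singleton_iff.mpr (mem_centralizer_singleton_iff.mp ((zpowers_le.mpr hwE.2) hz)).symm⟩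
    have hnb : ∀ z ∈ zpowers w, O ⊓ centralizer ({z} : Set G) ≠ ⊥ := fun z hz e =>
      hx1 (mem_bot.mp (e.le (hxC z hz)))
    have := Fact.mk ht
    have hj : j ≠ 0 := fun e => hw1 (orderOf_eq_one_iff.mp (by rw [hto, e, pow_zero]))
    by_cases htp : t = p
    swap
    · exfalso
      refine hnb w (mem_zpowers w) (h w hwE.1 hw1 fun s hs hsd => ?_)
      rw [hto] at hsd
      obtain rfl := (Nat.prime_dvd_prime_iff_eq hs ht).mp (hs.dvd_of_dvd_pow hsd)
      have htd : s ∣ Nat.card E := by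
        refine ((dvd_pow_self s hj).trans hto.symm.dvd).trans ?_
        rw [← Nat.card_zpowers]
        exact card_dvd_of_le (zpowers_le.mpr hwE.1)
      rcases (tau_cases hG hM hE ht htd).2 with ⟨h1, -⟩ | h2
      · exact h1
      · rw [hτ] at h2; exact absurd h2 htp
    subst htp
    obtain ⟨l, rfl⟩ : ∃ l, j = l + 1 := ⟨j - 1, by omega⟩
    rcases Nat.eq_zero_or_pos l with rfl | hl
    · by_contra hne
      exact hnb w (mem_zpowers w) (hgood w hwE.1 (by rw [hto, pow_one]) hne)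
    exfalso
    set v := w ^ t ^ (l - 1) with hv
    have hvp : v ^ t = w ^ t ^ l := by rw [hv, ← pow_mul, ← pow_succ, show l - 1 + 1 = l by omega]
    have hvo : orderOf (v ^ t) = t := by
      rw [hvp, orderOf_pow, hto, Nat.gcd_eq_right (pow_dvd_pow t (Nat.le_succ l)),
        Nat.pow_div (Nat.le_succ l) ht.pos, show l.succ - l = 1 by omega, pow_one]
    have hvA : v ^ t ∈ A₀ := by
      by_contra hne
      exact hnb _ (hvp ▸ pow_mem (mem_zpowers w) _)
        (hgood _ (pow_mem (pow_mem hwE.1 _) _) hvo hne)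
    have := hroot v (pow_mem hwE.1 _) ((IsPGroup.of_card (n := l + 1) (G := zpowers w)
      (by rw [Nat.card_zpowers, hto])).to_le (zpowers_le.mpr (pow_mem (mem_zpowers w) _))) hvA
    rw [this, orderOf_one] at hvo
    exact ht.ne_one hvo.symm
  -- the subgroup of full exponent
  obtain ⟨S⟩ : Nonempty (Sylow p E) := inferInstance
  set N := Cfsg.pPrimeCore p E
  set H := (S : Subgroup E) with hH
  set P := H.map E.subtype with hPdef
  have hPp : IsPGroup p P := S.2.map _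
  have hPE : P ≤ E := map_subtype_le _
  have hPc : IsMulCommutative P := by
    obtain ⟨T, hT⟩ := complement_sylow hG hM hE hpσ S
    rw [hPdef, hH, ← hT]
    exact sylow_commutative hG hM hpσ T
  have hAP : A ≤ P := by
    have hn : (A.subgroupOf E).Normal := normal_subgroupOf_of_le_normalizer hEA
    exact (map_subgroupOf_eq_of_le hAE).ge.trans
      (map_mono ((Core.le_pCore (N := A.subgroupOf E) hA.isPGroup.comap_subtype).trans (Core.pCore_le_sylow S)))
  obtain ⟨k, hk⟩ := IsPGroup.iff_card.mp S.2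
  have hpH : p ∣ Nat.card H := by
    have h1 := hA.dvd_card.trans (card_dvd_of_le hAP)
    rwa [hPdef, card_map_of_injective E.subtype_injective] at h1
  have hcopN : (Nat.card N).Coprime (Nat.card H) := by
    rw [hk]; exact (Core.coprime_card_pPrimeCore p E).pow_right k
  have hHall : (Nat.card H).Coprime H.index := by
    rw [hk]; exact (hpp.coprime_iff_not_dvd.mpr S.not_dvd_index).pow_left k
  have hD := (Cfsg.Agent.S1420.result hG M hM E hE).2.1
  have hcomm : _root_.commutator ↥E ≤ N ⊔ H := by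
    have hab : IsMulCommutative (_root_.commutator ↥E) := ⟨⟨fun a b => Subtype.ext (Subtype.ext (
      show ((a : E) : G) * ((b : E) : G) = ((b : E) : G) * ((a : E) : G) from congrArg Subtype.val
        (hD.is_comm.comm
          (⟨((a : E) : G), (map_subtype_commutator E).le (mem_map_of_mem _ a.2)⟩ : ↥⁅E, E⁆)
          ⟨((b : E) : G), (map_subtype_commutator E).le (mem_map_of_mem _ b.2)⟩)))⟩⟩
    have hnil : Group.IsNilpotent (_root_.commutator ↥E) :=
      @CommGroup.isNilpotent _ { (inferInstance : Group (_root_.commutator ↥E)) with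
        mul_comm := fun a b => hab.is_comm.comm a b }
    intro x hx
    refine HallGen.mem_of_primePow_parts _ x fun w hw t j ht hto => ?_
    have := Fact.mk ht
    have hwp : w ∈ Cfsg.pCore t E := HallGen.mem_pCore_of_mem_nilpotent_normal inferInstance
      hnil (zpowers_le.mpr hx hw) hto
    by_cases htp : t = p
    · subst htp
      exact mem_sup_right (Core.pCore_le_sylow S hwp)
    · refine mem_sup_left (Core.le_pPrimeCore ?_ hwp)
      obtain ⟨c, hc⟩ := IsPGroup.iff_card.mp (Core.isPGroup_pCore t E)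
      rw [hc]
      exact ((Nat.coprime_primes ht hpp).mpr htp).pow_left c
  have : (N ⊔ H).Normal := Subgroup.Normal.of_commutator_le (G := ↥E) hcomm
  have htop : N ⊔ normalizer (H : Set E) = ⊤ := by
    have h1 := Sylow.normalizer_sup_eq_top' S (N := N ⊔ H) le_sup_right
    rw [eq_top_iff, ← h1]
    exact sup_le le_sup_right (sup_le le_sup_left (le_normalizer.trans le_sup_right))
  refine exists_same_exponent (fun e : E => O ⊓ centralizer ({(e : G)} : Set G) = ⊥) ?_ N H htop hcopN hHall ?_ ?_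
  · intro g e he
    by_contra hb
    have := bad_conj (M := M) (hE.1 (inv_mem g.2)) hb
    simp [mul_assoc] at this
    exact this he
  · intro e hpr hnd
    refine h e e.2 (fun e1 => hpr.ne_one (by rw [show e = 1 from Subtype.ext e1, orderOf_one])) fun t ht hd => ?_
    rw [Subgroup.orderOf_coe] at hd
    obtain rfl := (Nat.prime_dvd_prime_iff_eq ht hpr).mp hd
    rcases (tau_cases hG hM hE ht (orderOf_dvd_natCard e)).2 with ⟨h1, -⟩ | h2
    · exact h1
    · rw [hτ] at h2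
      exact absurd (h2.symm ▸ hpH : orderOf e ∣ Nat.card H) hnd
  intro K hKN hKc
  set K' := K.map E.subtype with hK'
  have hK'E : K' ≤ E := map_subtype_le _
  have hKP : K' ≤ normalizer (P : Set G) := (map_mono hKN).trans (le_normalizer_map E.subtype)
  have hcop : ¬ p ∣ Nat.card K' := fun hd => by
    rw [hK', card_map_of_injective E.subtype_injective] at hd
    exact hpp.ne_one (Nat.eq_one_of_dvd_coprimes hKc hd hpH)
  obtain ⟨u₀, hu₀, i, hu₀o, hexp⟩ := exists_max_order P hPp (fun e => hA.ne_bot (le_bot_iff.mp (e ▸ hAP)))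
  obtain ⟨u, hu, hy⟩ : ∃ u ∈ P, u ^ p ^ i ∉ A₀ := by
    rcases Nat.eq_zero_or_pos i with rfl | hi
    · obtain ⟨b, hb, hb0⟩ := SetLike.not_le_iff_exists.mp (show ¬ A ≤ A₀ from fun e => by
        have := card_dvd_of_le e
        rw [hA.2, hA₀c] at this
        have := Nat.le_of_dvd hpp.pos this
        nlinarith [hpp.two_le])
      exact ⟨b, hAP hb, by rwa [pow_zero, pow_one]⟩
    refine ⟨u₀, hu₀, fun hmem => ?_⟩
    have hvp : (u₀ ^ p ^ (i - 1)) ^ p = u₀ ^ p ^ i := by rw [← pow_mul, ← pow_succ, show i - 1 + 1 = i by omega]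
    have h1 := hroot _ (hPE (pow_mem hu₀ _)) (hPp.to_le (zpowers_le.mpr (pow_mem hu₀ _))) (hvp ▸ hmem)
    have h2 := orderOf_dvd_of_pow_eq_one (hvp ▸ h1)
    rw [hu₀o, Nat.pow_dvd_pow_iff_le_right hpp.one_lt] at h2
    omega
  set y := u ^ p ^ i with hydef
  have hyA : y ∈ A := hΩ y (hPE (pow_mem hu _)) (by rw [hydef, ← pow_mul, ← pow_succ]; exact hexp u hu)
  have hy1 : y ≠ 1 := fun e => hy (e ▸ one_mem _)
  obtain ⟨z, hz, hKz, hz0, -⟩ := exists_invariant_lift (W := A₀) hPc (inf_le_left.trans hAP) i hexp hKP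
    (hK'E.trans hEA₀) hcop hu hy fun g hg => by
      have hgy := (mem_normalizer_iff.mp (hEA (hK'E hg)) y).mp hyA
      obtain ⟨a, ha, ha1⟩ := A₀.bot_or_exists_ne_one.resolve_left (fun e => by
        rw [e, card_bot] at hA₀c; exact hpp.ne_one hA₀c.symm)
      have hA₀a := eq_zpowers hA₀c ha ha1
      have hsup : A₀ ⊔ zpowers y = A := by
        rw [hA₀a]
        exact IsPair.sup_lines hA ha.1 ha1 hyA (hA₀a ▸ hy)
      have hnorm : zpowers y ≤ normalizer (A₀ : Set G) := zpowers_le.mpr (hEA₀ (hAE hyA))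
      obtain ⟨b1, hb1, b2, hb2, e⟩ := (Core.mem_sup_iff_mul' hnorm).mp
        ((sup_comm A₀ (zpowers y)).le (hsup.ge hgy))
      obtain ⟨n, hn⟩ := (Submonoid.mem_powers_iff _ _).mp (mem_powers_iff_mem_zpowers.mpr hb2)
      refine ⟨n, ?_⟩
      rw [e, ← hn, Signalizer.elementary_comm hA.1 hb1.1 (pow_mem hyA n), inv_mul_cancel_left]
      exact hb1
  have hzp : (z ^ p ^ i) ^ p = 1 := by rw [← pow_mul, ← pow_succ]; exact hexp z hz
  have hz1 : z ^ p ^ i ≠ 1 := fun e => hz0 (e ▸ one_mem _)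
  have hzo : orderOf z = p ^ (i + 1) := orderOf_eq_prime_pow hz1 (hexp z hz)
  refine ⟨(zpowers z).subgroupOf E, fun x hx => ?_, fun g hg => ?_, fun c hc hcp => ?_, fun g hg t j ht hgo => ?_⟩
  · obtain ⟨x', hx', e⟩ := (zpowers_le.mpr hz) (mem_subgroupOf.mp hx)
    exact (show x' = x from Subtype.ext e) ▸ hx'
  · exact mem_normalizer_iff.mpr fun x =>
      mem_normalizer_iff.mp (hKz (mem_map_of_mem E.subtype hg)) (x : G)
  · have hcP : (c : G) ∈ P := (zpowers_le.mpr hz) (mem_subgroupOf.mp hc)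
    have hco : orderOf (c : G) = p := by
      obtain ⟨l, hl⟩ := IsPGroup.iff_orderOf.mp hPp ⟨(c : G), hcP⟩
      rw [orderOf_mk] at hl
      rw [← Subgroup.orderOf_coe, hl] at hcp
      rw [hl, Nat.Prime.pow_eq_iff hpp |>.mpr]
      exact ⟨rfl, (Nat.Prime.pow_eq_iff (show (p ^ l).Prime from hcp)).mp rfl |>.2⟩
    have e1 := socle_eq (mem_subgroupOf.mp hc) hco (orderOf_eq_prime hzp hz1)
    show O ⊓ centralizer ({(c : G)} : Set G) = ⊥
    rw [← centralizer_zpowers, e1, centralizer_zpowers]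
    exact hgood _ (hPE (pow_mem hz _)) (orderOf_eq_prime hzp hz1) hz0
  · rcases Nat.eq_zero_or_pos j with rfl | hj
    · exact one_dvd _
    have h1 : orderOf (g : G) = t ^ j := by rw [Subgroup.orderOf_coe, hgo]
    have htd : t ∣ p ^ k := hk ▸ ((dvd_pow_self t (by omega)).trans hgo.symm.dvd).trans
      (Subgroup.orderOf_dvd_natCard _ hg)
    obtain rfl := (Nat.prime_dvd_prime_iff_eq ht hpp).mp (ht.dvd_of_dvd_pow htd)
    have h2 := Monoid.order_dvd_exponent (⟨⟨z, hPE hz⟩, mem_subgroupOf.mpr (mem_zpowers z)⟩ : (zpowers z).subgroupOf E)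
    rw [orderOf_mk, orderOf_mk, hzo] at h2
    refine Nat.dvd_trans ?_ h2
    rw [← h1]
    exact orderOf_dvd_of_pow_eq_one (hexp _ (mem_map_of_mem E.subtype hg))

/-- The case of abelian Sylow subgroups for all `τ₂(M)`. -/
theorem frobenius_abelian (hG : Cfsg.IsMinSimpleOddOrder G) (hM : IsCoatom M)
    (hE : Cfsg.IsComplIn E (Cfsg.sigmaCore M) M)
    (hall : ∀ t : ℕ, t ∈ Cfsg.tau2 M → ∀ [Fact t.Prime] (S : Sylow t G), IsMulCommutative (S : Subgroup G))
    (h : ∀ e ∈ E, e ≠ 1 → (∀ t : ℕ, t.Prime → t ∣ orderOf e → t ∈ Cfsg.tau1 M ∪ Cfsg.tau3 M) →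
      Cfsg.sigmaCore M ⊓ centralizer ({e} : Set G) = ⊥) :
    (∃ A₀ : Subgroup G, A₀ ≤ E ∧ E ≤ normalizer (A₀ : Set G) ∧ IsMulCommutative A₀ ∧
        ∀ x ∈ Cfsg.sigmaCore M, x ≠ 1 → E ⊓ centralizer ({x} : Set G) ≤ A₀) ∧
      ∃ E₀ : Subgroup E, Monoid.exponent E₀ = Monoid.exponent E ∧
        ∀ e ∈ E₀, (orderOf e).Prime → Cfsg.sigmaCore M ⊓ centralizer ({(e : G)} : Set G) = ⊥ := by
  classical
  set O := Cfsg.sigmaCore M
  have hFc := fitting_commutative hG hM hE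
  set F := Cfsg.fittingSubgroup E with hF
  have hFcomm : ∀ a ∈ F, ∀ b ∈ F, a * b = b * a := fun a ha b hb => Subtype.ext
    (show (a : G) * b = b * a from congrArg Subtype.val
      (hFc.is_comm.comm (⟨(a : G), ⟨a, ha, rfl⟩⟩ : Cfsg.fittingOf E) ⟨(b : G), ⟨b, hb, rfl⟩⟩))
  have hmemF : ∀ t j : ℕ, t ∈ Cfsg.tau2 M → ∀ w : E, orderOf w = t ^ j → w ∈ F := by
    intro t j ht w hw
    have := Fact.mk ht.1
    obtain ⟨f, hf, e⟩ := pElement_mem_fitting hG hM hE ht (fun S => hall t ht S) w.2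
      (IsPGroup.of_card (n := j) (by rw [Nat.card_zpowers, Subgroup.orderOf_coe, hw]))
    rwa [show w = f from Subtype.ext e.symm]
  refine ⟨⟨Cfsg.fittingOf E, map_subtype_le _, fun x hx => le_normalizer_map E.subtype
    ⟨⟨x, hx⟩, Core.le_normalizer_of_normal ⊤ F (mem_top _), rfl⟩, hFc, ?_⟩, ?_⟩
  · intro x hx hx1 e he
    refine HallGen.mem_of_primePow_parts (Cfsg.fittingOf E) e fun w hw t j ht hto => ?_
    have hwE : w ∈ E ⊓ centralizer ({x} : Set G) := zpowers_le.mpr he hw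
    by_cases hw1 : w = 1
    · rw [hw1]; exact one_mem _
    have hj : j ≠ 0 := fun e => hw1 (orderOf_eq_one_iff.mp (by rw [hto, e, pow_zero]))
    have htd : t ∣ Nat.card E := by
      refine ((dvd_pow_self t hj).trans hto.symm.dvd).trans ?_
      rw [← Nat.card_zpowers]
      exact card_dvd_of_le (zpowers_le.mpr hwE.1)
    rcases (tau_cases hG hM hE ht htd).2 with ⟨h1, -⟩ | h2
    · exfalso
      have h3 := h w hwE.1 hw1 fun s hs hsd => by
        rw [hto] at hsd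
        rwa [(Nat.prime_dvd_prime_iff_eq hs ht).mp (hs.dvd_of_dvd_pow hsd)]
      exact hx1 (mem_bot.mp (h3.le ⟨hx, mem_centralizer_singleton_iff.mpr
        (mem_centralizer_singleton_iff.mp hwE.2).symm⟩))
    · exact ⟨⟨w, hwE.1⟩, hmemF t j h2 _ (by rw [orderOf_mk]; exact hto), rfl⟩
  let H : Subgroup E :=
    { carrier := {f | f ∈ F ∧ ∀ t : ℕ, t.Prime → t ∣ orderOf f → t ∈ Cfsg.tau2 M}
      one_mem' := ⟨one_mem F, fun t ht hd => absurd (Nat.eq_one_of_dvd_one (orderOf_one (G := E) ▸ hd)) ht.ne_one⟩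
      mul_mem' := fun {a b} ha hb => ⟨mul_mem ha.1 hb.1, fun t ht hd => by
        have h1 := hd.trans ((show Commute a b from hFcomm a ha.1 b hb.1).orderOf_mul_dvd_lcm)
        rcases (Nat.Prime.dvd_mul ht).mp (h1.trans (Nat.lcm_dvd_mul _ _)) with h2 | h2
        · exact ha.2 t ht h2
        · exact hb.2 t ht h2⟩
      inv_mem' := fun {a} ha => ⟨inv_mem ha.1, fun t ht hd => ha.2 t ht (orderOf_inv a ▸ hd)⟩ }
  have hHn : H.Normal := ⟨fun a ha g => ⟨Normal.conj_mem inferInstance a ha.1 g, fun t ht hd =>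
    ha.2 t ht (((MulEquiv.orderOf_eq (MulAut.conj g) a) : orderOf (g * a * g⁻¹) = orderOf a) ▸ hd)⟩⟩
  have hHF : H ≤ F := fun a ha => ha.1
  have hmemH : ∀ t j : ℕ, t ∈ Cfsg.tau2 M → ∀ w : E, orderOf w = t ^ j → w ∈ H := fun t j ht w hw =>
    ⟨hmemF t j ht w hw, fun s hs hd => by
      rw [hw] at hd
      rwa [(Nat.prime_dvd_prime_iff_eq hs ht.1).mp (hs.dvd_of_dvd_pow hd)]⟩
  have hHτ : ∀ t : ℕ, t.Prime → t ∣ Nat.card H → t ∈ Cfsg.tau2 M := by
    intro t ht hd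
    have := Fact.mk ht
    obtain ⟨a, ha⟩ := exists_prime_orderOf_dvd_card' t hd
    exact a.2.2 t ht (by rw [Subgroup.orderOf_coe, ha])
  have hHall : (Nat.card H).Coprime H.index := by
    refine Nat.coprime_of_dvd fun t ht hd hdi => ?_
    have := Fact.mk ht
    obtain ⟨T⟩ : Nonempty (Sylow t E) := inferInstance
    refine T.not_dvd_index (hdi.trans (index_dvd_of_le fun w hw => ?_))
    obtain ⟨j, hj⟩ := IsPGroup.iff_orderOf.mp T.2 ⟨w, hw⟩
    exact hmemH t j (hHτ t ht hd) w (by rwa [orderOf_mk] at hj)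
  refine exists_same_exponent (fun e : E => O ⊓ centralizer ({(e : G)} : Set G) = ⊥) ?_ ⊥ H ?_ ?_ hHall ?_ ?_
  · intro g e he
    by_contra hb
    have := bad_conj (M := M) (hE.1 (inv_mem g.2)) hb
    simp [mul_assoc] at this
    exact this he
  · rw [normalizer_eq_top (H := H)]; simp
  · rw [card_bot]; exact Nat.coprime_one_left _
  · intro e hpr hnd
    refine h e e.2 (fun e1 => hpr.ne_one (by rw [show e = 1 from Subtype.ext e1, orderOf_one])) fun t ht hd => ?_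
    rw [Subgroup.orderOf_coe] at hd
    obtain rfl := (Nat.prime_dvd_prime_iff_eq ht hpr).mp hd
    rcases (tau_cases hG hM hE ht (orderOf_dvd_natCard e)).2 with ⟨h1, -⟩ | h2
    · exact h1
    · exact absurd (Subgroup.orderOf_dvd_natCard H (hmemH _ 1 h2 e (pow_one _).symm)) hnd
  intro K hKN hKc
  set K' := K.map E.subtype with hK'
  have hpart : ∀ t : ℕ, t ∈ Cfsg.tau2 M → ∃ Z : Subgroup E, (∀ z ∈ Z, ∃ j, orderOf z = t ^ j) ∧
      K ≤ normalizer (Z : Set E) ∧ (∀ z ∈ Z, orderOf z = t → O ⊓ centralizer ({(z : G)} : Set G) = ⊥) ∧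
      ∀ g : E, ∀ k : ℕ, orderOf g = t ^ k → ∃ z ∈ Z, t ^ k ∣ orderOf z := by
    intro t ht
    have := Fact.mk ht.1
    obtain ⟨Z, hZE, hZt, hKZ, hZg, hZe⟩ := part_abelian hG hM hE ht hall h (K := K') (map_subtype_le _) (by
      intro hd
      rw [hK', card_map_of_injective E.subtype_injective] at hd
      obtain ⟨A, hA, hAE⟩ := exists_pair_complement hG hM hE ht
      obtain ⟨a, ha, ha1⟩ := A.bot_or_exists_ne_one.resolve_left hA.ne_bot
      have hao : orderOf (⟨a, hAE ha⟩ : E) = t ^ 1 := by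
        rw [orderOf_mk, pow_one]; exact orderOf_eq_prime (hA.1.2 a ha) ha1
      exact ht.1.ne_one (Nat.eq_one_of_dvd_coprimes hKc hd
        (by simpa [hao] using Subgroup.orderOf_dvd_natCard H (hmemH t 1 ht _ hao))))
    refine ⟨Z.subgroupOf E, fun z hz => ?_, fun g hg => ?_, fun z hz hzo => hZg _ hz (by
      rw [Subgroup.orderOf_coe, hzo]), fun g k hg => ?_⟩
    · obtain ⟨j, hj⟩ := IsPGroup.iff_orderOf.mp hZt ⟨(z : G), hz⟩
      exact ⟨j, by rw [← Subgroup.orderOf_coe]; exact (Subgroup.orderOf_coe (⟨(z : G), hz⟩ : Z)).trans hj⟩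
    · exact mem_normalizer_iff.mpr fun x =>
        mem_normalizer_iff.mp (hKZ (mem_map_of_mem E.subtype hg)) (x : G)
    · obtain ⟨z, hz, hzd⟩ := hZe g g.2 k (by rw [Subgroup.orderOf_coe, hg])
      exact ⟨⟨z, hZE hz⟩, mem_subgroupOf.mpr hz, by rwa [orderOf_mk]⟩
  choose Zt hZord hZn hZgood hZexp using hpart
  let n : ℕ → ℕ := fun t => Nat.card H / t ^ (Nat.card H).factorization t
  let Z : Subgroup E :=
    { carrier := {f | f ∈ H ∧ ∀ t, ∀ ht : t ∈ Cfsg.tau2 M, f ^ n t ∈ Zt t ht}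
      one_mem' := ⟨one_mem H, fun t ht => by rw [one_pow]; exact one_mem _⟩
      mul_mem' := fun {a b} ha hb => ⟨mul_mem ha.1 hb.1, fun t ht => by
        rw [(show Commute a b from hFcomm a ha.1.1 b hb.1.1).mul_pow]
        exact mul_mem (ha.2 t ht) (hb.2 t ht)⟩
      inv_mem' := fun {a} ha => ⟨inv_mem ha.1, fun t ht => by rw [inv_pow]; exact inv_mem (ha.2 t ht)⟩ }
  refine ⟨Z, fun f hf => hf.1, fun g hg => ?_, fun z hz hzp => ?_, fun g hg t j ht hgo => ?_⟩
  · have key : ∀ g ∈ K, ∀ f ∈ Z, g * f * g⁻¹ ∈ Z := fun g hg f hf =>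
      ⟨hHn.conj_mem f hf.1 g, fun t ht => by
        rw [conj_pow]; exact (mem_normalizer_iff.mp (hZn t ht hg) _).mp (hf.2 t ht)⟩
    refine mem_normalizer_iff.mpr fun f => ⟨key g hg f, fun hh => ?_⟩
    have := key g⁻¹ (inv_mem hg) _ hh
    rwa [show g⁻¹ * (g * f * g⁻¹) * g⁻¹⁻¹ = f by group] at this
  · have hzd : orderOf z ∣ Nat.card H := Subgroup.orderOf_dvd_natCard H hz.1
    have ht := hHτ _ hzp hzd
    obtain ⟨m, hm⟩ := exists_pow_eq_self_of_coprime (x := z) (n := n (orderOf z))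
      ((Nat.coprime_ordCompl hzp (Nat.card_pos (α := H)).ne').symm)
    have h2 := pow_mem (hz.2 _ ht) m
    rw [hm] at h2
    exact hZgood _ ht z h2 rfl
  · rcases Nat.eq_zero_or_pos j with rfl | hj
    · exact one_dvd _
    have htH : t ∣ Nat.card H :=
      ((dvd_pow_self t (by omega)).trans hgo.symm.dvd).trans (Subgroup.orderOf_dvd_natCard H hg)
    have hτ := hHτ t ht htH
    obtain ⟨z, hz, hzd⟩ := hZexp t hτ g j hgo
    obtain ⟨l, hl⟩ := hZord t hτ z hz
    have hzH : z ∈ H := hmemH t l hτ z hl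
    have hzZ : z ∈ Z := by
      refine ⟨hzH, fun s hs => ?_⟩
      by_cases hst : s = t
      · subst hst; exact pow_mem hz _
      rw [orderOf_dvd_iff_pow_eq_one.mp]
      · exact one_mem _
      refine Nat.Coprime.dvd_of_dvd_mul_left (k := orderOf z) (m := s ^ (Nat.card H).factorization s) ?_ ?_
      · rw [hl]
        exact Nat.Coprime.pow _ _ ((Nat.coprime_primes ht hs.1).mpr (Ne.symm hst))
      · rw [Nat.ordProj_mul_ordCompl_eq_self]
        exact Subgroup.orderOf_dvd_natCard H hzH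
    have h2 := Monoid.order_dvd_exponent (⟨z, hzZ⟩ : Z)
    rw [orderOf_mk] at h2
    exact hzd.trans h2

/-- S1421. -/
theorem frobenius_type (hG : Cfsg.IsMinSimpleOddOrder G) (hM : IsCoatom M)
    (hE : Cfsg.IsComplIn E (Cfsg.sigmaCore M) M)
    (h : ∀ e ∈ E, e ≠ 1 → (∀ t : ℕ, t.Prime → t ∣ orderOf e → t ∈ Cfsg.tau1 M ∪ Cfsg.tau3 M) →
      Cfsg.sigmaCore M ⊓ centralizer ({e} : Set G) = ⊥) :
    (∃ A₀ : Subgroup G, A₀ ≤ E ∧ E ≤ normalizer (A₀ : Set G) ∧ IsMulCommutative A₀ ∧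
        ∀ x ∈ Cfsg.sigmaCore M, x ≠ 1 → E ⊓ centralizer ({x} : Set G) ≤ A₀) ∧
      ∃ E₀ : Subgroup G, E₀ ≤ E ∧ Monoid.exponent E₀ = Monoid.exponent E ∧
        ∀ e ∈ E₀, e ≠ 1 → Cfsg.sigmaCore M ⊓ centralizer ({e} : Set G) = ⊥ := by
  suffices hs : (∃ A₀ : Subgroup G, A₀ ≤ E ∧ E ≤ normalizer (A₀ : Set G) ∧ IsMulCommutative A₀ ∧
        ∀ x ∈ Cfsg.sigmaCore M, x ≠ 1 → E ⊓ centralizer ({x} : Set G) ≤ A₀) ∧
      ∃ E₀ : Subgroup E, Monoid.exponent E₀ = Monoid.exponent E ∧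
        ∀ e ∈ E₀, (orderOf e).Prime → Cfsg.sigmaCore M ⊓ centralizer ({(e : G)} : Set G) = ⊥ by
    obtain ⟨h1, E₀, hexp, hgood⟩ := hs
    refine ⟨h1, E₀.map E.subtype, map_subtype_le _, ?_, ?_⟩
    · rw [← hexp]
      exact (Monoid.exponent_eq_of_mulEquiv (E₀.equivMapOfInjective E.subtype E.subtype_injective)).symm
    rintro _ ⟨e, he, rfl⟩ he1
    obtain ⟨t, ht, htd⟩ := Nat.exists_prime_and_dvd (fun e1 : orderOf e = 1 => he1 (by
      rw [orderOf_eq_one_iff.mp e1, map_one]))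
    have h2 := hgood (e ^ (orderOf e / t)) (pow_mem he _) (by
      rw [orderOf_pow_orderOf_div (orderOf_pos e).ne' htd]; exact ht)
    refine le_bot_iff.mp (le_trans (inf_le_inf_left _ fun x hx => mem_centralizer_singleton_iff.mpr ?_) h2.le)
    exact ((show Commute x (e : G) from mem_centralizer_singleton_iff.mp hx).pow_right _).eq
  by_cases hc : ∀ t : ℕ, t ∈ Cfsg.tau2 M → ∀ [Fact t.Prime] (S : Sylow t G), IsMulCommutative (S : Subgroup G)
  · exact frobenius_abelian hG hM hE hc h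
  push Not at hc
  obtain ⟨t, ht, _, S, hS⟩ := hc
  exact frobenius_nonabelian hG hM hE ht (fun S' hc' => hS ⟨⟨fun a b => (S.equiv S').injective (by
    rw [map_mul, map_mul]; exact hc'.is_comm.comm _ _)⟩⟩) h

end CfsgLib.TwoGroups.TauTwo
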