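import Cfsg.Agent.Lib.TwoGroups.TauTwoAbelian
import Cfsg.Agent.Lib.OddLocal.PrimeActionFitting

/-!
Owner: helper12. `M_σ` is nilpotent and meets no other maximal subgroup over `A`, for `τ₂(M)` nonempty.
-/

set_option autoImplicit false
set_option linter.unusedSectionVars false

namespace CfsgLib.TwoGroups.TauTwo

open Subgroup
open scoped commutatorElement

variable {G : Type*} [Group G] [Finite G] {p q r : ℕ} [Fact p.Prime] [Fact q.Prime] [Fact r.Prime]
  {M A : Subgroup G}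

/-- Nilpotency from the actions on the cores. -/
theorem isNilpotent_of_centralizes {H : Type*} [Group H] [Finite H] [Group.IsSolvable H]
    (h : ∀ t : ℕ, t.Prime → ∀ g : H, ∀ s i : ℕ, s.Prime → s ≠ t → orderOf g = s ^ i →
      g ∈ centralizer (Cfsg.pCore t H : Set H)) : Group.IsNilpotent H := by
  have hF := CfsgLib.Core.isNilpotent_fittingSubgroup H
  suffices htop : (⊤ : Subgroup H) ≤ Cfsg.fittingSubgroup H by
    have : Group.IsNilpotent (⊤ : Subgroup H) := Core.isNilpotent_of_le htop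
    exact Group.nilpotent_of_mulEquiv topEquiv
  refine CfsgLib.OddLocal.CN.le_of_prime_pow_mem fun x _ hpp => ?_
  obtain ⟨r, j, hr, -, hj⟩ := hpp
  have := Fact.mk hr.nat_prime
  set X : Subgroup H := ⨅ t : {t : ℕ // t.Prime ∧ t ≠ r}, centralizer (Cfsg.pCore t.1 H : Set H) with hX
  have hXn : X.Normal := normal_iInf_normal fun t => inferInstance
  have hxX : x ∈ X := mem_iInf.mpr fun t => h t.1 t.2.1 x r j hr.nat_prime (Ne.symm t.2.2) hj.symm
  have hcentral : ∀ g ∈ X, ∀ s i : ℕ, s.Prime → s ≠ r → orderOf g = s ^ i → ∀ y ∈ X, y * g = g * y := by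
    intro g hg s i hs hsr hgo y hy
    have := Fact.mk hs
    have hgF : g ∈ Cfsg.fittingSubgroup H := by
      refine CfsgLib.Components.centralizer_fitting_le_of_isSolvable
        (OddLocal.RankTwoFitting.mem_centralizer_fitting fun t ht => ?_)
      rcases eq_or_ne t r with rfl | htr
      · exact h t ht g s i hs hsr hgo
      · exact mem_iInf.mp hg ⟨t, ht, htr⟩
    exact (mem_centralizer_iff.1 (mem_iInf.mp hy ⟨s, hs, hsr⟩) g
      (OddLocal.RankTwoFitting.mem_pCore_of_mem_nilpotent hgF hgo)).symm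
  obtain ⟨R⟩ : Nonempty (Sylow r X) := inferInstance
  have htop : center X ⊔ (R : Subgroup X) = ⊤ := by
    refine CfsgLib.Core.eq_top_of_forall_exists_sylow_le _ fun s hs _ => ?_
    have := Fact.mk hs
    rcases eq_or_ne s r with rfl | hsr
    · exact ⟨R, le_sup_right⟩
    obtain ⟨S⟩ : Nonempty (Sylow s X) := inferInstance
    refine ⟨S, fun g hg => mem_sup_left (mem_center_iff.2 fun y => ?_)⟩
    obtain ⟨i, hi⟩ := IsPGroup.iff_orderOf.1 S.2 ⟨g, hg⟩
    rw [orderOf_mk, ← Subgroup.orderOf_coe] at hi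
    exact Subtype.ext (hcentral g g.2 s i hs hsr hi y y.2)
  have hRn : (R : Subgroup X).Normal := by
    rw [← normalizer_eq_top_iff, eq_top_iff, ← htop]
    exact sup_le ((center_le_centralizer _).trans (Subgroup.centralizer_le_normalizer _)) le_normalizer
  have hRc := R.characteristic_of_normal hRn
  have hRG : ((R : Subgroup X).map X.subtype).Normal := inferInstance
  refine CfsgLib.Core.pCore_le_fittingSubgroup r (CfsgLib.Core.le_pCore (R.2.map X.subtype) ?_)
  obtain ⟨R', hR'⟩ := (IsPGroup.of_card (G := zpowers (⟨x, hxX⟩ : X)) (n := j)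
    (by rw [Nat.card_zpowers, orderOf_mk, ← hj])).exists_le_sylow
  have := R.unique_of_normal hRn
  rw [Subsingleton.elim R' R] at hR'
  exact ⟨⟨x, hxX⟩, hR' (mem_zpowers _), rfl⟩

/-- The fixed point free theorem inside a proper subgroup. -/
theorem fpf_commutator (hG : Cfsg.IsMinSimpleOddOrder G) (hM : M ≠ ⊤) {R Q V : Subgroup G}
    (hR : Nat.card R = p) (hRM : R ≤ M) (hQM : Q ≤ M) (hVM : V ≤ M) (hRQ : R ≤ normalizer (Q : Set G))
    (hV : IsPGroup r V) (hQV : Q ≤ normalizer (V : Set G)) (hRV : R ≤ normalizer (V : Set G))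
    (hQp : (Nat.card Q).Coprime p) (hQr : (Nat.card Q).Coprime r) (hpr : p ≠ r)
    (hfix : V ⊓ centralizer (R : Set G) = ⊥) : ⁅R, Q⁆ ≤ centralizer (V : Set G) := by
  have hc : ∀ H : Subgroup G, H ≤ M → Nat.card (H.subgroupOf M) = Nat.card H := fun H hH =>
    Nat.card_congr (subgroupOfEquivOfLe hH).toEquiv
  have hn : ∀ H K : Subgroup G, H ≤ normalizer (K : Set G) →
      H.subgroupOf M ≤ normalizer ((K.subgroupOf M : Subgroup M) : Set M) := fun H K h x hx =>
    mem_normalizer_iff.mpr fun y => mem_normalizer_iff.mp (h hx) (y : G)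
  have h1 := OddLocal.PrimeActionFitting.commutator_le_centralizer (G := M) (Fact.out : p.Prime)
    (R.subgroupOf M) (Q.subgroupOf M) (V.subgroupOf M) (hG.2.2.2 M hM)
    (hG.1.of_dvd_nat M.card_subgroup_dvd_card) (by rw [hc R hRM, hR]) (hn R Q hRQ) hV.comap_subtype
    (hn Q V hQV) (hn R V hRV) (by rw [hc Q hQM]; exact hQp) (by rw [hc Q hQM]; exact hQr) hpr (by
      rw [eq_bot_iff]
      rintro x ⟨hx, hxc⟩
      refine mem_bot.mpr (Subtype.ext (mem_bot.mp (hfix ▸ mem_inf.mpr ⟨hx, ?_⟩)))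
      exact mem_centralizer_iff.mpr fun a ha =>
        congrArg Subtype.val (mem_centralizer_iff.mp hxc ⟨a, hRM ha⟩ ha))
  have h2 : (⁅R.subgroupOf M, Q.subgroupOf M⁆).map M.subtype ≤
      (centralizer ((V.subgroupOf M : Subgroup M) : Set M)).map M.subtype := map_mono h1
  rw [map_commutator, map_subgroupOf_eq_of_le hRM, map_subgroupOf_eq_of_le hQM] at h2
  refine h2.trans ?_
  rintro _ ⟨x, hx, rfl⟩
  exact mem_centralizer_iff.mpr fun v hv =>
    congrArg Subtype.val (mem_centralizer_iff.mp hx ⟨v, hVM hv⟩ hv)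

/-- Two lines generate `A`. -/
theorem IsPair.sup_lines (hA : IsPair p A) {a b : G} (ha : a ∈ A) (ha1 : a ≠ 1) (hb : b ∈ A)
    (hab : b ∉ zpowers a) : zpowers a ⊔ zpowers b = A := by
  have hle : zpowers a ⊔ zpowers b ≤ A := sup_le (zpowers_le.mpr ha) (zpowers_le.mpr hb)
  refine eq_of_le_of_card_ge hle ?_
  have hlt : zpowers a < zpowers a ⊔ zpowers b := left_lt_sup.mpr fun h => hab (h (mem_zpowers b))
  have := PGroups.mul_card_le_of_lt (hA.isPGroup.to_le hle) hlt
  rw [Nat.card_zpowers, orderOf_eq_prime (hA.1.2 a ha) ha1] at this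
  rw [hA.2, sq]
  exact this

theorem IsPair.exists_outside_lines (hA : IsPair p A) (u v : G) : ∃ a ∈ A, a ∉ zpowers u ∧ a ∉ zpowers v := by
  by_contra h
  push Not at h
  have hsub : A ≤ zpowers u ∨ A ≤ zpowers v := by
    by_contra hno
    push Not at hno
    obtain ⟨hu, hv⟩ := hno
    obtain ⟨x, hx, hxu⟩ := SetLike.not_le_iff_exists.mp hu
    obtain ⟨y, hy, hyv⟩ := SetLike.not_le_iff_exists.mp hv
    have hxv : x ∈ zpowers v := h x hx hxu
    have hyu : y ∈ zpowers u := by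
      by_contra hyu
      exact hyv (h y hy hyu)
    have hxyu : x * y ∉ zpowers u := fun hm => hxu (by simpa using mul_mem hm (inv_mem hyu))
    have hxyv : x * y ∈ zpowers v := h _ (mul_mem hx hy) hxyu
    exact hyv (by simpa using mul_mem (inv_mem hxv) hxyv)
  rcases hsub with h' | h' <;>
    exact hA.not_isCyclic (isCyclic_of_injective (inclusion h') (inclusion_injective _))

/-- No `q`-group `D = [D, A]` acts nontrivially on an invariant `r`-subgroup of `M`, `r ∈ σ(M)`. -/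
theorem centralizes_of_fpf (hG : Cfsg.IsMinSimpleOddOrder G) (hM : IsCoatom M) (hA : IsPair p A)
    (hAM : A ≤ M) (hp : p ∉ Cfsg.sigma M) (hr : r ∈ Cfsg.sigma M) (hqp : q ≠ p) (hqr : q ≠ r)
    {V D : Subgroup G} (hV : IsPGroup r V) (hVM : V ≤ M) (hAV : A ≤ normalizer (V : Set G))
    (hD : IsPGroup q D) (hDM : D ≤ M) (hAD : A ≤ normalizer (D : Set G))
    (hDV : D ≤ normalizer (V : Set G)) (hfix : D ⊓ centralizer (A : Set G) = ⊥) :
    D ≤ centralizer (V : Set G) := by
  by_contra hne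
  have hrp : r ≠ p := fun e => hp (e ▸ hr)
  have hU := not_inUniqueMaximal hG hM hA hAM hp
  have hDeq : ⁅D, A⁆ = D := by
    have h := Core.commutator_sup_centralizer hAD (coprime_pGroups (Ne.symm hqp) hA.isPGroup hD)
      (Or.inl (hG.2.2.2 A (Uniqueness.ne_top_of_pGroup hG hA.isPGroup)))
    rwa [hfix, sup_bot_eq] at h
  -- the fixed point free lines
  set fpf : G → Prop := fun a => a ∈ A ∧ a ≠ 1 ∧ V ⊓ centralizer ({a} : Set G) = ⊥
  have hcomm : ∀ a, fpf a → ∀ d ∈ D, d * a * d⁻¹ * a⁻¹ ∈ centralizer (V : Set G) := by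
    rintro a ⟨ha, ha1, hVa⟩ d hd
    have h1 := fpf_commutator (p := p) (r := r) hG hM.1 (R := zpowers a) (Q := D) (V := V)
      (by rw [Nat.card_zpowers, orderOf_eq_prime (hA.1.2 a ha) ha1]) (zpowers_le.mpr (hAM ha)) hDM hVM
      (zpowers_le.mpr (hAD ha)) hV hDV (zpowers_le.mpr (hAV ha))
      (by
        obtain ⟨k, hk⟩ := IsPGroup.iff_card.mp hD
        rw [hk]; exact ((Nat.coprime_primes Fact.out Fact.out).mpr hqp).pow_left k)
      (by
        obtain ⟨k, hk⟩ := IsPGroup.iff_card.mp hD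
        rw [hk]; exact ((Nat.coprime_primes Fact.out Fact.out).mpr hqr).pow_left k)
      (Ne.symm hrp) (by rw [zpowers_eq_closure, centralizer_closure]; exact hVa)
    rw [commutator_comm] at h1
    exact h1 (commutator_mem_commutator hd (mem_zpowers a))
  have huniq : ∀ a b, fpf a → fpf b → b ∈ zpowers a := by
    intro a b ha hb
    by_contra hba
    apply hne
    -- elements of `A` act trivially modulo the centraliser
    set W := centralizer (V : Set G) with hW
    have hDW : ∀ d ∈ D, ∀ w ∈ W, d * w * d⁻¹ ∈ W := fun d hd w hw => mem_centralizer_iff.mpr fun v hv => by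
      have h1 := mem_centralizer_iff.mp hw _ ((mem_normalizer_iff''.mp (hDV hd) v).mp hv)
      calc v * (d * w * d⁻¹) = d * ((d⁻¹ * v * d) * w) * d⁻¹ := by group
        _ = d * (w * (d⁻¹ * v * d)) * d⁻¹ := by rw [h1]
        _ = d * w * d⁻¹ * v := by group
    have hAW : ∀ c ∈ A, ∀ w ∈ W, c * w * c⁻¹ ∈ W := fun c hc w hw => mem_centralizer_iff.mpr fun v hv => by
      have h1 := mem_centralizer_iff.mp hw _ ((mem_normalizer_iff''.mp (hAV hc) v).mp hv)
      calc v * (c * w * c⁻¹) = c * ((c⁻¹ * v * c) * w) * c⁻¹ := by group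
        _ = c * (w * (c⁻¹ * v * c)) * c⁻¹ := by rw [h1]
        _ = c * w * c⁻¹ * v := by group
    set K : Subgroup G :=
      { carrier := {c | c ∈ A ∧ ∀ d ∈ D, d * c * d⁻¹ * c⁻¹ ∈ W}
        one_mem' := ⟨one_mem _, fun d _ => by simp⟩
        mul_mem' := fun {x y} hx hy => ⟨mul_mem hx.1 hy.1, fun d hd => by
          rw [show d * (x * y) * d⁻¹ * (x * y)⁻¹ =
            (d * x * d⁻¹ * x⁻¹) * (x * (d * y * d⁻¹ * y⁻¹) * x⁻¹) by group]
          exact mul_mem (hx.2 d hd) (hAW x hx.1 _ (hy.2 d hd))⟩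
        inv_mem' := fun {x} hx => ⟨inv_mem hx.1, fun d hd => by
          rw [show d * x⁻¹ * d⁻¹ * x⁻¹⁻¹ = x⁻¹ * (d * x * d⁻¹ * x⁻¹)⁻¹ * x⁻¹⁻¹ by group]
          exact hAW _ (inv_mem hx.1) _ (inv_mem (hx.2 d hd))⟩ } with hK
    have hAK : A ≤ K := by
      rw [← hA.sup_lines ha.1 ha.2.1 hb.1 hba]
      exact sup_le (zpowers_le.mpr ⟨ha.1, hcomm a ha⟩) (zpowers_le.mpr ⟨hb.1, hcomm b hb⟩)
    rw [← hDeq, commutator_le]
    intro d hd c hc
    exact (hAK hc).2 d hd
  -- a line moved into itself by `g ∈ N(A) ∖ M`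
  obtain ⟨g, hg, hgM⟩ : ∃ g ∈ normalizer (A : Set G), g ∉ M := by
    simpa [SetLike.not_le_iff_exists] using not_normalizer_le hG hM hA hAM hp
  have hu : ∃ u : G, ∀ b, fpf b → b ∈ zpowers u := by
    by_cases he : ∃ u, fpf u
    · obtain ⟨u, hu⟩ := he
      exact ⟨u, fun b hb => huniq u b hu hb⟩
    · exact ⟨1, fun b hb => absurd ⟨b, hb⟩ he⟩
  obtain ⟨u, hu⟩ := hu
  obtain ⟨a, ha, hau, hav⟩ := hA.exists_outside_lines u (g * u * g⁻¹)
  set b := g⁻¹ * a * g with hb
  have ha1 : a ≠ 1 := fun e => hau (e ▸ one_mem _)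
  have hbA : b ∈ A := (mem_normalizer_iff''.mp hg a).mp ha
  have hb1 : b ≠ 1 := fun e => ha1 (by rw [show a = g * b * g⁻¹ by rw [hb]; group, e]; group)
  have hbu : b ∉ zpowers u := fun h => hav (by
    obtain ⟨k, hk⟩ := mem_zpowers_iff.mp h
    refine mem_zpowers_iff.mpr ⟨k, ?_⟩
    rw [conj_zpow, hk, hb]
    group)
  have hVa : V ⊓ centralizer ({a} : Set G) ≠ ⊥ := fun h => hau (hu a ⟨ha, ha1, h⟩)
  have hVb : V ⊓ centralizer ({b} : Set G) ≠ ⊥ := fun h => hbu (hu b ⟨hbA, hb1, h⟩)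
  obtain ⟨Q, hQσ, hQb, hAQ, hQu, hMN⟩ := exists_sylow_normalized hG hM hA hAM hp hr
  have hVQ := hQu V hV hVM hAV
  set Q' := (Q : Subgroup G).map (MulAut.conj g).toMonoidHom with hQ'
  have hAQ' : A ≤ normalizer (Q' : Set G) := by
    intro x hx
    have h1 := le_normalizer_map (MulAut.conj g).toMonoidHom
      ⟨_, hAQ ((mem_normalizer_iff''.mp hg x).mp hx), rfl⟩
    simpa [mul_assoc, hQ'] using h1
  have hm' : Transitivity.IsMaxInv A r Q' := by
    refine ⟨Q.2.map _, hAQ', fun R hR _ hle => (eq_of_le_of_card_ge hle ?_).symm⟩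
    obtain ⟨k, hk⟩ := IsPGroup.iff_card.mp hR
    rw [hQ', Transfer.card_map_conj, hk, Sylow.card_eq_multiplicity]
    exact Nat.pow_le_pow_right (Fact.out : r.Prime).pos
      ((Nat.Prime.pow_dvd_iff_le_factorization Fact.out Nat.card_pos.ne').mp (hk ▸ R.card_subgroup_dvd_card))
  obtain ⟨c, hc, hce⟩ := exists_conj_of_line hG hA hU hrp (sylow_isMaxInv Q hAQ) hm' ha ha1
    (fun h => hVa (le_bot_iff.mp (h ▸ inf_le_inf_right _ hVQ))) (by
      intro h
      apply hVb
      rw [eq_bot_iff]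
      rintro y ⟨hy, hyc⟩
      have h2 : g * y * g⁻¹ ∈ Q' ⊓ centralizer ({a} : Set G) := by
        refine ⟨⟨y, hVQ hy, rfl⟩, mem_centralizer_singleton_iff.mpr ?_⟩
        have h3 := mem_centralizer_singleton_iff.mp hyc
        calc g * y * g⁻¹ * a = g * (y * (g⁻¹ * a * g)) * g⁻¹ := by group
          _ = g * ((g⁻¹ * a * g) * y) * g⁻¹ := by rw [h3]
          _ = a * (g * y * g⁻¹) := by group
      rw [h, mem_bot] at h2
      exact mem_bot.mpr (conj_eq_one_iff.mp h2))
  rw [Transfer.map_conj_eq_self_iff.mpr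
    (hMN ⟨centralizer_le hG hM hA hAM hc, Subgroup.centralizer_le_normalizer _ hc⟩)] at hce
  exact hgM (sylow_normalizer_le hr Q (hQσ.trans (sigmaCore_le M))
    (Transfer.map_conj_eq_self_iff.mp hce.symm))

/-- S1417 (a). -/
theorem isNilpotent_sigmaCore (hG : Cfsg.IsMinSimpleOddOrder G) (hM : IsCoatom M) (hA : IsPair p A)
    (hAM : A ≤ M) (hp : p ∉ Cfsg.sigma M) : Group.IsNilpotent (Cfsg.sigmaCore M) := by
  set O := Cfsg.sigmaCore M with hO
  have hC := sigma_inf_centralizer hG hM hA hAM hp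
  have : Group.IsSolvable O := CfsgLib.Core.isSolvable_of_le (hG.2.2.2 M hM.1) (sigmaCore_le M)
  refine isNilpotent_of_centralizes fun t ht g s i hs hst hg => ?_
  have := Fact.mk ht
  have := Fact.mk hs
  set V := (Cfsg.pCore t O).map O.subtype with hV
  by_cases hd : t ∣ Nat.card O
  swap
  · rw [CfsgLib.Core.pCore_eq_bot_of_not_dvd ht hd]
    simp [mem_centralizer_iff]
  by_cases hds : s ∣ Nat.card O
  swap
  · have hi : i = 0 := by
      by_contra hi
      exact hds ((dvd_pow_self s hi).trans (hg ▸ orderOf_dvd_natCard g))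
    rw [hi, pow_zero, orderOf_eq_one_iff] at hg
    rw [hg]; exact one_mem _
  have htσ := mem_sigma_of_dvd ht hd hG hM
  have hsσ := mem_sigma_of_dvd hs hds hG hM
  have hsp : s ≠ p := fun e => hp (e ▸ hsσ)
  obtain ⟨Q, hQσ, -, hAQ, -, -⟩ := exists_sylow_normalized hG hM hA hAM hp hsσ
  have hON : O ≤ normalizer (V : Set G) := fun x hx =>
    le_normalizer_map O.subtype ⟨⟨x, hx⟩, Core.le_normalizer_of_normal ⊤ (Cfsg.pCore t O) (mem_top _), rfl⟩
  have hAV : A ≤ normalizer (V : Set G) := fun x hx =>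
    OddLocal.PLengthEndgame.normalizer_le_char O (Cfsg.pCore t O) (le_normalizer_sigmaCore M (hAM hx))
  have hQV : (Q : Subgroup G) ≤ centralizer (V : Set G) :=
    centralizes_of_fpf hG hM hA hAM hp htσ hsp hst ((Core.isPGroup_pCore t O).map _)
      ((map_subtype_le _).trans (sigmaCore_le M)) hAV Q.2 (hQσ.trans (sigmaCore_le M)) hAQ (hQσ.trans hON)
      (le_bot_iff.mp ((inf_le_inf_right _ hQσ).trans hC.le))
  -- `g` is conjugate into `Q`
  set C := centralizer (Cfsg.pCore t O : Set O)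
  have hCn : C.Normal := inferInstance
  have hQC : (Q : Subgroup G).subgroupOf O ≤ C := fun x hx => mem_centralizer_iff.mpr fun v hv =>
    Subtype.ext (mem_centralizer_iff.mp (hQV hx) (v : G) ⟨v, hv, rfl⟩)
  obtain ⟨T, hT⟩ := (IsPGroup.of_card (G := zpowers g) (n := i) (by rw [Nat.card_zpowers, hg])).exists_le_sylow
  obtain ⟨x, hx⟩ := MulAction.exists_smul_eq O (Q.subtype hQσ) T
  have h1 := hT (mem_zpowers g)
  rw [← hx, Transfer.mem_sylow_smul] at h1
  have h2 := hCn.conj_mem _ (hQC h1) x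
  simpa [mul_assoc] using h2

/-- In a nilpotent `M_σ` the Sylow subgroup is normal in `M`. -/
theorem le_normalizer_of_nilpotent (hn : Group.IsNilpotent (Cfsg.sigmaCore M)) (Q : Sylow q G)
    (hQ : (Q : Subgroup G) ≤ Cfsg.sigmaCore M) : M ≤ normalizer ((Q : Subgroup G) : Set G) := by
  set O := Cfsg.sigmaCore M
  have e : (Q : Subgroup G) = (Cfsg.pCore q O).map O.subtype := by
    refine (Q.3 ((Core.isPGroup_pCore q O).map _) fun d hd => ?_).symm
    obtain ⟨k, hk⟩ := IsPGroup.iff_card.mp Q.2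
    obtain ⟨j, -, hj⟩ := (Nat.dvd_prime_pow Fact.out).mp
      (hk ▸ orderOf_dvd_natCard (Q : Subgroup G) hd : orderOf d ∣ q ^ k)
    exact mem_map.mpr ⟨⟨d, hQ hd⟩, HallGen.mem_pCore_of_mem_nilpotent_normal (k := j)
      (inferInstance : (⊤ : Subgroup O).Normal)
      (Group.nilpotent_of_mulEquiv topEquiv.symm) (mem_top _) (by rw [orderOf_mk]; exact hj), rfl⟩
  rw [e]
  exact fun g hg => OddLocal.PLengthEndgame.normalizer_le_char O (Cfsg.pCore q O) (le_normalizer_sigmaCore M hg)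

/-- In a complement, a maximal invariant fixed point free `q`-subgroup is normal. -/
theorem le_normalizer_complement (hG : Cfsg.IsMinSimpleOddOrder G) (hM : IsCoatom M) {E D : Subgroup G}
    (hA : IsPair p A) (hqp : q ≠ p) (hE : Cfsg.IsComplIn E (Cfsg.sigmaCore M) M) (hAE : A ≤ E) (hDE : D ≤ E)
    (hD : IsPGroup q D) (hAD : A ≤ normalizer (D : Set G))
    (hmax : ∀ T : Subgroup G, IsPGroup q T → T ≤ M → A ≤ normalizer (T : Set G) → D ≤ T → T = D)
    (hfix : D ⊓ centralizer (A : Set G) = ⊥) : E ≤ normalizer (D : Set G) := by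
  have hDd : D ≤ ⁅E, E⁆ := by
    have h := Core.commutator_sup_centralizer hAD (coprime_pGroups (Ne.symm hqp) hA.isPGroup hD)
      (Or.inl (hG.2.2.2 A (Uniqueness.ne_top_of_pGroup hG hA.isPGroup)))
    rw [hfix, sup_bot_eq] at h
    rw [← h]
    exact commutator_mono hDE hAE
  have hnil := OddLocal.SigmaComplement.isNilpotent_derived hG hM hE
  have hn : E ≤ normalizer ((⁅E, E⁆ : Subgroup G) : Set G) := normalizer_commutator_ge_left E E
  set X := (Cfsg.pCore q ↥⁅E, E⁆).map (⁅E, E⁆).subtype with hX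
  have hEX : E ≤ normalizer (X : Set G) := fun g hg =>
    OddLocal.PLengthEndgame.normalizer_le_char ⁅E, E⁆ (Cfsg.pCore q ↥⁅E, E⁆) (hn hg)
  have hDX : D ≤ X := by
    intro d hd
    refine mem_map.mpr ⟨⟨d, hDd hd⟩, ?_, rfl⟩
    obtain ⟨k, hk⟩ := IsPGroup.iff_card.mp hD
    obtain ⟨j, -, hj⟩ := (Nat.dvd_prime_pow Fact.out).mp
      (hk ▸ orderOf_dvd_natCard D hd : orderOf d ∣ q ^ k)
    exact HallGen.mem_pCore_of_mem_nilpotent_normal (k := j)
      (inferInstance : (⊤ : Subgroup ↥⁅E, E⁆).Normal)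
      (Group.nilpotent_of_mulEquiv topEquiv.symm) (mem_top _) (by rw [orderOf_mk]; exact hj)
  rw [← hmax X ((Core.isPGroup_pCore q _).map _) ((map_subtype_le _).trans ((commutator_le_self E).trans hE.1))
    (hAE.trans hEX) hDX]
  exact hEX

/-- A maximal subgroup containing the normaliser of a maximal invariant fixed point free subgroup of `L`
contains `L`. -/
theorem le_of_fpf (hG : Cfsg.IsMinSimpleOddOrder G) {L H D : Subgroup G} (hL : IsCoatom L)
    (hA : IsPair p A) (hAL : A ≤ L) (hp : p ∉ Cfsg.sigma L) (hqp : q ≠ p) (hD : IsPGroup q D) (hDL : D ≤ L)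
    (hAD : A ≤ normalizer (D : Set G))
    (hmax : ∀ T : Subgroup G, IsPGroup q T → T ≤ L → A ≤ normalizer (T : Set G) → D ≤ T → T = D)
    (hfix : D ⊓ centralizer (A : Set G) = ⊥) (hND : normalizer (D : Set G) ≤ H) : L ≤ H := by
  have hnL := isNilpotent_sigmaCore hG hL hA hAL hp
  by_cases hqσ : q ∈ Cfsg.sigma L
  · obtain ⟨Q', hQ'σ, -, hAQ', hu', -⟩ := exists_sylow_normalized hG hL hA hAL hp hqσ
    have e := hmax _ Q'.2 (hQ'σ.trans (sigmaCore_le L)) hAQ' (hu' D hD hDL hAD)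
    exact ((le_normalizer_of_nilpotent hnL Q' hQ'σ).trans
      (congrArg (fun K : Subgroup G => normalizer (K : Set G)) e).le).trans hND
  obtain ⟨E, hE, hKE⟩ := exists_complement_ge hG hL (sup_le hAL hDL : A ⊔ D ≤ L) fun t ht hd => by
    rcases ht.dvd_mul.1 (hd.trans (Core.card_sup_dvd A D hAD)) with h | h
    · obtain ⟨k, hk⟩ := IsPGroup.iff_card.mp hA.isPGroup
      rw [(Nat.prime_dvd_prime_iff_eq ht Fact.out).mp (ht.dvd_of_dvd_pow (hk ▸ h))]
      exact hp
    · obtain ⟨k, hk⟩ := IsPGroup.iff_card.mp hD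
      rw [(Nat.prime_dvd_prime_iff_eq ht Fact.out).mp (ht.dvd_of_dvd_pow (hk ▸ h))]
      exact hqσ
  have hEH : E ≤ H := (le_normalizer_complement hG hL hA hqp hE (le_sup_left.trans hKE)
    (le_sup_right.trans hKE) hD hAD hmax hfix).trans hND
  have hOH : Cfsg.sigmaCore L ≤ H := by
    rw [← subgroupOf_eq_top]
    refine CfsgLib.Core.eq_top_of_forall_exists_sylow_le _ fun t ht htd => ?_
    have := Fact.mk ht
    have htσ := mem_sigma_of_dvd ht htd hG hL
    obtain ⟨R, hRσ, -, hAR, -, -⟩ := exists_sylow_normalized hG hL hA hAL hp htσ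
    have hLR := le_normalizer_of_nilpotent hnL R hRσ
    have hst : q ≠ t := fun e => hqσ (e ▸ htσ)
    have hDR : D ≤ centralizer ((R : Subgroup G) : Set G) :=
      centralizes_of_fpf hG hL hA hAL hp htσ hqp hst R.2 (hRσ.trans (sigmaCore_le L)) hAR hD hDL
        hAD (hDL.trans hLR) hfix
    refine ⟨R.subtype hRσ, fun x hx => hND ?_⟩
    exact Subgroup.centralizer_le_normalizer _ (le_centralizer_iff.mp hDR hx)
  intro x hx
  obtain ⟨e, he, o, ho, rfl⟩ := hE.2.2.2 x hx
  exact mul_mem (hEH he) (hOH ho)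

/-- S1417 (e). -/
theorem sigmaCore_inf_eq_bot (hG : Cfsg.IsMinSimpleOddOrder G) (hM : IsCoatom M) (hA : IsPair p A)
    (hAM : A ≤ M) (hp : p ∉ Cfsg.sigma M) {H : Subgroup G} (hH : IsCoatom H) (hne : H ≠ M) (hAH : A ≤ H) :
    Cfsg.sigmaCore M ⊓ H = ⊥ := by
  classical
  by_contra hbad
  set O := Cfsg.sigmaCore M with hO
  have hU := not_inUniqueMaximal hG hM hA hAM hp
  have hC := sigma_inf_centralizer hG hM hA hAM hp
  have hn := isNilpotent_sigmaCore hG hM hA hAM hp
  obtain ⟨s, hs, hd⟩ := Nat.exists_prime_and_dvd (fun h1 => hbad (eq_bot_of_card_eq _ h1))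
  have := Fact.mk hs
  have hsσ := mem_sigma_of_dvd hs (hd.trans (card_dvd_of_le inf_le_left)) hG hM
  have hsp : s ≠ p := fun e => hp (e ▸ hsσ)
  obtain ⟨Q, hQσ, hQb, hAQ, huniq, -⟩ := exists_sylow_normalized hG hM hA hAM hp hsσ
  have hQM := hQσ.trans (sigmaCore_le M)
  have hMQ := le_normalizer_of_nilpotent hn Q hQσ
  have hmeet : (Q : Subgroup G) ⊓ H ≠ ⊥ := by
    intro hb
    obtain ⟨x, hx⟩ := exists_prime_orderOf_dvd_card' s hd
    obtain ⟨T, hT⟩ := (IsPGroup.of_card (G := zpowers (⟨(x : G), x.2.1⟩ : O)) (n := 1)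
      (by rw [Nat.card_zpowers, orderOf_mk, orderOf_coe, hx, pow_one])).exists_le_sylow
    have hn' : ((Q.subtype hQσ : Sylow s O) : Subgroup O).Normal :=
      normal_subgroupOf_of_le_normalizer ((sigmaCore_le M).trans hMQ)
    have := (Q.subtype hQσ).unique_of_normal hn'
    rw [Subsingleton.elim T (Q.subtype hQσ)] at hT
    have h1 : (x : G) ∈ (Q : Subgroup G) ⊓ H := ⟨hT (mem_zpowers _), x.2.2⟩
    rw [hb, mem_bot] at h1
    rw [show x = 1 from Subtype.ext h1, orderOf_one] at hx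
    exact hs.ne_one hx.symm
  obtain ⟨L, ⟨hL, hLM, hAL, hDne⟩, hmaxL⟩ := Set.exists_max_image
    {L : Subgroup G | IsCoatom L ∧ L ≠ M ∧ A ≤ L ∧ (Q : Subgroup G) ⊓ L ≠ ⊥}
    (fun L => Nat.card ↥((Q : Subgroup G) ⊓ L)) (Set.toFinite _) ⟨H, hH, hne, hAH, hmeet⟩
  set D := (Q : Subgroup G) ⊓ L with hD
  have hDp : IsPGroup s D := Q.2.to_le inf_le_left
  have hDM : D ≤ M := inf_le_left.trans hQM
  have hAD : A ≤ normalizer (D : Set G) :=
    (le_inf hAQ (hAL.trans le_normalizer)).trans inf_normalizer_le_normalizer_inf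
  have hND : normalizer (D : Set G) ≤ M := by
    rcases (inf_le_left : D ≤ (Q : Subgroup G)).lt_or_eq with hlt | heq
    · obtain ⟨L₁, hL₁, hN⟩ := (eq_top_or_exists_le_coatom _).resolve_left
        (TransitivityHyp.normalizer_ne_top hG hDne (Uniqueness.ne_top_of_pGroup hG hDp))
      by_contra hnot
      have hbig : Nat.card D < Nat.card ↥((Q : Subgroup G) ⊓ L₁) :=
        (Uniqueness.isPGroup_lt_inf Q.2 hlt).trans_le (card_le_of_le (inf_le_inf_left _ hN))
      have h1 := hmaxL L₁ ⟨hL₁, fun e => hnot (e ▸ hN), hAD.trans hN, fun h => by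
        rw [h, card_bot] at hbig
        have : 0 < Nat.card D := Nat.card_pos
        omega⟩
      exact absurd h1 (not_le.mpr hbig)
    · exact (congrArg (fun K : Subgroup G => normalizer (K : Set G)) heq).le.trans
        (sylow_normalizer_le hsσ Q hQM)
  have hmax : ∀ T : Subgroup G, IsPGroup s T → T ≤ L → A ≤ normalizer (T : Set G) → D ≤ T → T = D := by
    intro T hT hTL hAT hle
    by_contra hne'
    have hlt := Transfer.lt_inf_normalizer hT (lt_of_le_of_ne hle (Ne.symm hne'))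
    refine hlt.not_ge (le_inf (huniq _ (hT.to_le inf_le_left) (inf_le_right.trans hND) ?_) (inf_le_left.trans hTL))
    exact (le_inf hAT (hAD.trans le_normalizer)).trans inf_normalizer_le_normalizer_inf
  have hfix : D ⊓ centralizer (A : Set G) = ⊥ :=
    le_bot_iff.mp ((inf_le_inf_right _ (inf_le_left.trans hQσ)).trans hC.le)
  have hne2 : ∀ {X : Subgroup G}, X ≤ M → L ≤ X → False := fun hXM hLX => by
    rcases (hLX.trans hXM).lt_or_eq with h' | h'
    · exact hM.1 (hL.2 _ h')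
    · exact hLM h'
  have hsL : s ∉ Cfsg.beta L := fun h => by
    obtain ⟨S, hDS, hSL, hAS⟩ := exists_sylow_beta hG hL hA hU h hAL hDp inf_le_right hAD
    have e := hmax _ S.2 hSL hAS hDS
    rcases (le_of_noncyclic hG hL h S.2 (sylow_not_cyclic h S) hSL hM.1 (e.le.trans hDM)).lt_or_eq with h' | h'
    · exact hL.1 (hM.2 _ h')
    · exact hLM h'.symm
  have hnd : ¬ A ≤ ⁅L, L⁆ := fun h => hDne (le_bot_iff.mp (hfix ▸ le_inf le_rfl (le_centralizer_iff.mp
    (centralizes_of_derived hG hL hsp hsL hA.isPGroup h hDp inf_le_right hAD))))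
  obtain ⟨hpL, -⟩ := sigma_inf_centralizer_of_not_derived hG hL hA hU hAL hnd
  exact hne2 le_rfl (le_of_fpf hG hL hA hAL hpL hsp hDp inf_le_right hAD hmax hfix hND)

/-- S1417 (c), S1418: the maximal subgroup over the centraliser of a fixing line. -/
theorem centralizer_line_unique (hG : Cfsg.IsMinSimpleOddOrder G) (hM : IsCoatom M) (hA : IsPair p A)
    (hAM : A ≤ M) (hp : p ∉ Cfsg.sigma M) {X : Subgroup G} (hXA : X ≤ A) (hXb : X ≠ ⊥)
    (hX : Cfsg.sigmaCore M ⊓ centralizer (X : Set G) ≠ ⊥) :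
    centralizer (X : Set G) ≤ M ∧
      ∀ L : Subgroup G, IsCoatom L → centralizer (X : Set G) ≤ L → L = M := by
  have key : ∀ L : Subgroup G, IsCoatom L → centralizer (X : Set G) ≤ L → L = M := by
    intro L hL hle
    by_contra hne
    exact hX (le_bot_iff.mp ((inf_le_inf_left _ hle).trans (sigmaCore_inf_eq_bot hG hM hA hAM hp hL hne
      ((hA.le_centralizer.trans (Subgroup.centralizer_le hXA)).trans hle)).le))
  obtain ⟨L, hL, hle⟩ := (eq_top_or_exists_le_coatom _).resolve_left (Uniqueness.centralizer_ne_top hG hXb)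
  exact ⟨key L hL hle ▸ hle, key⟩

/-- S1417 (f). -/
theorem exists_fpf_line (hG : Cfsg.IsMinSimpleOddOrder G) (hM : IsCoatom M) (hA : IsPair p A)
    (hAM : A ≤ M) (hp : p ∉ Cfsg.sigma M) :
    ∃ A₁ : Subgroup G, A₁ ≤ A ∧ Nat.card A₁ = p ∧ Cfsg.sigmaCore M ⊓ centralizer (A₁ : Set G) = ⊥ := by
  by_contra h
  push Not at h
  obtain ⟨g, hg, hgM⟩ : ∃ g ∈ normalizer (A : Set G), g ∉ M := by
    simpa [SetLike.not_le_iff_exists] using not_normalizer_le hG hM hA hAM hp
  obtain ⟨a, ha, ha1⟩ := A.ne_bot_iff_exists_ne_one.mp hA.ne_bot |> fun ⟨x, hx⟩ =>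
    (⟨(x : G), x.2, fun e => hx (Subtype.ext e)⟩ : ∃ a ∈ A, a ≠ 1)
  have hb : g * a * g⁻¹ ∈ A := (mem_normalizer_iff.mp hg a).mp ha
  have hb1 : g * a * g⁻¹ ≠ 1 := fun e => ha1 (conj_eq_one_iff.mp e)
  have hline : ∀ x ∈ A, x ≠ 1 → centralizer ({x} : Set G) ≤ M ∧
      ∀ L : Subgroup G, IsCoatom L → centralizer ({x} : Set G) ≤ L → L = M := by
    intro x hx hx1
    have hcard : Nat.card (zpowers x) = p := by rw [Nat.card_zpowers, orderOf_eq_prime (hA.1.2 x hx) hx1]
    have := centralizer_line_unique hG hM hA hAM hp (X := zpowers x) (zpowers_le.mpr hx)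
      (fun e => hx1 (zpowers_eq_bot.mp e)) (h _ (zpowers_le.mpr hx) hcard)
    rwa [zpowers_eq_closure, centralizer_closure] at this
  refine hgM (NonSigma.mem_normalizer_self hG hM (ProperPLength.maximal_ne_bot hG hM)
    ((hline _ hb hb1).2 _ (((MulAut.conj g).mapSubgroup).isCoatom_iff M |>.mpr hM) ?_))
  intro c hc
  refine ⟨g⁻¹ * c * g, (hline a ha ha1).1 (mem_centralizer_singleton_iff.mpr ?_), ?_⟩
  · have h1 := mem_centralizer_singleton_iff.mp hc
    calc g⁻¹ * c * g * a = g⁻¹ * (c * (g * a * g⁻¹)) * g := by group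
      _ = g⁻¹ * ((g * a * g⁻¹) * c) * g := by rw [h1]
      _ = a * (g⁻¹ * c * g) := by group
  · show g * (g⁻¹ * c * g) * g⁻¹ = c
    group

end CfsgLib.TwoGroups.TauTwo
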