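import Cfsg.Agent.Lib.TwoGroups.TauTwoUnique
import Cfsg.Agent.Lib.TwoGroups.TauTwoElements
import Cfsg.Agent.Lib.OddLocal.SylowUnique

/-!
Owner: helper12. Nonabelian `p`-subgroups are uniqueness subgroups.
-/

set_option autoImplicit false

namespace CfsgLib.TwoGroups.TauTwo

open Subgroup

variable {G : Type*} [Group G] [Finite G] {p : ℕ} [Fact p.Prime]

omit [Fact p.Prime] in
theorem rankTwoCentralizer_all (hG : Cfsg.IsMinSimpleOddOrder G) :
    OddLocal.SylowUnique.RankTwoCentralizer G := fun _ hM _ _ _ hA =>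
  rankTwoCentralizer hG hM ⟨hA.2.1, hA.2.2⟩ hA.1

/-- S1422. -/
theorem inUniqueMaximal_of_nonabelian (hG : Cfsg.IsMinSimpleOddOrder G) {P : Subgroup G} (hP : IsPGroup p P)
    (hna : ¬ IsMulCommutative P) : Cfsg.InUniqueMaximal P := by
  have hncy : ∀ {S : Subgroup G}, P ≤ S → ¬ IsCyclic S := fun {S} hle hc => hna (by
    have : IsCyclic P := isCyclic_of_injective (inclusion hle) (inclusion_injective _)
    exact IsCyclic.isMulCommutative)
  obtain ⟨M, hM, hPM⟩ := (eq_top_or_exists_le_coatom _).resolve_left (Uniqueness.ne_top_of_pGroup hG hP)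
  refine ⟨M, ⟨hM, hPM⟩, fun H hH => ?_⟩
  have hσ : ∀ {L : Subgroup G}, IsCoatom L → P ≤ L → p ∈ Cfsg.sigma L := by
    intro L hL hPL
    by_contra hp
    obtain ⟨R, hR⟩ := (hP.comap_subtype (K := L)).exists_le_sylow
    have hc := sylow_commutative hG hL hp R
    have hle : P ≤ (R : Subgroup L).map L.subtype := fun x hx =>
      mem_map.mpr ⟨⟨x, hPL hx⟩, hR (mem_comap.mpr hx), rfl⟩
    refine hna ⟨⟨fun a b => Subtype.ext ?_⟩⟩
    exact congrArg (fun z : (R : Subgroup L).map L.subtype => (z : G))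
      (hc.is_comm.comm (⟨(a : G), hle a.2⟩ : (R : Subgroup L).map L.subtype) ⟨b, hle b.2⟩)
  obtain ⟨S, ⟨hS, hPS, hSM, hSH⟩, hmax⟩ := Set.exists_max_image
    {S : Subgroup G | IsPGroup p S ∧ P ≤ S ∧ S ≤ M ∧ S ≤ H} (fun S => Nat.card S) (Set.toFinite _)
    ⟨P, hP, le_rfl, hPM, hH.2⟩
  obtain ⟨T, hT⟩ := Uniqueness.exists_sylow_eq hS fun R hR hle => by
    by_contra hne
    have hlt := Transfer.lt_inf_normalizer hR (lt_of_le_of_ne hle (Ne.symm hne))
    have h1 := hmax (R ⊓ normalizer (S : Set G)) ⟨hR.to_le inf_le_left, hPS.trans hlt.le,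
      inf_le_right.trans (normalizer_le_of_noncyclic hG hM (hσ hM hPM) hS hSM (hncy hPS)),
      inf_le_right.trans (normalizer_le_of_noncyclic hG hH.1 (hσ hH.1 hH.2) hS hSH (hncy hPS))⟩
    exact absurd (Transfer.card_lt_of_lt hlt) (not_lt.mpr h1)
  have hna' : ¬ IsMulCommutative (T : Subgroup G) := fun hc => hna ⟨⟨fun a b => Subtype.ext
    (congrArg (fun z : (T : Subgroup G) => (z : G)) (hc.is_comm.comm
      (⟨(a : G), hT.ge (hPS a.2)⟩ : (T : Subgroup G)) ⟨b, hT.ge (hPS b.2)⟩))⟩⟩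
  exact (OddLocal.SylowUnique.inUniqueMaximal (rankTwoCentralizer_all hG) hG T hna').unique
    ⟨hH.1, hT.le.trans hSH⟩ ⟨hM, hT.le.trans hSM⟩

end CfsgLib.TwoGroups.TauTwo
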