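import Cfsg.Agent.Lib.TwoGroups.TauTwoBase
import Cfsg.Agent.S1395
import Cfsg.Agent.Lib.TwoGroups.SylowFusion

/-!
Owner: helper12. A pair centralising an element of `M_σ` lies in a Sylow subgroup inside `M'`.
-/

set_option autoImplicit false
set_option linter.unusedSectionVars false

namespace CfsgLib.TwoGroups.TauTwo

open Subgroup
open scoped commutatorElement

variable {G : Type*} [Group G] [Finite G] {p q : ℕ} [Fact p.Prime] [Fact q.Prime] {M A : Subgroup G}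

/-- A Sylow subgroup lies in the derived group of its normaliser. -/
theorem sylow_le_derived_normalizer (hG : Cfsg.IsMinSimpleOddOrder G) (P : Sylow p G) :
    (P : Subgroup G) ≤ ⁅normalizer ((P : Subgroup G) : Set G), normalizer ((P : Subgroup G) : Set G)⁆ := by
  have htop : _root_.commutator G = ⊤ := by
    have := hG.2.1
    rcases IsSimpleGroup.eq_bot_or_eq_top_of_normal (_root_.commutator G) inferInstance with h | h
    · exact absurd ⟨⟨fun a b => commutatorElement_eq_one_iff_mul_comm.mp (mem_bot.mp (h ▸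
        commutator_mem_commutator (mem_top a) (mem_top b)))⟩⟩ hG.2.2.1
    · exact h
  intro s hs
  have h1 : s ∈ (P : Subgroup G).focalSubgroup := by
    rw [← Subgroup.commutator_inf_eq_focalSubgroup P, htop]
    exact ⟨mem_top s, hs⟩
  refine (closure_le _).mpr ?_ h1
  rintro g ⟨hg, x, hx, u, rfl⟩
  have hux : u * x * u⁻¹ ∈ (P : Subgroup G) := by
    rw [show u * x * u⁻¹ = (x⁻¹ * ⁅x, u⁆)⁻¹ by simp [commutatorElement_def, mul_assoc]]
    exact inv_mem (mul_mem (inv_mem hx) hg)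
  obtain ⟨y, hy, he⟩ := SylowFusion.fusion hG (fun H hH => Cfsg.Agent.S1410.result hG p H hH) P
    (Q := zpowers x) (x := u) (zpowers_le.mpr hx) (by
      intro q hq
      obtain ⟨i, rfl⟩ := mem_zpowers_iff.mp hq
      rw [← conj_zpow]
      exact zpow_mem hux i)
  have h3 : ⁅x, u⁆ = ⁅x, y⁆ := by
    have h4 := he x (mem_zpowers x)
    calc ⁅x, u⁆ = x * (u * x * u⁻¹)⁻¹ := by simp [commutatorElement_def, mul_assoc]
      _ = x * (y * x * y⁻¹)⁻¹ := by rw [h4]
      _ = ⁅x, y⁆ := by simp [commutatorElement_def, mul_assoc]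
  rw [h3]
  exact commutator_mem_commutator (le_normalizer hx) hy

theorem maxInv_mem {E Q : Subgroup G} (h : Transitivity.IsMaxInv E q Q) :
    Q ∈ Cfsg.maxInvSubgroups ⊤ E {q} := by
  refine ⟨⟨le_top, fun r hr hd => ?_, h.2.1⟩, fun U hU hle => h.2.2 U ?_ hU.2.2 hle⟩
  · obtain ⟨k, hk⟩ := IsPGroup.iff_card.mp h.1
    rw [hk] at hd
    exact (Nat.prime_dvd_prime_iff_eq hr Fact.out).mp (hr.dvd_of_dvd_pow hd)
  · exact IsPGroup.of_card (n := (Nat.card U).primeFactorsList.length)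
      (Nat.eq_prime_pow_of_unique_prime_dvd Nat.card_pos.ne' (fun {d} hd hdd => hU.2.1 d hd hdd))

theorem sigmaCore_le (M : Subgroup G) : Cfsg.sigmaCore M ≤ M := map_subtype_le _

theorem le_normalizer_sigmaCore (M : Subgroup G) : M ≤ normalizer (Cfsg.sigmaCore M : Set G) := by
  intro m hm
  exact le_normalizer_map M.subtype
    ⟨⟨m, hm⟩, Core.le_normalizer_of_normal ⊤ (Cfsg.piCore (Cfsg.sigma M) ↥M) (mem_top _), rfl⟩

theorem mem_sigma_of_dvd {r : ℕ} (hr : r.Prime) (hd : r ∣ Nat.card (Cfsg.sigmaCore M))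
    (hG : Cfsg.IsMinSimpleOddOrder G) (hM : IsCoatom M) : r ∈ Cfsg.sigma M :=
  (OddLocal.SigmaCore.sigmaCore_hall hG hM).1.2.1 r hr hd

theorem coprime_sigmaCore (hG : Cfsg.IsMinSimpleOddOrder G) (hM : IsCoatom M) (hp : p ∉ Cfsg.sigma M)
    (hA : IsPGroup p A) : (Nat.card A).Coprime (Nat.card (Cfsg.sigmaCore M)) := by
  obtain ⟨k, hk⟩ := IsPGroup.iff_card.mp hA
  rw [hk]
  exact ((Fact.out : p.Prime).coprime_iff_not_dvd.mpr fun hd =>
    hp (mem_sigma_of_dvd Fact.out hd hG hM)).pow_left k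

/-- A subgroup of index prime to `q` in `M_σ` is one in `G`, for `q ∈ σ(M)`. -/
theorem sigma_sylow_top (hG : Cfsg.IsMinSimpleOddOrder G) (hM : IsCoatom M) (hq : q ∈ Cfsg.sigma M)
    (Q : Sylow q (Cfsg.sigmaCore M)) :
    ∃ S : Sylow q G, (S : Subgroup G) = (Q : Subgroup (Cfsg.sigmaCore M)).map (Cfsg.sigmaCore M).subtype := by
  have hd : ¬ q ∣ ((Q : Subgroup (Cfsg.sigmaCore M)).map (Cfsg.sigmaCore M).subtype).index := by
    rw [index_map_subtype, (Fact.out : q.Prime).dvd_mul]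
    push Not
    exact ⟨Q.not_dvd_index, (OddLocal.SigmaCore.sigmaCore_hall hG hM).2.1.2 q Fact.out hq⟩
  exact ⟨(Q.2.map _).toSylow hd, rfl⟩

theorem sylow_isMaxInv (Q : Sylow q G) {E : Subgroup G} (hE : E ≤ normalizer ((Q : Subgroup G) : Set G)) :
    Transitivity.IsMaxInv E q (Q : Subgroup G) :=
  ⟨Q.2, hE, fun _ hR _ hle => Q.3 hR hle⟩

theorem sylow_normalizer_le (hq : q ∈ Cfsg.sigma M) (Q : Sylow q G) (hQM : (Q : Subgroup G) ≤ M) :
    normalizer ((Q : Subgroup G) : Set G) ≤ M := by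
  have h := SigmaTrans.exists_sylow_of_sigma hq (Q.subtype hQM)
  rwa [Sylow.coe_subtype, map_subgroupOf_eq_of_le hQM] at h

/-- A pair centralising an element of order `q` of `M_σ` lies in a Sylow subgroup contained in `M'`. -/
theorem exists_sylow_derived (hG : Cfsg.IsMinSimpleOddOrder G) (hM : IsCoatom M) (hAM : A ≤ M)
    (hA : IsPair p A) (hU : ¬ Cfsg.InUniqueMaximal A) (hp : p ∉ Cfsg.sigma M)
    (hC : q ∣ Nat.card ↥(Cfsg.sigmaCore M ⊓ centralizer (A : Set G))) :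
    ∃ S : Sylow p G, A ≤ (S : Subgroup G) ∧ (S : Subgroup G) ≤ ⁅M, M⁆ ∧
      normalizer ((S : Subgroup G) : Set G) ≤ centralizer (A : Set G) ⊔ M := by
  have hqσ : q ∈ Cfsg.sigma M := mem_sigma_of_dvd Fact.out (hC.trans (card_dvd_of_le inf_le_left)) hG hM
  have hqp : q ≠ p := fun e => hp (e ▸ hqσ)
  have hTH := hA.hypothesis hG hU
  have hqA := hA.not_dvd_prime (q := q) hqp
  obtain ⟨Q₀, hAQ₀⟩ := Core.exists_invariant_sylow (hAM.trans (le_normalizer_sigmaCore M))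
    (coprime_sigmaCore hG hM hp hA.isPGroup) (Or.inl (hG.2.2.2 A (Uniqueness.ne_top_of_pGroup hG hA.isPGroup))) q
  obtain ⟨Q₁, hQ₁⟩ := sigma_sylow_top hG hM hqσ Q₀
  rw [← hQ₁] at hAQ₀
  have hQ₁M : (Q₁ : Subgroup G) ≤ M := hQ₁ ▸ (map_subtype_le _).trans (sigmaCore_le M)
  have hm₁ := sylow_isMaxInv Q₁ hAQ₀
  have hZ : ¬ Cfsg.RankLE 1 ↥(A ⊓ centralizer (A : Set G)) := by
    rw [inf_eq_left.mpr hA.le_centralizer]
    exact fun h => hA.not_rank_one le_rfl (h p Fact.out)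
  have htr : ∀ R₁ ∈ Cfsg.maxInvSubgroups ⊤ A {q}, ∀ R₂ ∈ Cfsg.maxInvSubgroups ⊤ A {q},
      ∃ k ∈ Cfsg.piCoreOf (Cfsg.primesNotDvd (Nat.card A)) (centralizer (A : Set G)),
        R₂ = R₁.map (MulAut.conj k).toMonoidHom := by
    intro R₁ h₁ R₂ h₂
    obtain ⟨k, hk, e⟩ := TransitivityHyp.trans_of_rank_two hG hTH hqA
      (hC.trans (card_dvd_of_le inf_le_right)) hZ (TransitivityHyp.isMaxInv_of_mem h₁)
      (TransitivityHyp.isMaxInv_of_mem h₂)
    exact ⟨k, hk, e.symm⟩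
  obtain ⟨S, hS⟩ := hA.isPGroup.exists_le_sylow
  have hmain := fun (T : Sylow p G) (hT : A ≤ (T : Subgroup G)) =>
    Cfsg.Agent.S1395.main hG hTH q hqA (T : Subgroup G) (Uniqueness.ne_top_of_pGroup hG T.2)
      (fun r hr hd => by
        obtain ⟨k, hk⟩ := IsPGroup.iff_card.mp T.2
        rw [hk] at hd
        rw [(Nat.prime_dvd_prime_iff_eq hr Fact.out).mp (hr.dvd_of_dvd_pow hd)]
        exact hA.dvd_card)
      hT (by have := T.2.isNilpotent; exact Core.isSubnormal_of_isNilpotent _) htr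
  obtain ⟨-, -, hsub, hd⟩ := hmain S hS
  obtain ⟨Q, -, hQ⟩ := Transitivity.exists_maxInv (G := G) (q := q) (E := (S : Subgroup G))
    (R := ⊥) IsPGroup.of_bot (fun x _ => mem_normalizer_iff.mpr fun y => by simp)
  obtain ⟨k, hk, e⟩ := htr Q (hsub (maxInv_mem hQ)) _ (maxInv_mem hm₁)
  have hkA : k ∈ centralizer (A : Set G) := map_subtype_le _ hk
  set S₀ : Sylow p G := k • S with hS₀
  have hAS₀ : A ≤ (S₀ : Subgroup G) := fun a ha => by
    rw [hS₀, Transfer.mem_sylow_smul, mul_assoc, mem_centralizer_iff.mp hkA a ha,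
      inv_mul_cancel_left]
    exact hS ha
  have hS₀N : (S₀ : Subgroup G) ≤ normalizer ((Q₁ : Subgroup G) : Set G) := by
    intro x hx
    rw [hS₀, Transfer.mem_sylow_smul] at hx
    have h1 := le_normalizer_map (MulAut.conj k).toMonoidHom ⟨_, hQ.2.1 hx, rfl⟩
    rw [← e] at h1
    simpa [mul_assoc] using h1
  obtain ⟨-, -, -, hd₀⟩ := hmain S₀ hAS₀
  obtain ⟨h1, h2⟩ := hd₀ _ (maxInv_mem (sylow_isMaxInv Q₁ hS₀N))
  have hNM := sylow_normalizer_le hqσ Q₁ hQ₁M
  refine ⟨S₀, hAS₀, ?_, ?_⟩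
  · exact (le_inf le_rfl (sylow_le_derived_normalizer hG S₀)).trans (h1.trans (commutator_mono hNM hNM))
  · rw [h2]
    exact sup_le (le_sup_of_le_left ((map_subtype_le _).trans (centralizer_le hAS₀)))
      (le_sup_of_le_right (inf_le_right.trans hNM))

end CfsgLib.TwoGroups.TauTwo
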