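import Cfsg.Agent.Lib.Signalizer.Transitivity
import Cfsg.Agent.Lib.PLocal.PConstrained
import Cfsg.Agent.Lib.Components.Subnormal
import Cfsg.Agent.S1302
import Cfsg.Prelude.Def_OddOrderLocal

/-!
Owner: helper12. Thompson transitivity for an abelian `p`-subgroup in groups with constrained
`p`-locals, and the signalizer lemma for Sylow subgroups of class two.
-/

set_option autoImplicit false

namespace CfsgLib.TwoGroups.Transitivity

open Subgroup
open scoped commutatorElement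

variable {G : Type*} [Group G]

/-- A `p'`-subgroup normalised by an abelian `p`-subgroup which contains all `p`-elements of its
centraliser lies in the `p'`-core, when the Sylow subgroups have class two. -/
theorem le_pPrimeCore_of_class_two [Finite G] (p : ℕ) [Fact p.Prime]
    (hX : Cfsg.IsPConstrained p G)
    (hcl : ∀ S : Subgroup G, IsPGroup p S → ∀ x ∈ S, ∀ y ∈ S, ∀ z ∈ S, ⁅⁅x, y⁆, z⁆ = 1)
    (A : Subgroup G) (hAp : IsPGroup p A)
    (hfull : ∀ x ∈ centralizer (A : Set G), IsPGroup p (zpowers x) → x ∈ A)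
    (Q : Subgroup G) (hQ : ¬ p ∣ Nat.card Q) (hAQ : A ≤ normalizer (Q : Set G)) :
    Q ≤ Cfsg.pPrimeCore p G := by
  have hpp : p.Prime := Fact.out
  set O := Cfsg.pPrimeCore p G
  have hO : (Nat.card O).Coprime p := Core.coprime_card_pPrimeCore p G
  let π := QuotientGroup.mk' O
  set R := Cfsg.pCore p (G ⧸ O) with hR
  set Ab := A.map π with hAb
  set Qb := Q.map π with hQb
  have hRp : IsPGroup p R := Core.isPGroup_pCore p _
  have hc : centralizer (R : Set (G ⧸ O)) ≤ R := PLocal.isPConstrained_iff.mp hX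
  have hAbp : IsPGroup p Ab := hAp.map π
  have hQbc : (Nat.card Qb).Coprime p :=
    (hpp.coprime_iff_not_dvd.mpr fun hd => hQ (hd.trans (Q.card_map_dvd π))).symm
  have hAQb : Ab ≤ normalizer (Qb : Set (G ⧸ O)) := (map_mono hAQ).trans (le_normalizer_map π)
  have hRQ : R ⊓ Qb = ⊥ := by
    obtain ⟨k, hk⟩ := IsPGroup.iff_card.mp hRp
    exact (disjoint_of_coprime_natCard (by rw [hk]; exact hQbc.symm.pow_left k)).eq_bot
  -- fixed points of `Ab` on `R` lie in `Ab`
  have hfix : ∀ x ∈ R, x ∈ centralizer (Ab : Set (G ⧸ O)) → x ∈ Ab := by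
    intro x hx hxc
    rw [hAb, ← PLocal.map_centralizer_eq O hO hAp] at hxc
    obtain ⟨g, hg, rfl⟩ := hxc
    obtain ⟨e, he⟩ := hRp ⟨π g, hx⟩
    have hgO : g ^ p ^ e ∈ O :=
      (QuotientGroup.eq_one_iff _).mp ((map_pow π g _).trans (congrArg Subtype.val he))
    have h1 : (g ^ Nat.card O) ^ p ^ e = 1 := by
      rw [← pow_mul, mul_comm, pow_mul]
      exact orderOf_dvd_iff_pow_eq_one.mp (Subgroup.orderOf_dvd_natCard _ hgO)
    have h2 : g ^ Nat.card O ∈ A := by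
      refine hfull _ (pow_mem hg _) ?_
      intro u
      obtain ⟨j, hj⟩ := mem_zpowers_iff.mp u.2
      refine ⟨e, Subtype.ext ?_⟩
      show (u : G) ^ p ^ e = 1
      rw [← hj, ← zpow_natCast, ← zpow_mul, mul_comm, zpow_mul, zpow_natCast, h1, one_zpow]
    obtain ⟨k, hk⟩ := exists_pow_eq_self_of_coprime (x := π g) (n := Nat.card O)
      ((hO.pow_right e).coprime_dvd_right (orderOf_dvd_of_pow_eq_one (congrArg Subtype.val he)))
    rw [← hk, ← map_pow, ← map_pow]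
    exact mem_map_of_mem π (pow_mem h2 k)
  have hfixQ : R ⊓ centralizer (Ab : Set (G ⧸ O)) ≤ centralizer (Qb : Set (G ⧸ O)) := by
    rintro h ⟨hh, hhc⟩
    refine mem_centralizer_iff.mpr fun k hk => ?_
    have : k * h * k⁻¹ * h⁻¹ ∈ R ⊓ Qb := by
      refine ⟨R.mul_mem ((inferInstance : R.Normal).conj_mem h hh k) (R.inv_mem hh), ?_⟩
      rw [show k * h * k⁻¹ * h⁻¹ = k * (h * k⁻¹ * h⁻¹) by group]
      exact Qb.mul_mem hk ((mem_normalizer_iff.mp (hAQb (hfix h hh hhc)) _).mp (Qb.inv_mem hk))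
    rw [hRQ, mem_bot, mul_inv_eq_one, mul_inv_eq_iff_eq_mul] at this
    exact this
  -- commutators of `Ab` and `R` are fixed points
  have hcomm : ∀ a ∈ Ab, ∀ r ∈ R, a * r * a⁻¹ * r⁻¹ ∈ R ⊓ centralizer (Ab : Set (G ⧸ O)) := by
    intro a ha r hr
    refine ⟨R.mul_mem ((inferInstance : R.Normal).conj_mem r hr a) (R.inv_mem hr), ?_⟩
    refine mem_centralizer_iff.mpr fun b hb => ?_
    have hS : IsPGroup p ↥(R ⊔ Ab) :=
      IsPGroup.to_sup_of_normal_left hRp hAbp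
    obtain ⟨T, hT⟩ := hS.exists_le_sylow
    obtain ⟨P₀⟩ : Nonempty (Sylow p G) := inferInstance
    obtain ⟨g, hg⟩ := MulAction.exists_smul_eq (G ⧸ O)
      (P₀.mapSurjective (QuotientGroup.mk'_surjective O)) T
    obtain ⟨g', rfl⟩ := QuotientGroup.mk'_surjective O g
    have hlift : ∀ x ∈ R ⊔ Ab, ∃ y ∈ ((g' • P₀ : Sylow p G) : Subgroup G), π y = x := by
      intro x hx
      have hx' := hT hx
      rw [← hg] at hx'
      obtain ⟨y, hy, rfl⟩ := hx'
      obtain ⟨z, hz, rfl⟩ := hy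
      exact ⟨g' * z * g'⁻¹, ⟨z, hz, rfl⟩, by simp [π]⟩
    obtain ⟨a', ha', rfl⟩ := hlift a (mem_sup_right ha)
    obtain ⟨r', hr', rfl⟩ := hlift r (mem_sup_left hr)
    obtain ⟨b', hb', rfl⟩ := hlift b (mem_sup_right hb)
    have := congrArg π (hcl _ (g' • P₀).2 a' ha' r' hr' b' hb')
    rw [map_one, map_commutatorElement, map_commutatorElement,
      commutatorElement_eq_one_iff_mul_comm, commutatorElement_def] at this
    exact this.symm
  -- `Qb` centralises `Ab`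
  have hQA : Ab ≤ centralizer (Qb : Set (G ⧸ O)) := by
    intro a ha
    refine mem_centralizer_iff.mpr fun k hk => ?_
    set c := a * k * a⁻¹ * k⁻¹ with hc'
    have hcQ : c ∈ Qb := Qb.mul_mem ((mem_normalizer_iff.mp (hAQb ha) k).mp hk) (Qb.inv_mem hk)
    have hcR : c ∈ centralizer (R : Set (G ⧸ O)) := by
      refine mem_centralizer_iff.mpr fun r hr => ?_
      set r₁ := k⁻¹ * r * k with hr₁
      have hr₁R : r₁ ∈ R := by
        have := (inferInstance : R.Normal).conj_mem r hr k⁻¹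
        rwa [inv_inv] at this
      obtain ⟨z₁, hz₁, e₁⟩ : ∃ z ∈ R ⊓ centralizer (Ab : Set (G ⧸ O)), a⁻¹ * r₁ * a = z * r₁ :=
        ⟨_, hcomm a⁻¹ (Ab.inv_mem ha) r₁ hr₁R, by group⟩
      obtain ⟨z₂, hz₂, e₂⟩ : ∃ z ∈ R ⊓ centralizer (Ab : Set (G ⧸ O)), a * r * a⁻¹ = z * r :=
        ⟨_, hcomm a ha r hr, by group⟩
      have hfz : ∀ z ∈ R ⊓ centralizer (Ab : Set (G ⧸ O)), ∀ y ∈ Qb, y * z = z * y :=
        fun z hz y hy => mem_centralizer_iff.mp (hfixQ hz) y hy
      have hk₁ : k * z₁ * k⁻¹ = z₁ := by rw [hfz z₁ hz₁ k hk, mul_inv_cancel_right]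
      have ha₁ : a * z₁ * a⁻¹ = z₁ := by
        rw [mem_centralizer_iff.mp hz₁.2 a ha, mul_inv_cancel_right]
      have step : c * r * c⁻¹ = (z₁ * z₂) * r := by
        calc c * r * c⁻¹ = a * (k * (a⁻¹ * r₁ * a) * k⁻¹) * a⁻¹ := by rw [hc', hr₁]; group
          _ = a * (k * z₁ * k⁻¹ * r) * a⁻¹ := by rw [e₁, hr₁]; group
          _ = (a * z₁ * a⁻¹) * (a * r * a⁻¹) := by rw [hk₁]; group
          _ = (z₁ * z₂) * r := by rw [ha₁, e₂, mul_assoc]
      set w := z₁ * z₂ with hw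
      have hwc : c * w * c⁻¹ = w := by
        rw [hfz w (mul_mem hz₁ hz₂) c hcQ, mul_inv_cancel_right]
      have hpow : ∀ n : ℕ, c ^ n * r * (c ^ n)⁻¹ = w ^ n * r := by
        intro n
        induction n with
        | zero => simp
        | succ n ih =>
          calc c ^ (n + 1) * r * (c ^ (n + 1))⁻¹ = c * (c ^ n * r * (c ^ n)⁻¹) * c⁻¹ := by
                rw [pow_succ']; group
            _ = (c * w * c⁻¹) ^ n * (c * r * c⁻¹) := by rw [ih, conj_pow]; group
            _ = w ^ (n + 1) * r := by rw [hwc, step, pow_succ]; group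
      have h5 := hpow (orderOf c)
      rw [pow_orderOf_eq_one, one_mul, inv_one, mul_one, eq_comm, mul_eq_right] at h5
      obtain ⟨m, hm⟩ := hRp ⟨w, R.mul_mem hz₁.1 hz₂.1⟩
      have hw1 : w = 1 := orderOf_eq_one_iff.1 (Nat.eq_one_of_dvd_coprimes
        ((hQbc.coprime_dvd_left (Qb.orderOf_dvd_natCard hcQ)).pow_right m)
        (orderOf_dvd_of_pow_eq_one h5) (orderOf_dvd_of_pow_eq_one (congrArg Subtype.val hm)))
      rw [hw1, one_mul] at step
      exact (mul_inv_eq_iff_eq_mul.mp step).symm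
    have hc1 : c = 1 := by
      have : c ∈ R ⊓ Qb := ⟨hc hcR, hcQ⟩
      rwa [hRQ, mem_bot] at this
    rw [hc', mul_inv_eq_one, mul_inv_eq_iff_eq_mul] at hc1
    exact hc1.symm
  have hbot : Qb = ⊥ := PLocal.eq_bot_of_centralizes hc hAbp hQbc hQA hfixQ
  exact fun x hx => (QuotientGroup.eq_one_iff x).mp
    ((Subgroup.eq_bot_iff_forall _).mp hbot _ (mem_map_of_mem π hx))

variable {p q : ℕ} [Fact p.Prime] [Fact q.Prime]

/-- A maximal `q`-subgroup normalised by `E`. -/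
def IsMaxInv (E : Subgroup G) (q : ℕ) (Q : Subgroup G) : Prop :=
  IsPGroup q Q ∧ E ≤ normalizer (Q : Set G) ∧
    ∀ R : Subgroup G, IsPGroup q R → E ≤ normalizer (R : Set G) → Q ≤ R → R = Q

omit [Fact q.Prime] in
theorem exists_maxInv [Finite G] {E R : Subgroup G} (hR : IsPGroup q R)
    (hER : E ≤ normalizer (R : Set G)) : ∃ Q, R ≤ Q ∧ IsMaxInv E q Q := by
  obtain ⟨Q, hQ, ⟨hQq, hQE⟩, hmax⟩ := Set.Finite.exists_le_maximal
    (s := {U : Subgroup G | IsPGroup q U ∧ E ≤ normalizer (U : Set G)})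
    (Set.toFinite _) (a := R) ⟨hR, hER⟩
  exact ⟨Q, hQ, hQq, hQE, fun U hU hUE hle => le_antisymm (hmax ⟨hU, hUE⟩ hle) hle⟩

omit [Fact q.Prime] in
theorem map_conj_maxInv {E Q : Subgroup G} {c : G} (hc : c ∈ centralizer (E : Set G))
    (hQ : IsMaxInv E q Q) : IsMaxInv E q (Q.map (MulAut.conj c).toMonoidHom) := by
  have key : ∀ d ∈ centralizer (E : Set G), ∀ U : Subgroup G, E ≤ normalizer (U : Set G) →
      E ≤ normalizer (U.map (MulAut.conj d).toMonoidHom : Set G) := by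
    intro d hd U hU e he
    rw [mem_normalizer_iff]
    intro y
    rw [Transfer.mem_map_conj, Transfer.mem_map_conj]
    have h1 : Commute e d := mem_centralizer_iff.mp hd e he
    rw [show d⁻¹ * (e * y * e⁻¹) * d = (d⁻¹ * e) * y * (e⁻¹ * d) by group, ← h1.inv_right.eq,
      h1.inv_left.eq, show e * d⁻¹ * y * (d * e⁻¹) = e * (d⁻¹ * y * d) * e⁻¹ by group]
    exact mem_normalizer_iff.mp (hU he) _
  refine ⟨hQ.1.map _, key c hc Q hQ.2.1, fun R hR hRE hle => ?_⟩
  have e := hQ.2.2 _ (hR.map _) (key c⁻¹ (inv_mem hc) R hRE) (fun x hx => by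
    refine ⟨c * x * c⁻¹, hle ⟨x, hx, rfl⟩, ?_⟩
    show c⁻¹ * (c * x * c⁻¹) * c⁻¹⁻¹ = x
    group)
  rw [← e]
  ext x
  rw [Transfer.mem_map_conj, Transfer.mem_map_conj, inv_inv,
    show c * (c⁻¹ * x * c) * c⁻¹ = x by group]

/-- The transitivity theorem, from the local signalizer property. -/
theorem transitivity [Finite G] {E A K : Subgroup G} (hqp : q ≠ p) (hEp : IsPGroup p E)
    (hEc : IsMulCommutative E) (hAE : A ≤ E) (hA : Cfsg.IsElementaryAbelian p A)
    (hA3 : p ^ 3 ≤ Nat.card A) (hKE : K ≤ centralizer (E : Set G))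
    (M : G → Subgroup G)
    (hM : ∀ a ∈ A, a ≠ 1 → ¬ p ∣ Nat.card (M a) ∧ E ≤ normalizer (M a : Set G) ∧
      M a ⊓ centralizer (E : Set G) ≤ K ∧
      ∀ Q : Subgroup G, IsPGroup q Q → E ≤ normalizer (Q : Set G) → Q ≤ centralizer {a} → Q ≤ M a)
    {Q₁ Q₂ : Subgroup G} (hQ₁ : IsMaxInv E q Q₁) (hQ₂ : IsMaxInv E q Q₂) :
    ∃ c ∈ K, Q₁.map (MulAut.conj c).toMonoidHom = Q₂ := by
  have hEs : Group.IsSolvable E := by
    have := hEp.isNilpotent
    infer_instance
  suffices key : ∀ n : ℕ, ∀ Q₁ Q₂ : Subgroup G, IsMaxInv E q Q₁ → IsMaxInv E q Q₂ →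
      Nat.card G - Nat.card ↥(Q₁ ⊓ Q₂) = n →
      ∃ c ∈ K, Q₁.map (MulAut.conj c).toMonoidHom = Q₂ from key _ Q₁ Q₂ hQ₁ hQ₂ rfl
  intro n
  induction n using Nat.strong_induction_on with
  | _ n ih =>
    intro Q₁ Q₂ hQ₁ hQ₂ hn
    have hconj1 : ∀ Q : Subgroup G, Q.map (MulAut.conj (1 : G)).toMonoidHom = Q := fun Q => by
      ext x; rw [CfsgLib.Transfer.mem_map_conj]; simp
    by_cases h1 : Q₁ ⊓ Q₂ = Q₁
    · exact ⟨1, one_mem _, by
        rw [hconj1]; exact (hQ₁.2.2 Q₂ hQ₂.1 hQ₂.2.1 (h1 ▸ inf_le_right)).symm⟩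
    by_cases h2 : Q₁ ⊓ Q₂ = Q₂
    · exact ⟨1, one_mem _, by rw [hconj1]; exact hQ₂.2.2 Q₁ hQ₁.1 hQ₁.2.1 (h2 ▸ inf_le_left)⟩
    obtain hD : ∃ D, D = Q₁ ⊓ Q₂ := ⟨_, rfl⟩
    obtain ⟨D, hD⟩ := hD
    obtain ⟨a, ha, ha1, hg1, hg2⟩ := Signalizer.exists_common_growth hA hA3 hqp hQ₁.1 hQ₂.1
      (hAE.trans hQ₁.2.1) (hAE.trans hQ₂.2.1) h1 h2
    rw [← hD] at hg1 hg2 hn
    obtain ⟨hMp, hMn, hMK, hMQ⟩ := hM a ha ha1
    have hED : E ≤ normalizer (D : Set G) :=
      hD ▸ (le_inf hQ₁.2.1 hQ₂.2.1).trans inf_normalizer_le_normalizer_inf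
    have hEa : E ≤ normalizer (centralizer ({a} : Set G) : Set G) := by
      refine le_trans (fun e he => mem_centralizer_singleton_iff.mpr ?_) le_normalizer
      exact congrArg Subtype.val (hEc.is_comm.comm (⟨e, he⟩ : E) ⟨a, hAE ha⟩)
    set H := M a ⊓ normalizer (D : Set G) with hH
    have hEH : E ≤ normalizer (H : Set G) :=
      (le_inf hMn (hED.trans le_normalizer)).trans inf_normalizer_le_normalizer_inf
    have hcop : (Nat.card E).Coprime (Nat.card H) :=
      Signalizer.coprime_card_of_pGroup hEp fun hd => hMp (hd.trans (card_dvd_of_le inf_le_left))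
    have hR : ∀ Q : Subgroup G, IsMaxInv E q Q →
        ∃ S : Sylow q H, normalizer (D : Set G) ⊓ Q ⊓ centralizer {a} ≤
          (S : Subgroup H).map H.subtype ∧
          E ≤ normalizer ((S : Subgroup H).map H.subtype : Set G) := by
      intro Q hQ
      have hN : E ≤ normalizer
          ((normalizer (D : Set G) ⊓ Q ⊓ centralizer {a} : Subgroup G) : Set G) :=
        (le_inf ((le_inf (hED.trans le_normalizer) hQ.2.1).trans inf_normalizer_le_normalizer_inf)
          hEa).trans inf_normalizer_le_normalizer_inf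
      have hq : IsPGroup q ↥(normalizer (D : Set G) ⊓ Q ⊓ centralizer {a}) :=
        hQ.1.to_le (inf_le_left.trans inf_le_right)
      exact Core.exists_invariant_sylow_ge hEH hcop (Or.inl hEs)
        (le_inf (hMQ _ hq hN inf_le_right) (inf_le_left.trans inf_le_left)) hq hN
    obtain ⟨S₁, hS₁, hES₁⟩ := hR Q₁ hQ₁
    obtain ⟨S₂, hS₂, hES₂⟩ := hR Q₂ hQ₂
    obtain ⟨c, hcE, hc⟩ := Core.invariant_sylow_conj hEH hcop (Or.inl hEs) S₁ S₂ hES₁ hES₂
    have hcK : (c : G) ∈ K := hMK ⟨c.2.1, hcE⟩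
    set T₂ := (S₂ : Subgroup H).map H.subtype
    have hT₂N : T₂ ≤ normalizer (D : Set G) := (map_subtype_le _).trans inf_le_right
    obtain ⟨Q₃, hQ₃le, hQ₃⟩ := exists_maxInv
      (Components.isPGroup_sup hT₂N (hQ₁.1.to_le (hD ▸ inf_le_left)) (S₂.2.map _))
      ((le_inf hED hES₂).trans (normalizer_inf_normalizer_le_normalizer_sup _ _))
    have hcard : ∀ {U V : Subgroup G}, D < U ⊓ V →
        Nat.card G - Nat.card ↥(U ⊓ V) < n := by
      intro U V hlt
      have := CfsgLib.Transfer.card_lt_of_lt hlt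
      have := Subgroup.card_le_card_group (U ⊓ V)
      omega
    have hc1 : D < Q₁.map (MulAut.conj (c : G)).toMonoidHom ⊓ Q₃ := by
      have hcN : (c : G) ∈ normalizer (D : Set G) := c.2.2
      refine lt_of_le_of_ne (le_inf ?_ (le_sup_left.trans hQ₃le)) fun e => hg1 ?_
      · intro x hx
        rw [CfsgLib.Transfer.mem_map_conj]
        exact (hD.le ((mem_normalizer_iff''.mp hcN x).mp hx)).1
      · intro x hx
        have hx' : (c : G) * x * (c : G)⁻¹ ∈ T₂ := by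
          obtain ⟨s, hs, rfl⟩ := hS₁ hx
          refine ⟨c * s * c⁻¹, ?_, rfl⟩
          rw [← hc]
          show c * s * c⁻¹ ∈ ((c • S₁ : Sylow q H) : Subgroup H)
          rw [CfsgLib.Transfer.mem_sylow_smul]
          simpa [mul_assoc] using (show s ∈ (S₁ : Subgroup H) from hs)
        have h3 : (c : G) * x * (c : G)⁻¹ ∈ D :=
          e.ge ⟨⟨x, hx.1.2, rfl⟩, hQ₃le (mem_sup_right hx')⟩
        exact (mem_normalizer_iff.mp hcN x).mpr h3
    have hc2 : D < Q₃ ⊓ Q₂ := by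
      refine lt_of_le_of_ne (le_inf (le_sup_left.trans hQ₃le) (hD ▸ inf_le_right))
        fun e => hg2 ?_
      exact fun x hx => e.ge ⟨hQ₃le (mem_sup_right (hS₂ hx)), hx.1.2⟩
    obtain ⟨d, hd, hd'⟩ := ih _ (hcard hc1) _ _ (map_conj_maxInv (hKE hcK) hQ₁) hQ₃ rfl
    obtain ⟨e, he, he'⟩ := ih _ (hcard hc2) _ _ hQ₃ hQ₂ rfl
    refine ⟨e * d * c, mul_mem (mul_mem he hd) hcK, ?_⟩
    rw [← he', ← hd', Subgroup.map_map, Subgroup.map_map]
    congr 1
    ext x
    simp [mul_assoc]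

/-- The transitivity theorem, from the signalizer lemma in normalisers of cyclic subgroups. -/
theorem transitivity_piCore [Finite G] {E A : Subgroup G} (hqp : q ≠ p) (hEp : IsPGroup p E)
    (hEc : IsMulCommutative E) (hAE : A ≤ E) (hA : Cfsg.IsElementaryAbelian p A)
    (hA3 : p ^ 3 ≤ Nat.card A)
    (hsig : ∀ a ∈ A, a ≠ 1 → ∀ Q : Subgroup ↥(normalizer (zpowers a : Set G)),
      ¬ p ∣ Nat.card Q → E.subgroupOf (normalizer (zpowers a : Set G)) ≤ normalizer (Q : Set _) →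
        Q ≤ Cfsg.pPrimeCore p ↥(normalizer (zpowers a : Set G)))
    {Q₁ Q₂ : Subgroup G} (hQ₁ : IsMaxInv E q Q₁) (hQ₂ : IsMaxInv E q Q₂) :
    ∃ c ∈ Cfsg.piCoreOf (Cfsg.primesNotDvd p) (centralizer (E : Set G)),
      Q₁.map (MulAut.conj c).toMonoidHom = Q₂ := by
  refine transitivity hqp hEp hEc hAE hA hA3 (map_subtype_le _)
    (fun a => (Cfsg.pPrimeCore p ↥(normalizer (zpowers a : Set G))).map
      (normalizer (zpowers a : Set G)).subtype) ?_ hQ₁ hQ₂
  intro a ha ha1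
  set N := normalizer (zpowers a : Set G) with hN
  have hcN : centralizer ({a} : Set G) ≤ N := by
    refine le_trans (fun x hx => mem_centralizer_iff.mpr fun y hy => ?_) (centralizer_le_normalizer _)
    obtain ⟨j, rfl⟩ := mem_zpowers_iff.mp hy
    have hax : Commute a x := (mem_centralizer_singleton_iff.mp hx).symm
    exact hax.zpow_left j
  have hEN : E ≤ N := fun e he => hcN (mem_centralizer_singleton_iff.mpr
    (congrArg Subtype.val (hEc.is_comm.comm (⟨e, he⟩ : E) ⟨a, hAE ha⟩)))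
  set M := (Cfsg.pPrimeCore p ↥N).map N.subtype with hM
  have hMp : ¬ p ∣ Nat.card M := by
    rw [hM, card_map_of_injective N.subtype_injective]
    exact (Nat.Prime.coprime_iff_not_dvd Fact.out).mp (Core.coprime_card_pPrimeCore p ↥N).symm
  have hMn : N ≤ normalizer (M : Set G) := by
    intro x hx
    rw [mem_normalizer_iff]
    intro y
    constructor
    · rintro ⟨z, hz, rfl⟩
      exact ⟨⟨x, hx⟩ * z * ⟨x, hx⟩⁻¹,
        (inferInstance : (Cfsg.pPrimeCore p ↥N).Normal).conj_mem z hz _, rfl⟩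
    · rintro ⟨z, hz, he⟩
      refine ⟨⟨x, hx⟩⁻¹ * z * ⟨x, hx⟩⁻¹⁻¹,
        (inferInstance : (Cfsg.pPrimeCore p ↥N).Normal).conj_mem z hz _, ?_⟩
      show x⁻¹ * (z : G) * x⁻¹⁻¹ = y
      rw [show (z : G) = x * y * x⁻¹ from he]
      group
  refine ⟨hMp, hEN.trans hMn, ?_, fun Q hQ hQE hQa => ?_⟩
  · have hCN : centralizer (E : Set G) ≤ N :=
      (centralizer_le (Set.singleton_subset_iff.mpr (hAE ha))).trans hcN
    intro x hx
    refine ⟨⟨x, hx.2⟩, (le_sSup (s := {N' : Subgroup ↥(centralizer (E : Set G)) | N'.Normal ∧ _})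
      (a := M.subgroupOf (centralizer (E : Set G))) ⟨?_, ?_⟩) hx.1, rfl⟩
    · exact normal_subgroupOf_iff_le_normalizer_inf.mpr
        ((le_inf (hCN.trans hMn) le_normalizer).trans inf_normalizer_le_normalizer_inf)
    · intro r hr hrd
      refine ⟨hr, fun hrp => hMp ?_⟩
      rw [(Nat.prime_dvd_prime_iff_eq hr Fact.out).mp hrp] at hrd
      rw [← inf_subgroupOf_right, Nat.card_congr (subgroupOfEquivOfLe inf_le_right).toEquiv] at hrd
      exact hrd.trans (card_dvd_of_le inf_le_left)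
  · have hQN : Q ≤ N := hQa.trans hcN
    have hc : Nat.card (Q.subgroupOf N) = Nat.card Q :=
      Nat.card_congr (subgroupOfEquivOfLe hQN).toEquiv
    have h := hsig a ha ha1 (Q.subgroupOf N) (by
      rw [hc]
      intro hd
      obtain ⟨k, hk⟩ := IsPGroup.iff_card.mp hQ
      rw [hk] at hd
      exact hqp ((Nat.prime_dvd_prime_iff_eq Fact.out Fact.out).mp
        ((Fact.out : p.Prime).dvd_of_dvd_pow hd)).symm)
      (fun e he => mem_normalizer_iff.mpr fun y => mem_normalizer_iff.mp (hQE he) (y : G))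
    exact fun x hx => ⟨⟨x, hQN hx⟩, h hx, rfl⟩

end CfsgLib.TwoGroups.Transitivity
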