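import Cfsg.Agent.Lib.TwoGroups.ColourLines
import Cfsg.Agent.Lib.TwoGroups.SCNCriterion
import Cfsg.Agent.Lib.Signalizer.Factorization
import Cfsg.Agent.Lib.Core.Hall
import Cfsg.Agent.S1451

/-!
Owner: helper12. Two maximal subgroups cannot both carry a colour: a prime `q ≠ p` with two lines,
normalised by `A` and centralised by noncyclic subgroups of `B₀`, generating a uniqueness subgroup.
-/

set_option autoImplicit false

namespace CfsgLib.TwoGroups.TwoColours

open Subgroup
open scoped Pointwise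

variable {G : Type*} [Group G] [Finite G] {p : ℕ} [Fact p.Prime]

theorem not_rank_of_elementary {q : ℕ} [Fact q.Prime] {k : ℕ} {E X : Subgroup G} (hEX : E ≤ X)
    (hE : Cfsg.IsElementaryAbelian q E) (hk : q ^ (k + 1) ≤ Nat.card E) :
    ¬ Cfsg.PRankLE q k X := by
  intro h
  have h1 := h (E.subgroupOf X) ⟨⟨fun u v => Subtype.ext (Subtype.ext
    (Signalizer.elementary_comm hE u.2 v.2))⟩⟩ (fun a ha => Subtype.ext (hE.2 _ ha))
  rw [Nat.card_congr (subgroupOfEquivOfLe hEX).toEquiv] at h1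
  have := (Nat.pow_lt_pow_right (Fact.out : q.Prime).one_lt (Nat.lt_succ_self k)).trans_le hk
  omega

omit [Finite G] in
theorem elementary_map_conj {q : ℕ} {E : Subgroup G} (hE : Cfsg.IsElementaryAbelian q E) (g : G) :
    Cfsg.IsElementaryAbelian q (E.map (MulAut.conj g).toMonoidHom) := by
  have := hE.1
  refine ⟨inferInstance, ?_⟩
  rintro _ ⟨a, ha, rfl⟩
  rw [← map_pow, hE.2 a ha, map_one]

theorem rank_centralizer_conj {q : ℕ} [Fact q.Prime] {L : Subgroup G}
    (hL : ¬ Cfsg.PRankLE q 2 (centralizer (L : Set G))) (g : G) :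
    ¬ Cfsg.PRankLE q 2 (centralizer (L.map (MulAut.conj g).toMonoidHom : Set G)) := by
  obtain ⟨E, hEC, hE, hE3⟩ := Uniqueness.exists_elementary_of_not_rank hL
  refine not_rank_of_elementary (E := E.map (MulAut.conj g).toMonoidHom) ?_
    (elementary_map_conj hE g) (by rwa [Transfer.card_map_conj])
  rintro _ ⟨x, hx, rfl⟩
  refine mem_centralizer_iff.mpr ?_
  rintro _ ⟨l, hl, rfl⟩
  rw [← map_mul, ← map_mul]
  exact congrArg _ (mem_centralizer_iff.mp (hEC hx) l hl)

/-- A subgroup `A` outside the uniqueness family, with `B₀` elementary of order `p ^ 3`. -/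
structure Setup (G : Type*) [Group G] [Finite G] (p : ℕ) (A B₀ : Subgroup G) : Prop where
  min : Cfsg.IsMinSimpleOddOrder G
  comm : IsMulCommutative A
  pgroup : IsPGroup p A
  th : Cfsg.TransitivityHypothesis A
  rank : ¬ Cfsg.RankLE 2 ↥(A ⊓ centralizer (A : Set G))
  le : B₀ ≤ A
  elem : Cfsg.IsElementaryAbelian p B₀
  card : Nat.card B₀ = p ^ 3
  noU : ∀ E : Subgroup G, Cfsg.IsElementaryAbelian p E → p ^ 3 ≤ Nat.card E →
    ¬ Cfsg.InUniqueMaximal E
  no : ∀ B W : Subgroup G, B ≤ B₀ → p ^ 2 ≤ Nat.card B → Cfsg.InUniqueMaximal W →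
    ¬ W ≤ centralizer (B : Set G)

/-- A colour of a maximal subgroup. -/
structure Colour (p : ℕ) (A B₀ M : Subgroup G) (q : ℕ) : Prop where
  prime : q.Prime
  ne : q ≠ p
  good : Good G q
  inM : ∀ X : Subgroup G, IsPGroup q X → A ≤ normalizer (X : Set G) → X ≤ M
  cent : centralizer (A : Set G) ≤ M
  out : ∀ H : Subgroup G, IsCoatom H → H ≠ M →
    ∃ L B : Subgroup G, Line p q A B₀ B L ∧ ¬ L ≤ H ∧ normalizer (L : Set G) ≤ M

variable {A B₀ : Subgroup G}

theorem Setup.not_dvd_card (hs : Setup G p A B₀) {q : ℕ} (hq : q.Prime) (hqp : q ≠ p) :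
    ¬ q ∣ Nat.card A := by
  intro hd
  obtain ⟨k, hk⟩ := IsPGroup.iff_card.mp hs.pgroup
  rw [hk] at hd
  exact hqp ((Nat.prime_dvd_prime_iff_eq hq Fact.out).mp (hq.dvd_of_dvd_pow hd))

theorem Setup.exists_common (hs : Setup G p A B₀) {B B' : Subgroup G} (hB : B ≤ B₀)
    (hB2 : p ^ 2 ≤ Nat.card B) (hB' : B' ≤ B₀) (hB'2 : p ^ 2 ≤ Nat.card B') :
    ∃ b, b ∈ B ∧ b ∈ B' ∧ b ≠ 1 := by
  by_contra hno
  push Not at hno
  have hb : B ⊓ B' = ⊥ := eq_bot_iff.mpr fun x hx => mem_bot.mpr (hno x hx.1 hx.2)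
  have hn : B ≤ normalizer (B' : Set G) :=
    (hB.trans (le_centralizer_iff_isMulCommutative.mpr hs.elem.1)).trans
      ((centralizer_le hB').trans (centralizer_le_normalizer _))
  have h := Core.card_sup_mul_card_inf B B' hn
  rw [hb, card_bot, mul_one] at h
  have h2 := card_le_of_le (sup_le hB hB')
  rw [h, hs.card] at h2
  have h3 := Nat.mul_le_mul hB2 hB'2
  rw [← pow_add] at h3
  have : p ^ 3 < p ^ (2 + 2) := Nat.pow_lt_pow_right (Fact.out : p.Prime).one_lt (by omega)
  omega

/-- Rank three in the Fitting subgroup gives a colour. -/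
theorem Setup.exists_colour (hs : Setup G p A B₀) {M : Subgroup G} (hM : IsCoatom M) (hAM : A ≤ M)
    {q : ℕ} [Fact q.Prime] (hF : ¬ Cfsg.PRankLE q 2 ↥(Cfsg.fittingOf M)) :
    Colour p A B₀ M q := by
  have hq : q.Prime := Fact.out
  obtain ⟨E, hEU, hE, hE3⟩ := LargeFitting.exists_rank_three hs.min hM hF
  have hqp : q ≠ p := by
    rintro rfl
    exact hs.noU E hE hE3 hEU
  have hqA := hs.not_dvd_card hq hqp
  have hg : Good G q := fun F hF' hF3 =>
    Uniqueness.inUniqueMaximal_of_rank_three hs.min hEU hE hE3 hF' hF3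
  have hQr : ¬ Cfsg.PRankLE q 2 ↥(Bender.part q M) := by
    obtain ⟨F, hFF, hFe, hF3⟩ := Uniqueness.exists_elementary_of_not_rank hF
    refine not_rank_of_elementary (E := F) (fun x hx => ?_) hFe hF3
    obtain ⟨j, -, hj⟩ := (Nat.dvd_prime_pow hq).mp
      (orderOf_dvd_of_pow_eq_one (show x ^ q ^ 1 = 1 by rw [pow_one]; exact hFe.2 x hx))
    exact Bender.mem_part_of_mem (hFF hx) hj
  obtain ⟨L₁, L₂, B₁, B₂, hl₁, hl₂, hWU, hWQ, hcen⟩ := exists_lines hs.min hg hqp hs.comm hs.le
    hs.elem hs.card hs.no (Bender.isPGroup_part q M) hQr (hAM.trans (Bender.le_normalizer_part q M))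
  have hWM : L₁ ⊔ L₂ ≤ M := hWQ.trans (Bender.part_le q M)
  have hCA : centralizer (A : Set G) ≤ M := by
    obtain ⟨b, hb₁, hb₂, hb1⟩ := hs.exists_common hl₁.le hl₁.card_ge hl₂.le hl₂.card_ge
    refine (centralizer_le (Set.singleton_subset_iff.mpr (hs.le (hl₁.le hb₁)))).trans
      (Uniqueness.le_of_inUniqueMaximal hWU hM hWM
        (TransitivityHyp.centralizer_singleton_ne_top hs.min hb1) ?_)
    exact sup_le (hl₁.cent.trans (centralizer_le (Set.singleton_subset_iff.mpr hb₁)))
      (hl₂.cent.trans (centralizer_le (Set.singleton_subset_iff.mpr hb₂)))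
  refine ⟨hq, hqp, hg, ?_, hCA, ?_⟩
  · intro X hX hAX
    obtain ⟨Q₁, hle₁, hQ₁⟩ := Transitivity.exists_maxInv (q := q)
      ((Bender.isPGroup_part q M).to_le hWQ)
      ((le_inf hl₁.norm hl₂.norm).trans fun a ha => Transfer.map_conj_eq_self_iff.mp (by
        rw [Subgroup.map_sup, Transfer.map_conj_eq_self_iff.mpr ha.1,
          Transfer.map_conj_eq_self_iff.mpr ha.2]))
    obtain ⟨Q₂, hle₂, hQ₂⟩ := Transitivity.exists_maxInv (q := q) hX hAX
    have hQ₁M : Q₁ ≤ M := Uniqueness.le_of_inUniqueMaximal hWU hM hWM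
      (Uniqueness.ne_top_of_pGroup hs.min hQ₁.1) hle₁
    obtain ⟨c, hc, e⟩ := TransitivityHyp.trans_of_rank_three hs.min hs.th hqA hs.rank hQ₁ hQ₂
    refine hle₂.trans ?_
    rw [← e]
    rintro _ ⟨y, hy, rfl⟩
    exact mul_mem (mul_mem (hCA (map_subtype_le _ hc)) (hQ₁M hy))
      (inv_mem (hCA (map_subtype_le _ hc)))
  · intro H hH hne
    have hN : ∀ L : Subgroup G, Nat.card L = q → L₁ ⊔ L₂ ≤ normalizer (L : Set G) →
        normalizer (L : Set G) ≤ M := by
      intro L hL hWL
      have hLq : IsPGroup q L := IsPGroup.of_card (n := 1) (by rw [hL, pow_one])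
      have hLb : L ≠ ⊥ := fun h => by
        rw [h, card_bot] at hL
        exact hq.ne_one hL.symm
      exact Uniqueness.le_of_inUniqueMaximal hWU hM hWM
        (TransitivityHyp.normalizer_ne_top hs.min hLb (Uniqueness.ne_top_of_pGroup hs.min hLq)) hWL
    by_cases h₁ : L₁ ≤ H
    · refine ⟨L₂, B₂, hl₂, fun h₂ => hne ?_, hN L₂ hl₂.card
        (sup_le (hcen.trans (centralizer_le_normalizer _)) le_normalizer)⟩
      exact hWU.unique ⟨hH, sup_le h₁ h₂⟩ ⟨hM, hWM⟩
    · exact ⟨L₁, B₁, hl₁, h₁, hN L₁ hl₁.card (sup_le le_normalizer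
        ((le_centralizer_iff.mp hcen).trans (centralizer_le_normalizer _)))⟩

/-- A `q`-group with no uniqueness pair has a normaliser inside the colour's maximal subgroup. -/
theorem Colour.normalizer_le (hodd : Odd (Nat.card G)) {M : Subgroup G} {q : ℕ} [Fact q.Prime]
    {L B : Subgroup G} (hL : Line p q A B₀ B L) (hN : normalizer (L : Set G) ≤ M)
    {S : Subgroup G} (hS : IsPGroup q S) {c : G} (hc : c ∈ M)
    (hle : L.map (MulAut.conj c).toMonoidHom ≤ S)
    (hno : ∀ E : Subgroup G, E ≤ S → Cfsg.IsElementaryAbelian q E → q ^ 2 ≤ Nat.card E →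
      Cfsg.PRankLE q 2 (centralizer (E : Set G))) :
    normalizer (S : Set G) ≤ M := by
  intro x hx
  have h1 := UniqueLine.normalizer_le hodd hS hle (by rw [Transfer.card_map_conj, hL.card])
    (rank_centralizer_conj hL.rank c) hno hx
  have h2 : c⁻¹ * x * c ∈ normalizer (L : Set G) := by
    refine Transfer.map_conj_eq_self_iff.mp ?_
    have h3 := Transfer.map_conj_eq_self_iff.mpr h1
    apply map_injective (f := (MulAut.conj c).toMonoidHom) (MulAut.conj c).injective
    rw [Subgroup.map_map] at h3 ⊢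
    convert h3 using 2
    ext y
    simp [mul_assoc]
  have h4 := mul_mem (mul_mem hc (hN h2)) (inv_mem hc)
  simpa [mul_assoc] using h4

theorem rank_le_of_no_pair {q : ℕ} [Fact q.Prime] {X : Subgroup G} (S : Sylow q X)
    (hno : ∀ E : Subgroup G, E ≤ (S : Subgroup X).map X.subtype →
      Cfsg.IsElementaryAbelian q E → q ^ 2 ≤ Nat.card E →
      Cfsg.PRankLE q 2 (centralizer (E : Set G))) :
    Cfsg.PRankLE q 2 X := by
  by_contra h
  obtain ⟨E, hEX, hE, hE3⟩ := Uniqueness.exists_elementary_of_not_rank h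
  obtain ⟨T, hT⟩ := ((Signalizer.elementary_isPGroup hE).comap_subtype (K := X)).exists_le_sylow
  obtain ⟨g, hg⟩ := MulAction.exists_smul_eq X T S
  have hle : E.map (MulAut.conj (g : G)).toMonoidHom ≤ (S : Subgroup X).map X.subtype := by
    rintro _ ⟨y, hy, rfl⟩
    refine ⟨g * ⟨y, hEX hy⟩ * g⁻¹, ?_, rfl⟩
    rw [SetLike.mem_coe, ← hg, Transfer.mem_sylow_smul]
    simpa [mul_assoc] using hT (show (⟨y, hEX hy⟩ : X) ∈ E.comap X.subtype from hy)
  have he := elementary_map_conj hE (g : G)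
  exact not_rank_of_elementary (le_centralizer_iff_isMulCommutative.mpr he.1) he
    (show q ^ (2 + 1) ≤ _ by rwa [Transfer.card_map_conj])
    (hno _ hle he (by
      rw [Transfer.card_map_conj]
      exact (Nat.pow_le_pow_right (Fact.out : q.Prime).pos (by omega)).trans hE3))

/-- In a group of rank two with two primes the Sylow subgroup for the larger one is normal. -/
theorem normal_of_larger {X : Type*} [Group X] [Finite X] [Group.IsSolvable X]
    (hodd : Odd (Nat.card X)) (hr : Cfsg.RankLE 2 X) {q q' : ℕ} [Fact q.Prime] (hlt : q' < q)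
    (hπ : ∀ r : ℕ, r.Prime → r ∣ Nat.card X → r = q ∨ r = q') (S : Sylow q X) :
    (S : Subgroup X).Normal := by
  obtain ⟨-, -, htower⟩ := Cfsg.Agent.S1451.result hodd (Or.inl hr)
  obtain ⟨N, hN, hNπ, hNi⟩ := htower q'
  have hNn : N.Normal := inferInstance
  have hNq : IsPGroup q N := IsPGroup.of_card (n := (Nat.card N).primeFactorsList.length)
    (Nat.eq_prime_pow_of_unique_prime_dvd Nat.card_pos.ne' (fun {d} hd hdd => by
      rcases hπ d hd (hdd.trans N.card_subgroup_dvd_card) with h | h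
      · exact h
      · exact absurd (hNπ d hd hdd).2 (by omega)))
  have hle : N ≤ (S : Subgroup X) := hNq.le_sylow_of_normal S
  suffices e : N = (S : Subgroup X) by rwa [← e]
  refine eq_of_le_of_card_ge hle (Nat.le_of_dvd Nat.card_pos ?_)
  refine (Nat.Coprime.dvd_of_dvd_mul_right ?_
    (N.card_mul_index ▸ (S : Subgroup X).card_subgroup_dvd_card))
  obtain ⟨k, hk⟩ := IsPGroup.iff_card.mp S.2
  rw [hk]
  exact Nat.Coprime.pow_left k
    ((Fact.out : q.Prime).coprime_iff_not_dvd.mpr (hNi q Fact.out ⟨Fact.out, hlt⟩))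

/-- Two different maximal subgroups do not both have colours. -/
theorem Setup.not_two_colours (hs : Setup G p A B₀) {M H : Subgroup G} (hM : IsCoatom M)
    (hH : IsCoatom H) (hne : H ≠ M) {q q' : ℕ} (cM : Colour p A B₀ M q)
    (cH : Colour p A B₀ H q') : False := by
  have := Fact.mk cM.prime
  have := Fact.mk cH.prime
  obtain ⟨L, B, hL, hLH, hLN⟩ := cM.out H hH hne
  obtain ⟨L', B', hL', hL'M, hL'N⟩ := cH.out M hM (Ne.symm hne)
  have hLq : IsPGroup q L := IsPGroup.of_card (n := 1) (by rw [hL.card, pow_one])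
  have hL'q : IsPGroup q' L' := IsPGroup.of_card (n := 1) (by rw [hL'.card, pow_one])
  have hqq : q' ≠ q := by
    rintro rfl
    exact hL'M (cM.inM L' hL'q hL'.norm)
  obtain ⟨b, hbB, hbB', hb1⟩ := hs.exists_common hL.le hL.card_ge hL'.le hL'.card_ge
  have hCt : centralizer ({b} : Set G) ≠ ⊤ :=
    TransitivityHyp.centralizer_singleton_ne_top hs.min hb1
  have hAC : A ≤ centralizer ({b} : Set G) := fun x hx => mem_centralizer_singleton_iff.mpr
    (congrArg Subtype.val (hs.comm.is_comm.comm (⟨x, hx⟩ : A) ⟨b, hs.le (hL.le hbB)⟩))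
  set T := Cfsg.piCoreOf (Cfsg.primesNotDvd (Nat.card A)) (centralizer ({b} : Set G)) with hT
  have hTC : T ≤ centralizer ({b} : Set G) := map_subtype_le _
  have hAT : A ≤ normalizer (T : Set G) :=
    hAC.trans (TransitivityHyp.le_normalizer_piCoreOf _ _)
  have hcop : (Nat.card A).Coprime (Nat.card T) := Nat.coprime_of_dvd fun k hk hkA hkT =>
    (TransitivityHyp.isPiSubgroup_piCoreOf _ _ k hk hkT).2 hkA
  have hAs : Group.IsSolvable A := hs.min.2.2.2 A hs.th.2.1
  have hTs : Group.IsSolvable T := Core.isSolvable_of_le (hs.min.2.2.2 _ hCt) hTC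
  have hLT : L ≤ T := TransitivityHyp.le_piCoreOf hs.th hCt hAC
    (hL.cent.trans (centralizer_le (Set.singleton_subset_iff.mpr hbB)))
    (TransitivityHyp.not_dvd_of_isPGroup (hs.not_dvd_card cM.prime cM.ne) hLq) hL.norm
  have hL'T : L' ≤ T := TransitivityHyp.le_piCoreOf hs.th hCt hAC
    (hL'.cent.trans (centralizer_le (Set.singleton_subset_iff.mpr hbB')))
    (TransitivityHyp.not_dvd_of_isPGroup (hs.not_dvd_card cH.prime cH.ne) hL'q) hL'.norm
  -- an invariant Hall subgroup for the two primes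
  set σ : Set ℕ := {r | r = q ∨ r = q'} with hσ
  obtain ⟨X₀, hX₀⟩ := Core.exists_piHall (G := T) σ
  set Xg := X₀.map T.subtype with hXg
  obtain ⟨k, hk, hAX⟩ := Core.exists_invariant_conj hAT hcop (Or.inl hAs) (P := Xg) (by
    intro a ha
    have hle : MulAut.conj a • Xg ≤ T := by
      intro x hx
      rw [Core.mem_conj_smul_iff] at hx
      simpa [mul_assoc] using Core.conj_mem_of_le_normalizer hAT ha (map_subtype_le _ hx)
    have hc : Nat.card ((MulAut.conj a • Xg).subgroupOf T) = Nat.card X₀ := by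
      rw [Nat.card_congr (subgroupOfEquivOfLe hle).toEquiv, Core.card_conj_smul, hXg,
        card_map_of_injective T.subtype_injective]
    have hi : ((MulAut.conj a • Xg).subgroupOf T).index = X₀.index := by
      have h1 := ((MulAut.conj a • Xg).subgroupOf T).card_mul_index
      rw [← X₀.card_mul_index, hc] at h1
      exact Nat.eq_of_mul_eq_mul_left Nat.card_pos h1
    obtain ⟨g, hg⟩ := Core.piHall_conj hX₀ (K := (MulAut.conj a • Xg).subgroupOf T)
      (by rw [Cfsg.IsPiHall, hc, hi]; exact hX₀)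
    refine ⟨g, g.2, ?_⟩
    rw [← map_subgroupOf_eq_of_le hle, ← hg, hXg, Core.conj_smul_eq_map, Core.conj_smul_eq_map,
      Subgroup.map_map, Subgroup.map_map]
    rfl)
  set X := MulAut.conj k • Xg with hX
  have hXT : X ≤ T := by
    intro x hx
    rw [hX, Core.mem_conj_smul_iff] at hx
    have h1 := mul_mem (mul_mem hk (map_subtype_le _ hx)) (inv_mem hk)
    simpa [mul_assoc] using h1
  have hXc : Nat.card X = Nat.card X₀ := by
    rw [hX, Core.card_conj_smul, hXg, card_map_of_injective T.subtype_injective]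
  have hXπ : ∀ r : ℕ, r.Prime → r ∣ Nat.card X → r = q ∨ r = q' := fun r hr hd =>
    hX₀.1 r hr (hXc ▸ hd)
  have hXcop : (Nat.card A).Coprime (Nat.card X) := hcop.coprime_dvd_right (card_dvd_of_le hXT)
  have hXs : Group.IsSolvable X := Core.isSolvable_of_le hTs hXT
  have hfac : ∀ r : ℕ, r.Prime → r ∈ σ →
      (Nat.card X).factorization r = (Nat.card T).factorization r := by
    intro r hr hrσ
    rw [hXc, ← X₀.card_mul_index, Nat.factorization_mul Nat.card_pos.ne' index_ne_zero_of_finite,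
      Finsupp.add_apply, Nat.factorization_eq_zero_of_not_dvd (hX₀.2 r hr hrσ), add_zero]
  -- invariant Sylow subgroups containing conjugates of the lines
  have hkey : ∀ r : ℕ, ∀ [Fact r.Prime], r ∈ σ → ∀ U : Subgroup G, U ≤ T → IsPGroup r U →
      A ≤ normalizer (U : Set G) → ∃ S : Sylow r X, ∃ c ∈ centralizer (A : Set G),
        U.map (MulAut.conj c).toMonoidHom ≤ (S : Subgroup X).map X.subtype ∧
        A ≤ normalizer ((S : Subgroup X).map X.subtype : Set G) := by
    intro r hr hrσ U hUT hU hAU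
    obtain ⟨S, hS⟩ := Core.exists_invariant_sylow hAX hXcop (Or.inl hAs) r
    obtain ⟨c, hc, hle⟩ := Signalizer.exists_conj_le_invariant_qpart hAT hcop hAs
      ((map_subtype_le _).trans hXT) hS
      (show Nat.card ((S : Subgroup X).map X.subtype) = r ^ (Nat.card T).factorization r by
        rw [card_map_of_injective X.subtype_injective, ← hfac r Fact.out hrσ]
        exact S.card_eq_multiplicity)
      hUT hU hAU
    exact ⟨S, c, hc.2, hle, hS⟩
  obtain ⟨S, c, hc, hcL, hAS⟩ := hkey q (Or.inl rfl) L hLT hLq hL.norm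
  obtain ⟨S', d, hd, hdL, hAS'⟩ := hkey q' (Or.inr rfl) L' hL'T hL'q hL'.norm
  have hback : ∀ {U K : Subgroup G} {g : G}, g ∈ K →
      U.map (MulAut.conj g).toMonoidHom ≤ K → U ≤ K := by
    intro U K g hg hle x hx
    have h1 := K.mul_mem (K.mul_mem (K.inv_mem hg) (hle ⟨x, hx, rfl⟩)) hg
    simpa [mul_assoc] using h1
  -- no uniqueness pair in either Sylow subgroup
  have hnoS : ∀ E : Subgroup G, E ≤ (S : Subgroup X).map X.subtype →
      Cfsg.IsElementaryAbelian q E → q ^ 2 ≤ Nat.card E →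
      Cfsg.PRankLE q 2 (centralizer (E : Set G)) := by
    intro E hES hE hE2
    by_contra hbad
    have hEM : E ≤ M := hES.trans (cM.inM _ (S.2.map _) hAS)
    exact hL'M (hL'T.trans (hTC.trans (Uniqueness.le_of_inUniqueMaximal
      (u_pair hs.min cM.good hE hE2 hbad) hM hEM hCt
      ((hES.trans (map_subtype_le _)).trans (hXT.trans hTC)))))
  have hnoS' : ∀ E : Subgroup G, E ≤ (S' : Subgroup X).map X.subtype →
      Cfsg.IsElementaryAbelian q' E → q' ^ 2 ≤ Nat.card E →
      Cfsg.PRankLE q' 2 (centralizer (E : Set G)) := by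
    intro E hES hE hE2
    by_contra hbad
    have hEH : E ≤ H := hES.trans (cH.inM _ (S'.2.map _) hAS')
    exact hLH (hLT.trans (hTC.trans (Uniqueness.le_of_inUniqueMaximal
      (u_pair hs.min cH.good hE hE2 hbad) hH hEH hCt
      ((hES.trans (map_subtype_le _)).trans (hXT.trans hTC)))))
  have hrank : Cfsg.RankLE 2 X := by
    intro r hr
    by_cases hd : r ∣ Nat.card X
    · rcases hXπ r hr hd with rfl | rfl
      · exact rank_le_of_no_pair S hnoS
      · exact rank_le_of_no_pair S' hnoS'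
    · have := Fact.mk hr
      intro E hE hEe
      have hEr : IsPGroup r E := fun e => ⟨1, Subtype.ext (by rw [pow_one]; exact hEe e e.2)⟩
      obtain ⟨j, hj⟩ := IsPGroup.iff_card.mp hEr
      rcases Nat.eq_zero_or_pos j with rfl | hj0
      · rw [hj]; exact Nat.pow_le_pow_right hr.pos (by omega)
      · exact absurd ((dvd_pow_self r hj0.ne').trans (hj ▸ E.card_subgroup_dvd_card)) hd
  have hXodd : Odd (Nat.card X) := hs.min.1.of_dvd_nat X.card_subgroup_dvd_card
  have hnorm : ∀ {r : ℕ} (R : Sylow r X), (R : Subgroup X).Normal →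
      X ≤ normalizer ((R : Subgroup X).map X.subtype : Set G) := fun R hR x hx =>
    le_normalizer_map X.subtype
      ⟨⟨x, hx⟩, (Core.le_normalizer_of_normal ⊤ (R : Subgroup X)) (mem_top _), rfl⟩
  rcases lt_or_gt_of_ne hqq with hlt | hlt
  · have hle : X ≤ M := (hnorm S (normal_of_larger hXodd hrank hlt hXπ S)).trans
      (Colour.normalizer_le hs.min.1 hL hLN (S.2.map _) (cM.cent hc) hcL hnoS)
    exact hL'M (hback (cM.cent hd) (hdL.trans ((map_subtype_le _).trans hle)))
  · have hle : X ≤ H := (hnorm S' (normal_of_larger hXodd hrank hlt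
      (fun r hr hd' => (hXπ r hr hd').symm) S')).trans
      (Colour.normalizer_le hs.min.1 hL' hL'N (S'.2.map _) (cH.cent hd) hdL hnoS')
    exact hLH (hback (cH.cent hc) (hcL.trans ((map_subtype_le _).trans hle)))

end CfsgLib.TwoGroups.TwoColours
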