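import Cfsg.Agent.Lib.TwoGroups.TwoColours
import Cfsg.Agent.Lib.PLocal.PConstrained
import Cfsg.Agent.Lib.Transfer.Fusion
import Cfsg.Agent.S0118
import Cfsg.Agent.S1395
import Cfsg.Agent.S1396

/-!
Owner: helper12. A self-centralising normal subgroup of rank three of a Sylow subgroup lies in one
maximal subgroup (no signalizer functor theorem needed).
-/

set_option autoImplicit false

namespace CfsgLib.TwoGroups.TwoColours

open Subgroup

variable {G : Type*} [Group G] [Finite G] {p : ℕ} [Fact p.Prime]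

theorem normalizer_le_normalizer_piCoreOf (π : Set ℕ) (X : Subgroup G) :
    normalizer (X : Set G) ≤ normalizer (Cfsg.piCoreOf π X : Set G) := by
  intro g hg
  refine Transfer.map_conj_eq_self_iff.mp
    (eq_of_le_of_card_ge ?_ (Transfer.card_map_conj _ _).ge)
  set K' := (Cfsg.piCoreOf π X).map (MulAut.conj g).toMonoidHom with hK'
  have hK'X : K' ≤ X := (map_mono (map_subtype_le _)).trans
    (Transfer.map_conj_eq_self_iff.mpr hg).le
  have hX : X ≤ normalizer (K' : Set G) := ((Transfer.map_conj_eq_self_iff.mpr hg).ge).trans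
    ((map_mono (TransitivityHyp.le_normalizer_piCoreOf π X)).trans (le_normalizer_map _))
  intro y hy
  refine ⟨⟨y, hK'X hy⟩, (Components.le_piCore (N := K'.subgroupOf X)
    (normal_subgroupOf_of_le_normalizer hX) fun r hr hd => ?_) hy, rfl⟩
  rw [Nat.card_congr (subgroupOfEquivOfLe hK'X).toEquiv, hK', Transfer.card_map_conj] at hd
  exact TransitivityHyp.isPiSubgroup_piCoreOf π X r hr hd

/-- Splitting off a normal `p'`-part keeps a `p`-subgroup in the derived subgroup. -/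
theorem le_commutator_of_split {N K X P : Subgroup G} (hKN : K ≤ N)
    (hNK : N ≤ normalizer (K : Set G)) (hXN : X ≤ N) (hsplit : N ≤ K ⊔ X) (hPX : P ≤ X)
    (hcop : (Nat.card P).Coprime (Nat.card K)) (hP : P ≤ ⁅N, N⁆) : P ≤ ⁅X, X⁆ := by
  have hKn : (K.subgroupOf N).Normal := normal_subgroupOf_of_le_normalizer hNK
  set f := QuotientGroup.mk' (K.subgroupOf N) with hf
  have htop : (X.subgroupOf N).map f = (⊤ : Subgroup N).map f := by
    refine le_antisymm (map_mono le_top) ?_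
    have e : (⊤ : Subgroup N) = X.subgroupOf N ⊔ K.subgroupOf N := by
      rw [← subgroupOf_sup hXN hKN, eq_comm, subgroupOf_eq_top, sup_comm]
      exact hsplit
    rw [e, Subgroup.map_sup, hf, QuotientGroup.map_mk'_self, sup_bot_eq]
  have h2 : ⁅(⊤ : Subgroup N), (⊤ : Subgroup N)⁆ ≤
      ⁅X.subgroupOf N, X.subgroupOf N⁆ ⊔ K.subgroupOf N := by
    have h3 : (⁅(⊤ : Subgroup N), (⊤ : Subgroup N)⁆).map f ≤
        (⁅X.subgroupOf N, X.subgroupOf N⁆).map f := by
      rw [map_commutator, map_commutator, htop]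
    rw [Subgroup.map_le_map_iff, hf, QuotientGroup.ker_mk'] at h3
    exact h3
  have h4 := map_mono (f := N.subtype) h2
  rw [map_commutator, Subgroup.map_sup, map_commutator, ← MonoidHom.range_eq_map,
    Subgroup.range_subtype, map_subgroupOf_eq_of_le hXN, map_subgroupOf_eq_of_le hKN] at h4
  have hWn : ⁅X, X⁆ ≤ normalizer (K : Set G) := ((commutator_le_self X).trans hXN).trans hNK
  intro x hx
  obtain ⟨k, hk, d, hd, rfl⟩ := (Core.mem_sup_iff_mul' hWn).mp (h4 (hP hx))
  have hxX := hPX hx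
  have hdX : d ∈ X := commutator_le_self X hd
  have hkX : k ∈ X := by
    have := mul_mem hxX (inv_mem hdX)
    rwa [mul_inv_cancel_right] at this
  have hW : (⁅X, X⁆.subgroupOf X).Normal := by
    refine normal_subgroupOf_of_le_normalizer fun g hg => Transfer.map_conj_eq_self_iff.mp ?_
    rw [map_commutator, Transfer.map_conj_eq_self_iff.mpr (le_normalizer hg)]
  set φ := QuotientGroup.mk' (⁅X, X⁆.subgroupOf X)
  have hφd : φ ⟨d, hdX⟩ = 1 := (QuotientGroup.eq_one_iff _).mpr hd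
  have hφ : φ ⟨k * d, hxX⟩ = φ ⟨k, hkX⟩ := by
    rw [show (⟨k * d, hxX⟩ : X) = ⟨k, hkX⟩ * ⟨d, hdX⟩ from rfl, map_mul, hφd, mul_one]
  have h1 : orderOf (φ ⟨k * d, hxX⟩) ∣ Nat.card P :=
    (orderOf_map_dvd φ _).trans (by rw [orderOf_mk]; exact P.orderOf_dvd_natCard hx)
  have h5 : orderOf (φ ⟨k * d, hxX⟩) ∣ Nat.card K := by
    rw [hφ]
    exact (orderOf_map_dvd φ _).trans (by rw [orderOf_mk]; exact K.orderOf_dvd_natCard hk)
  exact (QuotientGroup.eq_one_iff (⟨k * d, hxX⟩ : X)).mp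
    (orderOf_eq_one_iff.mp (Nat.eq_one_of_dvd_coprimes hcop h1 h5))

/-- A Sylow subgroup lies in the derived subgroup of `N(Z(J(P)))`. -/
theorem sylow_le_commutator (hG : Cfsg.IsMinSimpleOddOrder G) (hp2 : p ≠ 2) (S : Sylow p G) :
    (S : Subgroup G) ≤ ⁅normalizer (Cfsg.centerThompsonOf p (S : Subgroup G) : Set G),
      normalizer (Cfsg.centerThompsonOf p (S : Subgroup G) : Set G)⁆ := by
  set N₀ := normalizer (Cfsg.centerThompsonOf p (S : Subgroup G) : Set G) with hN₀
  have hPN₀ : (S : Subgroup G) ≤ N₀ :=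
    le_normalizer.trans (OddLocal.normalizer_le_normalizer_centerThompson (S : Subgroup G))
  have hfree : ¬ ∃ (H K : Subgroup G) (hK : (K.subgroupOf H).Normal),
      Nonempty ((H ⧸ K.subgroupOf H) ≃* Matrix.SpecialLinearGroup (Fin 2) (ZMod p)) := by
    rintro ⟨H, K, hK, ⟨e⟩⟩
    let w : Matrix.SpecialLinearGroup (Fin 2) (ZMod p) :=
      ⟨!![-1, 0; 0, -1], by simp [Matrix.det_fin_two]⟩
    have hw2 : w ^ 2 = 1 := by
      apply Matrix.SpecialLinearGroup.ext
      intro i j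
      rw [Matrix.SpecialLinearGroup.coe_pow]
      fin_cases i <;> fin_cases j <;> simp [w, pow_succ, Matrix.mul_apply, Fin.sum_univ_two]
    have hw1 : w ≠ 1 := fun h => by
      have h00 := congrArg (fun x : Matrix.SpecialLinearGroup (Fin 2) (ZMod p) => x.1 0 0) h
      simp [w] at h00
      have : Fact (2 < p) := ⟨lt_of_le_of_ne (Fact.out : p.Prime).two_le (Ne.symm hp2)⟩
      exact ZMod.neg_one_ne_one h00
    have h2 : 2 ∣ Nat.card G := by
      rw [← orderOf_eq_prime hw2 hw1]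
      refine (orderOf_dvd_natCard w).trans ?_
      rw [← Nat.card_congr e.toEquiv]
      exact (card_quotient_dvd_card _).trans H.card_subgroup_dvd_card
    obtain ⟨t, ht⟩ := hG.1
    omega
  have htop : _root_.commutator G = ⊤ := by
    have := hG.2.1
    rcases IsSimpleGroup.eq_bot_or_eq_top_of_normal (_root_.commutator G) inferInstance with h | h
    · exact absurd ⟨⟨fun a b => commutatorElement_eq_one_iff_mul_comm.mp (mem_bot.mp (h ▸
        commutator_mem_commutator (mem_top a) (mem_top b)))⟩⟩ hG.2.2.1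
    · exact h
  have h := Transfer.commutator_inf_le_of_fusion S ⁅N₀, N₀⁆ fun x hx g hg => by
    obtain ⟨n, hn, hne⟩ := Cfsg.Agent.S0118.result hp2 hfree S {x}
      (Set.singleton_subset_iff.mpr hx) g
      (by rw [Set.image_singleton]; exact Set.singleton_subset_iff.mpr hg)
    rw [← hne x rfl]
    have h2 := commutator_mem_commutator (inv_mem (hPN₀ hx)) (inv_mem hn)
    simpa [commutatorElement_def, mul_assoc] using h2
  rwa [htop, top_inf_eq] at h

variable {A B₀ : Subgroup G}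

/-- A maximal subgroup with `P` in its derived subgroup has a colour. -/
theorem Setup.exists_colour_of_derived (hs : Setup G p A B₀) {H : Subgroup G} (hH : IsCoatom H)
    {P : Subgroup G} (hAP : A ≤ P) (hP : P ≤ ⁅H, H⁆) : ∃ q, Colour p A B₀ H q := by
  have hAH : A ≤ H := hAP.trans (hP.trans (commutator_le_self H))
  suffices h : ∃ q : ℕ, q.Prime ∧ ¬ Cfsg.PRankLE q 2 ↥(Cfsg.fittingOf H) by
    obtain ⟨q, hq, hF⟩ := h
    have := Fact.mk hq
    exact ⟨q, hs.exists_colour hH hAH hF⟩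
  by_contra hno
  push Not at hno
  have hsol := hs.min.2.2.2 H hH.1
  have hr : Cfsg.RankLE 2 (Cfsg.fittingSubgroup ↥H) := fun r hr =>
    PGroups.prankLE_of_injective (hno r hr)
      (f := ((Cfsg.fittingSubgroup ↥H).equivMapOfInjective H.subtype
        H.subtype_injective).toMonoidHom) (MulEquiv.injective _)
  obtain ⟨hnil, -, -⟩ :=
    Cfsg.Agent.S1451.result (hs.min.1.of_dvd_nat H.card_subgroup_dvd_card) (Or.inr hr)
  have hle : ⁅H, H⁆ ≤ Cfsg.fittingOf H := by
    have h1 := map_mono (f := H.subtype) (Components.le_fitting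
      (inferInstance : (_root_.commutator ↥H).Normal) hnil)
    rwa [commutator_def, map_commutator, ← MonoidHom.range_eq_map, Subgroup.range_subtype] at h1
  exact not_rank_of_elementary (hs.le.trans (hAP.trans (hP.trans hle))) hs.elem
    (hs.card.ge : p ^ (2 + 1) ≤ _) (hno p Fact.out)

/-- A self-centralising normal subgroup of rank three lies in one maximal subgroup. -/
theorem inUniqueMaximal (hG : Cfsg.IsMinSimpleOddOrder G) (S : Sylow p G) {A : Subgroup G}
    (hA : Cfsg.IsSCN (S : Subgroup G) A) (hA3 : ¬ Cfsg.PRankLE p 2 ↥A) :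
    Cfsg.InUniqueMaximal A := by
  obtain ⟨hAP, hPA, hCA⟩ := id hA
  have hAc : IsMulCommutative A := ⟨⟨fun a b => Subtype.ext
    (mem_centralizer_iff.mp (hCA.ge b.2).2 a a.2)⟩⟩
  have hp : p.Prime := Fact.out
  set P := (S : Subgroup G) with hPdef
  have hP : IsPGroup p P := S.2
  have hAp : IsPGroup p A := hP.to_le hAP
  obtain ⟨B, hBA, hB, hB3⟩ := Uniqueness.exists_elementary_of_not_rank hA3
  have hpG : p ∣ Nat.card G :=
    Uniqueness.prime_dvd_of_elementary hB ((Nat.le_self_pow (by omega) p).trans hB3)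
  have hp2 : p ≠ 2 := Uniqueness.odd_prime hG hpG
  have hTH : Cfsg.TransitivityHypothesis A := Cfsg.Agent.S1396.result hG p hpG A hAp hAc
    (Or.inr ⟨S, hA, fun h => hA3 fun E hc he =>
      (h E hc he).trans (Nat.pow_le_pow_right hp.pos (by omega))⟩)
  by_contra hAU
  -- an elementary subgroup of order `p ^ 3`
  obtain ⟨B₀, hB₀, hB₀A, hB₀c⟩ : ∃ B₀ : Subgroup G,
      Cfsg.IsElementaryAbelian p B₀ ∧ B₀ ≤ A ∧ Nat.card B₀ = p ^ 3 := by
    obtain ⟨j, hj⟩ := IsPGroup.iff_card.mp (Signalizer.elementary_isPGroup hB)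
    rw [hj] at hB3
    obtain ⟨C, hC⟩ := Sylow.exists_subgroup_card_pow_prime (G := ↥B) p (n := 3)
      (by rw [hj]; exact pow_dvd_pow p ((Nat.pow_le_pow_iff_right hp.one_lt).mp hB3))
    exact ⟨C.map B.subtype, Signalizer.elementary_of_le hB (map_subtype_le C),
      (map_subtype_le C).trans hBA, by rw [card_map_of_injective B.subtype_injective, hC]⟩
  have hAt : A ≠ ⊤ := hTH.2.1
  have hno : ∀ E : Subgroup G, Cfsg.IsElementaryAbelian p E → p ^ 3 ≤ Nat.card E →
      ¬ Cfsg.InUniqueMaximal E := fun E hE hE3 hEU => hAU (Uniqueness.inUniqueMaximal_mono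
    (Uniqueness.inUniqueMaximal_of_rank_three hG hEU hE hE3 hB₀ hB₀c.ge) hAt hB₀A)
  have hA3' : ¬ Cfsg.RankLE 2 ↥(A ⊓ centralizer (A : Set G)) := by
    rw [inf_eq_left.mpr (le_centralizer_iff_isMulCommutative.mpr hAc)]
    exact fun h => hA3 (h p hp)
  have hs : Setup G p A B₀ := ⟨hG, hAc, hAp, hTH, hA3', hB₀A, hB₀, hB₀c, hno,
    fun B' W hB' hB'2 hW hWC => hAU (Uniqueness.inUniqueMaximal_mono
      (Uniqueness.inUniqueMaximal_of_centralizing hG hW (Signalizer.elementary_of_le hB₀ hB') hB'2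
        (le_centralizer_iff.mp hWC)) hAt (hB'.trans hB₀A))⟩
  have hPne : P ≠ ⊥ := fun h => hTH.1 (le_bot_iff.mp (h ▸ hAP))
  have hPt : P ≠ ⊤ := Uniqueness.ne_top_of_pGroup hG hP
  set N₀ := normalizer (Cfsg.centerThompsonOf p P : Set G) with hN₀
  have hN₀t : N₀ ≠ ⊤ := TransitivityHyp.normalizer_ne_top hG
    (Transfer.centerThompsonOf_ne_bot hP hPne)
    (Uniqueness.ne_top_of_pGroup hG (hP.to_le (OddLocal.centerThompson_le P)))
  have hPN₀ : P ≤ N₀ :=
    le_normalizer.trans (OddLocal.normalizer_le_normalizer_centerThompson P)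
  have hPd : P ≤ ⁅N₀, N₀⁆ := sylow_le_commutator hG hp2 S
  obtain ⟨M, hM, hN₀M⟩ := (eq_top_or_exists_le_coatom N₀).resolve_left hN₀t
  obtain ⟨q, cM⟩ := hs.exists_colour_of_derived hM hAP (hPd.trans (commutator_mono hN₀M hN₀M))
  -- an invariant subgroup outside `M`
  obtain ⟨r, hr, hrp, R, hR, hAR, hRM⟩ : ∃ r : ℕ, r.Prime ∧ r ≠ p ∧ ∃ R : Subgroup G,
      IsPGroup r R ∧ A ≤ normalizer (R : Set G) ∧ ¬ R ≤ M := by
    by_contra hall
    push Not at hall
    refine hAU (SCNCriterion.inUniqueMaximal_of_invariant hG S hA hA3 hM hN₀M fun Y hY hAY => ?_)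
    suffices hidx : (M.subgroupOf Y).index = 1 by
      rw [index_eq_one, subgroupOf_eq_top] at hidx
      exact hidx
    by_contra hne
    obtain ⟨r, hr, hrd⟩ := Nat.exists_prime_and_dvd hne
    have := Fact.mk hr
    have hrY : r ∣ Nat.card Y := hrd.trans (index_dvd_card _)
    obtain ⟨T, hT⟩ := Core.exists_invariant_sylow hAY
      (Nat.coprime_of_dvd fun k hk hkA hkY => hY (by
        obtain ⟨j, hj⟩ := IsPGroup.iff_card.mp hAp
        rw [hj] at hkA
        rwa [← (Nat.prime_dvd_prime_iff_eq hk hp).mp (hk.dvd_of_dvd_pow hkA)]))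
      (Or.inl (hG.2.2.2 A hAt)) r
    have hTM : (T : Subgroup Y) ≤ M.subgroupOf Y := fun t ht =>
      hall r hr (fun e => hY (e ▸ hrY)) _ (T.2.map _) hT ⟨t, ht, rfl⟩
    exact T.not_dvd_index (hrd.trans (index_dvd_of_le hTM))
  have := Fact.mk hr
  have hrA : ¬ r ∣ Nat.card A := hs.not_dvd_card hr hrp
  have hpA : p ∣ Nat.card A := (dvd_pow_self p (by omega : (3 : ℕ) ≠ 0)).trans
    (hB₀c ▸ card_dvd_of_le hB₀A)
  have htr : TransitivityHyp.Trans A r A := fun U V hU hV =>
    TransitivityHyp.trans_of_rank_three hG hTH hrA hA3' hU hV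
  have hπ : ∀ X : Subgroup G, X ≤ P → ∀ k : ℕ, k.Prime → k ∣ Nat.card X → k ∣ Nat.card A := by
    intro X hX k hk hd
    obtain ⟨j, hj⟩ := IsPGroup.iff_card.mp (hP.to_le hX)
    rw [hj] at hd
    rwa [(Nat.prime_dvd_prime_iff_eq hk hp).mp (hk.dvd_of_dvd_pow hd)]
  have hsn : (A.subgroupOf P).IsSubnormal :=
    Subgroup.Normal.isSubnormal (normal_subgroupOf_of_le_normalizer hPA)
  obtain ⟨Rs, -, hRs⟩ := Transitivity.exists_maxInv (q := r) (E := P)
    (IsPGroup.of_bot (G := G) (p := r)) (by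
      rw [normalizer_eq_top_iff.mpr (inferInstance : (⊥ : Subgroup G).Normal)]
      exact le_top)
  have hRsA : Transitivity.IsMaxInv A r Rs :=
    (TransitivityHyp.good hG hTH hrA hPt (hπ P le_rfl) hAP hsn htr).1 Rs hRs
  have hRsM : ¬ Rs ≤ M := by
    intro hle
    obtain ⟨R₁, hle₁, hR₁⟩ := Transitivity.exists_maxInv (q := r) hR hAR
    obtain ⟨c, hc, e⟩ := htr Rs R₁ hRsA hR₁
    refine hRM (hle₁.trans ?_)
    rw [← e]
    rintro _ ⟨y, hy, rfl⟩
    exact mul_mem (mul_mem (cM.cent (map_subtype_le _ hc)) (hle hy))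
      (inv_mem (cM.cent (map_subtype_le _ hc)))
  obtain ⟨H, hH, hRsH⟩ := (eq_top_or_exists_le_coatom (normalizer (Rs : Set G))).resolve_left
    (TransitivityHyp.normalizer_ne_top hG (fun h => hRsM (h ▸ bot_le))
      (Uniqueness.ne_top_of_pGroup hG hRs.1))
  have hHM : H ≠ M := fun h => hRsM (h ▸ le_normalizer.trans hRsH)
  -- `N₀ = O_{p'}(N₀) N(Q)`
  have hsol := hG.2.2.2 N₀ hN₀t
  set O := Cfsg.pPrimeCore p ↥N₀ with hO
  set T := Cfsg.pPrimePCore p ↥N₀ with hT
  set Q := P.subgroupOf N₀ ⊓ T with hQ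
  obtain ⟨S', hS'⟩ := Uniqueness.exists_sylow_eq (G := ↥N₀) (hP.comap_subtype (K := N₀))
    (fun R' hR' hle => by
      have e : R'.map N₀.subtype = P :=
        S.3 (hR'.map _) (fun y hy => ⟨⟨y, hPN₀ hy⟩, hle hy, rfl⟩)
      rw [← e, comap_map_eq_self_of_injective N₀.subtype_injective])
  have hTn : T.Normal := inferInstance
  have hQsup : Q ⊔ O = T := by
    obtain ⟨U, hU⟩ := ((hP.comap_subtype (K := N₀)).to_le
      (inf_le_left : Q ≤ P.subgroupOf N₀)).comap_subtype (K := T) |>.exists_le_sylow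
    have hQU : Q ≤ (U : Subgroup ↥T).map T.subtype := fun x hx =>
      ⟨⟨x, (Subgroup.mem_inf.mp hx).2⟩, hU hx, rfl⟩
    have hUQ : (U : Subgroup ↥T).map T.subtype = Q := by
      refine (eq_of_le_of_card_ge hQU ?_).symm
      obtain ⟨S'', hS''⟩ := (U.2.map T.subtype).exists_le_sylow
      obtain ⟨n, hn⟩ := MulAction.exists_smul_eq ↥N₀ S'' S'
      rw [← card_map_of_injective (f := (MulAut.conj n).toMonoidHom) (MulAut.conj n).injective
        (K := (U : Subgroup ↥T).map T.subtype)]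
      refine card_le_of_le ?_
      rintro _ ⟨t, ht, rfl⟩
      refine ⟨?_, hTn.conj_mem t (map_subtype_le _ ht) n⟩
      have h1 : n * t * n⁻¹ ∈ ((n • S'' : Sylow p ↥N₀) : Subgroup ↥N₀) := by
        rw [Transfer.mem_sylow_smul]
        simpa [mul_assoc] using hS'' ht
      rw [hn, hS'] at h1
      exact h1
    rw [← hUQ]
    exact PLocal.sylow_sup_pPrimeCore U
  have hAN₀ : A ≤ N₀ := hAP.trans hPN₀
  have hAT : A.subgroupOf N₀ ≤ T := by
    intro a ha
    rw [hT, Cfsg.pPrimePCore, mem_comap]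
    have hodd : Odd (Nat.card (↥N₀ ⧸ O)) :=
      (hG.1.of_dvd_nat N₀.card_subgroup_dvd_card).of_dvd_nat (card_quotient_dvd_card O)
    have hsurj : Function.Surjective (QuotientGroup.mk' O) := QuotientGroup.mk'_surjective O
    refine OddLocal.le_pCore_of_abelian hodd hp2 (Core.pPrimeCore_quotient_pPrimeCore p ↥N₀)
      (A := (A.subgroupOf N₀).map (QuotientGroup.mk' O)) inferInstance ?_ ⟨a, ha, rfl⟩
    intro y hy
    have hyS := Core.pCore_le_sylow (S'.mapSurjective hsurj) hy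
    rw [Sylow.coe_mapSurjective] at hyS
    obtain ⟨u, hu, rfl⟩ := hyS
    rw [hS'] at hu
    exact le_normalizer_map (QuotientGroup.mk' O)
      ⟨u, mem_normalizer_iff.mpr fun z => mem_normalizer_iff.mp (hPA hu) (z : G), rfl⟩
  set Q' := Q.map N₀.subtype with hQ'
  have hAQ : A ≤ Q' := fun x hx => ⟨⟨x, hAN₀ hx⟩, ⟨hAP hx, hAT hx⟩, rfl⟩
  have hQP : Q' ≤ P := by
    rintro _ ⟨x, hx, rfl⟩
    exact hx.1
  have hQN₀ : Q' ≤ N₀ := map_subtype_le _
  have hPQ : P ≤ normalizer (Q' : Set G) := by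
    intro x hx
    refine le_normalizer_map N₀.subtype ⟨⟨x, hPN₀ hx⟩, ?_, rfl⟩
    refine inf_normalizer_le_normalizer_inf (Subgroup.mem_inf.mpr ⟨?_, ?_⟩)
    · exact le_normalizer (show (⟨x, hPN₀ hx⟩ : ↥N₀) ∈ P.subgroupOf N₀ from hx)
    · exact (Core.le_normalizer_of_normal ⊤ T) (mem_top _)
  set O' := O.map N₀.subtype with hO'
  have hsplit₁ : N₀ ≤ O' ⊔ (N₀ ⊓ normalizer (Q' : Set G)) := by
    intro x hx
    obtain ⟨o, ho, n, hn, rfl⟩ := Uniqueness.exists_split hQN₀ (O := O) (by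
      rw [hQ', show (Q.map N₀.subtype).subgroupOf N₀ = Q from
        comap_map_eq_self_of_injective N₀.subtype_injective Q]
      exact Uniqueness.normalizer_sup_eq_top (hP.comap_subtype.to_le inf_le_left)
        (Core.coprime_card_pPrimeCore p ↥N₀) (by rw [hQsup]; exact hTn)) hx
    exact mul_mem (mem_sup_left ho) (mem_sup_right hn)
  have hPd₁ : P ≤ ⁅N₀ ⊓ normalizer (Q' : Set G), N₀ ⊓ normalizer (Q' : Set G)⁆ := by
    refine le_commutator_of_split (map_subtype_le O) ?_ inf_le_left hsplit₁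
      (le_inf hPN₀ hPQ) ?_ hPd
    · intro x hx
      exact le_normalizer_map N₀.subtype ⟨⟨x, hx⟩,
        (Core.le_normalizer_of_normal ⊤ O) (mem_top _), rfl⟩
    · obtain ⟨j, hj⟩ := IsPGroup.iff_card.mp hP
      rw [hj, card_map_of_injective N₀.subtype_injective]
      exact ((Core.coprime_card_pPrimeCore p ↥N₀).symm).pow_left j
  have hPd₂ : P ≤ ⁅normalizer (Q' : Set G), normalizer (Q' : Set G)⁆ :=
    hPd₁.trans (commutator_mono inf_le_right inf_le_right)
  -- the split of `N(Q)` over `N(R)`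
  have hmem : Rs ∈ Cfsg.maxInvSubgroups ⊤ Q' {r} := by
    refine ⟨⟨le_top, fun k hk hd => ?_, hQP.trans hRs.2.1⟩, fun U hU hle => hRsA.2.2 U ?_
      (hAQ.trans hU.2.2) hle⟩
    · obtain ⟨j, hj⟩ := IsPGroup.iff_card.mp hRs.1
      rw [hj] at hd
      exact (Nat.prime_dvd_prime_iff_eq hk hr).mp (hk.dvd_of_dvd_pow hd)
    · exact IsPGroup.of_card (n := (Nat.card U).primeFactorsList.length)
        (Nat.eq_prime_pow_of_unique_prime_dvd Nat.card_pos.ne' (fun {d} hd hdd => hU.2.1 d hd hdd))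
  obtain ⟨-, -, -, hd4⟩ := Cfsg.Agent.S1395.result hG A hTH r hr hrA Q'
    (Uniqueness.ne_top_of_pGroup hG (hP.to_le hQP)) (hπ Q' hQP) hAQ
    (Subgroup.Normal.isSubnormal (normal_subgroupOf_of_le_normalizer (hQP.trans hPA)))
    (fun Q₁ h₁ Q₂ h₂ => by
      obtain ⟨k, hk, e⟩ := htr Q₁ Q₂ (TransitivityHyp.isMaxInv_of_mem h₁)
        (TransitivityHyp.isMaxInv_of_mem h₂)
      exact ⟨k, hk, e.symm⟩)
  obtain ⟨-, hsplit₂⟩ := hd4 Rs hmem
  have hPd₃ : P ≤ ⁅normalizer (Rs : Set G), normalizer (Rs : Set G)⁆ := by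
    refine (le_commutator_of_split ((map_subtype_le _).trans (centralizer_le_normalizer _))
      ((Transfer.normalizer_le_normalizer_centralizer Q').trans
        (normalizer_le_normalizer_piCoreOf _ _)) inf_le_left hsplit₂.le
      (le_inf hPQ hRs.2.1) ?_ hPd₂).trans (commutator_mono inf_le_right inf_le_right)
    refine Nat.coprime_of_dvd fun k hk hkP hkK =>
      (TransitivityHyp.isPiSubgroup_piCoreOf _ _ k hk hkK).2 ?_
    exact hπ P le_rfl k hk hkP
  obtain ⟨q', cH⟩ := hs.exists_colour_of_derived hH hAP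
    (hPd₃.trans (commutator_mono hRsH hRsH))
  exact hs.not_two_colours hM hH hHM cM cH

end CfsgLib.TwoGroups.TwoColours
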