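import Cfsg.Agent.Lib.TwoGroups.TypeFive

/-!
Owner: helper12. The kernel `M_s` of a maximal subgroup is a `σ(M)`-Hall subgroup of `M` and of `G`.
-/

set_option autoImplicit false
set_option linter.unusedSectionVars false

namespace CfsgLib.TwoGroups.TypeCore

open Subgroup

variable {G : Type*} [Group G] [Finite G] {M C : Subgroup G}

/-- A subgroup of `M_σ` with order prime to its index in `M` is one in `G`. -/
theorem coprime_index (hG : Cfsg.IsMinSimpleOddOrder G) (hM : IsCoatom M) (hC : C ≤ Cfsg.sigmaCore M)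
    (hc : (Nat.card C).Coprime (C.relIndex M)) : (Nat.card C).Coprime C.index := by
  obtain ⟨-, ⟨hπ, hidx⟩, -⟩ := OddLocal.SigmaCore.sigmaCore_hall hG hM
  refine Nat.coprime_of_dvd fun t ht h1 h2 => ?_
  rw [← relIndex_mul_index hC, ht.dvd_mul] at h2
  rcases h2 with h2 | h2
  · refine Nat.not_coprime_of_dvd_of_dvd ht.one_lt h1 (h2.trans (Dvd.intro ((Cfsg.sigmaCore M).relIndex M)
      (relIndex_mul_relIndex _ _ _ hC (TauTwo.sigmaCore_le M)))) hc
  · exact hidx t ht (hπ t ht (h1.trans (card_dvd_of_le hC))) h2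

/-- Its Sylow normalisers lie in `M`. -/
theorem sylow_normalizer_le (hG : Cfsg.IsMinSimpleOddOrder G) (hM : IsCoatom M) (hC : C ≤ Cfsg.sigmaCore M)
    (hc : (Nat.card C).Coprime (C.relIndex M)) {p : ℕ} (hp : p.Prime) (P : Sylow p C)
    (hP : (P : Subgroup C) ≠ ⊥) : normalizer (((P : Subgroup C).map C.subtype : Subgroup G) : Set G) ≤ M := by
  have := Fact.mk hp
  have hpd : p ∣ Nat.card C := by
    obtain ⟨k, hk⟩ := IsPGroup.iff_card.mp P.2
    rcases k with _ | k
    · exact absurd (eq_bot_of_card_eq _ (by simpa using hk)) hP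
    · exact (hk ▸ dvd_pow_self p (by omega) : p ∣ Nat.card (P : Subgroup C)).trans (card_subgroup_dvd_card _)
  have hpσ : p ∈ Cfsg.sigma M := TauTwo.mem_sigma_of_dvd hp (hpd.trans (card_dvd_of_le hC)) hG hM
  have hCM : C ≤ M := hC.trans (TauTwo.sigmaCore_le M)
  have hPM : (P : Subgroup C).map C.subtype ≤ M := (map_subtype_le _).trans hCM
  have hnd : ¬ p ∣ ((P : Subgroup C).map C.subtype).relIndex M := by
    rw [← relIndex_mul_relIndex _ C M (map_subtype_le _) hCM, hp.dvd_mul]
    push Not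
    refine ⟨?_, fun h => Nat.not_coprime_of_dvd_of_dvd hp.one_lt hpd h hc⟩
    rw [relIndex, subgroupOf, comap_map_eq_self_of_injective C.subtype_injective]
    exact P.not_dvd_index
  have hT := (P.2.map C.subtype).comap_subtype (K := M)
  have e : ((hT.toSylow hnd : Sylow p M) : Subgroup M).map M.subtype = (P : Subgroup C).map C.subtype :=
    map_subgroupOf_eq_of_le hPM
  rw [← e]
  exact SigmaTrans.exists_sylow_of_sigma hpσ _

/-- The defining facts of `M_s`. -/
theorem typeCore_facts (hG : Cfsg.IsMinSimpleOddOrder G) (hM : IsCoatom M) :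
    Cfsg.typeCore M ≤ Cfsg.sigmaCore M ∧
      (Nat.card (Cfsg.typeCore M)).Coprime ((Cfsg.typeCore M).relIndex M) := by
  classical
  unfold Cfsg.typeCore
  split_ifs with h
  · obtain ⟨K, U, hd⟩ := Chapter15.exists_decomposition hG hM (Chapter15.kappaCyclic hG)
    obtain ⟨hK, hU, -⟩ := (TypeFrobenius.typeThreeFour_iff hG hM hd).mp h
    refine ⟨?_, TypePData.coprime_derived hG hM hd hK⟩
    rw [TypeP2.derived_eq hG hM hd hK, hU, bot_sup_eq]
  · exact ⟨FittingStructure.fittingHallOf_le_sigmaCore hG hM, OddLocal.fittingHallOf_coprime M⟩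

/-- S1389. -/
theorem main (hG : Cfsg.IsMinSimpleOddOrder G) (hM : IsCoatom M) :
    (∀ (p : ℕ), p.Prime → ∀ (P : Sylow p ↥(Cfsg.typeCore M)), (P : Subgroup ↥(Cfsg.typeCore M)) ≠ ⊥ →
        normalizer ((((P : Subgroup ↥(Cfsg.typeCore M)).map (Cfsg.typeCore M).subtype : Subgroup G)) : Set G) ≤ M) ∧
      (Nat.card (Cfsg.fittingHallOf M)).Coprime (Cfsg.fittingHallOf M).index ∧
      (Nat.card (Cfsg.typeCore M)).Coprime (Cfsg.typeCore M).index :=
  ⟨fun _ hp P hP => sylow_normalizer_le hG hM (typeCore_facts hG hM).1 (typeCore_facts hG hM).2 hp P hP,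
    coprime_index hG hM (FittingStructure.fittingHallOf_le_sigmaCore hG hM) (OddLocal.fittingHallOf_coprime M),
    coprime_index hG hM (typeCore_facts hG hM).1 (typeCore_facts hG hM).2⟩

end CfsgLib.TwoGroups.TypeCore
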