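import Cfsg.Agent.Lib.TwoGroups.UniquenessChain

/-!
Owner: helper12. In odd order, a subgroup of order `q ^ 2` with a centraliser of rank two has at
most one line with a centraliser of rank three.
-/

set_option autoImplicit false

namespace CfsgLib.TwoGroups.UniqueLine

open Subgroup

variable {G : Type*} [Group G] [Finite G] {q : ℕ} [Fact q.Prime]

theorem pow_prime_eq_one {L : Subgroup G} (hL : Nat.card L = q) {x : G} (hx : x ∈ L) :
    x ^ q = 1 := by
  have h := pow_card_eq_one' (x := (⟨x, hx⟩ : L))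
  rw [hL] at h
  exact congrArg Subtype.val h

theorem eq_zpowers {L : Subgroup G} (hL : Nat.card L = q) {x : G} (hx : x ∈ L) (hx1 : x ≠ 1) :
    zpowers x = L := by
  refine eq_of_le_of_card_ge (zpowers_le.mpr hx) ?_
  rw [Nat.card_zpowers, orderOf_eq_prime (pow_prime_eq_one hL hx) hx1, hL]

theorem inf_eq_bot {L₁ L₂ : Subgroup G} (h₁ : Nat.card L₁ = q) (h₂ : Nat.card L₂ = q)
    (hne : L₁ ≠ L₂) : L₁ ⊓ L₂ = ⊥ := by
  rcases (Nat.dvd_prime (Fact.out : q.Prime)).mp (h₁ ▸ card_dvd_of_le (inf_le_left : L₁ ⊓ L₂ ≤ L₁))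
    with h | h
  · exact eq_bot_of_card_eq _ h
  · exact absurd (eq_of_le_of_card_ge ((eq_of_le_of_card_ge inf_le_left (by rw [h, h₁])).ge.trans
      inf_le_right) (by rw [h₁, h₂])) hne

/-- An element of order prime `q` centralising `W` lies in `W` if `C(W)` has rank two. -/
theorem mem_of_centralizes {W : Subgroup G} (hW : Cfsg.IsElementaryAbelian q W)
    (hW2 : q ^ 2 ≤ Nat.card W) (hr : Cfsg.PRankLE q 2 (centralizer (W : Set G))) {x : G}
    (hx : x ∈ centralizer (W : Set G)) (hxq : x ^ q = 1) : x ∈ W := by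
  by_contra hxW
  have hcc : IsMulCommutative ↥(W ⊔ zpowers x) := by
    have hz : zpowers x ≤ centralizer (W : Set G) := zpowers_le.mpr hx
    exact le_centralizer_iff_isMulCommutative.mp (sup_le
      (le_centralizer_iff.mp (sup_le (le_centralizer_iff_isMulCommutative.mpr hW.1) hz))
      (le_centralizer_iff.mp (sup_le (le_centralizer_iff.mp hz)
        (le_centralizer_iff_isMulCommutative.mpr inferInstance))))
  have hle : W ⊔ zpowers x ≤ centralizer (W : Set G) :=
    sup_le (le_centralizer_iff_isMulCommutative.mpr hW.1) (zpowers_le.mpr hx)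
  have h := hr ((W ⊔ zpowers x).subgroupOf (centralizer (W : Set G)))
    ⟨⟨fun u v => Subtype.ext (Subtype.ext (congrArg Subtype.val
      (hcc.is_comm.comm (⟨_, u.2⟩ : ↥(W ⊔ zpowers x)) ⟨_, v.2⟩) :))⟩⟩ (fun a ha => by
      obtain ⟨u, hu, v, hv, e⟩ := (Core.mem_sup_iff_mul'
        ((zpowers_le.mpr hx).trans (centralizer_le_normalizer _))).mp
        (show (a : G) ∈ zpowers x ⊔ W by rw [sup_comm]; exact ha)
      obtain ⟨i, rfl⟩ := hv
      refine Subtype.ext ?_
      show (a : G) ^ q = 1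
      have hcm : Commute u (x ^ i) :=
        (show Commute u x from mem_centralizer_iff.mp hx u hu).zpow_right i
      rw [e, hcm.mul_pow, hW.2 u hu, one_mul, ← zpow_natCast, ← zpow_mul, mul_comm, zpow_mul,
        zpow_natCast, hxq, one_zpow])
  rw [Nat.card_congr (subgroupOfEquivOfLe hle).toEquiv] at h
  have := Transfer.card_lt_of_lt (lt_of_le_of_ne (le_sup_left : W ≤ W ⊔ zpowers x)
    fun e => hxW (e.ge (mem_sup_right (mem_zpowers x))))
  omega

/-- A `q`-element normalising `W` and centralising `L₁` acts as a transvection. -/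
theorem exists_transvection {W L₁ : Subgroup G} (hW : Cfsg.IsElementaryAbelian q W)
    (hW2 : Nat.card W = q ^ 2) (hr : Cfsg.PRankLE q 2 (centralizer (W : Set G)))
    (h₁ : L₁ ≤ W) (hc₁ : Nat.card L₁ = q) (hL : ¬ Cfsg.PRankLE q 2 (centralizer (L₁ : Set G)))
    {x : G} (hxW : x ∈ W) (hx : x ∉ L₁) :
    ∃ t ∈ normalizer (W : Set G), t ∈ centralizer (L₁ : Set G) ∧
      ∃ l ∈ L₁, l ≠ 1 ∧ t * x * t⁻¹ = x * l := by
  have hq : q.Prime := Fact.out
  set C := centralizer (L₁ : Set G)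
  have hWC : W ≤ C := (le_centralizer_iff_isMulCommutative.mpr hW.1).trans (centralizer_le h₁)
  obtain ⟨S, hS⟩ := ((Signalizer.elementary_isPGroup hW).comap_subtype (K := C)).exists_le_sylow
  set R := (S : Subgroup C).map C.subtype with hR
  have hRp : IsPGroup q R := S.2.map _
  have hWR : W ≤ R := fun w hw => ⟨⟨w, hWC hw⟩, hS hw, rfl⟩
  set C' := R ⊓ centralizer (W : Set G) with hC'
  have hne : C' ≠ R := by
    intro e
    obtain ⟨E, hEC, hE, hE3⟩ := Uniqueness.exists_elementary_of_not_rank hL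
    obtain ⟨S', hS'⟩ := ((Signalizer.elementary_isPGroup hE).comap_subtype (K := C)).exists_le_sylow
    obtain ⟨c, hc⟩ := MulAction.exists_smul_eq C S' S
    set E' := E.map (MulAut.conj (c : G)).toMonoidHom with hE'
    have hle : E' ≤ centralizer (W : Set G) := by
      rintro _ ⟨y, hy, rfl⟩
      refine (e.ge.trans inf_le_right) ⟨c * ⟨y, hEC hy⟩ * c⁻¹, ?_, rfl⟩
      rw [SetLike.mem_coe, ← hc, Transfer.mem_sylow_smul]
      simpa [mul_assoc] using hS' (show (⟨y, hEC hy⟩ : C) ∈ E.comap C.subtype from hy)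
    have := hE.1
    have h := hr (E'.subgroupOf (centralizer (W : Set G))) inferInstance (fun a ha => Subtype.ext (by
      obtain ⟨y, hy, ey⟩ := ha
      show (a : G) ^ q = 1
      rw [show (a : G) = (MulAut.conj (c : G)).toMonoidHom y from ey.symm, ← map_pow, hE.2 y hy,
        map_one]))
    rw [Nat.card_congr (subgroupOfEquivOfLe hle).toEquiv, hE', Transfer.card_map_conj] at h
    have : q ^ 2 < q ^ (2 + 1) := Nat.pow_lt_pow_right hq.one_lt (by omega)
    omega
  have hlt := Transfer.lt_inf_normalizer hRp (lt_of_le_of_ne inf_le_left hne)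
  obtain ⟨t, ⟨htR, htn⟩, htC⟩ := SetLike.exists_of_lt hlt
  have htW : t ∈ normalizer (W : Set G) := by
    refine Transfer.map_conj_eq_self_iff.mp (eq_of_le_of_card_ge ?_ (Transfer.card_map_conj _ _).ge)
    rintro _ ⟨w, hw, rfl⟩
    refine mem_of_centralizes hW hW2.ge hr ?_ ?_
    · exact ((mem_normalizer_iff.mp htn w).mp
        ⟨hWR hw, le_centralizer_iff_isMulCommutative.mpr hW.1 hw⟩).2
    · rw [← map_pow, hW.2 w hw, map_one]
  have htL : t ∈ centralizer (L₁ : Set G) := map_subtype_le _ htR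
  have hx1 : x ≠ 1 := fun e => hx (e ▸ one_mem _)
  have hxo : orderOf x = q := orderOf_eq_prime (hW.2 x hxW) hx1
  -- the action on `W / L₁`
  have hn : zpowers x ≤ normalizer (L₁ : Set G) :=
    ((zpowers_le.mpr hxW).trans hWC).trans (centralizer_le_normalizer _)
  have hsup : zpowers x ⊔ L₁ = W := by
    have h := Core.card_sup_mul_card_inf (zpowers x) L₁ hn
    have hb : zpowers x ⊓ L₁ = ⊥ :=
      inf_eq_bot (by rw [Nat.card_zpowers, hxo]) hc₁ fun e => hx (e ▸ mem_zpowers x)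
    rw [hb, card_bot, mul_one, Nat.card_zpowers, hxo, hc₁] at h
    exact eq_of_le_of_card_ge (sup_le (zpowers_le.mpr hxW) h₁) (by rw [h, hW2, sq])
  obtain ⟨l, hl, u, hu, hux⟩ := (Core.mem_sup_iff_mul' hn).mp
    (hsup.ge ((mem_normalizer_iff.mp htW x).mp hxW))
  obtain ⟨e, rfl⟩ := mem_zpowers_iff.mp hu
  have hcomm : ∀ a ∈ W, ∀ b ∈ W, a * b = b * a := fun a ha b hb => Signalizer.elementary_comm hW ha hb
  have hpow : ∀ n : ℕ, ∃ m ∈ L₁, t ^ n * x * (t ^ n)⁻¹ = x ^ (e ^ n) * m := by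
    intro n
    induction n with
    | zero => exact ⟨1, one_mem _, by simp⟩
    | succ n ih =>
      obtain ⟨m, hm, em⟩ := ih
      refine ⟨l ^ (e ^ n) * m, mul_mem (zpow_mem hl _) hm, ?_⟩
      have h3 : t * x * t⁻¹ = x ^ e * l := by rw [hux, hcomm l (h₁ hl) _ (zpow_mem hxW e)]
      calc t ^ (n + 1) * x * (t ^ (n + 1))⁻¹ = t * (t ^ n * x * (t ^ n)⁻¹) * t⁻¹ := by
            rw [pow_succ']; group
        _ = t * x ^ (e ^ n) * t⁻¹ * (t * m * t⁻¹) := by rw [em]; group
        _ = (t * x * t⁻¹) ^ (e ^ n) * m := by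
            rw [conj_zpow, ← mem_centralizer_iff.mp htL m hm, mul_inv_cancel_right]
        _ = x ^ (e ^ (n + 1)) * (l ^ (e ^ n) * m) := by
            rw [h3, (show Commute (x ^ e) l from hcomm _ (zpow_mem hxW e) l (h₁ hl)).mul_zpow,
              ← zpow_mul, mul_assoc, pow_succ']
  obtain ⟨k, hk⟩ := hRp ⟨t, htR⟩
  obtain ⟨m, hm, em⟩ := hpow (q ^ k)
  rw [show t ^ q ^ k = 1 from congrArg Subtype.val hk, one_mul, inv_one, mul_one] at em
  have hdiv : (q : ℤ) ∣ e ^ (q ^ k) - 1 := by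
    suffices h0 : x ^ (e ^ (q ^ k) - 1) = 1 by
      have := orderOf_dvd_iff_zpow_eq_one.mpr h0
      rwa [hxo] at this
    refine mem_bot.mp ((inf_eq_bot (by rw [Nat.card_zpowers, hxo]) hc₁
      fun e' => hx (e' ▸ mem_zpowers x)).le ⟨zpow_mem (mem_zpowers x) _, ?_⟩)
    have h4 : x ^ (e ^ (q ^ k) - 1) = m⁻¹ := by
      rw [zpow_sub, zpow_one, mul_inv_eq_iff_eq_mul]
      nth_rewrite 2 [em]
      rw [← mul_assoc, hcomm m⁻¹ (inv_mem (h₁ hm)) _ (zpow_mem hxW _), mul_assoc,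
        inv_mul_cancel, mul_one]
    rw [h4]
    exact L₁.inv_mem hm
  have he : (e : ZMod q) = 1 := by
    have h := (ZMod.intCast_eq_intCast_iff_dvd_sub 1 (e ^ (q ^ k)) q).mpr hdiv
    push_cast at h
    rw [ZMod.pow_card_pow] at h
    exact h.symm
  have hxe : x ^ e = x := by
    have h := (ZMod.intCast_eq_intCast_iff_dvd_sub 1 e q).mp (by push_cast; exact he.symm)
    rw [← hxo, orderOf_dvd_iff_zpow_eq_one, zpow_sub, zpow_one, mul_inv_eq_one] at h
    exact h
  have htx : t * x * t⁻¹ = x * l := by rw [hux, hxe, hcomm l (h₁ hl) x hxW]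
  refine ⟨t, htW, htL, l, hl, fun hl1 => htC ⟨htR, ?_⟩, htx⟩
  rw [hl1, mul_one, mul_inv_eq_iff_eq_mul] at htx
  rw [← hsup]
  exact le_centralizer_iff.mp (sup_le
    (zpowers_le.mpr (mem_centralizer_iff.mpr fun s hs => by
      obtain ⟨j, rfl⟩ := mem_zpowers_iff.mp hs
      exact (show Commute t x from htx).zpow_left j |>.eq))
    (le_centralizer_iff.mp (zpowers_le.mpr htL))) (mem_zpowers t)

/-- The two lines coincide. -/
theorem eq_of_rank_three (hodd : Odd (Nat.card G)) {W L₁ L₂ : Subgroup G}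
    (hW : Cfsg.IsElementaryAbelian q W) (hW2 : Nat.card W = q ^ 2)
    (hr : Cfsg.PRankLE q 2 (centralizer (W : Set G))) (h₁ : L₁ ≤ W) (h₂ : L₂ ≤ W)
    (hc₁ : Nat.card L₁ = q) (hc₂ : Nat.card L₂ = q)
    (hb₁ : ¬ Cfsg.PRankLE q 2 (centralizer (L₁ : Set G)))
    (hb₂ : ¬ Cfsg.PRankLE q 2 (centralizer (L₂ : Set G))) : L₁ = L₂ := by
  by_contra hne
  have hd := inf_eq_bot hc₁ hc₂ hne
  have hL₂ : L₂ ≠ ⊥ := fun h => by
    rw [h, card_bot] at hc₂
    exact (Fact.out : q.Prime).ne_one hc₂.symm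
  obtain ⟨⟨x, hx⟩, hx1⟩ := L₂.ne_bot_iff_exists_ne_one.mp hL₂
  have hx1' : x ≠ 1 := fun e => hx1 (Subtype.ext e)
  obtain ⟨t, -, htL, y, hy, hy1, htx⟩ := exists_transvection hW hW2 hr h₁ hc₁ hb₁ (h₂ hx)
    (fun h => hx1' (mem_bot.mp (hd.le ⟨h, hx⟩)))
  obtain ⟨u, -, huL, m, hm, hm1, huy⟩ := exists_transvection hW hW2 hr h₂ hc₂ hb₂ (h₁ hy)
    (fun h => hy1 (mem_bot.mp (hd.le ⟨hy, h⟩)))
  obtain ⟨i, hi⟩ := mem_zpowers_iff.mp ((eq_zpowers hc₂ hm hm1).ge (inv_mem hx))
  have huy' : ∀ j : ℤ, u ^ j * y * (u ^ j)⁻¹ = y * m ^ j := by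
    intro j
    have hum : ∀ j : ℤ, Commute (u ^ j) m := fun j =>
      (show Commute m u from mem_centralizer_iff.mp huL m hm).symm.zpow_left j
    induction j using Int.induction_on with
    | zero => simp
    | succ j ih =>
      calc u ^ ((j : ℤ) + 1) * y * (u ^ ((j : ℤ) + 1))⁻¹
          = u ^ (j : ℤ) * (u * y * u⁻¹) * (u ^ (j : ℤ))⁻¹ := by rw [zpow_add, zpow_one]; group
        _ = u ^ (j : ℤ) * y * (u ^ (j : ℤ))⁻¹ * m := by
            rw [huy, ← mul_assoc, mul_assoc _ m, ((hum j).inv_left).symm.eq, ← mul_assoc]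
        _ = y * m ^ ((j : ℤ) + 1) := by rw [ih, zpow_add, zpow_one, mul_assoc]
    | pred j ih =>
      have hbase : u⁻¹ * y * u = y * m⁻¹ := by
        have h5 : u⁻¹ * (y * m) * u = y := by rw [← huy]; group
        calc u⁻¹ * y * u = u⁻¹ * (y * m) * (m⁻¹ * u) := by group
          _ = u⁻¹ * (y * m) * (u * m⁻¹) := by
              rw [show m⁻¹ * u = u * m⁻¹ from
                ((show Commute m u from mem_centralizer_iff.mp huL m hm).inv_left).eq]
          _ = y * m⁻¹ := by rw [← mul_assoc, h5]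
      calc u ^ (-(j : ℤ) - 1) * y * (u ^ (-(j : ℤ) - 1))⁻¹
          = u ^ (-(j : ℤ)) * (u⁻¹ * y * u) * (u ^ (-(j : ℤ)))⁻¹ := by
            rw [zpow_sub, zpow_one]; group
        _ = u ^ (-(j : ℤ)) * y * (u ^ (-(j : ℤ)))⁻¹ * m⁻¹ := by
            rw [hbase, ← mul_assoc, mul_assoc _ m⁻¹, ((hum _).inv_left.inv_right).symm.eq, ← mul_assoc]
        _ = y * m ^ (-(j : ℤ) - 1) := by rw [ih, zpow_sub, zpow_one, mul_assoc]
  set w := t * u ^ i * t with hw
  have hty : t * y * t⁻¹ = y := by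
    rw [← mem_centralizer_iff.mp htL y hy, mul_inv_cancel_right]
  have hux : u ^ i * x * (u ^ i)⁻¹ = x := by
    rw [← mem_centralizer_iff.mp (zpow_mem huL i) x hx, mul_inv_cancel_right]
  have hcomm : x * y = y * x := Signalizer.elementary_comm hW (h₂ hx) (h₁ hy)
  have hwy : w * y * w⁻¹ = x⁻¹ := by
    calc w * y * w⁻¹ = t * (u ^ i * (t * y * t⁻¹) * (u ^ i)⁻¹) * t⁻¹ := by rw [hw]; group
      _ = t * (y * x⁻¹) * t⁻¹ := by rw [hty, huy', hi]
      _ = (t * y * t⁻¹) * (t * x * t⁻¹)⁻¹ := by group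
      _ = x⁻¹ := by rw [hty, htx]; group
  have hwx : w * x * w⁻¹ = y := by
    calc w * x * w⁻¹ = t * (u ^ i * (t * x * t⁻¹) * (u ^ i)⁻¹) * t⁻¹ := by rw [hw]; group
      _ = t * ((u ^ i * x * (u ^ i)⁻¹) * (u ^ i * y * (u ^ i)⁻¹)) * t⁻¹ := by rw [htx]; group
      _ = t * (x * (y * x⁻¹)) * t⁻¹ := by rw [hux, huy', hi]
      _ = t * y * t⁻¹ := by
          rw [show x * (y * x⁻¹) = y by rw [← mul_assoc, hcomm, mul_inv_cancel_right]]
      _ = y := hty
  have h2 : w ^ 2 * x * (w ^ 2)⁻¹ = x⁻¹ := by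
    rw [← hwy, ← hwx, sq]; group
  obtain ⟨r, hr'⟩ : Odd (orderOf (w ^ 2)) := hodd.of_dvd_nat (orderOf_dvd_natCard _)
  have h4 : ∀ n : ℕ, (w ^ 2) ^ (2 * n) * x * ((w ^ 2) ^ (2 * n))⁻¹ = x := by
    intro n
    induction n with
    | zero => simp
    | succ n ih =>
      calc (w ^ 2) ^ (2 * (n + 1)) * x * ((w ^ 2) ^ (2 * (n + 1)))⁻¹
          = (w ^ 2) ^ (2 * n) * (w ^ 2 * (w ^ 2 * x * (w ^ 2)⁻¹) * (w ^ 2)⁻¹) *
              ((w ^ 2) ^ (2 * n))⁻¹ := by rw [mul_add, mul_one, pow_add, sq (w ^ 2)]; group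
        _ = (w ^ 2) ^ (2 * n) * x * ((w ^ 2) ^ (2 * n))⁻¹ := by
            rw [h2, show w ^ 2 * x⁻¹ * (w ^ 2)⁻¹ = (w ^ 2 * x * (w ^ 2)⁻¹)⁻¹ by group, h2, inv_inv]
        _ = x := ih
  have h5 : x = x⁻¹ := by
    have h6 := pow_orderOf_eq_one (w ^ 2)
    rw [hr', pow_succ'] at h6
    have h7 : (w ^ 2) ^ (2 * r) = (w ^ 2)⁻¹ := eq_inv_of_mul_eq_one_right h6
    have h8 := h4 r
    rw [h7, inv_inv] at h8
    calc x = w ^ 2 * ((w ^ 2)⁻¹ * x * w ^ 2) * (w ^ 2)⁻¹ := by group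
      _ = w ^ 2 * x * (w ^ 2)⁻¹ := by rw [h8]
      _ = x⁻¹ := h2
  have hxo : orderOf x = q := orderOf_eq_prime (pow_prime_eq_one hc₂ hx) hx1'
  have h9 : orderOf x ∣ 2 := orderOf_dvd_of_pow_eq_one (by
    rw [sq]; nth_rewrite 2 [h5]; exact mul_inv_cancel x)
  rw [hxo] at h9
  have hq2 := (Nat.prime_dvd_prime_iff_eq Fact.out Nat.prime_two).mp h9
  have hd2 : q ∣ Nat.card G := hxo ▸ orderOf_dvd_natCard x
  rw [hq2] at hd2
  obtain ⟨s, hs⟩ := hodd
  omega

/-- In a `q`-group without uniqueness pairs the line with a large centraliser is unique. -/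
theorem normalizer_le (hodd : Odd (Nat.card G)) {S L : Subgroup G} (hS : IsPGroup q S) (hL : L ≤ S)
    (hLc : Nat.card L = q) (hLb : ¬ Cfsg.PRankLE q 2 (centralizer (L : Set G)))
    (hno : ∀ E : Subgroup G, E ≤ S → Cfsg.IsElementaryAbelian q E → q ^ 2 ≤ Nat.card E →
      Cfsg.PRankLE q 2 (centralizer (E : Set G))) :
    normalizer (S : Set G) ≤ normalizer (L : Set G) := by
  have hq : q.Prime := Fact.out
  suffices key : ∀ L' : Subgroup G, L' ≤ S → Nat.card L' = q →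
      ¬ Cfsg.PRankLE q 2 (centralizer (L' : Set G)) → L' = L by
    intro g hg
    refine Transfer.map_conj_eq_self_iff.mp (key _ ?_ ?_ ?_)
    · exact (map_mono hL).trans (Transfer.map_conj_eq_self_iff.mpr hg).le
    · rw [Transfer.card_map_conj, hLc]
    · intro h
      set C := centralizer (L : Set G)
      refine hLb fun X hX hXe => ?_
      set X' := (X.map C.subtype).map (MulAut.conj g).toMonoidHom with hX'
      have hle : X' ≤ centralizer (L.map (MulAut.conj g).toMonoidHom : Set G) := by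
        rintro _ ⟨_, ⟨x, hx, rfl⟩, rfl⟩
        refine mem_centralizer_iff.mpr ?_
        rintro _ ⟨l, hl, rfl⟩
        rw [← map_mul, ← map_mul]
        exact congrArg _ (mem_centralizer_iff.mp x.2 l hl)
      have := h (X'.subgroupOf _) inferInstance (fun a ha => Subtype.ext (by
        obtain ⟨_, ⟨x, hx, rfl⟩, e⟩ := ha
        show (a : G) ^ q = 1
        rw [show (a : G) = (MulAut.conj g).toMonoidHom (C.subtype x) from e.symm, ← map_pow,
          ← map_pow, hXe x hx, map_one, map_one]))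
      rwa [Nat.card_congr (subgroupOfEquivOfLe hle).toEquiv, hX', Transfer.card_map_conj,
        card_map_of_injective C.subtype_injective] at this
  have hpair : ∀ L₁ L₂ : Subgroup G, L₁ ≤ S → L₂ ≤ S → Nat.card L₁ = q → Nat.card L₂ = q →
      ¬ Cfsg.PRankLE q 2 (centralizer (L₁ : Set G)) → ¬ Cfsg.PRankLE q 2 (centralizer (L₂ : Set G)) →
      L₁ ≤ centralizer (L₂ : Set G) → L₁ = L₂ := by
    intro L₁ L₂ h₁ h₂ hc₁ hc₂ hb₁ hb₂ hcen
    by_contra hne
    have hn : L₁ ≤ normalizer (L₂ : Set G) := hcen.trans (centralizer_le_normalizer _)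
    have hcard : Nat.card ↥(L₁ ⊔ L₂) = q ^ 2 := by
      have h := Core.card_sup_mul_card_inf L₁ L₂ hn
      rw [inf_eq_bot hc₁ hc₂ hne, card_bot, mul_one, hc₁, hc₂] at h
      rw [h, sq]
    have hcyc₁ : IsCyclic L₁ := isCyclic_of_prime_card hc₁
    have hcyc₂ : IsCyclic L₂ := isCyclic_of_prime_card hc₂
    have hW : Cfsg.IsElementaryAbelian q (L₁ ⊔ L₂) := by
      refine ⟨le_centralizer_iff_isMulCommutative.mp (sup_le
        (le_centralizer_iff.mp (sup_le (le_centralizer_iff_isMulCommutative.mpr inferInstance)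
          (le_centralizer_iff.mp hcen)))
        (le_centralizer_iff.mp (sup_le hcen (le_centralizer_iff_isMulCommutative.mpr inferInstance)))), ?_⟩
      intro a ha
      obtain ⟨b, hb, c, hc, rfl⟩ := (Core.mem_sup_iff_mul' hn).mp ha
      rw [(show Commute b c from (mem_centralizer_iff.mp (hcen hc) b hb)).mul_pow,
        pow_prime_eq_one hc₂ hb, pow_prime_eq_one hc₁ hc, one_mul]
    exact hne (eq_of_rank_three hodd hW hcard (hno _ (sup_le h₁ h₂) hW hcard.ge)
      le_sup_left le_sup_right hc₁ hc₂ hb₁ hb₂)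
  intro L' hL'S hL'c hL'b
  by_cases hcyc : IsCyclic S
  · exact hpair _ _ hL'S hL hL'c hLc hL'b hLb (by
      intro x hx
      refine mem_centralizer_iff.mpr fun y hy => ?_
      have := hcyc
      exact congrArg Subtype.val (IsMulCommutative.is_comm.comm (⟨y, hL hy⟩ : S) ⟨x, hL'S hx⟩))
  -- `S` lies in a Sylow subgroup with a central line
  obtain ⟨T, hT⟩ := hS.exists_le_sylow
  have hnt : Nontrivial (T : Subgroup G) := by
    refine (nontrivial_iff_ne_bot _).mpr fun hb => hcyc ?_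
    have hb' : S = ⊥ := le_bot_iff.mp (hb ▸ hT)
    rw [hb']
    infer_instance
  obtain ⟨z, -, hzc, hzo⟩ := Transfer.exists_mem_center_orderOf_eq T.2 (Z := (⊤ : Subgroup (T : Subgroup G)))
    (fun h => top_ne_bot h)
  set Z := zpowers (z : G) with hZdef
  have hZT : Z ≤ (T : Subgroup G) := zpowers_le.mpr z.2
  have hTZ : (T : Subgroup G) ≤ centralizer (Z : Set G) := le_centralizer_iff.mpr (zpowers_le.mpr
    (mem_centralizer_iff.mpr fun x hx => congrArg Subtype.val (mem_center_iff.mp hzc ⟨x, hx⟩)))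
  have hZc : Nat.card Z = q := by rw [hZdef, Nat.card_zpowers, orderOf_coe, hzo]
  have hZb : ¬ Cfsg.PRankLE q 2 (centralizer (Z : Set G)) := by
    intro h
    obtain ⟨E, hEC, hE, hE3⟩ := Uniqueness.exists_elementary_of_not_rank hLb
    obtain ⟨T', hT'⟩ := (Signalizer.elementary_isPGroup hE).exists_le_sylow
    obtain ⟨g, hg⟩ := MulAction.exists_smul_eq G T' T
    have hle : E.map (MulAut.conj g).toMonoidHom ≤ centralizer (Z : Set G) := by
      refine le_trans ?_ hTZ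
      rintro _ ⟨y, hy, rfl⟩
      rw [← hg, Transfer.mem_sylow_smul]
      simpa [mul_assoc] using hT' hy
    have := hE.1
    have h2 := h ((E.map (MulAut.conj g).toMonoidHom).subgroupOf _) inferInstance
      (fun a ha => Subtype.ext (by
        obtain ⟨y, hy, ey⟩ := ha
        show (a : G) ^ q = 1
        rw [show (a : G) = (MulAut.conj g).toMonoidHom y from ey.symm, ← map_pow, hE.2 y hy, map_one]))
    rw [Nat.card_congr (subgroupOfEquivOfLe hle).toEquiv, Transfer.card_map_conj] at h2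
    have : q ^ 2 < q ^ (2 + 1) := Nat.pow_lt_pow_right hq.one_lt (by omega)
    omega
  have hq2 : q ≠ 2 := by
    rintro rfl
    obtain ⟨s, hs⟩ := hodd
    have := hLc ▸ L.card_subgroup_dvd_card
    omega
  obtain ⟨E₀, -, hE₀, hE₀2⟩ := Transfer.exists_normal_elementary_card_sq hq2 hS hcyc
  have hE : Cfsg.IsElementaryAbelian q (E₀.map S.subtype) := by
    have := hE₀.1
    refine ⟨inferInstance, ?_⟩
    rintro _ ⟨a, ha, rfl⟩
    rw [← map_pow, hE₀.2 a ha, map_one]
  have hE2 : q ^ 2 ≤ Nat.card (E₀.map S.subtype) := by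
    rw [card_map_of_injective S.subtype_injective, hE₀2]
  have hZS : Z ≤ S := by
    refine (zpowers_le.mpr ?_ : Z ≤ E₀.map S.subtype).trans (map_subtype_le _)
    refine mem_of_centralizes hE hE2 (hno _ (map_subtype_le _) hE hE2) ?_
      (pow_prime_eq_one hZc (mem_zpowers _))
    exact le_centralizer_iff.mp ((map_subtype_le _).trans (hT.trans hTZ)) (mem_zpowers _)
  exact (hpair _ _ hL'S hZS hL'c hZc hL'b hZb ((hL'S.trans hT).trans hTZ)).trans
    (hpair _ _ hL hZS hLc hZc hLb hZb ((hL.trans hT).trans hTZ)).symm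

end CfsgLib.TwoGroups.UniqueLine
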