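import Cfsg.Agent.Lib.TwoGroups.TransitivityOver
import Cfsg.Agent.Lib.OddLocal.ThompsonCenter
import Cfsg.Agent.Lib.OddLocal.RankThree
import Cfsg.Agent.Lib.Transfer.RankTwo
import Cfsg.Agent.Lib.Transfer.ZJControl
import Cfsg.Agent.S1396
import Cfsg.Agent.S1450

/-!
Owner: helper12. Uniqueness criterion for a noncyclic elementary abelian subgroup.
-/

set_option autoImplicit false

namespace CfsgLib.TwoGroups.Uniqueness

open Subgroup

variable {G : Type*} [Group G] [Finite G] {p : ℕ} [Fact p.Prime]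

/-- Frattini argument for a `p`-group times a `p'`-group. -/
theorem normalizer_sup_eq_top {Z O : Subgroup G} [O.Normal] (hZ : IsPGroup p Z)
    (hO : (Nat.card O).Coprime p) (hn : (Z ⊔ O).Normal) :
    normalizer (Z : Set G) ⊔ O = ⊤ := by
  set H := Z ⊔ O with hH
  have hnd : ¬ p ∣ (Z.subgroupOf H).index := by
    intro hd
    have h1 : Nat.card Z * (Z.subgroupOf H).index ∣ Nat.card Z * Nat.card O := by
      have := (Z.subgroupOf H).card_mul_index
      rw [Nat.card_congr (subgroupOfEquivOfLe (le_sup_left : Z ≤ H)).toEquiv] at this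
      rw [this]
      exact Core.card_sup_dvd Z O (Core.le_normalizer_of_normal Z O)
    exact (Fact.out : p.Prime).coprime_iff_not_dvd.mp hO.symm
      (hd.trans (Nat.dvd_of_mul_dvd_mul_left Nat.card_pos h1))
  set T := (hZ.comap_subtype (K := H)).toSylow hnd with hT
  have h := Sylow.normalizer_sup_eq_top T
  rw [show (T : Subgroup ↥H).map H.subtype = Z from map_subgroupOf_eq_of_le le_sup_left] at h
  rw [← top_le_iff, ← h]
  exact sup_le le_sup_left (sup_le (le_normalizer.trans le_sup_left) le_sup_right)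

/-- An element of a group `X` is a product from `N(Z)` and `O`. -/
theorem exists_split {X : Subgroup G} {Z : Subgroup G} (hZX : Z ≤ X) {O : Subgroup ↥X} [O.Normal]
    (h : normalizer ((Z.subgroupOf X : Subgroup ↥X) : Set ↥X) ⊔ O = ⊤) {x : G} (hx : x ∈ X) :
    ∃ o ∈ O.map X.subtype, ∃ n ∈ X ⊓ normalizer (Z : Set G), x = o * n := by
  obtain ⟨o, ho, n, hn, e⟩ := (Core.mem_sup_iff_mul'
    (Core.le_normalizer_of_normal (normalizer ((Z.subgroupOf X : Subgroup ↥X) : Set ↥X)) O)).mp
    (h.ge (mem_top (⟨x, hx⟩ : ↥X)))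
  refine ⟨o, ⟨o, ho, rfl⟩, n, ⟨n.2, ?_⟩, congrArg Subtype.val e⟩
  have h1 := le_normalizer_map X.subtype ⟨n, hn, rfl⟩
  rwa [map_subgroupOf_eq_of_le hZX] at h1

theorem isPGroup_lt_inf {P R : Subgroup G} (hR : IsPGroup p R) (h : P < R) :
    Nat.card P < Nat.card ↥(R ⊓ normalizer (P : Set G)) :=
  Transfer.card_lt_of_lt (Transfer.lt_inf_normalizer hR h)

theorem exists_sylow_eq {P : Subgroup G} (hP : IsPGroup p P)
    (hmax : ∀ R : Subgroup G, IsPGroup p R → P ≤ R → R = P) : ∃ S : Sylow p G, (S : Subgroup G) = P :=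
  ⟨⟨P, hP, fun {R} hR hle => hmax R hR hle⟩, rfl⟩

omit [Finite G] in
theorem solvable_pPrime {X : Subgroup G} :
    (Cfsg.pPrimeCore p ↥X).Normal := inferInstance

/-- `B` noncyclic elementary with all `B`-invariant `p'`-subgroups in `M` lies only in `M`. -/
theorem le_of_invariant (hG : Cfsg.IsMinSimpleOddOrder G) {M : Subgroup G} (hM : IsCoatom M)
    {B : Subgroup G} (hBM : B ≤ M) (hBe : Cfsg.IsElementaryAbelian p B) (hBnc : ¬ IsCyclic B)
    (hinv : ∀ Y : Subgroup G, ¬ p ∣ Nat.card Y → B ≤ normalizer (Y : Set G) → Y ≤ M) :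
    ∀ L : Subgroup G, L ≠ ⊤ → B ≤ L → L ≤ M := by
  classical
  have hBp : IsPGroup p B := Signalizer.elementary_isPGroup hBe
  have hBne : B ≠ ⊥ := by
    rintro rfl
    exact hBnc inferInstance
  have hpG : p ∣ Nat.card G := by
    obtain ⟨k, hk⟩ := IsPGroup.iff_card.mp hBp
    have hk0 : k ≠ 0 := by
      rintro rfl
      exact hBne (eq_bot_of_card_eq B (by simpa using hk))
    exact ((dvd_pow_self p hk0).trans hk.symm.dvd).trans B.card_subgroup_dvd_card
  have hp2 : p ≠ 2 := by
    rintro rfl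
    obtain ⟨t, ht⟩ := hG.1
    omega
  by_contra hbad
  push Not at hbad
  -- choose `P` as large as possible
  obtain ⟨P, ⟨hPp, hBP, hPM, L, hLt, hPL, hLM⟩, hPmax⟩ := Set.exists_max_image
    {R : Subgroup G | IsPGroup p R ∧ B ≤ R ∧ R ≤ M ∧ ∃ L : Subgroup G, L ≠ ⊤ ∧ R ≤ L ∧ ¬ L ≤ M}
    (fun R => Nat.card R) (Set.toFinite _) ⟨B, hBp, le_rfl, hBM, hbad⟩
  have hgood : ∀ R : Subgroup G, IsPGroup p R → R ≤ M → B ≤ R → Nat.card P < Nat.card R →
      ∀ X : Subgroup G, X ≠ ⊤ → R ≤ X → X ≤ M := by
    intro R hR hRM hBR hlt X hX hRX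
    by_contra hXM
    have := hPmax R ⟨hR, hBR, hRM, X, hX, hRX, hXM⟩
    omega
  have hPne : P ≠ ⊥ := fun h => hBne (le_bot_iff.mp (h ▸ hBP))
  set Z := Cfsg.centerThompsonOf p P with hZ
  set N := normalizer (Z : Set G) with hN
  have hZP : Z ≤ P := OddLocal.centerThompson_le P
  have hNP : normalizer (P : Set G) ≤ N := OddLocal.normalizer_le_normalizer_centerThompson P
  have hPN : P ≤ N := le_normalizer.trans hNP
  have hNt : N ≠ ⊤ := TransitivityHyp.normalizer_ne_top hG
    (Transfer.centerThompsonOf_ne_bot hPp hPne) fun h => hLt (top_le_iff.mp (by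
      have : P = ⊤ := top_le_iff.mp (h.ge.trans hZP)
      exact this.ge.trans hPL))
  -- the Frattini factorisation in a proper overgroup in which `P` is maximal
  have hfac : ∀ X : Subgroup G, X ≠ ⊤ → P ≤ X → (∀ R : Subgroup G, IsPGroup p R → R ≤ X → P ≤ R → R = P) →
      ∀ x ∈ X, ∃ o ∈ (Cfsg.pPrimeCore p ↥X).map X.subtype, ∃ n ∈ X ⊓ N, x = o * n := by
    intro X hX hPX hmax x hx
    have := hG.2.2.2 X hX
    obtain ⟨S, hS⟩ := exists_sylow_eq (G := ↥X) (hPp.comap_subtype (K := X))
      (fun R hR hle => by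
        have e := hmax (R.map X.subtype) (hR.map _) (map_subtype_le R) (fun y hy =>
          ⟨⟨y, hPX hy⟩, hle hy, rfl⟩)
        rw [← e, comap_map_eq_self_of_injective X.subtype_injective])
    have hn := OddLocal.centerThompson_sup_normal (hG.1.of_dvd_nat X.card_subgroup_dvd_card) hp2 S
    have hZX : Z.subgroupOf X = Cfsg.centerThompsonOf p (S : Subgroup ↥X) := by
      apply map_injective X.subtype_injective
      rw [map_subgroupOf_eq_of_le (hZP.trans hPX), OddLocal.centerThompson_map X.subtype _ (by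
        rw [X.ker_subtype]; exact disjoint_bot_right), hS,
        show (P.comap X.subtype).map X.subtype = P from map_subgroupOf_eq_of_le hPX]
    rw [← hZX] at hn
    exact exists_split (hZP.trans hPX) (normalizer_sup_eq_top
      ((hPp.to_le hZP).comap_subtype) (Core.coprime_card_pPrimeCore p ↥X) hn) hx
  have hcore : ∀ X : Subgroup G, B ≤ X → (Cfsg.pPrimeCore p ↥X).map X.subtype ≤ M := by
    intro X hBX
    refine hinv _ ?_ ?_
    · rw [card_map_of_injective X.subtype_injective]
      exact (Nat.Prime.coprime_iff_not_dvd Fact.out).mp (Core.coprime_card_pPrimeCore p ↥X).symm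
    · intro b hb
      exact le_normalizer_map X.subtype ⟨⟨b, hBX hb⟩,
        (Core.le_normalizer_of_normal ⊤ (Cfsg.pPrimeCore p ↥X)) (mem_top _), rfl⟩
  -- `N` is not inside `M`
  have hNM : ¬ N ≤ M := by
    intro hle
    have hmax : ∀ R : Subgroup G, IsPGroup p R → R ≤ L → P ≤ R → R = P := by
      intro R hR hRL hPR
      by_contra hne
      have hlt := isPGroup_lt_inf hR (lt_of_le_of_ne hPR (Ne.symm hne))
      exact hLM (hgood _ (hR.to_le inf_le_left) ((inf_le_right.trans hNP).trans hle)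
        (hBP.trans (le_inf hPR le_normalizer)) hlt L hLt (inf_le_left.trans hRL))
    refine hLM fun x hx => ?_
    obtain ⟨o, ho, n, hn, rfl⟩ := hfac L hLt hPL hmax x hx
    exact mul_mem (hcore L (hBP.trans hPL) ho) (hle hn.2)
  have hmaxM : ∀ R : Subgroup G, IsPGroup p R → R ≤ M → P ≤ R → R = P := by
    intro R hR hRM hPR
    by_contra hne
    have hlt := isPGroup_lt_inf hR (lt_of_le_of_ne hPR (Ne.symm hne))
    exact hNM (hgood _ (hR.to_le inf_le_left) (inf_le_left.trans hRM)
      (hBP.trans (le_inf hPR le_normalizer)) hlt N hNt (inf_le_right.trans hNP))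
  set π := Cfsg.primesNotDvd p with hπ
  set K := Cfsg.piCoreOf π M with hK
  have hKM : K ≤ M := map_subtype_le _
  have hKp : ¬ p ∣ Nat.card K := fun hd =>
    (TransitivityHyp.isPiSubgroup_piCoreOf π M p Fact.out hd).2 dvd_rfl
  have hMK : M ≤ normalizer (K : Set G) := TransitivityHyp.le_normalizer_piCoreOf π M
  have hKne : K ≠ ⊥ := by
    intro hb
    have hMN : M ≤ N := by
      intro x hx
      obtain ⟨o, ho, n, hn, rfl⟩ := hfac M hM.1 hPM hmaxM x hx
      have hoK : o ∈ K := by
        obtain ⟨o', ho', rfl⟩ := ho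
        refine ⟨o', (Components.le_piCore inferInstance (fun r hr hd => ⟨hr, fun hrp => ?_⟩) :
          Cfsg.pPrimeCore p ↥M ≤ Cfsg.piCore π ↥M) ho', rfl⟩
        rw [(Nat.prime_dvd_prime_iff_eq hr Fact.out).mp hrp] at hd
        exact (Fact.out : p.Prime).coprime_iff_not_dvd.mp
          (Core.coprime_card_pPrimeCore p ↥M).symm hd
      rw [hb, mem_bot] at hoK
      rw [hoK, one_mul]
      exact hn.2
    rcases hMN.lt_or_eq with h | h
    · exact hNt (hM.2 _ h)
    · exact hNM h.ge
  have hNK : normalizer (K : Set G) ≤ M := by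
    rcases hMK.lt_or_eq with h | h
    · exact absurd (hM.2 _ h) (TransitivityHyp.normalizer_ne_top hG hKne
        fun ht => hM.1 (top_le_iff.mp (ht ▸ hKM)))
    · exact h.ge
  -- a self-centralising normal abelian subgroup of `P`
  have hPnc : ¬ IsCyclic P := fun h => hBnc (isCyclic_of_injective (inclusion hBP)
    (inclusion_injective hBP))
  obtain ⟨A, hAP, hPA, hAc, hCA, hA2, hA3⟩ : ∃ A : Subgroup G, A ≤ P ∧
      P ≤ normalizer (A : Set G) ∧ IsMulCommutative A ∧ P ⊓ centralizer (A : Set G) = A ∧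
      ¬ Cfsg.PRankLE p 1 A ∧ (¬ Cfsg.PRankLE p 2 P → ¬ Cfsg.PRankLE p 2 A) := by
    obtain ⟨E, hEn, hE, hE2⟩ := Transfer.exists_normal_elementary_card_sq hp2 hPp hPnc
    obtain ⟨A, hEA, hAn, hAc, hAC, h3⟩ : ∃ A : Subgroup ↥P, E ≤ A ∧ A.Normal ∧ IsMulCommutative A ∧
        centralizer (A : Set ↥P) = A ∧ (¬ Cfsg.PRankLE p 2 P → ¬ Cfsg.PRankLE p 2 A) := by
      by_cases hr : Cfsg.PRankLE p 2 P
      · obtain ⟨A, h1, h2, h3, h4⟩ := PGroups.exists_selfCentralizing hPp hEn hE.1
        exact ⟨A, h1, h2, h3, h4, fun h => absurd hr h⟩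
      · obtain ⟨A, h1, h2, h3, h4, h5⟩ :=
          OddLocal.RankThree.exists_large_normal_abelian hp2 hPp hr E hE hE2
        exact ⟨A, h1, h2, h3, h4, fun _ => h5⟩
    have hrank : ∀ k, Cfsg.PRankLE p k ↥(A.map P.subtype) → Cfsg.PRankLE p k A := by
      intro k hk X hX hXe
      have e := A.equivMapOfInjective P.subtype P.subtype_injective
      have := hk (X.map e.toMonoidHom) inferInstance (by
        rintro _ ⟨y, hy, rfl⟩
        rw [← map_pow, hXe y hy, map_one])
      rwa [card_map_of_injective e.injective] at this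
    refine ⟨A.map P.subtype, map_subtype_le _, fun x hx => ?_, inferInstance, ?_, fun h => ?_,
      fun h hk => h3 h (hrank 2 hk)⟩
    · exact le_normalizer_map P.subtype ⟨⟨x, hx⟩,
        (Core.le_normalizer_of_normal ⊤ A) (mem_top _), rfl⟩
    · refine le_antisymm (fun x hx => ?_) (le_inf (map_subtype_le _) ?_)
      · refine ⟨⟨x, hx.1⟩, hAC.le (mem_centralizer_iff.mpr fun a ha => Subtype.ext ?_), rfl⟩
        exact mem_centralizer_iff.mp hx.2 (a : G) ⟨a, ha, rfl⟩
      · rintro _ ⟨a, ha, rfl⟩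
        refine mem_centralizer_iff.mpr ?_
        rintro _ ⟨b, hb, rfl⟩
        exact congrArg Subtype.val (mem_centralizer_iff.mp (hAC.ge ha) b hb)
    · have h1 := hrank 1 h (E.subgroupOf A) ⟨⟨fun u v => Subtype.ext
        (hAc.is_comm.comm u.1 v.1)⟩⟩ (fun a ha => Subtype.ext (hE.2 _ ha))
      rw [Nat.card_congr (subgroupOfEquivOfLe hEA).toEquiv, hE2, pow_one, sq] at h1
      have := (Fact.out : p.Prime).one_lt
      nlinarith
  have hAp : IsPGroup p A := hPp.to_le hAP
  have hNGP : normalizer (P : Set G) ≤ M → ∀ R : Subgroup G, IsPGroup p R → P ≤ R → R = P := by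
    intro hle R hR hPR
    by_contra hne
    have hlt := isPGroup_lt_inf hR (lt_of_le_of_ne hPR (Ne.symm hne))
    have := hmaxM _ (hR.to_le inf_le_left) (inf_le_right.trans hle) (le_inf hPR le_normalizer)
    rw [this] at hlt
    exact lt_irrefl _ hlt
  -- `p'`-subgroups of `M` normalised by `P` lie in `K`
  have hPK : ∀ Y : Subgroup G, ¬ p ∣ Nat.card Y → P ≤ normalizer (Y : Set G) → Y ≤ M → Y ≤ K := by
    intro Y hY hPY hYM
    have hcen : ∀ x ∈ M, x ∈ centralizer (A : Set G) → orderOf x = p → x ∈ A := by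
      intro x hxM hxc hxo
      -- `A` is the Sylow subgroup of its centraliser in `M`
      set C := M ⊓ centralizer (A : Set G) with hC
      have hPC : P ≤ normalizer (C : Set G) :=
        (le_inf (hPM.trans le_normalizer) (hPA.trans
          (Transfer.normalizer_le_normalizer_centralizer A))).trans inf_normalizer_le_normalizer_inf
      have hn : (C.subgroupOf (P ⊔ C)).Normal :=
        normal_subgroupOf_of_le_normalizer (sup_le hPC le_normalizer)
      obtain ⟨S, hS⟩ := exists_sylow_eq (G := ↥M) (hPp.comap_subtype (K := M))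
        (fun R hR hle => by
          have e := hmaxM (R.map M.subtype) (hR.map _) (map_subtype_le R) (fun y hy =>
            ⟨⟨y, hPM hy⟩, hle hy, rfl⟩)
          rw [← e, comap_map_eq_self_of_injective M.subtype_injective])
      obtain ⟨H, hH, hHp, -, -, hsup⟩ := Cfsg.Agent.S0125.result S (A.subgroupOf M)
        (by rw [hS]; exact fun y hy => hAP hy)
        (by
          rw [hS]
          exact fun y hy => mem_normalizer_iff.mpr fun z => mem_normalizer_iff.mp (hPA hy) (z : G))
        (by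
          rw [hS]
          refine le_antisymm ?_ ?_
          · intro z hz
            refine hCA.le ⟨hz.1, mem_centralizer_iff.mpr fun a ha => ?_⟩
            exact congrArg Subtype.val
              (mem_centralizer_iff.mp hz.2 ⟨a, hPM (hAP ha)⟩ ha)
          · intro z hz
            refine ⟨hAP hz, mem_centralizer_iff.mpr fun a ha => Subtype.ext ?_⟩
            exact congrArg (fun z : A => (z : G)) (hAc.is_comm.comm (⟨a, ha⟩ : A) ⟨z, hz⟩))
      have hx' : (⟨x, hxM⟩ : M) ∈ A.subgroupOf M ⊔ H := by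
        rw [sup_comm, hsup]
        exact mem_centralizer_iff.mpr fun a ha => Subtype.ext (mem_centralizer_iff.mp hxc a ha)
      have hAH : A.subgroupOf M ≤ normalizer (H : Set ↥M) := fun b hb =>
        centralizer_le_normalizer _ (mem_centralizer_iff.mpr fun h hh =>
          (mem_centralizer_iff.mp (hH hh) b hb).symm)
      obtain ⟨u, hu, b, hb, e⟩ := (Core.mem_sup_iff_mul' hAH).mp hx'
      obtain ⟨k, hk⟩ := hAp ⟨_, hb⟩
      have hcm : Commute u b := (mem_centralizer_iff.mp (hH hu) b hb).symm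
      have h1 : (u * b) ^ p ^ (k + 1) = 1 := by
        rw [← e]
        refine Subtype.ext ?_
        show x ^ p ^ (k + 1) = 1
        exact orderOf_dvd_iff_pow_eq_one.mp (hxo.symm ▸ dvd_pow_self p (Nat.succ_ne_zero k))
      have hbk : b ^ p ^ (k + 1) = 1 := by
        rw [pow_succ, pow_mul, show b ^ p ^ k = 1 from Subtype.ext (congrArg Subtype.val hk :), one_pow]
      rw [hcm.mul_pow, hbk, mul_one] at h1
      have hu1 : u = 1 := orderOf_eq_one_iff.mp (Nat.eq_one_of_dvd_coprimes
        (hHp.pow_right (k + 1)) (H.orderOf_dvd_natCard hu) (orderOf_dvd_of_pow_eq_one h1))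
      rw [hu1, one_mul] at e
      rw [show x = (b : G) from congrArg Subtype.val e]
      exact hb
    have hsol := hG.2.2.2 M hM.1
    have hcon : Cfsg.IsPConstrained p ↥M := PLocal.isPConstrained_iff.mpr
      (Core.centralizer_pCore_le_of_pPrimeCore_eq_bot (Core.pPrimeCore_quotient_pPrimeCore p ↥M))
    have hAM : A ≤ M := hAP.trans hPM
    have hle := Cfsg.Agent.S1302.result p hp2 hcon (A.subgroupOf M)
      ⟨⟨fun u v => Subtype.ext (Subtype.ext (congrArg (fun z : A => (z : G))
        (hAc.is_comm.comm (⟨u.1.1, u.2⟩ : A) ⟨v.1.1, v.2⟩)))⟩⟩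
      hAp.comap_subtype
      (fun x hx hxo => hcen x x.2 (mem_centralizer_iff.mpr fun e he =>
        congrArg Subtype.val (mem_centralizer_iff.mp hx ⟨e, hAM he⟩ he))
        (by rw [Subgroup.orderOf_coe, hxo]))
      (Y.subgroupOf M)
      (fun hd => hY (by rwa [Nat.card_congr (subgroupOfEquivOfLe hYM).toEquiv] at hd))
      (fun e he => mem_normalizer_iff.mpr fun y =>
        mem_normalizer_iff.mp (hPY (hAP he)) (y : G))
    intro y hy
    refine ⟨⟨y, hYM hy⟩, (Components.le_piCore inferInstance fun r hr hd => ⟨hr, fun hrp => ?_⟩ :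
      Cfsg.pPrimeCore p ↥M ≤ Cfsg.piCore π ↥M) (hle hy), rfl⟩
    rw [(Nat.prime_dvd_prime_iff_eq hr Fact.out).mp hrp] at hd
    exact (Fact.out : p.Prime).coprime_iff_not_dvd.mp (Core.coprime_card_pPrimeCore p ↥M).symm hd
  -- `N_G(P) ≤ M`, so `P` is a Sylow subgroup of `G`
  have hconjK : ∀ g : G, P ≤ normalizer ((K.map (MulAut.conj g).toMonoidHom : Subgroup G) : Set G) →
      g ∈ M := by
    intro g hPg
    have hle : K.map (MulAut.conj g).toMonoidHom ≤ K := by
      have hc : ¬ p ∣ Nat.card (K.map (MulAut.conj g).toMonoidHom) := by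
        rwa [Transfer.card_map_conj]
      exact hPK _ hc hPg (hinv _ hc (hBP.trans hPg))
    refine hNK ((Transfer.map_conj_eq_self_iff).mp (eq_of_le_of_card_ge hle ?_))
    rw [Transfer.card_map_conj]
  have hnorm : ∀ (Q : Subgroup G) (g : G), Q ≤ normalizer (K : Set G) → g ∈ normalizer (Q : Set G) →
      Q ≤ normalizer ((K.map (MulAut.conj g).toMonoidHom : Subgroup G) : Set G) := by
    intro Q g hQ hg x hx
    have h1 := le_normalizer_map (MulAut.conj g).toMonoidHom
      ⟨g⁻¹ * x * g, hQ ((mem_normalizer_iff''.mp hg x).mp hx), rfl⟩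
    have h2 : (MulAut.conj g).toMonoidHom (g⁻¹ * x * g) = x := by
      show g * (g⁻¹ * x * g) * g⁻¹ = x
      group
    rwa [h2] at h1
  have hNGPM : normalizer (P : Set G) ≤ M := fun g hg =>
    hconjK g (hnorm P g (hPM.trans hMK) hg)
  have hPmaxG := hNGP hNGPM
  obtain ⟨S, hS⟩ := exists_sylow_eq hPp hPmaxG
  -- inside `N`
  have hsolN := hG.2.2.2 N hNt
  have hoddN : Odd (Nat.card N) := hG.1.of_dvd_nat N.card_subgroup_dvd_card
  set W := Cfsg.pPrimePCore p ↥N with hW
  set Q := P.subgroupOf N ⊓ W with hQ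
  have hQsup : Q ⊔ Cfsg.pPrimeCore p ↥N = W := by
    obtain ⟨T, hT⟩ := ((hPp.comap_subtype (K := N)).to_le
      (inf_le_left : Q ≤ P.subgroupOf N)).comap_subtype (K := W) |>.exists_le_sylow
    have hQT : Q ≤ (T : Subgroup ↥W).map W.subtype := fun q hq =>
      ⟨⟨q, (Subgroup.mem_inf.mp hq).2⟩, hT hq, rfl⟩
    have hTQ : (T : Subgroup ↥W).map W.subtype = Q := by
      refine (eq_of_le_of_card_ge hQT ?_).symm
      obtain ⟨S', hS'⟩ := exists_sylow_eq (G := ↥N) (hPp.comap_subtype (K := N))
        (fun R hR hle => by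
          have e := hPmaxG (R.map N.subtype) (hR.map _) (fun y hy => ⟨⟨y, hPN hy⟩, hle hy, rfl⟩)
          rw [← e, comap_map_eq_self_of_injective N.subtype_injective])
      obtain ⟨S'', hS''⟩ := (T.2.map W.subtype).exists_le_sylow
      obtain ⟨n, hn⟩ := MulAction.exists_smul_eq ↥N S'' S'
      rw [← card_map_of_injective (f := (MulAut.conj n).toMonoidHom) (MulAut.conj n).injective
        (K := (T : Subgroup ↥W).map W.subtype)]
      refine card_le_of_le ?_
      rintro _ ⟨t, ht, rfl⟩
      refine ⟨?_, (inferInstance : W.Normal).conj_mem t (map_subtype_le _ ht) n⟩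
      have h1 : n * t * n⁻¹ ∈ ((n • S'' : Sylow p ↥N) : Subgroup ↥N) := by
        rw [Transfer.mem_sylow_smul]
        simpa [mul_assoc] using hS'' ht
      rw [hn, hS'] at h1
      exact h1
    rw [← hTQ]
    exact PLocal.sylow_sup_pPrimeCore T
  have hWn : (Q ⊔ Cfsg.pPrimeCore p ↥N).Normal := by rw [hQsup]; infer_instance
  have hsplit := normalizer_sup_eq_top (hPp.comap_subtype.to_le (inf_le_left : Q ≤ P.subgroupOf N))
    (Core.coprime_card_pPrimeCore p ↥N) hWn
  have hkey : ∀ n : ↥N, n ∈ normalizer (Q : Set ↥N) → (n : G) ∈ M := by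
    intro n hn
    have hQ' : Q.map N.subtype ≤ normalizer (K : Set G) := by
      rintro _ ⟨q, hq, rfl⟩
      exact hMK (hPM hq.1)
    have hnQ : (n : G) ∈ normalizer (Q.map N.subtype : Set G) :=
      le_normalizer_map N.subtype ⟨n, hn, rfl⟩
    have hQK := hnorm _ (n : G) hQ' hnQ
    by_cases hr : Cfsg.PRankLE p 2 P
    · -- rank two: `P = Q`
      have hrN : Cfsg.PRankLE p 2 ↥N := by
        intro X hX hXe
        have hXp : IsPGroup p X := fun x => ⟨1, Subtype.ext (by rw [pow_one]; exact hXe x x.2)⟩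
        obtain ⟨T, hT⟩ := (hXp.map N.subtype).exists_le_sylow
        obtain ⟨g, hg⟩ := MulAction.exists_smul_eq G T S
        have hcard : Nat.card X = Nat.card ((X.map N.subtype).map (MulAut.conj g).toMonoidHom) := by
          rw [Transfer.card_map_conj, card_map_of_injective N.subtype_injective]
        have hle : (X.map N.subtype).map (MulAut.conj g).toMonoidHom ≤ P := by
          rintro _ ⟨t, ht, rfl⟩
          rw [← hS, ← hg, Transfer.mem_sylow_smul]
          simpa [mul_assoc] using hT ht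
        rw [hcard, ← Nat.card_congr (subgroupOfEquivOfLe hle).toEquiv]
        refine hr _ inferInstance fun a ha => Subtype.ext ?_
        obtain ⟨_, ⟨x, hx, rfl⟩, e⟩ := ha
        show (a : G) ^ p = 1
        rw [show (a : G) = (MulAut.conj g).toMonoidHom (N.subtype x) from e.symm, ← map_pow,
          ← map_pow, hXe x hx, map_one, map_one]
      have hpN : p ∣ Nat.card N := by
        obtain ⟨k, hk⟩ := IsPGroup.iff_card.mp hPp
        have hk0 : k ≠ 0 := by
          rintro rfl
          exact hPne (eq_bot_of_card_eq P (by simpa using hk))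
        exact ((dvd_pow_self p hk0).trans hk.symm.dvd).trans (card_dvd_of_le hPN)
      obtain ⟨-, -, -, -, -, hidx⟩ := Cfsg.Agent.S1450.result hoddN p hpN hrN
      have hPQ : P ≤ Q.map N.subtype := by
        intro x hx
        refine ⟨⟨x, hPN hx⟩, ⟨hx, ?_⟩, rfl⟩
        obtain ⟨k, hk⟩ := hPp ⟨x, hx⟩
        refine (QuotientGroup.eq_one_iff (N := W) (⟨x, hPN hx⟩ : ↥N)).mp (orderOf_eq_one_iff.mp
          (Nat.eq_one_of_dvd_coprimes (hidx.pow_right k) (orderOf_dvd_natCard _)
            (orderOf_dvd_of_pow_eq_one ?_)))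
        rw [← QuotientGroup.mk_pow,
          show (⟨x, hPN hx⟩ : ↥N) ^ p ^ k = 1 from Subtype.ext (congrArg Subtype.val hk :)]
        rfl
      exact hconjK n (hPQ.trans hQK)
    · -- rank at least three
      have hA3' : ¬ Cfsg.RankLE 2 ↥(A ⊓ centralizer (A : Set G)) := fun h => hA3 hr (by
        have := h p Fact.out
        rwa [inf_eq_left.mpr (le_centralizer_iff_isMulCommutative.mpr hAc)] at this)
      have hAS : Cfsg.IsSCN (S : Subgroup G) A := by rw [hS]; exact ⟨hAP, hPA, hCA⟩
      have hTH : Cfsg.TransitivityHypothesis A := Cfsg.Agent.S1396.result hG p hpG A hAp hAc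
        (Or.inr ⟨S, hAS, hA2⟩)
      obtain ⟨j, hj⟩ := IsPGroup.iff_card.mp hAp
      have hj0 : j ≠ 0 := by
        rintro rfl
        exact hTH.1 (eq_bot_of_card_eq A (by simpa using hj))
      have hpA : p ∣ Nat.card A := hj ▸ dvd_pow_self p hj0
      have hPt : P ≠ ⊤ := fun h => hM.1 (top_le_iff.mp (h ▸ hPM))
      have hPπ : ∀ r : ℕ, r.Prime → r ∣ Nat.card P → r ∣ Nat.card A := by
        intro r hr hd
        obtain ⟨i, hi⟩ := IsPGroup.iff_card.mp hPp
        rw [hi] at hd
        rwa [(Nat.prime_dvd_prime_iff_eq hr Fact.out).mp (hr.dvd_of_dvd_pow hd)]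
      have hsn : (A.subgroupOf P).IsSubnormal :=
        Subgroup.Normal.isSubnormal (normal_subgroupOf_of_le_normalizer hPA)
      -- every `A`-invariant `p'`-subgroup lies in `K`
      have hAK : ∀ Y : Subgroup G, ¬ p ∣ Nat.card Y → A ≤ normalizer (Y : Set G) → Y ≤ K := by
        intro Y hY hAY
        set KA := Cfsg.piCoreOf (Cfsg.primesNotDvd (Nat.card A)) (centralizer (A : Set G))
        have hKAP : P ≤ normalizer (KA : Set G) := by
          have key : ∀ x ∈ P, ∀ c ∈ KA, x * c * x⁻¹ ∈ KA := by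
            intro x hx c hc
            refine TransitivityHyp.le_coreCentralizer hG hTH
              (U := KA.map (MulAut.conj x).toMonoidHom) (fun r hr hd =>
                (TransitivityHyp.isPiSubgroup_piCoreOf (Cfsg.primesNotDvd (Nat.card A))
                  (centralizer (A : Set G)) r hr
                  (by rwa [Transfer.card_map_conj] at hd)).2) ?_ ⟨c, hc, rfl⟩
            rintro _ ⟨y, hy, rfl⟩
            exact (mem_normalizer_iff.mp
              (Transfer.normalizer_le_normalizer_centralizer A (hPA hx)) y).mp (map_subtype_le _ hy)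
          intro x hx
          rw [mem_normalizer_iff]
          exact fun c => ⟨key x hx c, fun hc => by
            simpa [mul_assoc] using key x⁻¹ (inv_mem hx) _ hc⟩
        have hKAp : ¬ p ∣ Nat.card KA := fun hd =>
          (TransitivityHyp.isPiSubgroup_piCoreOf _ _ p Fact.out hd).2 hpA
        have hKA : KA ≤ K := hPK _ hKAp hKAP (hinv _ hKAp (hBP.trans hKAP))
        suffices hidx : (K.subgroupOf Y).index = 1 by
          rw [index_eq_one, subgroupOf_eq_top] at hidx
          exact hidx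
        by_contra hne
        obtain ⟨q, hq, hqd⟩ := Nat.exists_prime_and_dvd hne
        have := Fact.mk hq
        have hqY : q ∣ Nat.card Y := hqd.trans (index_dvd_card _)
        have hqA : ¬ q ∣ Nat.card A := by
          intro hd
          rw [hj] at hd
          exact hY ((Nat.prime_dvd_prime_iff_eq hq Fact.out).mp (hq.dvd_of_dvd_pow hd) ▸ hqY)
        have hqp : ¬ q ∣ p := fun hd =>
          hqA (((Nat.prime_dvd_prime_iff_eq hq Fact.out).mp hd).symm ▸ hpA)
        obtain ⟨T, hT⟩ := Core.exists_invariant_sylow hAY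
          (Nat.coprime_of_dvd fun k hk hkA hkY => hY (by
            rw [hj] at hkA
            rwa [← (Nat.prime_dvd_prime_iff_eq hk Fact.out).mp (hk.dvd_of_dvd_pow hkA)]))
          (Or.inl (hG.2.2.2 A hTH.2.1)) q
        obtain ⟨Q₁, hle₁, hQ₁⟩ := Transitivity.exists_maxInv (q := q) (T.2.map Y.subtype) hT
        obtain ⟨Q₀, -, hQ₀⟩ := Transitivity.exists_maxInv (q := q) (E := P)
          (IsPGroup.of_bot (G := G) (p := q)) (by
            rw [normalizer_eq_top_iff.mpr (inferInstance : (⊥ : Subgroup G).Normal)]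
            exact le_top)
        have hQ₀p : ¬ p ∣ Nat.card Q₀ := fun hd =>
          TransitivityHyp.not_dvd_of_isPGroup hqA hQ₀.1 p Fact.out hd hpA
        have hQ₀K : Q₀ ≤ K := hPK _ hQ₀p hQ₀.2.1 (hinv _ hQ₀p (hBP.trans hQ₀.2.1))
        obtain ⟨hmem, -⟩ := TransitivityHyp.good hG hTH hqA hPt hPπ hAP hsn
          (fun U V hU hV => TransitivityHyp.trans_of_rank_three hG hTH hqA hA3' hU hV)
        obtain ⟨c, hc, hcQ⟩ :=
          TransitivityHyp.trans_of_rank_three hG hTH hqA hA3' (hmem _ hQ₀) hQ₁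
        have hTK : (T : Subgroup Y) ≤ K.subgroupOf Y := by
          intro t ht
          have h1 : (t : G) ∈ Q₁ := hle₁ ⟨t, ht, rfl⟩
          rw [← hcQ] at h1
          obtain ⟨y, hy, e⟩ := h1
          rw [mem_subgroupOf, ← e]
          exact mul_mem (mul_mem (hKA hc) (hQ₀K hy)) (inv_mem (hKA hc))
        exact T.not_dvd_index (hqd.trans (index_dvd_of_le hTK))
      have hAW : A ≤ Q.map N.subtype := by
        intro x hx
        refine ⟨⟨x, hPN (hAP hx)⟩, ⟨hAP hx, ?_⟩, rfl⟩
        set O := Cfsg.pPrimeCore p ↥N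
        let φ := QuotientGroup.mk' O
        have hodd' : Odd (Nat.card (↥N ⧸ O)) :=
          hoddN.of_dvd_nat (Subgroup.card_dvd_of_surjective φ (QuotientGroup.mk'_surjective O))
        obtain ⟨S', hS'⟩ := exists_sylow_eq (G := ↥N) (hPp.comap_subtype (K := N))
          (fun R hR hle => by
            have e := hPmaxG (R.map N.subtype) (hR.map _) (fun y hy => ⟨⟨y, hPN hy⟩, hle hy, rfl⟩)
            rw [← e, comap_map_eq_self_of_injective N.subtype_injective])
        have hAN : IsMulCommutative (A.subgroupOf N) :=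
          ⟨⟨fun u v => Subtype.ext (Subtype.ext (congrArg (fun z : A => (z : G))
            (hAc.is_comm.comm (⟨u.1.1, u.2⟩ : A) ⟨v.1.1, v.2⟩)))⟩⟩
        have hle := OddLocal.le_pCore_of_abelian hodd' hp2
          (Core.pPrimeCore_quotient_pPrimeCore p ↥N) (A := (A.subgroupOf N).map φ) inferInstance
          ((Core.pCore_le_sylow (S'.mapSurjective (QuotientGroup.mk'_surjective O))).trans (by
            rw [Sylow.coe_mapSurjective, hS']
            refine (map_mono ?_).trans (le_normalizer_map φ)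
            exact fun y hy => mem_normalizer_iff.mpr fun z =>
              mem_normalizer_iff.mp (hPA hy) (z : G)))
        exact hle ⟨_, hx, rfl⟩
      have hc : ¬ p ∣ Nat.card (K.map (MulAut.conj (n : G)).toMonoidHom) := by
        rwa [Transfer.card_map_conj]
      have hle := hAK _ hc (hAW.trans hQK)
      refine hNK ((Transfer.map_conj_eq_self_iff).mp (eq_of_le_of_card_ge hle ?_))
      rw [Transfer.card_map_conj]
  refine hNM fun x hx => ?_
  have hsplit' : normalizer (Q : Set ↥N) ⊔ Cfsg.pPrimeCore p ↥N = ⊤ := hsplit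
  obtain ⟨o, ho, n, hn, e⟩ := (Core.mem_sup_iff_mul'
    (Core.le_normalizer_of_normal (normalizer (Q : Set ↥N)) (Cfsg.pPrimeCore p ↥N))).mp
    (hsplit'.ge (mem_top (⟨x, hx⟩ : ↥N)))
  rw [show x = (o : G) * n from congrArg Subtype.val e]
  exact mul_mem (hcore N (hBP.trans hPN) ⟨o, ho, rfl⟩) (hkey n hn)

end CfsgLib.TwoGroups.Uniqueness
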