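import Cfsg.Agent.Lib.TwoGroups.Uniqueness

/-!
Owner: helper12. Uniqueness spreads along commuting noncyclic elementary abelian subgroups.
-/

set_option autoImplicit false

namespace CfsgLib.TwoGroups.Uniqueness

open Subgroup

variable {G : Type*} [Group G] [Finite G]

theorem not_isCyclic_of_elementary {p : ℕ} [Fact p.Prime] {E : Subgroup G}
    (hE : Cfsg.IsElementaryAbelian p E) (h2 : p ^ 2 ≤ Nat.card E) : ¬ IsCyclic E := by
  intro hc
  obtain ⟨g, hg⟩ := hc.exists_generator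
  have h1 : Nat.card E = orderOf g := by
    rw [← Nat.card_zpowers, (eq_top_iff' _).mpr hg, card_top]
  have h3 : orderOf g ≤ p :=
    orderOf_le_of_pow_eq_one (Fact.out : p.Prime).pos (Subtype.ext (hE.2 g g.2))
  have h4 : p < p ^ 2 := by
    rw [sq]; exact lt_mul_of_one_lt_left (Fact.out : p.Prime).pos (Fact.out : p.Prime).one_lt
  omega

theorem prime_dvd_of_elementary {p : ℕ} [Fact p.Prime] {E : Subgroup G}
    (hE : Cfsg.IsElementaryAbelian p E) (h2 : p ≤ Nat.card E) : p ∣ Nat.card G := by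
  obtain ⟨k, hk⟩ := IsPGroup.iff_card.mp (Signalizer.elementary_isPGroup hE)
  have hk0 : k ≠ 0 := by
    rintro rfl
    rw [pow_zero] at hk
    have := (Fact.out : p.Prime).one_lt
    omega
  exact ((dvd_pow_self p hk0).trans hk.symm.dvd).trans E.card_subgroup_dvd_card

theorem odd_prime (hG : Cfsg.IsMinSimpleOddOrder G) {p : ℕ} (hd : p ∣ Nat.card G) : p ≠ 2 := by
  rintro rfl
  obtain ⟨t, ht⟩ := hG.1
  omega

omit [Finite G] in
theorem ne_top_of_solvable (hG : Cfsg.IsMinSimpleOddOrder G) {H : Subgroup G}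
    (hH : Group.IsSolvable H) : H ≠ ⊤ := by
  intro he
  subst he
  have := hG.2.1
  have : Group.IsSolvable G := Group.isSolvable_of_surjective
    (f := (Subgroup.topEquiv (G := G)).toMonoidHom) (Subgroup.topEquiv (G := G)).surjective
  exact hG.2.2.1 ⟨⟨fun a b => (IsSimpleGroup.comm_iff_isSolvable.2 inferInstance) a b⟩⟩

theorem ne_top_of_pGroup (hG : Cfsg.IsMinSimpleOddOrder G) {p : ℕ} [Fact p.Prime] {H : Subgroup G}
    (hH : IsPGroup p H) : H ≠ ⊤ := ne_top_of_solvable hG (by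
  have := hH.isNilpotent
  infer_instance)

/-- A proper overgroup lies below the unique maximal subgroup. -/
theorem le_of_inUniqueMaximal {X H M : Subgroup G} (hX : Cfsg.InUniqueMaximal X)
    (hM : IsCoatom M) (hXM : X ≤ M) (hH : H ≠ ⊤) (hXH : X ≤ H) : H ≤ M := by
  obtain ⟨C, hC, hHC⟩ := (eq_top_or_exists_le_coatom H).resolve_left hH
  rwa [hX.unique ⟨hC, hXH.trans hHC⟩ ⟨hM, hXM⟩] at hHC

theorem inUniqueMaximal_mono {X Y : Subgroup G} (hX : Cfsg.InUniqueMaximal X) (hY : Y ≠ ⊤)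
    (hXY : X ≤ Y) : Cfsg.InUniqueMaximal Y := by
  obtain ⟨C, hC, hYC⟩ := (eq_top_or_exists_le_coatom Y).resolve_left hY
  exact ⟨C, ⟨hC, hYC⟩, fun D hD => hX.unique ⟨hD.1, hXY.trans hD.2⟩ ⟨hC, hXY.trans hYC⟩⟩

theorem ne_bot_of_inUniqueMaximal (hG : Cfsg.IsMinSimpleOddOrder G) {X : Subgroup G}
    (hX : Cfsg.InUniqueMaximal X) : X ≠ ⊥ := by
  rintro rfl
  obtain ⟨M, ⟨hM, -⟩, hu⟩ := hX
  refine hM.1 (top_le_iff.mp fun x _ => ?_)
  have hx : zpowers x ≠ ⊤ := ne_top_of_solvable hG inferInstance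
  obtain ⟨C, hC, hxC⟩ := (eq_top_or_exists_le_coatom (zpowers x)).resolve_left hx
  exact (hu C ⟨hC, bot_le⟩) ▸ hxC (mem_zpowers x)

omit [Finite G] in
theorem centralizer_ne_top (hG : Cfsg.IsMinSimpleOddOrder G) {X : Subgroup G} (hX : X ≠ ⊥) :
    centralizer (X : Set G) ≠ ⊤ := fun h => by
  obtain ⟨⟨x, hx⟩, hx1⟩ := X.ne_bot_iff_exists_ne_one.mp hX
  exact TransitivityHyp.centralizer_singleton_ne_top hG (a := x) (fun e => hx1 (Subtype.ext e))
    (top_le_iff.mp (h.ge.trans (centralizer_le (Set.singleton_subset_iff.mpr hx))))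

/-- A noncyclic elementary abelian subgroup centralising a uniqueness subgroup is one. -/
theorem inUniqueMaximal_of_centralizing (hG : Cfsg.IsMinSimpleOddOrder G) {p : ℕ} [Fact p.Prime]
    {L E : Subgroup G} (hL : Cfsg.InUniqueMaximal L) (hE : Cfsg.IsElementaryAbelian p E)
    (h2 : p ^ 2 ≤ Nat.card E) (hEL : E ≤ centralizer (L : Set G)) :
    Cfsg.InUniqueMaximal E := by
  have hnc := not_isCyclic_of_elementary hE h2
  obtain ⟨M, ⟨hM, hLM⟩, hu⟩ := id hL
  have hcb : ∀ b ∈ E, b ≠ 1 → centralizer ({b} : Set G) ≤ M := fun b hb hb1 =>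
    le_of_inUniqueMaximal hL hM hLM (TransitivityHyp.centralizer_singleton_ne_top hG hb1)
      (fun x hx => mem_centralizer_singleton_iff.mpr (mem_centralizer_iff.mp (hEL hb) x hx))
  have hEM : E ≤ M := by
    have hne : E ≠ ⊥ := by
      rintro rfl
      exact hnc inferInstance
    obtain ⟨⟨b, hb⟩, hb1⟩ := E.ne_bot_iff_exists_ne_one.mp hne
    exact fun x hx => hcb b hb (fun e => hb1 (Subtype.ext e))
      (mem_centralizer_singleton_iff.mpr (Signalizer.elementary_comm hE hx hb))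
  refine ⟨M, ⟨hM, hEM⟩, ?_⟩
  rintro C ⟨hC, hEC⟩
  have hinv : ∀ Y : Subgroup G, ¬ p ∣ Nat.card Y → E ≤ normalizer (Y : Set G) → Y ≤ M := by
    intro Y hY hEY
    refine Signalizer.le_of_hyperplanes_le hE hY hEY fun B hB hBi => ?_
    have hB0 : B ≠ ⊥ := by
      rintro rfl
      rw [relIndex_bot_left] at hBi
      have h4 : p < p ^ 2 := by
        rw [sq]; exact lt_mul_of_one_lt_left (Fact.out : p.Prime).pos (Fact.out : p.Prime).one_lt
      omega
    obtain ⟨⟨b, hb⟩, hb0⟩ := B.ne_bot_iff_exists_ne_one.mp hB0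
    exact inf_le_right.trans ((centralizer_le (Set.singleton_subset_iff.mpr hb)).trans
      (hcb b (hB hb) fun e => hb0 (Subtype.ext e)))
  have hle := le_of_invariant hG hM hEM hE hnc hinv C hC.1 hEC
  rcases hle.lt_or_eq with h | h
  · exact absurd (hC.2 _ h) hM.1
  · exact h

theorem inUniqueMaximal_map_conj {X : Subgroup G} (hX : Cfsg.InUniqueMaximal X) (g : G) :
    Cfsg.InUniqueMaximal (X.map (MulAut.conj g).toMonoidHom) := by
  obtain ⟨M, ⟨hM, hXM⟩, hu⟩ := hX
  let e : Subgroup G ≃o Subgroup G := (MulAut.conj g).mapSubgroup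
  refine ⟨e M, ⟨(e.isCoatom_iff M).mpr hM, map_mono hXM⟩, ?_⟩
  rintro C ⟨hC, hXC⟩
  obtain ⟨D, rfl⟩ := e.surjective C
  rw [hu D ⟨(e.isCoatom_iff D).mp hC, e.le_iff_le.mp hXC⟩]

variable {p : ℕ} [Fact p.Prime]

theorem exists_elementary_of_not_rank {X : Subgroup G} {k : ℕ} (h : ¬ Cfsg.PRankLE p k X) :
    ∃ E : Subgroup G, E ≤ X ∧ Cfsg.IsElementaryAbelian p E ∧ p ^ (k + 1) ≤ Nat.card E := by
  simp only [Cfsg.PRankLE, not_forall, not_le] at h
  obtain ⟨B, hBc, hBp, hB⟩ := h
  refine ⟨B.map X.subtype, map_subtype_le _, ⟨inferInstance, ?_⟩, ?_⟩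
  · rintro _ ⟨b, hb, rfl⟩
    rw [← map_pow, hBp b hb, map_one]
  · have hBr : IsPGroup p B := fun b => ⟨1, Subtype.ext (by rw [pow_one]; exact hBp b b.2)⟩
    obtain ⟨j, hj⟩ := IsPGroup.iff_card.mp hBr
    rw [card_map_of_injective X.subtype_injective, hj]
    rw [hj] at hB
    exact Nat.pow_le_pow_right (Fact.out : p.Prime).pos
      ((Nat.pow_lt_pow_iff_right (Fact.out : p.Prime).one_lt).mp hB)

/-- One elementary uniqueness subgroup of order `≥ p ^ 3` makes all of them such. -/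
theorem inUniqueMaximal_of_rank_three (hG : Cfsg.IsMinSimpleOddOrder G) {A F : Subgroup G}
    (hAU : Cfsg.InUniqueMaximal A) (hA : Cfsg.IsElementaryAbelian p A) (hA3 : p ^ 3 ≤ Nat.card A)
    (hF : Cfsg.IsElementaryAbelian p F) (hF3 : p ^ 3 ≤ Nat.card F) :
    Cfsg.InUniqueMaximal F := by
  have hp : p.Prime := Fact.out
  obtain ⟨S₁, hS₁⟩ := (Signalizer.elementary_isPGroup hA).exists_le_sylow
  obtain ⟨S, hS⟩ := (Signalizer.elementary_isPGroup hF).exists_le_sylow
  obtain ⟨g, hg⟩ := MulAction.exists_smul_eq G S₁ S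
  set A' := A.map (MulAut.conj g).toMonoidHom with hA'
  have hA'S : A' ≤ (S : Subgroup G) := by
    rintro _ ⟨a, ha, rfl⟩
    rw [← hg, Transfer.mem_sylow_smul]
    simpa [mul_assoc] using hS₁ ha
  have hA'e : Cfsg.IsElementaryAbelian p A' := by
    have := hA.1
    refine ⟨inferInstance, ?_⟩
    rintro _ ⟨a, ha, rfl⟩
    rw [← map_pow, hA.2 a ha, map_one]
  have hA'3 : p ^ 3 ≤ Nat.card A' := by rwa [hA', Transfer.card_map_conj]
  have hp2 : p ≠ 2 := odd_prime hG (prime_dvd_of_elementary hF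
    ((Nat.le_self_pow (by omega) p).trans hF3))
  have hSnc : ¬ IsCyclic (S : Subgroup G) := fun h =>
    not_isCyclic_of_elementary hF ((Nat.pow_le_pow_right hp.pos (by omega)).trans hF3)
      (isCyclic_of_injective (inclusion hS) (inclusion_injective hS))
  obtain ⟨E₀, hEn, hE₀, hE₀2⟩ := Transfer.exists_normal_elementary_card_sq hp2 S.2 hSnc
  set E := E₀.map (S : Subgroup G).subtype with hEdef
  have hE : Cfsg.IsElementaryAbelian p E := by
    have := hE₀.1
    refine ⟨inferInstance, ?_⟩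
    rintro _ ⟨a, ha, rfl⟩
    rw [← map_pow, hE₀.2 a ha, map_one]
  have hE2 : p ^ 2 ≤ Nat.card E := by
    rw [hEdef, card_map_of_injective (subtype_injective _), hE₀2]
  have hmeet : ∀ X : Subgroup G, X ≤ (S : Subgroup G) → Cfsg.IsElementaryAbelian p X →
      p ^ 3 ≤ Nat.card X →
      p ^ 2 ≤ Nat.card ↥(X ⊓ centralizer (E : Set G)) := by
    intro X hXS hX hX3
    have hle : (centralizer (E : Set G)).relIndex X ≤ p := by
      have h1 : (centralizer (E₀ : Set (S : Subgroup G))).index ≤ p :=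
        OddLocal.RankThree.index_centralizer_le S.2 hE₀2
      have h2 : (centralizer (E : Set G)).relIndex (S : Subgroup G) ≤ p := by
        refine le_trans (le_of_eq ?_) h1
        show ((centralizer (E : Set G)).subgroupOf (S : Subgroup G)).index = _
        congr 1
        ext x
        simp only [mem_subgroupOf, mem_centralizer_iff]
        constructor
        · exact fun h e he => Subtype.ext (h e ⟨e, he, rfl⟩)
        · rintro h _ ⟨e, he, rfl⟩
          exact congrArg Subtype.val (h e he)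
      exact (relIndex_le_of_le_right hXS Subgroup.FiniteIndex.index_ne_zero).trans h2
    have h3 : Nat.card ↥(X ⊓ centralizer (E : Set G)) * (centralizer (E : Set G)).relIndex X =
        Nat.card X := by
      have := ((centralizer (E : Set G)).subgroupOf X).card_mul_index
      rwa [← Nat.card_congr (subgroupOfEquivOfLe (inf_le_left : X ⊓ centralizer (E : Set G) ≤ X)).toEquiv,
        inf_subgroupOf_left]
    by_contra h4
    push Not at h4
    have : p ^ 3 < p ^ 3 := calc
      p ^ 3 ≤ Nat.card X := hX3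
      _ = _ := h3.symm
      _ ≤ Nat.card ↥(X ⊓ centralizer (E : Set G)) * p := Nat.mul_le_mul_left _ hle
      _ < p ^ 2 * p := (Nat.mul_lt_mul_right hp.pos).2 h4
      _ = p ^ 3 := (pow_succ p 2).symm
    omega
  have hsub : ∀ {X Y : Subgroup G}, Cfsg.IsElementaryAbelian p X → Y ≤ X →
      Cfsg.IsElementaryAbelian p Y := fun hX hYX => Signalizer.elementary_of_le hX hYX
  have hC₁ := hsub hA'e (inf_le_left : A' ⊓ centralizer (E : Set G) ≤ A')
  have hC₂ := hsub hF (inf_le_left : F ⊓ centralizer (E : Set G) ≤ F)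
  have hcomm : ∀ {X Y : Subgroup G}, Cfsg.IsElementaryAbelian p X → Y ≤ X →
      Y ≤ centralizer (X : Set G) := fun hX hYX y hy =>
    mem_centralizer_iff.mpr fun x hx => Signalizer.elementary_comm hX hx (hYX hy)
  have u1 := inUniqueMaximal_of_centralizing hG (inUniqueMaximal_map_conj hAU g) hC₁
    (hmeet A' hA'S hA'e hA'3) (hcomm hA'e inf_le_left)
  have u2 := inUniqueMaximal_of_centralizing hG u1 hE hE2 (le_centralizer_iff.mp inf_le_right)
  have u3 := inUniqueMaximal_of_centralizing hG u2 hC₂ (hmeet F hS hF hF3) inf_le_right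
  exact inUniqueMaximal_of_centralizing hG u3 hF ((Nat.pow_le_pow_right hp.pos (by omega)).trans hF3)
    (le_centralizer_iff.mp (hcomm hF inf_le_left))

end CfsgLib.TwoGroups.Uniqueness
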